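/-
Essential subgroups and characteristic chains with factors of order `p`.
-/
import Cfsg.Agent.Lib.Fusion.Alperin

set_option autoImplicit false
set_option linter.unusedSectionVars false
set_option linter.style.haveILetI false

namespace Cfsg.Agent.Lib.Fusion

open Cfsg Cfsg.FusionSystem

section Step

variable {Q : Type*} [Group Q] {p : ℕ} [hp : Fact p.Prime]

/-- A `p`-power automorphism acts trivially on an invariant subgroup of order dividing `p`. -/
theorem fix_of_card_dvd (W : Subgroup Q) [Finite W] (hW : Nat.card W ∣ p) (β : MulAut Q)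
    (hβ : ∀ x ∈ W, β x ∈ W) (e : ℕ) (he : β ^ (p ^ e) = 1) : ∀ x ∈ W, β x = x := by
  have hpp : p.Prime := hp.out
  rcases (Nat.dvd_prime hpp).1 hW with h1 | hc
  · intro x hx
    have hb : W = ⊥ := (Subgroup.card_eq_one.1 h1)
    subst hb
    have hx1 : x = 1 := hx
    simp [hx1]
  · -- `W` has prime order
    haveI : Fact (Nat.card W).Prime := ⟨hc ▸ hpp⟩
    have hcyc : IsCyclic W := isCyclic_of_prime_card rfl
    obtain ⟨⟨x₀, hx₀⟩, hgen⟩ := hcyc.exists_generator
    have hgen' : ∀ x ∈ W, ∃ k : ℕ, x = x₀ ^ k := by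
      intro x hx
      obtain ⟨k, hk⟩ := Subgroup.mem_zpowers_iff.1 (hgen ⟨x, hx⟩)
      have hkm : ∃ n : ℕ, (⟨x₀, hx₀⟩ : W) ^ n = ⟨x, hx⟩ := by
        rw [← hk]
        exact ⟨(k % (orderOf (⟨x₀, hx₀⟩ : W)) : ℤ).toNat, by
          rw [← zpow_natCast, Int.toNat_of_nonneg (Int.emod_nonneg _ (by
            exact_mod_cast (orderOf_pos _).ne')), zpow_mod_orderOf]⟩
      obtain ⟨n, hn⟩ := hkm
      refine ⟨n, ?_⟩
      have := congrArg Subtype.val hn
      simpa using this.symm
    have hord : orderOf x₀ = p := by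
      have h1 : orderOf (⟨x₀, hx₀⟩ : W) = Nat.card W := orderOf_eq_card_of_forall_mem_zpowers hgen
      have h2 : orderOf (⟨x₀, hx₀⟩ : W) = orderOf x₀ := Subgroup.orderOf_mk _ _
      rw [← h2, h1, hc]
    obtain ⟨m, hm⟩ := hgen' _ (hβ x₀ hx₀)
    have hpow : ∀ j : ℕ, (β ^ j) x₀ = x₀ ^ (m ^ j) := by
      intro j
      induction j with
      | zero => simp
      | succ j ih =>
        rw [pow_succ', MulAut.mul_apply, ih, map_pow, hm, ← pow_mul, pow_succ']
    have h1 : x₀ = x₀ ^ (m ^ (p ^ e)) := by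
      have := hpow (p ^ e)
      rw [he] at this
      simpa using this
    have h2 : x₀ ^ (m ^ (p ^ e)) = x₀ ^ m := by
      rw [pow_eq_pow_iff_modEq, hord]
      rw [← ZMod.natCast_eq_natCast_iff]
      push_cast
      exact ZMod.pow_card_pow (p := p) (x := (m : ZMod p)) (n := e)
    have hfix : β x₀ = x₀ := by rw [hm, ← h2, ← h1]
    intro x hx
    obtain ⟨k, rfl⟩ := hgen' x hx
    rw [map_pow, hfix]

/-- A `p`-power automorphism stabilizes a step of index dividing `p`. -/
theorem step_fix [Finite Q] (α : MulAut Q) (U W : Subgroup Q) [hU : U.Normal] (hUW : U ≤ W)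
    (hαU : ∀ u ∈ U, α u ∈ U) (hαW : ∀ w ∈ W, α w ∈ W) (hidx : U.relIndex W ∣ p) (e : ℕ)
    (he : α ^ (p ^ e) = 1) : ∀ y ∈ W, y⁻¹ * α y ∈ U := by
  have hmapU : U.map α.toMonoidHom = U := by
    apply Subgroup.eq_of_le_of_card_ge
    · rintro _ ⟨u, hu, rfl⟩
      exact hαU u hu
    · rw [Subgroup.card_map_of_injective (f := α.toMonoidHom) α.injective]
  set β : MulAut (Q ⧸ U) := QuotientGroup.congr U U α hmapU with hβ
  have hβv : ∀ y : Q, β (y : Q ⧸ U) = ((α y : Q) : Q ⧸ U) := fun y => rfl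
  have hβpow : ∀ j : ℕ, ∀ y : Q, (β ^ j) (y : Q ⧸ U) = (((α ^ j) y : Q) : Q ⧸ U) := by
    intro j
    induction j with
    | zero => simp
    | succ j ih =>
      intro y
      rw [pow_succ', pow_succ', MulAut.mul_apply, ih, MulAut.mul_apply, hβv]
  have hβe : β ^ (p ^ e) = 1 := by
    ext x
    induction x using QuotientGroup.induction_on with
    | H y =>
      rw [hβpow, he]
      simp
  set W' : Subgroup (Q ⧸ U) := W.map (QuotientGroup.mk' U) with hW'
  have hcard : Nat.card W' ∣ p := by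
    have h1 : Nat.card W' = U.relIndex W := by
      rw [Subgroup.relIndex, Subgroup.index_eq_card]
      let f : W →* Q ⧸ U := (QuotientGroup.mk' U).comp W.subtype
      have hker : f.ker = U.subgroupOf W := by
        ext x
        simp [f, Subgroup.mem_subgroupOf]
      have hrange : f.range = W' := by
        rw [MonoidHom.range_comp, Subgroup.range_subtype]
      rw [← hrange, ← hker]
      exact (Nat.card_congr (QuotientGroup.quotientKerEquivRange f).toEquiv).symm
    rw [h1]
    exact hidx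
  have hfix := fix_of_card_dvd W' hcard β (by
    rintro _ ⟨w, hw, rfl⟩
    exact ⟨α w, hαW w hw, rfl⟩) e hβe
  intro y hy
  have h := hfix (y : Q ⧸ U) ⟨y, hy, rfl⟩
  rw [hβv] at h
  exact QuotientGroup.eq.1 h.symm

end Step

section Ess

variable {Ω : Type*} [Group Ω] {S : Subgroup Ω} [Finite S] {F : FusionSystem S} {p : ℕ} [hp : Fact p.Prime]

/-- A normal `p`-subgroup of `Aut_F(H)`, `H` essential, consists of inner automorphisms. -/
theorem le_inn_of_essential (hS : IsPGroup p S) {H : Subgroup Ω} (hH : F.IsEssential p H)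
    (K : Subgroup (F.autGroup H)) [hK : K.Normal] (hKp : IsPGroup p K) :
    K ≤ (Inn H).subgroupOf (F.autGroup H) := by
  have hHS : H ≤ S := hH.1.1
  haveI : Finite H := finite_of_le hHS
  have hrad := isRadical_of_essential hS hH
  have h1 : K ≤ pCore p (F.autGroup H) := Cfsg.Agent.Lib.Basic.le_pCore hK hKp
  intro x hx
  rw [Subgroup.mem_subgroupOf, ← hrad.2]
  exact ⟨x, h1 hx, rfl⟩

/-- `H` essential: there is a `p`-element of `Aut_F(H)` that is not inner. -/
theorem exists_pelt_of_essential (hS : IsPGroup p S) {H : Subgroup Ω} (hH : F.IsEssential p H) :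
    ∃ α ∈ F.autGroup H, (∃ k : ℕ, α ^ (p ^ k) = 1) ∧ α ∉ Inn H := by
  have hHS : H ≤ S := hH.1.1
  haveI : Finite H := finite_of_le hHS
  obtain ⟨-, -, hN, E, hE⟩ := hH
  by_contra hcon
  push Not at hcon
  have hdvd : p ∣ Nat.card (F.autGroup H ⧸ (Inn H).subgroupOf (F.autGroup H)) := hE.1
  obtain ⟨P⟩ : Nonempty (Sylow p (F.autGroup H)) := inferInstance
  have hle : (P : Subgroup (F.autGroup H)) ≤ (Inn H).subgroupOf (F.autGroup H) := by
    intro a ha
    rw [Subgroup.mem_subgroupOf]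
    obtain ⟨k, hk⟩ := P.isPGroup' ⟨a, ha⟩
    refine hcon a.1 a.2 ⟨k, ?_⟩
    have := congrArg (fun z => ((z : F.autGroup H) : MulAut H)) (congrArg Subtype.val hk)
    simpa using this
  have h1 : ((Inn H).subgroupOf (F.autGroup H)).index ∣ (P : Subgroup (F.autGroup H)).index :=
    Subgroup.index_dvd_of_le hle
  exact P.not_dvd_index (hdvd.trans h1)

/-- Stabilizer of a chain of subgroups inside `Aut_F(H)`. -/
def essStab {G : Type*} [Group G] (A : Subgroup (MulAut G)) (c : ℕ → Subgroup G) (n : ℕ)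
    (hinv : ∀ i ≤ n, ∀ α ∈ A, ∀ x ∈ c i, α x ∈ c i) : Subgroup A where
  carrier := {α | ∀ i < n, ∀ y ∈ c (i + 1), y⁻¹ * (α : MulAut G) y ∈ c i}
  mul_mem' := by
    intro a b ha hb i hi y hy
    have e : y⁻¹ * ((a * b : A) : MulAut G) y = (y⁻¹ * (b : MulAut G) y) * (((b : MulAut G) y)⁻¹ * (a : MulAut G) ((b : MulAut G) y)) := by
      show y⁻¹ * (a : MulAut G) ((b : MulAut G) y) = _
      group
    rw [e]
    exact (c i).mul_mem (hb i hi y hy) (ha i hi _ (hinv (i + 1) (by omega) _ b.2 y hy))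
  one_mem' := by
    intro i hi y hy
    simp [(c i).one_mem]
  inv_mem' := by
    intro a ha i hi y hy
    have hz : (a⁻¹ : A).1 y ∈ c (i + 1) := hinv (i + 1) (by omega) _ (a⁻¹).2 y hy
    set z := (a⁻¹ : A).1 y with hzd
    have hy' : y = a.1 z := by
      show y = a.1 (a.1⁻¹ y)
      simp
    have := (c i).inv_mem (ha i hi z hz)
    have e : y⁻¹ * (a⁻¹ : A).1 y = (z⁻¹ * a.1 z)⁻¹ := by
      rw [← hzd, hy']
      group
    rw [e]
    exact this

theorem essStab_normal {G : Type*} [Group G] (A : Subgroup (MulAut G)) (c : ℕ → Subgroup G) (n : ℕ)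
    (hinv : ∀ i ≤ n, ∀ α ∈ A, ∀ x ∈ c i, α x ∈ c i) : (essStab A c n hinv).Normal := by
  refine ⟨?_⟩
  intro a ha g i hi y hy
  have hz : (g⁻¹ : A).1 y ∈ c (i + 1) := hinv (i + 1) (by omega) _ (g⁻¹).2 y hy
  set z := (g⁻¹ : A).1 y with hzd
  have hy' : y = g.1 z := by
    show y = g.1 (g.1⁻¹ y)
    simp
  have e : y⁻¹ * (g * a * g⁻¹ : A).1 y = g.1 (z⁻¹ * a.1 z) := by
    show y⁻¹ * g.1 (a.1 ((g⁻¹ : A).1 y)) = _
    rw [← hzd, hy', map_mul, map_inv]
  rw [e]
  exact hinv i (by omega) _ g.2 _ (ha i hi z hz)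

theorem essStab_isPGroup {G : Type*} [Group G] [Finite G] (hG : IsPGroup p G) (A : Subgroup (MulAut G))
    (c : ℕ → Subgroup G) (n : ℕ) (hinv : ∀ i ≤ n, ∀ α ∈ A, ∀ x ∈ c i, α x ∈ c i) (h0 : c 0 = ⊥) (hn : c n = ⊤) :
    IsPGroup p (essStab A c n hinv) := by
  obtain ⟨r, hr⟩ := (IsPGroup.iff_card).1 hG
  intro a
  have key : ∀ i ≤ n, ∃ k : ℕ, ∀ x ∈ c i, ((a.1 ^ (p ^ k) : A) : MulAut G) x = x := by
    intro i
    induction i with
    | zero =>
      intro _
      refine ⟨0, ?_⟩
      intro x hx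
      rw [h0] at hx
      have : x = 1 := hx
      simp [this]
    | succ i ih =>
      intro hi
      obtain ⟨k, hk⟩ := ih (by omega)
      refine ⟨k + r, ?_⟩
      intro y hy
      set b : essStab A c n hinv := a ^ (p ^ k) with hb
      have hbv : (b.1 : A) = a.1 ^ (p ^ k) := rfl
      have hu : y⁻¹ * (b.1 : MulAut G) y ∈ c i := b.2 i (by omega) y hy
      set u := y⁻¹ * (b.1 : MulAut G) y with hud
      have hbu : (b.1 : MulAut G) u = u := by
        rw [hbv]
        exact hk u hu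
      have hpow : ∀ m : ℕ, ((b.1 ^ m : A) : MulAut G) y = y * u ^ m := by
        intro m
        induction m with
        | zero => simp
        | succ m ih =>
          have e1 : ((b.1 ^ (m + 1) : A) : MulAut G) y = (b.1 : MulAut G) (((b.1 ^ m : A) : MulAut G) y) := by
            rw [pow_succ']
            rfl
          have e2 : (b.1 : MulAut G) y = y * u := by rw [hud]; group
          rw [e1, ih, map_mul, map_pow, hbu, e2, pow_succ']
          group
      have hN : u ^ (p ^ r) = 1 := by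
        rw [← hr]
        exact pow_card_eq_one'
      have := hpow (p ^ r)
      rw [hN, mul_one] at this
      rw [pow_add, pow_mul, ← hbv]
      exact this
  obtain ⟨k, hk⟩ := key n le_rfl
  refine ⟨k, ?_⟩
  apply Subtype.ext
  apply Subtype.ext
  apply MulEquiv.ext
  intro x
  have hx : x ∈ c n := by rw [hn]; trivial
  exact hk x hx

/-- **Chains.**  If `H` has an `Aut_F(H)`-invariant chain of normal subgroups with factors of order
dividing `p`, then `H` is not essential. -/
theorem false_of_chain (hS : IsPGroup p S) {H : Subgroup Ω} (hH : F.IsEssential p H) (c : ℕ → Subgroup H) (n : ℕ)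
    (h0 : c 0 = ⊥) (hn : c n = ⊤) (hle : ∀ i < n, c i ≤ c (i + 1)) (hnorm : ∀ i ≤ n, (c i).Normal)
    (hinv : ∀ i ≤ n, ∀ α ∈ F.autGroup H, ∀ x ∈ c i, α x ∈ c i)
    (hidx : ∀ i < n, (c i).relIndex (c (i + 1)) ∣ p) : False := by
  have hHS : H ≤ S := hH.1.1
  haveI : Finite H := finite_of_le hHS
  have hHp : IsPGroup p H := hS.to_le hHS
  obtain ⟨α, hα, ⟨k, hk⟩, hαi⟩ := exists_pelt_of_essential hS hH
  haveI := essStab_normal (F.autGroup H) c n hinv
  have hle' := le_inn_of_essential hS hH (essStab (F.autGroup H) c n hinv)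
    (essStab_isPGroup hHp (F.autGroup H) c n hinv h0 hn)
  have hmem : (⟨α, hα⟩ : F.autGroup H) ∈ essStab (F.autGroup H) c n hinv := by
    intro i hi y hy
    haveI := hnorm i (by omega)
    exact step_fix α (c i) (c (i + 1)) (hle i hi) (hinv i (by omega) α hα) (hinv (i + 1) (by omega) α hα) (hidx i hi) k hk y hy
  exact hαi (hle' hmem)

/-- If `Aut_F(H) / Inn(H)` is commutative then `H` is not essential. -/
theorem false_of_comm (hS : IsPGroup p S) {H : Subgroup Ω} (hH : F.IsEssential p H)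
    (hc : ∀ a b : MulAut H, a ∈ F.autGroup H → b ∈ F.autGroup H → a * b = b * a) : False := by
  have hHS : H ≤ S := hH.1.1
  haveI : Finite H := finite_of_le hHS
  obtain ⟨α, hα, ⟨k, hk⟩, hαi⟩ := exists_pelt_of_essential hS hH
  let K : Subgroup (F.autGroup H) := Subgroup.zpowers ⟨α, hα⟩
  haveI : K.Normal := by
    refine ⟨?_⟩
    intro x hx g
    have : g * x * g⁻¹ = x := by
      have e : g * x = x * g := Subtype.ext (hc _ _ g.2 x.2)
      rw [e]
      group
    rw [this]
    exact hx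
  have hK : IsPGroup p K := by
    rintro ⟨x, hx⟩
    obtain ⟨j, rfl⟩ := Subgroup.mem_zpowers_iff.1 hx
    refine ⟨k, ?_⟩
    apply Subtype.ext
    show ((⟨α, hα⟩ : F.autGroup H) ^ j) ^ (p ^ k) = 1
    rw [← zpow_natCast, ← zpow_mul, mul_comm, zpow_mul, zpow_natCast]
    have : (⟨α, hα⟩ : F.autGroup H) ^ (p ^ k) = 1 := Subtype.ext (by simpa using hk)
    rw [this, one_zpow]
  have := le_inn_of_essential hS hH K hK (Subgroup.mem_zpowers (⟨α, hα⟩ : F.autGroup H))
  exact hαi this

end Ess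

end Cfsg.Agent.Lib.Fusion
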