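/-
Essential subgroups of order `p²`.
-/
import Cfsg.Agent.Lib.Fusion.EssChain
import Cfsg.Agent.Lib.LocalEven2.NatSL2
import Cfsg.Agent.Lib.Transfer.Frattini

set_option autoImplicit false
set_option linter.unusedSectionVars false
set_option linter.style.haveILetI false

namespace Cfsg.Agent.Lib.Fusion

open Cfsg Cfsg.FusionSystem

section Alg

open Cfsg.Agent.Lib.Root in
theorem toLin_bU {k : Type*} [Field k] (t : k) (w : Fin 2 → k) :
    Matrix.SpecialLinearGroup.toLin' (bU t) w = ![w 0 + t * w 1, w 1] := by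
  ext i
  rw [Matrix.SpecialLinearGroup.toLin'_apply, Matrix.toLin'_apply]
  show (Matrix.mulVec !![1, t; 0, 1] w) i = _
  fin_cases i <;> simp [Matrix.mulVec, dotProduct, Fin.sum_univ_two]

open Cfsg.Agent.Lib.Root in
theorem toLin_aL {k : Type*} [Field k] (t : k) (w : Fin 2 → k) :
    Matrix.SpecialLinearGroup.toLin' (aL t) w = ![w 0, t * w 0 + w 1] := by
  ext i
  rw [Matrix.SpecialLinearGroup.toLin'_apply, Matrix.toLin'_apply]
  show (Matrix.mulVec !![1, 0; t, 1] w) i = _
  fin_cases i <;> simp [Matrix.mulVec, dotProduct, Fin.sum_univ_two]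

variable {G : Type*} [Group G] {p : ℕ} [hp : Fact p.Prime]

/-- A `p`-element of the automorphism group of a nontrivial finite `p`-group has a nontrivial fixed point. -/
theorem exists_fixed_ne_one [Finite G] (hG : IsPGroup p G) [Nontrivial G] (α : MulAut G) (k : ℕ)
    (hk : α ^ (p ^ k) = 1) : ∃ x : G, x ≠ 1 ∧ α x = x := by
  have hpp : p.Prime := hp.out
  let K : Subgroup (MulAut G) := Subgroup.zpowers α
  have hK : IsPGroup p K := by
    rintro ⟨x, hx⟩
    obtain ⟨j, rfl⟩ := Subgroup.mem_zpowers_iff.1 hx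
    refine ⟨k, ?_⟩
    apply Subtype.ext
    show (α ^ j) ^ (p ^ k) = 1
    rw [← zpow_natCast, ← zpow_mul, mul_comm, zpow_mul, zpow_natCast, hk, one_zpow]
  have hmod := hK.card_modEq_card_fixedPoints G
  have hdvd : p ∣ Nat.card G := by
    obtain ⟨n, hn⟩ := (IsPGroup.iff_card).1 hG
    rw [hn]
    have hn0 : n ≠ 0 := by
      rintro rfl
      have h1 := Finite.one_lt_card (α := G)
      rw [hn] at h1
      simp at h1
    exact dvd_pow_self p hn0
  by_contra hcon
  push Not at hcon
  have h1 : Nat.card (MulAction.fixedPoints K G) = 1 := by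
    rw [Nat.card_eq_one_iff_unique]
    have hone : (1 : G) ∈ MulAction.fixedPoints K G := fun g => smul_one (g : MulAut G)
    refine ⟨⟨?_⟩, ⟨⟨1, hone⟩⟩⟩
    rintro ⟨x, hx⟩ ⟨y, hy⟩
    have hfx : ∀ z ∈ MulAction.fixedPoints K G, z = 1 := by
      intro z hz
      by_contra hz1
      exact hcon z hz1 (hz ⟨α, Subgroup.mem_zpowers α⟩)
    apply Subtype.ext
    show x = y
    rw [hfx x hx, hfx y hy]
  rw [h1] at hmod
  have := (hmod.dvd_iff (dvd_refl p)).1 hdvd
  exact hpp.one_lt.ne' (Nat.dvd_one.1 this)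

theorem pow_eq_pow_of_zmod {x : G} (hx : x ^ p = 1) {m n : ℕ} (h : (m : ZMod p) = (n : ZMod p)) : x ^ m = x ^ n := by
  have := (ZMod.natCast_eq_natCast_iff m n p).1 h
  rw [pow_eq_pow_mod m hx, pow_eq_pow_mod n hx, this]

theorem pow_val_add {x : G} (hx : x ^ p = 1) (s t : ZMod p) : x ^ (s + t).val = x ^ s.val * x ^ t.val := by
  rw [← pow_add]
  apply pow_eq_pow_of_zmod hx
  simp

open Cfsg.Agent.Lib.Root in
/-- Construction of `SL₂(p)` inside a group of automorphisms of `C_p × C_p` containing opposite root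
elements. -/
theorem exists_sl2_of_roots [Finite G] (hcomm : ∀ x y : G, x * y = y * x) (hcard : Nat.card G = p ^ 2)
    (hexp : ∀ x : G, x ^ p = 1) (A : Subgroup (MulAut G)) (e₁ e₂ : G) (h₁ : e₁ ≠ 1) (h₂ : e₂ ∉ Subgroup.zpowers e₁)
    (u v : MulAut G) (hu : u ∈ A) (hv : v ∈ A) (a c : ℕ) (hu1 : u e₁ = e₁) (hu2 : u e₂ = e₂ * e₁ ^ a)
    (ha : ¬ p ∣ a) (hv2 : v e₂ = e₂) (hv1 : v e₁ = e₁ * e₂ ^ c) (hc : ¬ p ∣ c) :
    ∃ K : Subgroup A, Nonempty (K ≃* Matrix.SpecialLinearGroup (Fin 2) (ZMod p)) := by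
  have hpp : p.Prime := hp.out
  haveI : Fact (1 < p) := ⟨hpp.one_lt⟩
  have hnz : ∀ t : ZMod p, t ≠ 0 → ∃ s : ZMod p, s * t = 1 := fun t ht => ⟨t⁻¹, inv_mul_cancel₀ ht⟩
  -- the coordinate homomorphism
  let c₀ : Multiplicative (Fin 2 → ZMod p) →* G :=
    { toFun := fun w => e₁ ^ ((Multiplicative.toAdd w) 0).val * e₂ ^ ((Multiplicative.toAdd w) 1).val
      map_one' := by simp
      map_mul' := by
        intro w w'
        simp only [toAdd_mul, Pi.add_apply]
        rw [pow_val_add (hexp e₁), pow_val_add (hexp e₂)]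
        calc e₁ ^ ((Multiplicative.toAdd w) 0).val * e₁ ^ ((Multiplicative.toAdd w') 0).val * (e₂ ^ ((Multiplicative.toAdd w) 1).val * e₂ ^ ((Multiplicative.toAdd w') 1).val)
            = e₁ ^ ((Multiplicative.toAdd w) 0).val * (e₁ ^ ((Multiplicative.toAdd w') 0).val * e₂ ^ ((Multiplicative.toAdd w) 1).val) * e₂ ^ ((Multiplicative.toAdd w') 1).val := by group
          _ = e₁ ^ ((Multiplicative.toAdd w) 0).val * (e₂ ^ ((Multiplicative.toAdd w) 1).val * e₁ ^ ((Multiplicative.toAdd w') 0).val) * e₂ ^ ((Multiplicative.toAdd w') 1).val := by rw [hcomm (e₁ ^ _) (e₂ ^ _)]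
          _ = _ := by group }
  have hc₀ : ∀ w : Fin 2 → ZMod p, c₀ (Multiplicative.ofAdd w) = e₁ ^ (w 0).val * e₂ ^ (w 1).val := fun w => rfl
  have hord : orderOf e₁ = p := orderOf_eq_prime (hexp e₁) h₁
  have hinj : Function.Injective c₀ := by
    rw [injective_iff_map_eq_one]
    intro w hw
    obtain ⟨w, rfl⟩ := Multiplicative.ofAdd.surjective w
    rw [hc₀] at hw
    have h1 : w 1 = 0 := by
      by_contra hne
      obtain ⟨s, hs⟩ := hnz _ hne
      apply h₂
      have e : e₂ = (e₂ ^ (w 1).val) ^ s.val := by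
        rw [← pow_mul]
        conv_lhs => rw [← pow_one e₂]
        apply pow_eq_pow_of_zmod (hexp e₂)
        simp [mul_comm, hs]
      rw [e]
      refine Subgroup.pow_mem _ ?_ _
      have : e₂ ^ (w 1).val = (e₁ ^ (w 0).val)⁻¹ := by
        rw [eq_inv_iff_mul_eq_one, hcomm]
        exact hw
      rw [this]
      exact Subgroup.inv_mem _ (Subgroup.pow_mem _ (Subgroup.mem_zpowers _) _)
    have h0 : w 0 = 0 := by
      rw [h1] at hw
      simp only [ZMod.val_zero, pow_zero, mul_one] at hw
      have := orderOf_dvd_of_pow_eq_one hw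
      rw [hord] at this
      have hlt := ZMod.val_lt (w 0)
      have := Nat.eq_zero_of_dvd_of_lt this hlt
      exact (ZMod.val_eq_zero _).1 this
    have : w = 0 := by
      ext i
      fin_cases i
      · exact h0
      · exact h1
    rw [this]
    rfl
  have hcardW : Nat.card (Multiplicative (Fin 2 → ZMod p)) = p ^ 2 := by
    simp [Nat.card_eq_fintype_card, ZMod.card]
  have hbij : Function.Bijective c₀ := by
    refine ⟨hinj, ?_⟩
    exact (Nat.bijective_iff_injective_and_card c₀).2 ⟨hinj, by rw [hcardW, hcard]⟩ |>.2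
  let ι : Multiplicative (Fin 2 → ZMod p) ≃* G := MulEquiv.ofBijective c₀ hbij
  have hι : ∀ w : Fin 2 → ZMod p, ι (Multiplicative.ofAdd w) = e₁ ^ (w 0).val * e₂ ^ (w 1).val := fun w => rfl
  -- the action
  let θf : Matrix.SpecialLinearGroup (Fin 2) (ZMod p) → MulAut G := fun g =>
    ι.symm.trans ((AddEquiv.toMultiplicative (Matrix.SpecialLinearGroup.toLin' g).toAddEquiv).trans ι)
  have hθf : ∀ g w, θf g (ι (Multiplicative.ofAdd w)) = ι (Multiplicative.ofAdd ((Matrix.SpecialLinearGroup.toLin' g) w)) := by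
    intro g w
    show ι ((AddEquiv.toMultiplicative (Matrix.SpecialLinearGroup.toLin' g).toAddEquiv) (ι.symm (ι (Multiplicative.ofAdd w)))) = _
    rw [MulEquiv.symm_apply_apply]
    rfl
  let θ : Matrix.SpecialLinearGroup (Fin 2) (ZMod p) →* MulAut G :=
    { toFun := θf
      map_one' := by
        apply MulEquiv.ext
        intro x
        obtain ⟨w, rfl⟩ := ι.surjective x
        obtain ⟨w, rfl⟩ := Multiplicative.ofAdd.surjective w
        rw [hθf, map_one]
        rfl
      map_mul' := by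
        intro g h
        apply MulEquiv.ext
        intro x
        obtain ⟨w, rfl⟩ := ι.surjective x
        obtain ⟨w, rfl⟩ := Multiplicative.ofAdd.surjective w
        rw [hθf, MulAut.mul_apply, hθf, hθf, map_mul]
        rfl }
  have hθv : ∀ g w, θ g (ι (Multiplicative.ofAdd w)) = ι (Multiplicative.ofAdd ((Matrix.SpecialLinearGroup.toLin' g) w)) := hθf
  have hθinj : Function.Injective θ := by
    intro g h hgh
    apply Matrix.SpecialLinearGroup.toLin'_injective
    apply LinearEquiv.ext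
    intro w
    have := congrArg (fun α : MulAut G => α (ι (Multiplicative.ofAdd w))) hgh
    simp only [hθv] at this
    exact Multiplicative.ofAdd.injective (ι.injective this)
  have he₁ : e₁ = ι (Multiplicative.ofAdd ![1, 0]) := by
    rw [hι]
    simp [ZMod.val_one]
  have he₂ : e₂ = ι (Multiplicative.ofAdd ![0, 1]) := by
    rw [hι]
    simp [ZMod.val_one]
  -- extensionality
  have hext : ∀ α β : MulAut G, α e₁ = β e₁ → α e₂ = β e₂ → α = β := by
    intro α β h1 h2
    apply MulEquiv.ext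
    intro x
    obtain ⟨w, rfl⟩ := ι.surjective x
    obtain ⟨w, rfl⟩ := Multiplicative.ofAdd.surjective w
    rw [hι, map_mul, map_mul, map_pow, map_pow, map_pow, map_pow, h1, h2]
  have hval : ∀ (x : G) (t : ZMod p), x ^ t.val = x ^ (t.val) := fun _ _ => rfl
  -- upper root elements
  have hU : ∀ t : ZMod p, θ (bU t) ∈ A := by
    intro t
    have ha0 : (a : ZMod p) ≠ 0 := by
      rwa [Ne, ZMod.natCast_eq_zero_iff]
    have hpowu : ∀ k : ℕ, (u ^ k) e₁ = e₁ ∧ (u ^ k) e₂ = e₂ * e₁ ^ (a * k) := by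
      intro k
      induction k with
      | zero => simp
      | succ k ih =>
        have e1 : (u ^ (k + 1)) e₁ = e₁ := by
          rw [pow_succ, MulAut.mul_apply, hu1, ih.1]
        refine ⟨e1, ?_⟩
        rw [pow_succ, MulAut.mul_apply, hu2, map_mul, ih.2, map_pow, ih.1, mul_assoc, ← pow_add]
        congr 2
    set k := (t * (a : ZMod p)⁻¹).val with hk
    have hθu : θ (bU t) = u ^ k := by
      apply hext
      · rw [(hpowu k).1]
        conv_lhs => rw [he₁]
        rw [hθv, toLin_bU, hι]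
        simp [ZMod.val_one]
      · rw [(hpowu k).2]
        conv_lhs => rw [he₂]
        rw [hθv, toLin_bU, hι]
        simp only [Matrix.cons_val_zero, Matrix.cons_val_one, Matrix.cons_val_fin_one, mul_one, zero_add, ZMod.val_one, pow_one]
        rw [hcomm]
        congr 1
        apply pow_eq_pow_of_zmod (hexp e₁)
        rw [Nat.cast_mul, hk]
        simp only [ZMod.natCast_zmod_val]
        field_simp
    rw [hθu]
    exact A.pow_mem hu k
  have hL : ∀ t : ZMod p, θ (aL t) ∈ A := by
    intro t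
    have ha0 : (c : ZMod p) ≠ 0 := by
      rwa [Ne, ZMod.natCast_eq_zero_iff]
    have hpowv : ∀ k : ℕ, (v ^ k) e₂ = e₂ ∧ (v ^ k) e₁ = e₁ * e₂ ^ (c * k) := by
      intro k
      induction k with
      | zero => simp
      | succ k ih =>
        have e1 : (v ^ (k + 1)) e₂ = e₂ := by
          rw [pow_succ, MulAut.mul_apply, hv2, ih.1]
        refine ⟨e1, ?_⟩
        rw [pow_succ, MulAut.mul_apply, hv1, map_mul, ih.2, map_pow, ih.1, mul_assoc, ← pow_add]
        congr 2
    set k := (t * (c : ZMod p)⁻¹).val with hk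
    have hθu : θ (aL t) = v ^ k := by
      apply hext
      · rw [(hpowv k).2]
        conv_lhs => rw [he₁]
        rw [hθv, toLin_aL, hι]
        simp only [Matrix.cons_val_zero, Matrix.cons_val_one, Matrix.cons_val_fin_one, mul_one, add_zero, ZMod.val_one, pow_one]
        congr 1
        apply pow_eq_pow_of_zmod (hexp e₂)
        rw [Nat.cast_mul, hk]
        simp only [ZMod.natCast_zmod_val]
        field_simp
      · rw [(hpowv k).1]
        conv_lhs => rw [he₂]
        rw [hθv, toLin_aL, hι]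
        simp [ZMod.val_one]
    rw [hθu]
    exact A.pow_mem hv k
  have htop : A.comap θ = ⊤ := Cfsg.Agent.Lib.LocalEven2.NatSL2.mem_closure_all _ hU hL
  have hle : θ.range ≤ A := by
    rintro _ ⟨g, rfl⟩
    have : g ∈ A.comap θ := by rw [htop]; trivial
    exact this
  exact ⟨θ.range.subgroupOf A, ⟨(Subgroup.subgroupOfEquivOfLe hle).trans (MonoidHom.ofInjective hθinj).symm⟩⟩

/-- A group of automorphisms of `C_p × C_p` containing nontrivial `p`-elements and stabilizing no line
contains a copy of `SL₂(p)`. -/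
theorem exists_sl2_of_no_line [Finite G] (hcomm : ∀ x y : G, x * y = y * x) (hcard : Nat.card G = p ^ 2)
    (hexp : ∀ x : G, x ^ p = 1) (A : Subgroup (MulAut G))
    (hno : ∀ e : G, e ≠ 1 → ¬ ∀ α ∈ A, ∀ x ∈ Subgroup.zpowers e, α x ∈ Subgroup.zpowers e)
    (u : MulAut G) (hu : u ∈ A) (k : ℕ) (hk : u ^ (p ^ k) = 1) (hu1 : u ≠ 1) :
    ∃ K : Subgroup A, Nonempty (K ≃* Matrix.SpecialLinearGroup (Fin 2) (ZMod p)) := by
  have hpp : p.Prime := hp.out
  have hG : IsPGroup p G := IsPGroup.of_card hcard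
  haveI : Nontrivial G := by
    rw [← Finite.one_lt_card_iff_nontrivial, hcard]
    exact Nat.one_lt_pow (by norm_num) hpp.one_lt
  haveI hnorm : ∀ L : Subgroup G, L.Normal := fun L => ⟨fun x hx g => by
    rw [hcomm g x]
    simpa using hx⟩
  -- order and index of lines
  have hline : ∀ e : G, e ≠ 1 → (Subgroup.zpowers e).index = p := by
    intro e he
    have h1 : Nat.card (Subgroup.zpowers e) = p := by
      rw [Nat.card_zpowers, orderOf_eq_prime (hexp e) he]
    have h2 := Subgroup.card_mul_index (Subgroup.zpowers e)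
    rw [h1, hcard, pow_two] at h2
    exact Nat.eq_of_mul_eq_mul_left hpp.pos h2
  have hrel : ∀ e : G, e ≠ 1 → (Subgroup.zpowers e).relIndex ⊤ ∣ p := by
    intro e he
    rw [Subgroup.relIndex_top_right, hline e he]
  -- an element fixing a line pointwise and a vector outside it is trivial
  have hone : ∀ (α : MulAut G) (e f : G), e ≠ 1 → α e = e → α f = f → f ∉ Subgroup.zpowers e → α = 1 := by
    intro α e f he h1 h2 hf
    let Fx : Subgroup G := MonoidHom.eqLocus α.toMonoidHom (MonoidHom.id G)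
    have hl : Subgroup.zpowers e ≤ Fx := by
      rw [Subgroup.zpowers_le]
      exact h1
    have hlt : Subgroup.zpowers e < Fx := lt_of_le_of_ne hl (fun h => hf (h ▸ (h2 : f ∈ Fx)))
    have hco : IsCoatom (Subgroup.zpowers e) := by
      exact Cfsg.Agent.Lib.Transfer.isCoatom_of_index_prime ((hline e he).symm ▸ hpp)
    have htop := hco.2 Fx hlt
    apply MulEquiv.ext
    intro x
    have : x ∈ Fx := by rw [htop]; trivial
    exact this
  obtain ⟨e₁, he₁, hue₁⟩ := exists_fixed_ne_one hG u k hk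
  -- a `p`-element not fixing `e₁`
  have hexv : ∃ v ∈ A, (∃ j : ℕ, v ^ (p ^ j) = 1) ∧ v e₁ ≠ e₁ := by
    by_contra hcon
    push Not at hcon
    apply hno e₁ he₁
    intro α hα x hx
    have hinv : α e₁ ∈ Subgroup.zpowers e₁ := by
      by_contra hout
      -- `u` fixes `α e₁`
      have h1 : (α⁻¹ * u * α) e₁ = e₁ := by
        refine hcon _ (A.mul_mem (A.mul_mem (A.inv_mem hα) hu) hα) ⟨k, ?_⟩
        have : (α⁻¹ * u * α) = α⁻¹ * u * α⁻¹⁻¹ := by simp
        rw [this, conj_pow, hk]
        simp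
      have h2 : u (α e₁) = α e₁ := by
        have : α ((α⁻¹ * u * α) e₁) = u (α e₁) := by
          show α (α⁻¹ (u (α e₁))) = _
          simp
        rw [← this, h1]
      exact hu1 (hone u e₁ (α e₁) he₁ hue₁ h2 hout)
    obtain ⟨j, rfl⟩ := Subgroup.mem_zpowers_iff.1 hx
    rw [map_zpow]
    exact Subgroup.zpow_mem _ hinv _
  obtain ⟨v, hv, ⟨j, hj⟩, hve₁⟩ := hexv
  obtain ⟨e₂, he₂, hve₂⟩ := exists_fixed_ne_one hG v j hj
  have hsym : ∀ e f : G, e ≠ 1 → f ≠ 1 → f ∈ Subgroup.zpowers e → e ∈ Subgroup.zpowers f := by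
    intro e f he hf hmem
    have hle : Subgroup.zpowers f ≤ Subgroup.zpowers e := by
      rw [Subgroup.zpowers_le]
      exact hmem
    have heq : Subgroup.zpowers f = Subgroup.zpowers e := by
      apply Subgroup.eq_of_le_of_card_ge hle
      rw [Nat.card_zpowers, Nat.card_zpowers, orderOf_eq_prime (hexp e) he, orderOf_eq_prime (hexp f) hf]
    rw [heq]
    exact Subgroup.mem_zpowers e
  have he₂out : e₂ ∉ Subgroup.zpowers e₁ := by
    intro hmem
    obtain ⟨i, hi⟩ := Subgroup.mem_zpowers_iff.1 (hsym e₁ e₂ he₁ he₂ hmem)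
    apply hve₁
    rw [← hi, map_zpow, hve₂]
  have he₁out : e₁ ∉ Subgroup.zpowers e₂ := by
    intro hmem
    obtain ⟨i, hi⟩ := Subgroup.mem_zpowers_iff.1 hmem
    apply hve₁
    rw [← hi, map_zpow, hve₂]
  have hstepu := step_fix u (Subgroup.zpowers e₁) ⊤ le_top (by
    intro x hx
    obtain ⟨i, rfl⟩ := Subgroup.mem_zpowers_iff.1 hx
    rw [map_zpow, hue₁]
    exact Subgroup.zpow_mem _ (Subgroup.mem_zpowers _) _) (fun _ _ => trivial) (hrel e₁ he₁) k hk e₂ trivial
  have hstepv := step_fix v (Subgroup.zpowers e₂) ⊤ le_top (by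
    intro x hx
    obtain ⟨i, rfl⟩ := Subgroup.mem_zpowers_iff.1 hx
    rw [map_zpow, hve₂]
    exact Subgroup.zpow_mem _ (Subgroup.mem_zpowers _) _) (fun _ _ => trivial) (hrel e₂ he₂) j hj e₁ trivial
  obtain ⟨a, ha⟩ := (mem_powers_iff_mem_zpowers).2 hstepu
  obtain ⟨c, hc⟩ := (mem_powers_iff_mem_zpowers).2 hstepv
  have hu2 : u e₂ = e₂ * e₁ ^ a := by
    simp only at ha
    rw [ha]
    group
  have hv1 : v e₁ = e₁ * e₂ ^ c := by
    simp only at hc
    rw [hc]
    group
  refine exists_sl2_of_roots hcomm hcard hexp A e₁ e₂ he₁ he₂out u v hu hv a c hue₁ hu2 ?_ hve₂ hv1 ?_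
  · intro hd
    apply hu1
    apply hone u e₁ e₂ he₁ hue₁ _ he₂out
    obtain ⟨d, rfl⟩ := hd
    rw [hu2, pow_mul, hexp, one_pow, mul_one]
  · intro hd
    apply hve₁
    obtain ⟨d, rfl⟩ := hd
    rw [hv1, pow_mul, hexp, one_pow, mul_one]

end Alg

section Main

variable {Ω : Type*} [Group Ω] {S : Subgroup Ω} [Finite S] {F : FusionSystem S} {p : ℕ} [hp : Fact p.Prime]

/-- Automorphisms of a cyclic group commute. -/
theorem mulAut_comm_of_isCyclic {G : Type*} [Group G] [IsCyclic G] (a b : MulAut G) : a * b = b * a := by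
  obtain ⟨g, hg⟩ := IsCyclic.exists_generator (α := G)
  obtain ⟨m, hm⟩ := Subgroup.mem_zpowers_iff.1 (hg (a g))
  obtain ⟨n, hn⟩ := Subgroup.mem_zpowers_iff.1 (hg (b g))
  apply MulEquiv.ext
  intro x
  obtain ⟨k, rfl⟩ := Subgroup.mem_zpowers_iff.1 (hg x)
  simp only [MulAut.mul_apply, map_zpow]
  rw [← hm, ← hn, map_zpow, map_zpow, ← hm, ← hn]
  simp only [← zpow_mul]
  congr 1
  ring

/-- Essential subgroups of order `p²`. -/
theorem essential_card_sq (hS : IsPGroup p S) {H : Subgroup Ω} (hH : F.IsEssential p H) (hcard : Nat.card H = p ^ 2) :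
    IsElementaryAbelian p H ∧ ∃ K : Subgroup (F.autGroup H), Nonempty (K ≃* Matrix.SpecialLinearGroup (Fin 2) (ZMod p)) := by
  have hpp : p.Prime := hp.out
  have hHS : H ≤ S := hH.1.1
  haveI : Finite H := finite_of_le hHS
  have hHp : IsPGroup p H := IsPGroup.of_card hcard
  have hab : IsMulCommutative H := IsPGroup.isMulCommutative_of_card_eq_prime_sq hcard
  have hcomm : ∀ x y : H, x * y = y * x := fun x y => hab.is_comm.comm x y
  have hnc : ¬ IsCyclic H := by
    intro hc
    exact false_of_comm hS hH (fun a b _ _ => mulAut_comm_of_isCyclic a b)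
  have hexp : ∀ x : H, x ^ p = 1 := by
    intro x
    by_contra hx
    apply hnc
    have hord : orderOf x = p ^ 2 := by
      have hd : orderOf x ∣ p ^ 2 := by
        rw [← hcard]
        exact orderOf_dvd_natCard x
      obtain ⟨k, hk2, hk⟩ := (Nat.dvd_prime_pow hpp).1 hd
      interval_cases k
      · rw [pow_zero, orderOf_eq_one_iff] at hk
        rw [hk, one_pow] at hx
        exact absurd rfl hx
      · rw [pow_one] at hk
        rw [← hk, pow_orderOf_eq_one] at hx
        exact absurd rfl hx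
      · exact hk
    exact isCyclic_of_orderOf_eq_card x (by rw [hord, hcard])
  refine ⟨⟨hab, fun a ha => ?_⟩, ?_⟩
  · have := hexp ⟨a, ha⟩
    exact congrArg Subtype.val this
  · obtain ⟨u, hu, ⟨k, hk⟩, hui⟩ := exists_pelt_of_essential hS hH
    refine exists_sl2_of_no_line hcomm hcard hexp (F.autGroup H) ?_ u hu k hk ?_
    · intro e he hinv
      -- the chain `1 < ⟨e⟩ < H`
      have hnorm : ∀ L : Subgroup H, L.Normal := fun L => ⟨fun x hx g => by
        rw [hcomm g x]
        simpa using hx⟩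
      let c : ℕ → Subgroup H := fun i => match i with
        | 0 => ⊥
        | 1 => Subgroup.zpowers e
        | _ => ⊤
      have hline : (Subgroup.zpowers e).index = p := by
        have h1 : Nat.card (Subgroup.zpowers e) = p := by
          rw [Nat.card_zpowers, orderOf_eq_prime (hexp e) he]
        have h2 := Subgroup.card_mul_index (Subgroup.zpowers e)
        rw [h1, hcard, pow_two] at h2
        exact Nat.eq_of_mul_eq_mul_left hpp.pos h2
      refine false_of_chain hS hH c 2 rfl rfl ?_ (fun i _ => hnorm _) ?_ ?_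
      · intro i hi
        interval_cases i
        · exact bot_le
        · exact le_top
      · intro i hi α hα x hx
        interval_cases i
        · have hx1 : x = 1 := hx
          rw [hx1, map_one]
          exact Subgroup.one_mem _
        · exact hinv α hα x hx
        · trivial
      · intro i hi
        interval_cases i
        · show (⊥ : Subgroup H).relIndex (Subgroup.zpowers e) ∣ p
          rw [Subgroup.relIndex_bot_left, Nat.card_zpowers, orderOf_eq_prime (hexp e) he]
        · show (Subgroup.zpowers e).relIndex ⊤ ∣ p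
          rw [Subgroup.relIndex_top_right, hline]
    · rintro rfl
      exact hui (Subgroup.one_mem _)

end Main

end Cfsg.Agent.Lib.Fusion
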