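/-
Abelian essential subgroups of rank at most two.
-/
import Cfsg.Agent.Lib.Fusion.EssP2
import Cfsg.Agent.Lib.Transfer.Frattini

set_option autoImplicit false
set_option linter.unusedSectionVars false
set_option linter.style.haveILetI false

namespace Cfsg.Agent.Lib.Fusion

open Cfsg Cfsg.FusionSystem

section Index

theorem relIndex_map_dvd {G G' : Type*} [Group G] [Group G'] (f : G →* G') (H K : Subgroup G) (hHK : H ≤ K) :
    (H.map f).relIndex (K.map f) ∣ H.relIndex K := by
  have hs : Function.Surjective (f.subgroupMap K) := f.subgroupMap_surjective K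
  have h1 := Subgroup.index_map_dvd (H := H.subgroupOf K) hs
  have h2 : (H.map f).subgroupOf (K.map f) = (H.subgroupOf K).map (f.subgroupMap K) := by
    ext ⟨y, hy⟩
    constructor
    · rintro ⟨h, hh, rfl⟩
      exact ⟨⟨h, hHK hh⟩, hh, rfl⟩
    · rintro ⟨⟨h, hK⟩, hh, he⟩
      have := congrArg Subtype.val he
      exact ⟨h, hh, this⟩
  rw [Subgroup.relIndex, h2]
  exact h1

end Index

section Trick

/-- The binomial trick in `Aut(V)`. -/
theorem trick_add {V : Type*} [AddCommGroup V] {p : ℕ} [hp : Fact p.Prime] (hp5 : 5 ≤ p) (E : AddMonoid.End V)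
    (hU : (E + 1) ^ p = 1) (hE2 : ∀ x, ∃ y, E (E x) = p • y) : ∀ x, ∃ y, p • E x = (p ^ 2) • y := by
  have hpp : p.Prime := hp.out
  have hmap : ∀ (n : ℕ) (x : V), E (n • x) = n • E x := fun n x => map_nsmul E n x
  have hpw : ∀ (m : ℕ) (x : V), (E ^ m) x = (E^[m]) x := by
    intro m x
    rw [AddMonoid.End.coe_pow]
  have hp2 : ∀ (m : ℕ) (x : V), ∃ y, (E ^ (m + 2)) x = p • y := by
    intro m x
    rw [pow_add, pow_two]
    obtain ⟨y, hy⟩ := hE2 ((E ^ 0) x)
    -- commute the factors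
    have e : (E ^ m * (E * E)) x = (E * E) ((E ^ m) x) := by
      rw [show E ^ m * (E * E) = (E * E) * E ^ m by
        rw [← pow_two, ← pow_add, ← pow_add, add_comm]]
      rfl
    rw [e]
    exact hE2 _
  have hp4 : ∀ (m : ℕ) (x : V), ∃ y, (E ^ (m + 4)) x = (p ^ 2) • y := by
    intro m x
    have e : (E ^ (m + 4)) x = E (E ((E ^ (m + 2)) x)) := by
      rw [show m + 4 = 2 + (m + 2) by ring, pow_add, pow_two]
      rfl
    obtain ⟨y, hy⟩ := hp2 m x
    obtain ⟨y', hy'⟩ := hE2 y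
    refine ⟨y', ?_⟩
    rw [e, hy, hmap, hmap, hy', pow_two, mul_nsmul]
  intro x
  let W : AddSubgroup V := (nsmulAddMonoidHom (p ^ 2)).range
  have hcomm : Commute E (1 : AddMonoid.End V) := Commute.one_right E
  have hsum := hcomm.add_pow p
  rw [hU] at hsum
  have hval := congrArg (fun f : AddMonoid.End V => f x) hsum
  have hev : ∀ (S : Finset ℕ) (g : ℕ → AddMonoid.End V), (∑ m ∈ S, g m) x = ∑ m ∈ S, g m x := by
    intro S g
    exact AddMonoidHom.finset_sum_apply g S x
  simp only [hev] at hval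
  have hterm : ∀ m, (E ^ m * 1 ^ (p - m) * ((p.choose m : ℕ) : AddMonoid.End V)) x = p.choose m • (E ^ m) x := by
    intro m
    rw [one_pow, mul_one]
    show (E ^ m) (((p.choose m : ℕ) : AddMonoid.End V) x) = _
    rw [AddMonoid.End.natCast_apply, map_nsmul]
  simp only [hterm] at hval
  obtain ⟨n, hn⟩ : ∃ n, p = n + 1 := ⟨p - 1, by have := hpp.pos; omega⟩
  have hsplit : ∑ m ∈ Finset.range (p + 1), p.choose m • (E ^ m) x =
      ∑ m ∈ Finset.range n, p.choose (m + 2) • (E ^ (m + 2)) x + p.choose 1 • (E ^ 1) x + p.choose 0 • (E ^ 0) x := by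
    rw [hn, Finset.sum_range_succ' _ (n + 1), Finset.sum_range_succ' _ n]
  rw [hsplit] at hval
  have hW : ∑ m ∈ Finset.range n, p.choose (m + 2) • (E ^ (m + 2)) x ∈ W := by
    apply AddSubgroup.sum_mem
    intro m hm
    rw [Finset.mem_range] at hm
    by_cases hlt : m + 2 < p
    · obtain ⟨c, hc⟩ := hpp.dvd_choose_self (by omega : m + 2 ≠ 0) hlt
      obtain ⟨y, hy⟩ := hp2 m x
      refine ⟨c • y, ?_⟩
      show (p ^ 2) • (c • y) = _
      rw [hc, hy, smul_smul, smul_smul]
      congr 1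
      ring
    · have hm' : m + 2 = p := by omega
      rw [hm', Nat.choose_self, one_smul]
      obtain ⟨m₀, hm₀⟩ : ∃ m₀, p = m₀ + 4 := ⟨p - 4, by omega⟩
      rw [hm₀]
      obtain ⟨y, hy⟩ := hp4 m₀ x
      refine ⟨y, ?_⟩
      rw [hy]
      rfl
  obtain ⟨y, hy⟩ := hW
  have hy' : (p ^ 2) • y = ∑ m ∈ Finset.range n, p.choose (m + 2) • (E ^ (m + 2)) x := hy
  simp only [Nat.choose_one_right, pow_one, Nat.choose_zero_right, one_smul, pow_zero] at hval
  refine ⟨-y, ?_⟩
  have hx1 : (1 : AddMonoid.End V) x = x := rfl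
  rw [hx1] at hval
  have h3 : p • E x = - ∑ m ∈ Finset.range n, p.choose (m + 2) • (E ^ (m + 2)) x := by
    rw [eq_neg_iff_add_eq_zero, add_comm]
    exact add_eq_right.1 hval.symm
  rw [h3, ← hy', smul_neg]

end Trick

section Alg

variable {G : Type*} [Group G] {p : ℕ} [hp : Fact p.Prime]

/-- The power homomorphism of a commutative group. -/
def abPow (hcomm : ∀ x y : G, x * y = y * x) (n : ℕ) : G →* G where
  toFun x := x ^ n
  map_one' := one_pow n
  map_mul' x y := (Commute.mul_pow (hcomm x y) n)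

@[simp] theorem abPow_apply (hcomm : ∀ x y : G, x * y = y * x) (n : ℕ) (x : G) : abPow hcomm n x = x ^ n := rfl

/-- The binomial trick, multiplicatively. -/
theorem trick_mul (hcomm : ∀ x y : G, x * y = y * x) (hp5 : 5 ≤ p) (u : MulAut G) (hu : u ^ p = 1)
    (hD : ∀ x, ∃ y, (x⁻¹ * u x)⁻¹ * u (x⁻¹ * u x) = y ^ p) : ∀ x, ∃ y, (x⁻¹ * u x) ^ p = y ^ (p ^ 2) := by
  letI cg : CommGroup G := { (inferInstance : Group G) with mul_comm := hcomm }
  let U : AddMonoid.End (Additive G) :=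
    AddMonoidHom.mk' (fun x => Additive.ofMul (u x.toMul)) (by
      intro a b
      show Additive.ofMul (u (a.toMul * b.toMul)) = _
      rw [map_mul]
      rfl)
  have hUv : ∀ x, U x = Additive.ofMul (u x.toMul) := fun _ => rfl
  have hUp : ∀ (m : ℕ) (x : Additive G), (U ^ m) x = Additive.ofMul ((u ^ m) x.toMul) := by
    intro m
    induction m with
    | zero => intro x; rfl
    | succ m ih =>
      intro x
      rw [pow_succ', pow_succ', MulAut.mul_apply]
      show U ((U ^ m) x) = _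
      rw [ih, hUv]
      rfl
  have hUpow : U ^ p = 1 := by
    ext x
    rw [hUp, hu]
    rfl
  let E : AddMonoid.End (Additive G) := U - 1
  have hEv : ∀ w : G, E (Additive.ofMul w) = Additive.ofMul (w⁻¹ * u w) := by
    intro w
    show U (Additive.ofMul w) - Additive.ofMul w = _
    rw [hUv, ← ofMul_div, div_eq_mul_inv, hcomm]
    rfl
  have hE2 : ∀ x, ∃ y, E (E x) = p • y := by
    intro x
    obtain ⟨y, hy⟩ := hD x.toMul
    refine ⟨Additive.ofMul y, ?_⟩
    have e : x = Additive.ofMul x.toMul := rfl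
    rw [e, hEv, hEv, hy, ofMul_pow]
  have hEU : E + 1 = U := sub_add_cancel U 1
  have := trick_add hp5 E (by rw [hEU]; exact hUpow) hE2
  intro x
  obtain ⟨y, hy⟩ := this (Additive.ofMul x)
  refine ⟨y.toMul, ?_⟩
  rw [hEv] at hy
  rw [← ofMul_pow] at hy
  have h2 : Additive.ofMul ((x⁻¹ * u x) ^ p) = p • Additive.ofMul (x⁻¹ * u x) := rfl
  have h3 : p ^ 2 • y = Additive.ofMul (y.toMul ^ (p ^ 2)) := rfl
  exact Additive.ofMul.injective (h2.trans (hy.trans h3))

/-- The isomorphism type in the homocyclic case. -/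
theorem iso_of_homocyclic [Finite G] (hcomm : ∀ x y : G, x * y = y * x) (a : ℕ) (hexp : ∀ x : G, x ^ (p ^ (a + 1)) = 1)
    (hidx : (abPow hcomm p).range.index ∣ p ^ 2) (hI : Nat.card (abPow hcomm (p ^ a)).range = p ^ 2) :
    Nonempty (G ≃* Multiplicative (ZMod (p ^ (a + 1)) × ZMod (p ^ (a + 1)))) := by
  have hpp : p.Prime := hp.out
  set I := (abPow hcomm (p ^ a)).range with hIdef
  have hIp : ∀ z ∈ I, z ^ p = 1 := by
    rintro _ ⟨x, rfl⟩
    show (x ^ (p ^ a)) ^ p = 1
    rw [← pow_mul, ← pow_succ]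
    exact hexp x
  -- two independent elements of the socle
  have hne : ∃ z₁ ∈ I, z₁ ≠ 1 := by
    by_contra hcon
    push Not at hcon
    have : I = ⊥ := by
      rw [eq_bot_iff]
      intro z hz
      exact hcon z hz
    rw [this] at hI
    have h1 : (1 : ℕ) < p ^ 2 := Nat.one_lt_pow (by norm_num) hpp.one_lt
    simp at hI
    omega
  obtain ⟨z₁, hz₁I, hz₁⟩ := hne
  have hz₁o : orderOf z₁ = p := orderOf_eq_prime (hIp z₁ hz₁I) hz₁
  have hne2 : ∃ z₂ ∈ I, z₂ ∉ Subgroup.zpowers z₁ := by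
    by_contra hcon
    push Not at hcon
    have hle : I ≤ Subgroup.zpowers z₁ := hcon
    have h1 := Subgroup.card_le_card_group (H := I.subgroupOf (Subgroup.zpowers z₁))
    have h2 : Nat.card (I.subgroupOf (Subgroup.zpowers z₁)) = Nat.card I :=
      Nat.card_congr (Subgroup.subgroupOfEquivOfLe hle).toEquiv
    rw [h2, hI, Nat.card_zpowers, hz₁o, pow_two] at h1
    have h2' := hpp.two_le
    nlinarith
  obtain ⟨z₂, hz₂I, hz₂⟩ := hne2
  obtain ⟨x₁, hx₁⟩ := hz₁I
  obtain ⟨x₂, hx₂⟩ := hz₂I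
  have hx₁' : x₁ ^ (p ^ a) = z₁ := hx₁
  have hx₂' : x₂ ^ (p ^ a) = z₂ := hx₂
  have hz₂p : z₂ ^ p = 1 := hIp z₂ ⟨x₂, hx₂⟩
  have hz₁p : z₁ ^ p = 1 := hIp z₁ ⟨x₁, hx₁⟩
  set q := p ^ (a + 1) with hq
  haveI : NeZero q := ⟨(pow_pos hpp.pos _).ne'⟩
  have hpvq : ∀ (x : G) (s t : ZMod q), x ^ (s + t).val = x ^ s.val * x ^ t.val := by
    intro x s t
    rw [← pow_add, ZMod.val_add]
    exact (pow_eq_pow_mod _ (hexp x)).symm
  let f : Multiplicative (ZMod q × ZMod q) →* G :=
    { toFun := fun w => x₁ ^ ((Multiplicative.toAdd w).1).val * x₂ ^ ((Multiplicative.toAdd w).2).val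
      map_one' := by simp
      map_mul' := by
        intro w w'
        simp only [toAdd_mul, Prod.fst_add, Prod.snd_add]
        rw [hpvq, hpvq]
        calc x₁ ^ ((Multiplicative.toAdd w).1).val * x₁ ^ ((Multiplicative.toAdd w').1).val * (x₂ ^ ((Multiplicative.toAdd w).2).val * x₂ ^ ((Multiplicative.toAdd w').2).val)
            = x₁ ^ ((Multiplicative.toAdd w).1).val * (x₁ ^ ((Multiplicative.toAdd w').1).val * x₂ ^ ((Multiplicative.toAdd w).2).val) * x₂ ^ ((Multiplicative.toAdd w').2).val := by group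
          _ = x₁ ^ ((Multiplicative.toAdd w).1).val * (x₂ ^ ((Multiplicative.toAdd w).2).val * x₁ ^ ((Multiplicative.toAdd w').1).val) * x₂ ^ ((Multiplicative.toAdd w').2).val := by rw [hcomm (x₁ ^ _) (x₂ ^ _)]
          _ = _ := by group }
  have hfv : ∀ s t : ZMod q, f (Multiplicative.ofAdd (s, t)) = x₁ ^ s.val * x₂ ^ t.val := fun _ _ => rfl
  -- independence
  have hind : ∀ s t : ℕ, z₁ ^ s * z₂ ^ t = 1 → p ∣ s ∧ p ∣ t := by
    intro s t h
    have ht : p ∣ t := by
      by_contra hnd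
      have ht0 : (t : ZMod p) ≠ 0 := by rwa [Ne, ZMod.natCast_eq_zero_iff]
      apply hz₂
      have e : z₂ = (z₂ ^ t) ^ ((t : ZMod p)⁻¹).val := by
        rw [← pow_mul]
        conv_lhs => rw [← pow_one z₂]
        apply pow_eq_pow_of_zmod hz₂p
        simp [ht0]
      rw [e]
      refine Subgroup.pow_mem _ ?_ _
      have : z₂ ^ t = (z₁ ^ s)⁻¹ := by
        rw [eq_inv_iff_mul_eq_one, hcomm]
        exact h
      rw [this]
      exact Subgroup.inv_mem _ (Subgroup.pow_mem _ (Subgroup.mem_zpowers _) _)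
    refine ⟨?_, ht⟩
    obtain ⟨d, rfl⟩ := ht
    rw [pow_mul, hz₂p, one_pow, mul_one] at h
    rw [← hz₁o]
    exact orderOf_dvd_of_pow_eq_one h
  have hfinj : Function.Injective f := by
    rw [injective_iff_map_eq_one]
    intro w hw
    obtain ⟨w, rfl⟩ := Multiplicative.ofAdd.surjective w
    obtain ⟨s, t⟩ := w
    rw [hfv] at hw
    have key : ∀ i ≤ a + 1, p ^ i ∣ s.val ∧ p ^ i ∣ t.val := by
      intro i
      induction i with
      | zero => intro _; simp
      | succ i ih =>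
        intro hi
        obtain ⟨⟨s', hs'⟩, ⟨t', ht'⟩⟩ := ih (by omega)
        have h1 : z₁ ^ s' * z₂ ^ t' = 1 := by
          have h2 := congrArg (fun y => y ^ (p ^ (a - i))) hw
          simp only [one_pow] at h2
          rw [(show Commute (x₁ ^ s.val) (x₂ ^ t.val) from hcomm _ _).mul_pow] at h2
          have e1 : (x₁ ^ s.val) ^ (p ^ (a - i)) = z₁ ^ s' := by
            rw [hs', ← hx₁', ← pow_mul, ← pow_mul]
            congr 1
            rw [show p ^ a = p ^ i * p ^ (a - i) by rw [← pow_add]; congr 1; omega]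
            ring
          have e2 : (x₂ ^ t.val) ^ (p ^ (a - i)) = z₂ ^ t' := by
            rw [ht', ← hx₂', ← pow_mul, ← pow_mul]
            congr 1
            rw [show p ^ a = p ^ i * p ^ (a - i) by rw [← pow_add]; congr 1; omega]
            ring
          rw [e1, e2] at h2
          exact h2
        obtain ⟨⟨c, hc⟩, ⟨d, hd⟩⟩ := hind s' t' h1
        exact ⟨⟨c, by rw [hs', hc]; ring⟩, ⟨d, by rw [ht', hd]; ring⟩⟩
    obtain ⟨h1, h2⟩ := key (a + 1) le_rfl
    have hs0 : s.val = 0 := Nat.eq_zero_of_dvd_of_lt h1 (ZMod.val_lt s)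
    have ht0 : t.val = 0 := Nat.eq_zero_of_dvd_of_lt h2 (ZMod.val_lt t)
    have hs : s = 0 := (ZMod.val_eq_zero s).1 hs0
    have ht : t = 0 := (ZMod.val_eq_zero t).1 ht0
    rw [hs, ht]
    rfl
  -- the order of `G`
  let A : ℕ → Subgroup G := fun j => (abPow hcomm (p ^ j)).range
  have hAstep : ∀ j, Nat.card (A j) ≤ p ^ 2 * Nat.card (A (j + 1)) := by
    intro j
    have hA1 : A j = (⊤ : Subgroup G).map (abPow hcomm (p ^ j)) := MonoidHom.range_eq_map _
    have hA2 : A (j + 1) = (abPow hcomm p).range.map (abPow hcomm (p ^ j)) := by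
      ext y
      constructor
      · rintro ⟨w, rfl⟩
        refine ⟨w ^ p, ⟨w, rfl⟩, ?_⟩
        show (w ^ p) ^ (p ^ j) = w ^ (p ^ (j + 1))
        rw [← pow_mul, pow_succ']
      · rintro ⟨_, ⟨w, rfl⟩, rfl⟩
        refine ⟨w, ?_⟩
        show w ^ (p ^ (j + 1)) = (w ^ p) ^ (p ^ j)
        rw [← pow_mul, pow_succ']
    have hle : A (j + 1) ≤ A j := by
      rw [hA1, hA2]
      exact Subgroup.map_mono le_top
    have hdiv : (A (j + 1)).relIndex (A j) ∣ p ^ 2 := by
      rw [hA1, hA2]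
      refine (relIndex_map_dvd _ _ ⊤ le_top).trans ?_
      rw [Subgroup.relIndex_top_right]
      exact hidx
    have h1 : (A (j + 1)).relIndex (A j) ≤ p ^ 2 := Nat.le_of_dvd (pow_pos hpp.pos 2) hdiv
    have h2 : Nat.card (A (j + 1)) * (A (j + 1)).relIndex (A j) = Nat.card (A j) := by
      rw [← Nat.card_congr (Subgroup.subgroupOfEquivOfLe hle).toEquiv]
      exact Subgroup.card_mul_index _
    rw [← h2, mul_comm]
    exact Nat.mul_le_mul_right _ h1
  have hAbd : ∀ j, Nat.card G ≤ (p ^ 2) ^ j * Nat.card (A j) := by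
    intro j
    induction j with
    | zero =>
      have : A 0 = ⊤ := by
        rw [eq_top_iff]
        intro w _
        exact ⟨w, by simp⟩
      simp [this]
    | succ j ih =>
      refine ih.trans ?_
      rw [pow_succ (p ^ 2) j, mul_assoc]
      exact Nat.mul_le_mul_left _ (hAstep j)
  have hAlast : A (a + 1) = ⊥ := by
    rw [eq_bot_iff]
    rintro _ ⟨w, rfl⟩
    exact hexp w
  have hGcard : Nat.card G ≤ q * q := by
    have := hAbd (a + 1)
    rw [hAlast] at this
    simp only [Subgroup.card_bot, mul_one] at this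
    refine this.trans (le_of_eq ?_)
    rw [hq]
    ring
  have hcardW : Nat.card (Multiplicative (ZMod q × ZMod q)) = q * q := by
    simp [Nat.card_eq_fintype_card, ZMod.card]
  have hbij : Function.Bijective f := by
    rw [Nat.bijective_iff_injective_and_card]
    refine ⟨hfinj, ?_⟩
    apply le_antisymm
    · exact Nat.card_le_card_of_injective f hfinj
    · rw [hcardW]
      exact hGcard
  exact ⟨(MulEquiv.ofBijective f hbij).symm⟩

end Alg

section Main

variable {Ω : Type*} [Group Ω] {S : Subgroup Ω} [Finite S] {F : FusionSystem S} {p : ℕ} [hp : Fact p.Prime]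

/-- **The chain `H > M > H^p > M^p > H^{p²} > …`** -/
theorem false_of_ab_step (hS : IsPGroup p S) {H : Subgroup Ω} (hH : F.IsEssential p H)
    (hcomm : ∀ x y : H, x * y = y * x) (M : Subgroup H) (hMinv : ∀ α : MulAut H, ∀ x ∈ M, α x ∈ M)
    (hPM : ∀ x : H, x ^ p ∈ M) (hM : M.index ∣ p) (hMP : (abPow hcomm p).range.relIndex M ∣ p) : False := by
  have hpp : p.Prime := hp.out
  have hHS : H ≤ S := hH.1.1
  haveI : Finite H := finite_of_le hHS
  have hHp : IsPGroup p H := hS.to_le hHS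
  obtain ⟨n, hn⟩ := (IsPGroup.iff_card).1 hHp
  let π : ℕ → (H →* H) := fun j => abPow hcomm (p ^ j)
  have hπ : ∀ j x, π j x = x ^ (p ^ j) := fun _ _ => rfl
  let A : ℕ → Subgroup H := fun j => (⊤ : Subgroup H).map (π j)
  let B : ℕ → Subgroup H := fun j => M.map (π j)
  let q : ℕ → Subgroup H := fun t => if t % 2 = 0 then A (t / 2) else B (t / 2)
  have hq0 : ∀ j, q (2 * j) = A j := by
    intro j
    simp [q]
  have hq1 : ∀ j, q (2 * j + 1) = B j := by
    intro j
    have h1 : (2 * j + 1) % 2 = 1 := by omega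
    have h2 : (2 * j + 1) / 2 = j := by omega
    simp [q, h1, h2]
  have hBA : ∀ j, B j ≤ A j := fun j => Subgroup.map_mono le_top
  have hAB : ∀ j, A (j + 1) = (abPow hcomm p).range.map (π j) := by
    intro j
    ext y
    constructor
    · rintro ⟨w, -, rfl⟩
      refine ⟨w ^ p, ⟨w, rfl⟩, ?_⟩
      show (w ^ p) ^ (p ^ j) = w ^ (p ^ (j + 1))
      rw [← pow_mul, pow_succ', ]
    · rintro ⟨_, ⟨w, rfl⟩, rfl⟩
      refine ⟨w, trivial, ?_⟩
      show w ^ (p ^ (j + 1)) = (w ^ p) ^ (p ^ j)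
      rw [← pow_mul, pow_succ']
  have hPM' : (abPow hcomm p).range ≤ M := by
    rintro _ ⟨x, rfl⟩
    exact hPM x
  have hAB' : ∀ j, A (j + 1) ≤ B j := by
    intro j
    rw [hAB]
    exact Subgroup.map_mono hPM'
  have hi1 : ∀ j, (B j).relIndex (A j) ∣ p := fun j =>
    (relIndex_map_dvd (π j) M ⊤ le_top).trans (by rwa [Subgroup.relIndex_top_right])
  have hi2 : ∀ j, (A (j + 1)).relIndex (B j) ∣ p := fun j => by
    rw [hAB]
    exact (relIndex_map_dvd (π j) _ M hPM').trans hMP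
  have hqstep : ∀ t, q (t + 1) ≤ q t ∧ (q (t + 1)).relIndex (q t) ∣ p := by
    intro t
    obtain ⟨j, rfl | rfl⟩ := Nat.even_or_odd' t
    · rw [hq0, hq1]
      exact ⟨hBA j, hi1 j⟩
    · rw [hq1, show 2 * j + 1 + 1 = 2 * (j + 1) by ring, hq0]
      exact ⟨hAB' j, hi2 j⟩
  have hqinv : ∀ t, ∀ α : MulAut H, ∀ x ∈ q t, α x ∈ q t := by
    intro t α x hx
    obtain ⟨j, rfl | rfl⟩ := Nat.even_or_odd' t
    · rw [hq0] at hx ⊢
      obtain ⟨w, -, rfl⟩ := hx
      refine ⟨α w, trivial, ?_⟩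
      show (α w) ^ (p ^ j) = α (w ^ (p ^ j))
      rw [map_pow]
    · rw [hq1] at hx ⊢
      obtain ⟨w, hw, rfl⟩ := hx
      refine ⟨α w, hMinv α w hw, ?_⟩
      show (α w) ^ (p ^ j) = α (w ^ (p ^ j))
      rw [map_pow]
  have hnorm : ∀ L : Subgroup H, L.Normal := fun L => ⟨fun x hx g => by
    rw [hcomm g x]
    simpa using hx⟩
  have hq2n : q (2 * n) = ⊥ := by
    rw [hq0, eq_bot_iff]
    rintro _ ⟨w, -, rfl⟩
    show w ^ (p ^ n) ∈ _
    rw [← hn, pow_card_eq_one']
    exact Subgroup.one_mem _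
  have hq00 : q 0 = ⊤ := by
    have := hq0 0
    rw [mul_zero] at this
    rw [this, eq_top_iff]
    intro w _
    exact ⟨w, trivial, by simp [π, abPow]⟩
  refine false_of_chain hS hH (fun i => q (2 * n - i)) (2 * n) (by simpa using hq2n) (by simpa using hq00) ?_
    (fun _ _ => hnorm _) (fun i _ α _ x hx => hqinv _ α x hx) ?_
  · intro i hi
    have e : 2 * n - i = (2 * n - (i + 1)) + 1 := by omega
    show q (2 * n - i) ≤ q (2 * n - (i + 1))
    rw [e]
    exact (hqstep _).1
  · intro i hi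
    have e : 2 * n - i = (2 * n - (i + 1)) + 1 := by omega
    show (q (2 * n - i)).relIndex (q (2 * n - (i + 1))) ∣ p
    rw [e]
    exact (hqstep _).2

/-- An automorphism in `Aut_F(H)` that is trivial on `H / H^p` is trivial. -/
theorem eq_one_of_trivial_frattini (hS : IsPGroup p S) {H : Subgroup Ω} (hH : F.IsEssential p H)
    (hcomm : ∀ x y : H, x * y = y * x) (u : MulAut H) (hu : u ∈ F.autGroup H)
    (htriv : ∀ y : H, y⁻¹ * u y ∈ (abPow hcomm p).range) : u = 1 := by
  have hpp : p.Prime := hp.out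
  have hHS : H ≤ S := hH.1.1
  haveI : Finite H := finite_of_le hHS
  have hHp : IsPGroup p H := hS.to_le hHS
  obtain ⟨n, hn⟩ := (IsPGroup.iff_card).1 hHp
  let A : ℕ → Subgroup H := fun j => (abPow hcomm (p ^ j)).range
  let c : ℕ → Subgroup H := fun i => A (n - i)
  have hinv : ∀ i ≤ n, ∀ α ∈ F.autGroup H, ∀ x ∈ c i, α x ∈ c i := by
    rintro i - α - _ ⟨w, rfl⟩
    refine ⟨α w, ?_⟩
    show (α w) ^ (p ^ (n - i)) = α (w ^ (p ^ (n - i)))
    rw [map_pow]
  have h0 : c 0 = ⊥ := by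
    rw [eq_bot_iff]
    rintro _ ⟨w, rfl⟩
    show w ^ (p ^ (n - 0)) ∈ _
    rw [Nat.sub_zero, ← hn, pow_card_eq_one']
    exact Subgroup.one_mem _
  have hnn : c n = ⊤ := by
    rw [eq_top_iff]
    intro w _
    refine ⟨w, ?_⟩
    show w ^ (p ^ (n - n)) = w
    simp
  haveI := essStab_normal (F.autGroup H) c n hinv
  have hle := le_inn_of_essential hS hH (essStab (F.autGroup H) c n hinv)
    (essStab_isPGroup hHp (F.autGroup H) c n hinv h0 hnn)
  have hmem : (⟨u, hu⟩ : F.autGroup H) ∈ essStab (F.autGroup H) c n hinv := by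
    rintro i hi _ ⟨w, rfl⟩
    obtain ⟨v, hv⟩ := htriv w
    have hv' : v ^ p = w⁻¹ * u w := hv
    refine ⟨v, ?_⟩
    have he : n - i = (n - (i + 1)) + 1 := by omega
    show v ^ (p ^ (n - i)) = (w ^ (p ^ (n - (i + 1))))⁻¹ * u (w ^ (p ^ (n - (i + 1))))
    rw [he, pow_succ', pow_mul, hv', map_pow]
    have hcm : Commute (w⁻¹) (u w) := hcomm _ _
    rw [hcm.mul_pow, inv_pow]
  have h1 := hle hmem
  rw [Subgroup.mem_subgroupOf] at h1
  obtain ⟨g, hg⟩ := h1
  apply MulEquiv.ext
  intro x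
  have hg' : MulAut.conj g = u := hg
  rw [← hg']
  show g * x * g⁻¹ = x
  rw [hcomm g x]
  group

/-- Homocyclic of exponent at least `p²`, rank two, `p ≥ 5`: not essential. -/
theorem false_of_trick (hS : IsPGroup p S) {H : Subgroup Ω} (hH : F.IsEssential p H)
    (hcomm : ∀ x y : H, x * y = y * x) (hp5 : 5 ≤ p) (hidx : (abPow hcomm p).range.index = p ^ 2)
    (hΩ : ∀ x : H, x ^ p = 1 → x ∈ (abPow hcomm p).range) : False := by
  have hpp : p.Prime := hp.out
  have hHS : H ≤ S := hH.1.1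
  haveI : Finite H := finite_of_le hHS
  obtain ⟨u₀, hu₀, ⟨k, hk⟩, hui⟩ := exists_pelt_of_essential hS hH
  have hu₀1 : u₀ ≠ 1 := by
    rintro rfl
    exact hui (Subgroup.one_mem _)
  -- an element of order `p`
  obtain ⟨u, hu, hup, hu1⟩ : ∃ u ∈ F.autGroup H, u ^ p = 1 ∧ u ≠ 1 := by
    induction k with
    | zero =>
      exact absurd (by simpa using hk) hu₀1
    | succ k ih =>
      by_cases h : u₀ ^ (p ^ k) = 1
      · exact ih h
      · refine ⟨u₀ ^ (p ^ k), Subgroup.pow_mem _ hu₀ _, ?_, h⟩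
        rw [← pow_mul, ← pow_succ]
        exact hk
  set P := (abPow hcomm p).range with hP
  haveI hPn : P.Normal := ⟨fun x hx g => by
    rw [hcomm g x]
    simpa using hx⟩
  have hmapP : P.map u.toMonoidHom = P := by
    apply Subgroup.eq_of_le_of_card_ge
    · rintro _ ⟨_, ⟨w, rfl⟩, rfl⟩
      exact ⟨u w, by
        show (u w) ^ p = u (w ^ p)
        rw [map_pow]⟩
    · rw [Subgroup.card_map_of_injective (f := u.toMonoidHom) u.injective]
  set β : MulAut (H ⧸ P) := QuotientGroup.congr P P u hmapP with hβ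
  have hβv : ∀ y : H, β (y : H ⧸ P) = ((u y : H) : H ⧸ P) := fun y => rfl
  have hβpow : ∀ j : ℕ, ∀ y : H, (β ^ j) (y : H ⧸ P) = (((u ^ j) y : H) : H ⧸ P) := by
    intro j
    induction j with
    | zero => simp
    | succ j ih =>
      intro y
      rw [pow_succ', pow_succ', MulAut.mul_apply, ih, MulAut.mul_apply, hβv]
  have hβe : β ^ (p ^ 1) = 1 := by
    ext x
    induction x using QuotientGroup.induction_on with
    | H y =>
      rw [pow_one, hβpow, hup]
      simp
  have hQcard : Nat.card (H ⧸ P) = p ^ 2 := hidx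
  have hQp : IsPGroup p (H ⧸ P) := IsPGroup.of_card hQcard
  haveI : Nontrivial (H ⧸ P) := by
    rw [← Finite.one_lt_card_iff_nontrivial, hQcard]
    exact Nat.one_lt_pow (by norm_num) hpp.one_lt
  have hQexp : ∀ q : H ⧸ P, q ^ p = 1 := by
    intro q
    induction q using QuotientGroup.induction_on with
    | H y =>
      rw [← QuotientGroup.mk_pow]
      exact (QuotientGroup.eq_one_iff _).2 ⟨y, rfl⟩
  have hQcomm : ∀ a b : H ⧸ P, a * b = b * a := by
    intro a b
    induction a using QuotientGroup.induction_on with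
    | H y =>
      induction b using QuotientGroup.induction_on with
      | H z =>
        rw [← QuotientGroup.mk_mul, ← QuotientGroup.mk_mul, hcomm]
  obtain ⟨q₀, hq₀, hβq₀⟩ := exists_fixed_ne_one hQp β 1 hβe
  set L := Subgroup.zpowers q₀ with hL
  haveI hLn : L.Normal := ⟨fun x hx g => by
    rw [hQcomm g x]
    simpa using hx⟩
  have hLi : L.relIndex ⊤ ∣ p := by
    rw [Subgroup.relIndex_top_right]
    have h1 : Nat.card L = p := by
      rw [hL, Nat.card_zpowers, orderOf_eq_prime (hQexp q₀) hq₀]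
    have h2 := Subgroup.card_mul_index L
    rw [h1, hQcard, pow_two] at h2
    rw [Nat.eq_of_mul_eq_mul_left hpp.pos h2]
  have hstep := step_fix β L ⊤ le_top (by
    intro x hx
    obtain ⟨i, rfl⟩ := Subgroup.mem_zpowers_iff.1 hx
    rw [map_zpow, hβq₀]
    exact Subgroup.zpow_mem _ (Subgroup.mem_zpowers _) _) (fun _ _ => trivial) hLi 1 hβe
  -- `E² ≡ 0`
  have hD2 : ∀ x : H, ∃ y : H, (x⁻¹ * u x)⁻¹ * u (x⁻¹ * u x) = y ^ p := by
    intro x
    have h1 : (((x⁻¹ * u x : H)) : H ⧸ P) ∈ L := by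
      have := hstep (x : H ⧸ P) trivial
      rw [hβv] at this
      simpa using this
    obtain ⟨i, hi⟩ := Subgroup.mem_zpowers_iff.1 h1
    have h2 : β (((x⁻¹ * u x : H)) : H ⧸ P) = ((x⁻¹ * u x : H) : H ⧸ P) := by
      rw [← hi, map_zpow, hβq₀]
    rw [hβv] at h2
    have h3 : (x⁻¹ * u x)⁻¹ * u (x⁻¹ * u x) ∈ P := QuotientGroup.eq.1 h2.symm
    obtain ⟨y, hy⟩ := h3
    exact ⟨y, hy.symm⟩
  have htrick := trick_mul hcomm hp5 u hup hD2
  apply hu1
  apply eq_one_of_trivial_frattini hS hH hcomm u hu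
  intro x
  obtain ⟨y, hy⟩ := htrick x
  have h1 : ((x⁻¹ * u x) * (y ^ p)⁻¹) ^ p = 1 := by
    rw [(show Commute (x⁻¹ * u x) (y ^ p)⁻¹ from hcomm _ _).mul_pow, hy, inv_pow, ← pow_mul, pow_two, mul_inv_cancel]
  have h2 := hΩ _ h1
  have h3 : x⁻¹ * u x = ((x⁻¹ * u x) * (y ^ p)⁻¹) * y ^ p := by group
  rw [h3]
  exact P.mul_mem h2 ⟨y, rfl⟩

/-- **Abelian essential subgroups of rank at most two.** -/
theorem essential_ab_rank2 (hS : IsPGroup p S) {H : Subgroup Ω} (hH : F.IsEssential p H) (hab : IsMulCommutative H)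
    (hrk : (frattini H).index ≤ p ^ 2) :
    (IsElementaryAbelian p H ∧ Nat.card H = p ^ 2) ∨
      (p ≤ 3 ∧ ∃ k : ℕ, Nonempty (H ≃* Multiplicative (ZMod (p ^ k) × ZMod (p ^ k)))) := by
  classical
  have hpp : p.Prime := hp.out
  have hHS : H ≤ S := hH.1.1
  haveI : Finite H := finite_of_le hHS
  have hHp : IsPGroup p H := hS.to_le hHS
  have hcomm : ∀ x y : H, x * y = y * x := fun x y => hab.is_comm.comm x y
  obtain ⟨n, hn⟩ := (IsPGroup.iff_card).1 hHp
  set P := (abPow hcomm p).range with hP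
  haveI hPn : P.Normal := ⟨fun x hx g => by
    rw [hcomm g x]
    simpa using hx⟩
  have hfr : frattini H = P := by
    apply le_antisymm
    · refine Cfsg.Agent.Lib.Transfer.frattini_le_of_elementary (p := p) P (fun x => ⟨x, rfl⟩) ?_
      intro x y
      rw [hcomm x y]
      simp [P.one_mem]
    · rintro _ ⟨x, rfl⟩
      exact Cfsg.Agent.Lib.Transfer.pow_mem_frattini hHp x
  have hPi : P.index ≤ p ^ 2 := hfr ▸ hrk
  have hPdvd : P.index ∣ p ^ n := by
    rw [← hn]
    exact Subgroup.index_dvd_card P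
  have hex : ∃ a : ℕ, ∀ x : H, x ^ (p ^ a) = 1 := ⟨n, fun x => by rw [← hn]; exact pow_card_eq_one'⟩
  have hspec := Nat.find_spec hex
  have hmin := fun m => Nat.find_min (m := m) hex
  set a := Nat.find hex with ha
  -- the kernel of the `p`-th power map
  have hΩcard : Nat.card (abPow hcomm p).ker = P.index := by
    have h1 := Subgroup.card_mul_index (abPow hcomm p).ker
    rw [Subgroup.index_ker] at h1
    have h2 := Subgroup.card_mul_index P
    have h3 : 0 < Nat.card P := Nat.card_pos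
    have h4 : Nat.card P * Nat.card (abPow hcomm p).ker = Nat.card P * P.index := by
      rw [h2, mul_comm]
      exact h1
    exact Nat.eq_of_mul_eq_mul_left h3 h4
  rcases Nat.eq_zero_or_pos a with ha0 | hapos
  · -- trivial group
    exfalso
    have hx1 : ∀ x : H, x = 1 := by
      intro x
      have := hspec x
      rw [ha0] at this
      simpa using this
    refine false_of_comm hS hH (fun α β _ _ => ?_)
    apply MulEquiv.ext
    intro x
    rw [hx1 x]
    simp
  obtain ⟨a', ha'⟩ : ∃ a', a = a' + 1 := ⟨a - 1, by omega⟩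
  rw [ha'] at hspec
  set I := (abPow hcomm (p ^ a')).range with hI
  obtain ⟨x₀, hx₀⟩ : ∃ x₀ : H, x₀ ^ (p ^ a') ≠ 1 := by
    have := hmin a' (by omega)
    push Not at this
    exact this
  have hIne : Nat.card I ≠ 1 := by
    intro h1
    have hb : I = ⊥ := Subgroup.card_eq_one.1 h1
    apply hx₀
    have : x₀ ^ (p ^ a') ∈ I := ⟨x₀, rfl⟩
    rw [hb] at this
    exact this
  have hIΩ : I ≤ (abPow hcomm p).ker := by
    rintro _ ⟨x, rfl⟩
    rw [MonoidHom.mem_ker]
    show (x ^ (p ^ a')) ^ p = 1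
    rw [← pow_mul, ← pow_succ]
    exact hspec x
  have hIle : Nat.card I ≤ P.index := by
    rw [← hΩcard]
    have h1 := Subgroup.card_le_card_group (H := I.subgroupOf (abPow hcomm p).ker)
    rwa [Nat.card_congr (Subgroup.subgroupOfEquivOfLe hIΩ).toEquiv] at h1
  have hIdvd : Nat.card I ∣ p ^ n := by
    rw [← hn]
    exact Subgroup.card_subgroup_dvd_card I
  obtain ⟨i, -, hi⟩ := (Nat.dvd_prime_pow hpp).1 hIdvd
  have hi2 : i ≤ 2 := by
    have : p ^ i ≤ p ^ 2 := by
      rw [← hi]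
      exact hIle.trans hPi
    exact (Nat.pow_le_pow_iff_right hpp.one_lt).1 this
  have hi0 : i ≠ 0 := by
    rintro rfl
    exact hIne (by simpa using hi)
  have hcase : i = 1 ∨ i = 2 := by omega
  rcases hcase with rfl | rfl
  · -- a characteristic subgroup of index `p`
    exfalso
    rw [pow_one] at hi
    have hMi : (abPow hcomm (p ^ a')).ker.index = p := by
      rw [Subgroup.index_ker]
      exact hi
    have hPM : P ≤ (abPow hcomm (p ^ a')).ker := by
      rintro _ ⟨x, rfl⟩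
      rw [MonoidHom.mem_ker]
      show (x ^ p) ^ (p ^ a') = 1
      rw [← pow_mul, mul_comm, ← pow_succ]
      exact hspec x
    refine false_of_ab_step hS hH hcomm (abPow hcomm (p ^ a')).ker ?_ ?_ ?_ ?_
    · intro α x hx
      rw [MonoidHom.mem_ker] at hx ⊢
      show (α x) ^ (p ^ a') = 1
      rw [← map_pow]
      have hx' : x ^ (p ^ a') = 1 := hx
      rw [hx', map_one]
    · intro x
      exact hPM ⟨x, rfl⟩
    · rw [hMi]
    · have h1 := Subgroup.relIndex_mul_index hPM
      rw [hMi] at h1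
      have hd : P.relIndex (abPow hcomm (p ^ a')).ker ∣ p ^ n := (Dvd.intro _ h1).trans hPdvd
      obtain ⟨d, -, hd'⟩ := (Nat.dvd_prime_pow hpp).1 hd
      rw [hd'] at h1 ⊢
      have h2 : p ^ d * p ≤ p ^ 1 * p := by
        rw [h1, pow_one, ← pow_two]
        exact hPi
      have h3 : p ^ d ≤ p ^ 1 := Nat.le_of_mul_le_mul_right h2 hpp.pos
      have h4 : d ≤ 1 := (Nat.pow_le_pow_iff_right hpp.one_lt).1 h3
      exact (pow_dvd_pow p h4).trans (by rw [pow_one])
  · -- the homocyclic case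
    have hPeq : P.index = p ^ 2 := le_antisymm hPi (by rw [← hi]; exact hIle)
    have hIeq : ∀ x : H, x ^ p = 1 → x ∈ I := by
      intro x hx
      have hle : I = (abPow hcomm p).ker := by
        apply Subgroup.eq_of_le_of_card_ge hIΩ
        rw [hΩcard, hPeq, hi]
      rw [hle, MonoidHom.mem_ker]
      exact hx
    rcases Nat.eq_zero_or_pos a' with ha0 | ha1
    · left
      subst ha0
      simp only [zero_add, pow_one] at hspec
      have htop : I = ⊤ := by
        rw [eq_top_iff]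
        intro w _
        exact ⟨w, by simp⟩
      refine ⟨⟨hab, fun x hx => congrArg Subtype.val (hspec ⟨x, hx⟩)⟩, ?_⟩
      rw [htop] at hi
      simpa using hi
    · obtain ⟨b, hb⟩ : ∃ b, a' = b + 1 := ⟨a' - 1, by omega⟩
      have hIP : I ≤ P := by
        rw [hI, hb]
        rintro _ ⟨x, rfl⟩
        refine ⟨x ^ (p ^ b), ?_⟩
        show (x ^ (p ^ b)) ^ p = x ^ (p ^ (b + 1))
        rw [← pow_mul, pow_succ]
      by_cases hp5 : 5 ≤ p
      · exfalso
        exact false_of_trick hS hH hcomm hp5 hPeq (fun x hx => hIP (hIeq x hx))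
      · right
        refine ⟨?_, a' + 1, iso_of_homocyclic hcomm a' hspec (by rw [hPeq]) hi⟩
        by_contra hcon
        have h4 : p = 4 := by omega
        rw [h4] at hpp
        revert hpp
        decide

end Main

end Cfsg.Agent.Lib.Fusion
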