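/-
Essential subgroups of order `p³`.
-/
import Cfsg.Agent.Lib.Fusion.EssP2
import Cfsg.Agent.Lib.Fusion2.P3
import Cfsg.Agent.Lib.Fusion2.Heis
import Cfsg.Agent.Lib.OddLocal.UniqueP2

set_option autoImplicit false
set_option linter.unusedSectionVars false
set_option linter.style.haveILetI false

namespace Cfsg.Agent.Lib.Fusion

open Cfsg Cfsg.FusionSystem
open scoped commutatorElement

section Alg

variable {G : Type*} [Group G] [Finite G] {p : ℕ} [hp : Fact p.Prime]

/-- A pair of subgroups of orders `p`, `p²`, invariant under all automorphisms. -/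
def NoCharPair (p : ℕ) (G : Type*) [Group G] : Prop :=
  ∀ U M : Subgroup G, (∀ α : MulAut G, ∀ x ∈ U, α x ∈ U) → (∀ α : MulAut G, ∀ x ∈ M, α x ∈ M) → U ≤ M →
    Nat.card U = p → Nat.card M = p ^ 2 → False

/-- If `x ↦ x^p` is a homomorphism then the exponent is `p`. -/
theorem exp_of_powHom (hc : Nat.card G = p ^ 3) (hno : NoCharPair p G) (π : G →* G) (hπ : ∀ x, π x = x ^ p) :
    ∀ x : G, x ^ p = 1 := by
  have hpp : p.Prime := hp.out
  by_contra hcon
  push Not at hcon
  obtain ⟨x₀, hx₀⟩ := hcon
  have hI : ∀ α : MulAut G, ∀ x ∈ π.range, α x ∈ π.range := by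
    rintro α _ ⟨w, rfl⟩
    exact ⟨α w, by rw [hπ, hπ, map_pow]⟩
  have hΩ : ∀ α : MulAut G, ∀ x ∈ π.ker, α x ∈ π.ker := by
    intro α x hx
    rw [MonoidHom.mem_ker, hπ] at hx ⊢
    rw [← map_pow, hx, map_one]
  have hprod : Nat.card π.range * Nat.card π.ker = p ^ 3 := by
    rw [← hc, ← Subgroup.index_ker, mul_comm]
    exact Subgroup.card_mul_index _
  have hd : Nat.card π.ker ∣ p ^ 3 := ⟨_, by rw [← hprod, mul_comm]⟩
  obtain ⟨k, hk3, hk⟩ := (Nat.dvd_prime_pow hpp).1 hd
  have hpow_sub : ∀ (L : Subgroup G), Nat.card L = p → ∀ y ∈ L, y ^ p = 1 := by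
    intro L hL y hy
    have := pow_card_eq_one' (x := (⟨y, hy⟩ : L))
    rw [hL] at this
    exact congrArg Subtype.val this
  interval_cases k
  · -- kernel trivial: contradiction with Cauchy
    have hdvd : p ∣ Nat.card G := by rw [hc]; exact dvd_pow_self p (by norm_num)
    obtain ⟨y, hy⟩ := exists_prime_orderOf_dvd_card' p hdvd
    have hy1 : y ∈ π.ker := by
      rw [MonoidHom.mem_ker, hπ, ← hy, pow_orderOf_eq_one]
    have hb : π.ker = ⊥ := Subgroup.card_eq_one.1 (by simpa using hk)
    rw [hb] at hy1
    have : y = 1 := hy1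
    rw [this, orderOf_one] at hy
    exact hpp.one_lt.ne hy
  · -- kernel of order `p`, image of order `p²`
    rw [pow_one] at hk
    have hrange : Nat.card π.range = p ^ 2 := by
      rw [hk] at hprod
      have : Nat.card π.range * p = p ^ 2 * p := by rw [hprod]; ring
      exact Nat.eq_of_mul_eq_mul_right hpp.pos this
    have hdvd : p ∣ Nat.card π.range := by rw [hrange]; exact dvd_pow_self p (by norm_num)
    obtain ⟨z, hz⟩ := exists_prime_orderOf_dvd_card' p hdvd
    have hzv : orderOf (z : G) = p := by rw [Subgroup.orderOf_coe]; exact hz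
    have hz1 : (z : G) ∈ π.ker := by
      rw [MonoidHom.mem_ker, hπ, ← hzv, pow_orderOf_eq_one]
    have hle : Subgroup.zpowers (z : G) ≤ π.ker := by
      rw [Subgroup.zpowers_le]
      exact hz1
    have heq : Subgroup.zpowers (z : G) = π.ker := by
      apply Subgroup.eq_of_le_of_card_ge hle
      rw [hk, Nat.card_zpowers, hzv]
    refine hno π.ker π.range hΩ hI ?_ hk hrange
    rw [← heq, Subgroup.zpowers_le]
    exact z.2
  · -- kernel of order `p²`, image of order `p`
    have hrange : Nat.card π.range = p := by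
      rw [hk] at hprod
      have : Nat.card π.range * p ^ 2 = p * p ^ 2 := by rw [hprod]; ring
      exact Nat.eq_of_mul_eq_mul_right (pow_pos hpp.pos 2) this
    refine hno π.range π.ker hI hΩ ?_ hrange hk
    intro y hy
    rw [MonoidHom.mem_ker, hπ]
    exact hpow_sub _ hrange y hy
  · -- kernel everything
    have hb : π.ker = ⊤ := by
      apply Subgroup.eq_top_of_card_eq
      rw [hk, hc]
    apply hx₀
    rw [← hπ, ← MonoidHom.mem_ker, hb]
    trivial

/-- Nonabelian of order `p³`, `p` odd. -/
theorem exp_of_nonabelian_odd (hc : Nat.card G = p ^ 3) (hno : NoCharPair p G) (hodd : p ≠ 2)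
    (hnc : ¬ ∀ x y : G, x * y = y * x) : ∀ x : G, x ^ p = 1 := by
  have hE := Cfsg.Agent.Lib.Fusion2.isExtraspecial_of_card_p3 hc hnc
  have hZ : Nat.card (Subgroup.center G) = p := hE.2
  have hmap : ∀ X Y : G, (X * Y) ^ p = X ^ p * Y ^ p := by
    intro X Y
    have hcm : ⁅Y⁻¹, X⁆ ∈ commutator G := by
      rw [commutator_def]
      exact Subgroup.commutator_mem_commutator trivial trivial
    rw [hE.1.2.2] at hcm
    set c := ⁅Y⁻¹, X⁆ with hcd
    have hcc : ∀ g : G, g * c = c * g := fun g => (Subgroup.mem_center_iff.1 hcm g)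
    have hcp : c ^ p = 1 := by
      have := pow_card_eq_one' (x := (⟨c, hcm⟩ : Subgroup.center G))
      rw [hZ] at this
      exact congrArg Subtype.val this
    refine Cfsg.Agent.Lib.Fusion2.class2_pow_p hodd (hcc X) (hcc Y) ?_ hcp
    rw [hcd, commutatorElement_def]
    group
  exact exp_of_powHom hc hno { toFun := fun x => x ^ p, map_one' := one_pow p, map_mul' := hmap } (fun _ => rfl)

/-- Nonabelian of order `8`. -/
theorem quat_of_nonabelian_two [Fact (Nat.Prime 2)] (hc : Nat.card G = 2 ^ 3) (hno : NoCharPair 2 G)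
    (hnc : ¬ ∀ x y : G, x * y = y * x) (x : G) (hx : x ^ 2 ≠ 1) : Nonempty (G ≃* QuaternionGroup 2) := by
  have hE := Cfsg.Agent.Lib.Fusion2.isExtraspecial_of_card_p3 hc hnc
  have hZ : Nat.card (Subgroup.center G) = 2 := hE.2
  have hGp : IsPGroup 2 G := IsPGroup.of_card hc
  have hsq : ∀ g : G, g ^ 2 ∈ Subgroup.center G := by
    intro g
    rw [← hE.1.2.1]
    exact Cfsg.Agent.Lib.Transfer.pow_mem_frattini hGp g
  set z := x ^ 2 with hz
  have hzZ : z ∈ Subgroup.center G := hsq x
  have hZsq : ∀ c ∈ Subgroup.center G, c ^ 2 = 1 := by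
    intro c hc'
    have := pow_card_eq_one' (x := (⟨c, hc'⟩ : Subgroup.center G))
    rw [hZ] at this
    exact congrArg Subtype.val this
  -- the centre is `{1, z}`
  have hZel : ∀ c ∈ Subgroup.center G, c = 1 ∨ c = z := by
    intro c hc'
    by_contra hcon
    push Not at hcon
    have hcard : (3 : ℕ) ≤ Nat.card (Subgroup.center G) := by
      let f : Fin 3 → Subgroup.center G := ![1, ⟨z, hzZ⟩, ⟨c, hc'⟩]
      have hf : Function.Injective f := by
        intro i j hij
        have hij' := congrArg Subtype.val hij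
        fin_cases i <;> fin_cases j <;> simp [f] at hij' ⊢
        · exact hx hij'.symm
        · exact hcon.1 hij'.symm
        · exact hx hij'
        · exact hcon.2 hij'.symm
        · exact hcon.1 hij'
        · exact hcon.2 hij'
      have := Nat.card_le_card_of_injective f hf
      simpa using this
    omega
  have hord : orderOf x = 2 * 2 := by
    have h4 : x ^ (2 ^ 2) = 1 := by
      rw [show (2 ^ 2 : ℕ) = 2 * 2 by norm_num, pow_mul]
      exact hZsq _ hzZ
    have h2 : x ^ (2 ^ 1) ≠ 1 := by simpa using hx
    simpa using orderOf_eq_prime_pow (p := 2) (n := 1) h2 h4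
  set M := Subgroup.zpowers x with hM
  have hMc : Nat.card M = 2 ^ 2 := by
    rw [hM, Nat.card_zpowers, hord]
    norm_num
  have hMi : M.index = 2 := by
    have h2 := Subgroup.card_mul_index M
    rw [hMc, hc] at h2
    omega
  haveI hMn : M.Normal := Subgroup.normal_of_index_eq_two hMi
  have hout : ∀ w g : G, w ∉ M → g ∉ M → w⁻¹ * g ∈ M := by
    intro w g hw hg
    rw [Subgroup.mul_mem_iff_of_index_two hMi]
    constructor
    · intro h
      exact absurd (by simpa using M.inv_mem h) hw
    · intro h
      exact absurd h hg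
  -- elements of `M`
  have hMel : ∀ m ∈ M, m = 1 ∨ m = x ∨ m = z ∨ m = x⁻¹ := by
    intro m hm
    rw [hM, ← mem_powers_iff_mem_zpowers] at hm
    obtain ⟨n, rfl⟩ := hm
    have e : x ^ n = x ^ (n % 4) := by
      conv_lhs => rw [← pow_mod_orderOf x n, hord]
    show x ^ n = 1 ∨ x ^ n = x ∨ x ^ n = z ∨ x ^ n = x⁻¹
    rw [e]
    have hlt : n % 4 < 4 := Nat.mod_lt _ (by norm_num)
    have hx4 : x ^ 4 = 1 := by
      rw [show (4 : ℕ) = orderOf x by rw [hord], pow_orderOf_eq_one]
    interval_cases (n % 4)
    · left; simp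
    · right; left; simp
    · right; right; left; rfl
    · right; right; right
      rw [eq_inv_iff_mul_eq_one, ← pow_succ]
      exact hx4
  -- conjugation by elements outside `M`
  have hconj : ∀ w : G, w ∉ M → w⁻¹ * x * w = x⁻¹ := by
    intro w hw
    have hmem : w⁻¹ * x * w ∈ M := by
      have := hMn.conj_mem x (Subgroup.mem_zpowers x) w⁻¹
      simpa using this
    have hsq' : (w⁻¹ * x * w) ^ 2 = z := by
      have e : (w⁻¹ * x * w) ^ 2 = w⁻¹ * x ^ 2 * w := by
        have := conj_pow (a := w⁻¹) (b := x) (i := 2)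
        simpa using this
      rw [e, ← hz, mul_assoc, (Subgroup.mem_center_iff.1 hzZ w).symm]
      group
    rcases hMel _ hmem with h | h | h | h
    · rw [h, one_pow] at hsq'
      exact absurd hsq'.symm hx
    · exfalso
      apply hnc
      have hwx : w * x = x * w := by
        have h' := congrArg (fun t => w * t) h
        have e' : w * (w⁻¹ * x * w) = x * w := by group
        exact (e'.symm.trans h').symm
      -- every element is `x^i` or `w x^i`
      have hcx : ∀ g : G, g * x = x * g := by
        intro g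
        by_cases hg : g ∈ M
        · rw [hM] at hg
          obtain ⟨i, rfl⟩ := Subgroup.mem_zpowers_iff.1 hg
          exact (Commute.zpow_left (Commute.refl x) i).eq
        · have h1 := hout w g hw hg
          rw [hM] at h1
          obtain ⟨i, hi⟩ := Subgroup.mem_zpowers_iff.1 h1
          have e : g = w * x ^ i := by rw [hi]; group
          rw [e, mul_assoc, (Commute.zpow_left (Commute.refl x) i).eq, ← mul_assoc, hwx, mul_assoc]
      have hcw : ∀ g : G, g * w = w * g := by
        intro g
        by_cases hg : g ∈ M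
        · rw [hM] at hg
          obtain ⟨i, rfl⟩ := Subgroup.mem_zpowers_iff.1 hg
          exact (Commute.zpow_left (show Commute x w from hwx.symm) i).eq
        · have h1 := hout w g hw hg
          rw [hM] at h1
          obtain ⟨i, hi⟩ := Subgroup.mem_zpowers_iff.1 h1
          have e : g = w * x ^ i := by rw [hi]; group
          rw [e, mul_assoc, (Commute.zpow_left (show Commute x w from hwx.symm) i).eq]
      intro a b
      by_cases ha : a ∈ M
      · rw [hM] at ha
        obtain ⟨i, rfl⟩ := Subgroup.mem_zpowers_iff.1 ha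
        exact (Commute.zpow_left (show Commute x b from (hcx b).symm) i).eq
      · have h1 := hout w a hw ha
        rw [hM] at h1
        obtain ⟨i, hi⟩ := Subgroup.mem_zpowers_iff.1 h1
        have e : a = w * x ^ i := by rw [hi]; group
        rw [e, mul_assoc, (Commute.zpow_left (show Commute x b from (hcx b).symm) i).eq, ← mul_assoc, (hcw b).symm, mul_assoc]
    · exfalso
      rw [h, hz, ← pow_mul] at hsq'
      have hx2 : x ^ (2 * 2) = x ^ 2 := hsq'
      rw [pow_mul] at hx2
      have h1 := hZsq _ hzZ
      rw [hz] at h1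
      rw [h1] at hx2
      exact hx hx2.symm
    · exact h
  by_cases hcase : ∃ t : G, t ^ 2 = 1 ∧ t ∉ Subgroup.center G
  · -- the dihedral case
    exfalso
    obtain ⟨t, ht, htZ⟩ := hcase
    have htM : t ∉ M := by
      intro htm
      rcases hMel t htm with h | h | h | h
      · exact htZ (h ▸ Subgroup.one_mem _)
      · rw [h] at ht
        exact hx ht
      · exact htZ (h ▸ hzZ)
      · rw [h, inv_pow] at ht
        exact hx (by simpa using ht)
    have hinvol : ∀ g : G, g ∉ M → g ^ 2 = 1 := by
      intro g hg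
      have h1 := hout t g htM hg
      have hgt := hconj g hg
      -- `g = t m`, with `m ∈ M`
      rw [hM] at h1
      obtain ⟨i, hi⟩ := Subgroup.mem_zpowers_iff.1 h1
      have e : g = t * x ^ i := by rw [hi]; group
      have ht2 : t * t = 1 := by rw [← pow_two]; exact ht
      have htinv : t⁻¹ = t := inv_eq_of_mul_eq_one_left ht2
      have hc1 := hconj t htM
      have hc2 : t⁻¹ * x ^ i * t = (x ^ i)⁻¹ := by
        have := conj_zpow (a := t⁻¹) (b := x) (i := i)
        simp only [inv_inv] at this
        rw [← this, hc1, inv_zpow]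
      rw [pow_two, e]
      calc t * x ^ i * (t * x ^ i) = t * (x ^ i * t) * x ^ i := by group
        _ = t * (t * (t⁻¹ * x ^ i * t)) * x ^ i := by group
        _ = 1 := by
          rw [hc2, ← mul_assoc, ht2]
          group
    refine hno (Subgroup.center G) M ?_ ?_ ?_ hZ hMc
    · intro α c hc'
      rw [Subgroup.mem_center_iff] at hc' ⊢
      intro g
      have := congrArg α (hc' (α.symm g))
      simpa using this
    · intro α m hm
      have hαx : α x ∈ M := by
        by_contra hcon
        have h1 := hinvol _ hcon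
        rw [← map_pow, ← hz] at h1
        have h2 : z = 1 := by simpa using h1
        exact hx h2
      rw [hM] at hm
      obtain ⟨i, rfl⟩ := Subgroup.mem_zpowers_iff.1 hm
      rw [map_zpow]
      exact M.zpow_mem hαx i
    · intro c hc'
      rcases hZel c hc' with h | h
      · rw [h]; exact M.one_mem
      · rw [h, hz]
        exact M.pow_mem (Subgroup.mem_zpowers x) 2
  · -- the quaternion case
    push Not at hcase
    obtain ⟨y, hyM⟩ : ∃ y, y ∉ M := by
      by_contra hall
      push Not at hall
      have : M = ⊤ := (Subgroup.eq_top_iff' M).2 hall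
      rw [this] at hMi
      simp at hMi
    have hy2 : y * y = x ^ 2 := by
      have h1 := hsq y
      rcases hZel _ h1 with h | h
      · exfalso
        have := hcase y h
        rcases hZel y this with h' | h'
        · exact hyM (h' ▸ M.one_mem)
        · exact hyM (h' ▸ M.pow_mem (Subgroup.mem_zpowers x) 2)
      · rw [← pow_two, h]
    refine Cfsg.Agent.Lib.OddLocal.exists_quaternion_equiv x y hord hy2 (hconj y hyM) hyM ?_
    intro g
    by_cases hg : g ∈ M
    · exact Or.inl hg
    · exact Or.inr (hout y g hyM hg)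

end Alg

section Main

variable {Ω : Type*} [Group Ω] {S : Subgroup Ω} [Finite S] {F : FusionSystem S} {p : ℕ} [hp : Fact p.Prime]

theorem noCharPair_of_essential (hS : IsPGroup p S) {H : Subgroup Ω} (hH : F.IsEssential p H) (hcard : Nat.card H = p ^ 3) :
    NoCharPair p H := by
  have hpp : p.Prime := hp.out
  have hHS : H ≤ S := hH.1.1
  haveI : Finite H := finite_of_le hHS
  intro U M hU hM hUM hUc hMc
  let c : ℕ → Subgroup H := fun i => match i with
    | 0 => ⊥
    | 1 => U
    | 2 => M
    | _ => ⊤
  have hnorm : ∀ L : Subgroup H, (∀ α : MulAut H, ∀ x ∈ L, α x ∈ L) → L.Normal := fun L hL =>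
    ⟨fun x hx g => hL (MulAut.conj g) x hx⟩
  have hMi : M.index = p := by
    have h2 := Subgroup.card_mul_index M
    rw [hMc, hcard] at h2
    have : p ^ 2 * M.index = p ^ 2 * p := by rw [h2]; ring
    exact Nat.eq_of_mul_eq_mul_left (pow_pos hpp.pos 2) this
  have hUi : U.relIndex M = p := by
    have h1 : Nat.card U * U.relIndex M = Nat.card M := by
      rw [← Nat.card_congr (Subgroup.subgroupOfEquivOfLe hUM).toEquiv]
      exact Subgroup.card_mul_index (U.subgroupOf M)
    rw [hUc, hMc, pow_two] at h1
    exact Nat.eq_of_mul_eq_mul_left hpp.pos h1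
  refine false_of_chain hS hH c 3 rfl rfl ?_ ?_ ?_ ?_
  · intro i hi
    interval_cases i
    · exact bot_le
    · exact hUM
    · exact le_top
  · intro i hi
    interval_cases i
    · exact inferInstanceAs (⊥ : Subgroup H).Normal
    · exact hnorm U hU
    · exact hnorm M hM
    · exact inferInstanceAs (⊤ : Subgroup H).Normal
  · intro i hi α hα x hx
    interval_cases i
    · have hx1 : x = 1 := hx
      rw [hx1, map_one]
      exact Subgroup.one_mem _
    · exact hU α x hx
    · exact hM α x hx
    · trivial
  · intro i hi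
    interval_cases i
    · show (⊥ : Subgroup H).relIndex U ∣ p
      rw [Subgroup.relIndex_bot_left, hUc]
    · show U.relIndex M ∣ p
      rw [hUi]
    · show M.relIndex ⊤ ∣ p
      rw [Subgroup.relIndex_top_right, hMi]

/-- Essential subgroups of order `p³`. -/
theorem essential_card_cube (hS : IsPGroup p S) {H : Subgroup Ω} (hH : F.IsEssential p H) (hcard : Nat.card H = p ^ 3) :
    IsElementaryAbelian p H ∨ (Odd p ∧ IsExtraspecial p H ∧ ∀ x ∈ H, x ^ p = 1) ∨
      (p = 2 ∧ Nonempty (H ≃* QuaternionGroup 2)) := by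
  have hpp : p.Prime := hp.out
  have hHS : H ≤ S := hH.1.1
  haveI : Finite H := finite_of_le hHS
  have hno := noCharPair_of_essential hS hH hcard
  by_cases hcomm : ∀ x y : H, x * y = y * x
  · -- abelian
    left
    have hexp := exp_of_powHom hcard hno
      { toFun := fun x => x ^ p, map_one' := one_pow p, map_mul' := fun x y => (Commute.mul_pow (hcomm x y) p) } (fun _ => rfl)
    refine ⟨⟨⟨hcomm⟩⟩, fun a ha => ?_⟩
    exact congrArg Subtype.val (hexp ⟨a, ha⟩)
  · right
    rcases eq_or_ne p 2 with rfl | hodd
    · right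
      refine ⟨rfl, ?_⟩
      obtain ⟨x, hx⟩ : ∃ x : H, x ^ 2 ≠ 1 := by
        by_contra hall
        push Not at hall
        apply hcomm
        intro a b
        have h1 := hall (a * b)
        have h2 := hall a
        have h3 := hall b
        have ha : a⁻¹ = a := inv_eq_of_mul_eq_one_left (by rw [← pow_two]; exact h2)
        have hb : b⁻¹ = b := inv_eq_of_mul_eq_one_left (by rw [← pow_two]; exact h3)
        have hab : (a * b)⁻¹ = a * b := inv_eq_of_mul_eq_one_left (by rw [← pow_two]; exact h1)
        rw [mul_inv_rev, ha, hb] at hab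
        exact hab.symm
      exact quat_of_nonabelian_two hcard hno hcomm x hx
    · left
      refine ⟨hpp.odd_of_ne_two hodd, Cfsg.Agent.Lib.Fusion2.isExtraspecial_of_card_p3 hcard hcomm, fun a ha => ?_⟩
      exact congrArg Subtype.val (exp_of_nonabelian_odd hcard hno hodd hcomm ⟨a, ha⟩)

end Main

end Cfsg.Agent.Lib.Fusion
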