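/-
Essential subgroups of order `p⁴`.
-/
import Cfsg.Agent.Lib.Fusion.EssP3
import Cfsg.Agent.Lib.Fusion.EssAb
import Cfsg.Agent.Lib.Fusion.EssChain

set_option autoImplicit false
set_option linter.unusedSectionVars false
set_option linter.style.haveILetI false

namespace Cfsg.Agent.Lib.Fusion

open Cfsg Cfsg.FusionSystem
open scoped commutatorElement

section Alg

variable {G : Type*} [Group G] {p : ℕ} [hp : Fact p.Prime]

/-- Invariant under all automorphisms. -/
def AInv (L : Subgroup G) : Prop := ∀ α : MulAut G, ∀ x ∈ L, α x ∈ L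

theorem aInv_center : AInv (Subgroup.center G) := by
  intro α c hc'
  rw [Subgroup.mem_center_iff] at hc' ⊢
  intro g
  have := congrArg α (hc' (α.symm g))
  simpa using this

theorem aInv_commutator : AInv (commutator G) := by
  intro α x hx
  have h := (inferInstance : (commutator G).Characteristic).fixed α
  rw [← h] at hx
  exact hx

/-- No flag of invariant subgroups of orders `p, p², p³`. -/
def NoFlag (p : ℕ) (G : Type*) [Group G] : Prop :=
  ∀ U V W : Subgroup G, AInv U → AInv V → AInv W → U ≤ V → V ≤ W → Nat.card U = p → Nat.card V = p ^ 2 → Nat.card W = p ^ 3 → False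

/-- The commutator homomorphism into the centre. -/
def commHom (y : G) (h : ∀ x : G, x * y * x⁻¹ * y⁻¹ ∈ Subgroup.center G) : G →* Subgroup.center G where
  toFun x := ⟨x * y * x⁻¹ * y⁻¹, h x⟩
  map_one' := by
    ext
    simp
  map_mul' a b := by
    ext
    have hw := Subgroup.mem_center_iff.1 (h b)
    show a * b * y * (a * b)⁻¹ * y⁻¹ = (a * y * a⁻¹ * y⁻¹) * (b * y * b⁻¹ * y⁻¹)
    set w := b * y * b⁻¹ * y⁻¹ with hwd
    have e : b * y * b⁻¹ = w * y := by
      rw [hwd]
      group
    calc a * b * y * (a * b)⁻¹ * y⁻¹ = a * (b * y * b⁻¹) * a⁻¹ * y⁻¹ := by group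
      _ = a * (w * y) * a⁻¹ * y⁻¹ := by rw [e]
      _ = (a * w) * y * a⁻¹ * y⁻¹ := by group
      _ = (w * a) * y * a⁻¹ * y⁻¹ := by rw [hw a]
      _ = w * (a * y * a⁻¹ * y⁻¹) := by group
      _ = _ := (hw (a * y * a⁻¹ * y⁻¹)).symm

theorem commHom_coe (y : G) (h : ∀ x : G, x * y * x⁻¹ * y⁻¹ ∈ Subgroup.center G) (x : G) :
    ((commHom y h x : Subgroup.center G) : G) = x * y * x⁻¹ * y⁻¹ := rfl

theorem mem_ker_commHom (y : G) (h : ∀ x : G, x * y * x⁻¹ * y⁻¹ ∈ Subgroup.center G) (x : G) :
    x ∈ (commHom y h).ker ↔ x * y = y * x := by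
  rw [MonoidHom.mem_ker]
  constructor
  · intro hx
    have h1 : x * y * x⁻¹ * y⁻¹ = 1 := congrArg Subtype.val hx
    have h2 : x * y * x⁻¹ = y := by
      rw [← mul_inv_eq_one, h1]
    calc x * y = (x * y * x⁻¹) * x := by group
      _ = y * x := by rw [h2]
  · intro hx
    ext
    show x * y * x⁻¹ * y⁻¹ = 1
    rw [hx]
    group

variable [Finite G]

theorem card_mul_relIndex_of_le {A B : Subgroup G} (h : A ≤ B) : Nat.card A * A.relIndex B = Nat.card B := by
  rw [← Nat.card_congr (Subgroup.subgroupOfEquivOfLe h).toEquiv]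
  exact Subgroup.card_mul_index (A.subgroupOf B)

theorem card_dvd_p4 (hc : Nat.card G = p ^ 4) (L : Subgroup G) : ∃ k ≤ 4, Nat.card L = p ^ k := by
  have h := Subgroup.card_subgroup_dvd_card L
  rw [hc] at h
  exact (Nat.dvd_prime_pow hp.out).1 h

/-- The centre of a nonabelian group of order `p⁴` has order `p` or `p²`. -/
theorem card_center_cases (hc : Nat.card G = p ^ 4) (hnc : ¬ ∀ x y : G, x * y = y * x) :
    Nat.card (Subgroup.center G) = p ∨ Nat.card (Subgroup.center G) = p ^ 2 := by
  have hpp := hp.out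
  have hG : IsPGroup p G := IsPGroup.of_card hc
  haveI : Nontrivial G := by
    rw [← Finite.one_lt_card_iff_nontrivial, hc]
    exact Nat.one_lt_pow (by norm_num) hpp.one_lt
  haveI : Nontrivial (Subgroup.center G) := hG.center_nontrivial
  obtain ⟨k, hk, hkc⟩ := card_dvd_p4 hc (Subgroup.center G)
  have hmul := Subgroup.card_mul_index (Subgroup.center G)
  rw [hkc, hc] at hmul
  interval_cases k
  · exfalso
    have := Finite.one_lt_card (α := Subgroup.center G)
    rw [hkc] at this
    simp at this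
  · left; simpa using hkc
  · right; exact hkc
  · exfalso
    apply hnc
    have hi : (Subgroup.center G).index = p := by
      have : p ^ 3 * (Subgroup.center G).index = p ^ 3 * p := by rw [hmul]; ring
      exact Nat.eq_of_mul_eq_mul_left (pow_pos hpp.pos 3) this
    haveI : Fact (Nat.card (G ⧸ Subgroup.center G)).Prime := ⟨by
      rw [← Subgroup.index_eq_card, hi]; exact hpp⟩
    haveI : IsCyclic (G ⧸ Subgroup.center G) := isCyclic_of_prime_card rfl
    exact commutative_of_cyclic_center_quotient (QuotientGroup.mk' (Subgroup.center G)) (by simp)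
  · exfalso
    apply hnc
    have : Subgroup.center G = ⊤ := Subgroup.eq_top_of_card_eq _ (by rw [hkc, hc])
    intro x y
    exact (Subgroup.mem_center_iff.1 (this ▸ (Subgroup.mem_top x)) y).symm


/-- Class 2 with centre of order `p` is impossible in order `p⁴`. -/
theorem false_of_parity (hc : Nat.card G = p ^ 4) (hZ : Nat.card (Subgroup.center G) = p)
    (hc2 : ∀ x y : G, x * y * x⁻¹ * y⁻¹ ∈ Subgroup.center G) (hnc : ¬ ∀ x y : G, x * y = y * x) : False := by
  have hpp := hp.out
  push Not at hnc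
  obtain ⟨a, b, hab⟩ := hnc
  have hker : ∀ y : G, y ∉ Subgroup.center G → Nat.card (commHom y (fun x => hc2 x y)).ker = p ^ 3 := by
    intro y hy
    have h1 : (commHom y (fun x => hc2 x y)).ker.index ∣ p := by
      rw [Subgroup.index_ker]
      have := Subgroup.card_subgroup_dvd_card (commHom y (fun x => hc2 x y)).range
      rwa [hZ] at this
    have h2 : (commHom y (fun x => hc2 x y)).ker.index ≠ 1 := by
      intro h
      rw [Subgroup.index_eq_one] at h
      apply hy
      rw [Subgroup.mem_center_iff]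
      intro g
      have h3 : g ∈ (commHom y (fun x => hc2 x y)).ker := by rw [h]; trivial
      exact (mem_ker_commHom y _ g).1 h3
    have h3 : (commHom y (fun x => hc2 x y)).ker.index = p := ((Nat.dvd_prime hpp).1 h1).resolve_left h2
    have h4 := Subgroup.card_mul_index (commHom y (fun x => hc2 x y)).ker
    rw [h3, hc] at h4
    have : Nat.card (commHom y (fun x => hc2 x y)).ker * p = p ^ 3 * p := by rw [h4]; ring
    exact Nat.eq_of_mul_eq_mul_right hpp.pos this
  have haZ : a ∉ Subgroup.center G := fun h => hab (Subgroup.mem_center_iff.1 h b).symm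
  have hbZ : b ∉ Subgroup.center G := fun h => hab (Subgroup.mem_center_iff.1 h a)
  set Ca := (commHom a (fun x => hc2 x a)).ker with hCa
  set Cb := (commHom b (fun x => hc2 x b)).ker with hCb
  have hCac := hker a haZ
  have hCbc := hker b hbZ
  have hmemA : ∀ x, x ∈ Ca ↔ x * a = a * x := fun x => mem_ker_commHom a _ x
  have hmemB : ∀ x, x ∈ Cb ↔ x * b = b * x := fun x => mem_ker_commHom b _ x
  set W := Ca ⊓ Cb with hW
  have hindex : ∀ L : Subgroup G, Nat.card L = p ^ 3 → L.index = p := by
    intro L hL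
    have h4 := Subgroup.card_mul_index L
    rw [hL, hc] at h4
    have : p ^ 3 * L.index = p ^ 3 * p := by rw [h4]; ring
    exact Nat.eq_of_mul_eq_mul_left (pow_pos hpp.pos 3) this
  have hWi : W.index ≤ p * p := by
    have : (Ca ⊓ Cb).index ≤ Ca.index * Cb.index := Subgroup.index_inf_le
    rwa [hindex Ca hCac, hindex Cb hCbc] at this
  obtain ⟨k, hk, hWc⟩ := card_dvd_p4 hc W
  have hWm := Subgroup.card_mul_index W
  rw [hWc, hc] at hWm
  have hk2 : 2 ≤ k := by
    by_contra hcon
    push Not at hcon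
    have h1 : p ^ k * W.index ≤ p ^ 1 * (p * p) := Nat.mul_le_mul (Nat.pow_le_pow_right hpp.pos (by omega)) hWi
    rw [hWm] at h1
    have h2 : p ^ 4 = p * (p ^ 1 * (p * p)) := by ring
    have h3 : p * (p ^ 1 * (p * p)) ≤ p ^ 1 * (p * p) := by rw [← h2]; exact h1
    have h4 : 0 < p ^ 1 * (p * p) := by
      have := hpp.pos
      positivity
    nlinarith [hpp.two_le]
  have hWneA : W ≠ Ca := by
    intro h
    have h1 : a ∈ Ca := (hmemA a).2 rfl
    rw [← h] at h1
    exact hab ((hmemB a).1 h1.2)
  have hk3 : k = 2 := by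
    have h1 : Nat.card W ∣ Nat.card Ca := Subgroup.card_dvd_of_le inf_le_left
    rw [hWc, hCac] at h1
    have h2 : k ≤ 3 := (Nat.pow_dvd_pow_iff_le_right hpp.one_lt).1 h1
    interval_cases k
    · rfl
    · exfalso
      apply hWneA
      exact Subgroup.eq_of_le_of_card_ge inf_le_left (by rw [hWc, hCac])
    all_goals omega
  subst hk3
  have hWcomm : ∀ x y : W, x * y = y * x := (IsPGroup.isMulCommutative_of_card_eq_prime_sq hWc).is_comm.comm
  obtain ⟨w, hwW, hwZ⟩ : ∃ w ∈ W, w ∉ Subgroup.center G := by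
    by_contra hcon
    push Not at hcon
    have h1 : Nat.card W ≤ Nat.card (Subgroup.center G) := Nat.card_le_card_of_injective _ (Subgroup.inclusion_injective (hcon : W ≤ _))
    rw [hWc, hZ] at h1
    nlinarith [hpp.two_le]
  have hCw := hker w hwZ
  set Cw := (commHom w (fun x => hc2 x w)).ker with hCwd
  have hmemW : ∀ x, x ∈ Cw ↔ x * w = w * x := fun x => mem_ker_commHom w _ x
  set K := W ⊔ Subgroup.zpowers a with hK
  have hKw : K ≤ Cw := by
    refine sup_le (fun u hu => (hmemW u).2 ?_) ?_
    · exact congrArg Subtype.val (hWcomm ⟨u, hu⟩ ⟨w, hwW⟩)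
    · rw [Subgroup.zpowers_le]
      exact (hmemW a).2 ((hmemA w).1 hwW.1).symm
  have hKa : K ≤ Ca := by
    refine sup_le inf_le_left ?_
    rw [Subgroup.zpowers_le]
    exact (hmemA a).2 rfl
  have haW : a ∉ W := fun h => hab ((hmemB a).1 h.2)
  obtain ⟨j, hj, hKc⟩ := card_dvd_p4 hc K
  have hj3 : 3 ≤ j := by
    by_contra hcon
    push Not at hcon
    have h1 : W ≤ K := le_sup_left
    have h2 : W = K := Subgroup.eq_of_le_of_card_ge h1 (by
      rw [hKc, hWc]
      exact Nat.pow_le_pow_right hpp.pos (by omega))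
    apply haW
    rw [h2]
    exact (le_sup_right : Subgroup.zpowers a ≤ K) (Subgroup.mem_zpowers a)
  have hKCw : K = Cw := Subgroup.eq_of_le_of_card_ge hKw (by
    rw [hKc, hCw]
    exact Nat.pow_le_pow_right hpp.pos hj3)
  have hbCw : b ∈ Cw := (hmemW b).2 ((hmemB w).1 hwW.2).symm
  rw [← hKCw] at hbCw
  exact hab ((hmemA b).1 (hKa hbCw)).symm

theorem mem_U2 {x : G} : x ∈ Subgroup.upperCentralSeries G 2 ↔ ∀ y : G, x * y * x⁻¹ * y⁻¹ ∈ Subgroup.center G := by
  rw [Subgroup.mem_upperCentralSeries_succ_iff, Subgroup.upperCentralSeries_one]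
  simp only [commutatorElement_def]

theorem aInv_U2 : AInv (Subgroup.upperCentralSeries G 2) := by
  intro α x hx
  rw [mem_U2] at hx ⊢
  intro y
  have h1 := aInv_center α _ (hx (α.symm y))
  simpa using h1

theorem center_le_U2 : Subgroup.center G ≤ Subgroup.upperCentralSeries G 2 := by
  intro x hx
  rw [mem_U2]
  intro y
  have : x * y * x⁻¹ * y⁻¹ = 1 := by
    rw [← Subgroup.mem_center_iff.1 hx y]
    group
  rw [this]
  exact Subgroup.one_mem _

/-- The centre of a nonabelian group of order `p⁴` without flag has order `p²`. -/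
theorem card_center_sq (hc : Nat.card G = p ^ 4) (hno : NoFlag p G) (hnc : ¬ ∀ x y : G, x * y = y * x) :
    Nat.card (Subgroup.center G) = p ^ 2 := by
  have hpp := hp.out
  rcases card_center_cases hc hnc with hZ | hZ
  swap
  · exact hZ
  exfalso
  have hG : IsPGroup p G := IsPGroup.of_card hc
  set Z := Subgroup.center G with hZd
  set U := Subgroup.upperCentralSeries G 2 with hU
  have hZmul := Subgroup.card_mul_index Z
  rw [hZ, hc] at hZmul
  have hZi : Z.index = p ^ 3 := by
    have : p * Z.index = p * p ^ 3 := by rw [hZmul]; ring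
    exact Nat.eq_of_mul_eq_mul_left hpp.pos this
  obtain ⟨x, hxU, hxZ⟩ : ∃ x ∈ U, x ∉ Z := by
    have hQ : IsPGroup p (G ⧸ Z) := hG.to_quotient Z
    haveI : Nontrivial (G ⧸ Z) := by
      rw [← Finite.one_lt_card_iff_nontrivial, ← Subgroup.index_eq_card, hZi]
      exact Nat.one_lt_pow (by norm_num) hpp.one_lt
    haveI : Nontrivial (Subgroup.center (G ⧸ Z)) := hQ.center_nontrivial
    obtain ⟨⟨q, hq⟩, hne⟩ := exists_ne (1 : Subgroup.center (G ⧸ Z))
    obtain ⟨x, rfl⟩ := QuotientGroup.mk_surjective q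
    refine ⟨x, mem_U2.2 (fun y => ?_), fun hx => hne (Subtype.ext ?_)⟩
    · rw [← QuotientGroup.eq_one_iff]
      show (x : G ⧸ Z) * (y : G ⧸ Z) * (x : G ⧸ Z)⁻¹ * (y : G ⧸ Z)⁻¹ = 1
      rw [(Subgroup.mem_center_iff.1 hq (y : G ⧸ Z)).symm]
      group
    · exact (QuotientGroup.eq_one_iff x).2 hx
  have hZU : Z ≤ U := center_le_U2
  obtain ⟨k, hk, hUc⟩ := card_dvd_p4 hc U
  have hk2 : 2 ≤ k := by
    by_contra hcon
    push Not at hcon
    have h1 : Z = U := Subgroup.eq_of_le_of_card_ge hZU (by
      rw [hUc, hZ]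
      have : p ^ k ≤ p ^ 1 := Nat.pow_le_pow_right hpp.pos (by omega)
      simpa using this)
    exact hxZ (h1 ▸ hxU)
  have hx2 : ∀ y : G, y * x * y⁻¹ * x⁻¹ ∈ Z := by
    intro y
    have h1 := Z.inv_mem (mem_U2.1 hxU y)
    have e : (x * y * x⁻¹ * y⁻¹)⁻¹ = y * x * y⁻¹ * x⁻¹ := by group
    rwa [e] at h1
  by_cases hk' : k = 2
  · subst hk'
    have hUcomm : ∀ u v : U, u * v = v * u := (IsPGroup.isMulCommutative_of_card_eq_prime_sq hUc).is_comm.comm
    set C := Subgroup.centralizer (U : Set G) with hC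
    set T := (commHom x hx2).ker with hT
    have hmemT : ∀ y, y ∈ T ↔ y * x = x * y := fun y => mem_ker_commHom x hx2 y
    have hTc : Nat.card T = p ^ 3 := by
      have h1 : T.index ∣ p := by
        rw [Subgroup.index_ker]
        have := Subgroup.card_subgroup_dvd_card (commHom x hx2).range
        rwa [hZ] at this
      have h2 : T.index ≠ 1 := by
        intro h
        rw [Subgroup.index_eq_one] at h
        apply hxZ
        rw [Subgroup.mem_center_iff]
        intro g
        have h3 : g ∈ T := by rw [h]; trivial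
        exact (hmemT g).1 h3
      have h3 : T.index = p := ((Nat.dvd_prime hpp).1 h1).resolve_left h2
      have h4 := Subgroup.card_mul_index T
      rw [h3, hc] at h4
      have : Nat.card T * p = p ^ 3 * p := by rw [h4]; ring
      exact Nat.eq_of_mul_eq_mul_right hpp.pos this
    have hCT : C = T := by
      apply le_antisymm
      · intro y hy
        exact (hmemT y).2 ((Subgroup.mem_centralizer_iff.1 hy) x hxU).symm
      · intro y hy
        have hxy : Subgroup.zpowers x ⊔ Z ≤ Subgroup.centralizer {y} := by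
          refine sup_le ?_ (Subgroup.center_le_centralizer _)
          rw [Subgroup.zpowers_le, Subgroup.mem_centralizer_iff]
          intro h hh
          have hh' : h = y := hh
          rw [hh']
          exact (hmemT y).1 hy
        have hUe : Subgroup.zpowers x ⊔ Z = U := by
          apply Subgroup.eq_of_le_of_card_ge (sup_le (by rw [Subgroup.zpowers_le]; exact hxU) hZU)
          rw [hUc]
          obtain ⟨j, hj, hjc⟩ := card_dvd_p4 hc (Subgroup.zpowers x ⊔ Z)
          rw [hjc]
          refine Nat.pow_le_pow_right hpp.pos ?_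
          by_contra hcon
          push Not at hcon
          have h1 : Z = Subgroup.zpowers x ⊔ Z := Subgroup.eq_of_le_of_card_ge le_sup_right (by
            rw [hjc, hZ]
            have : p ^ j ≤ p ^ 1 := Nat.pow_le_pow_right hpp.pos (by omega)
            simpa using this)
          apply hxZ
          rw [h1]
          exact (le_sup_left : Subgroup.zpowers x ≤ _) (Subgroup.mem_zpowers x)
        rw [Subgroup.mem_centralizer_iff]
        intro u hu
        have h1 : u ∈ Subgroup.centralizer {y} := hxy (hUe ▸ hu)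
        exact ((Subgroup.mem_centralizer_iff.1 h1) y rfl).symm
    have hCinv : AInv C := by
      intro α y hy
      rw [hC, Subgroup.mem_centralizer_iff] at hy ⊢
      intro u hu
      have h1 := hy _ (aInv_U2 α⁻¹ u hu)
      have h2 := congrArg α h1
      simpa using h2
    have hUC : U ≤ C := by
      intro u hu
      rw [hC, Subgroup.mem_centralizer_iff]
      intro v hv
      exact congrArg Subtype.val (hUcomm ⟨v, hv⟩ ⟨u, hu⟩)
    refine hno Z U C aInv_center aInv_U2 hCinv hZU hUC hZ hUc ?_
    rw [hCT, hTc]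
  · have hcm : ∀ a b : G, a * b * a⁻¹ * b⁻¹ ∈ Z := by
      by_cases hk4 : k = 4
      · subst hk4
        have h1 : U = ⊤ := Subgroup.eq_top_of_card_eq _ (by rw [hUc, hc])
        intro a b
        have ha : a ∈ U := by
          rw [h1]
          trivial
        exact mem_U2.1 ha b
      · have hk3 : k = 3 := by omega
        subst hk3
        have hUmul := Subgroup.card_mul_index U
        rw [hUc, hc] at hUmul
        have hUi : U.index = p := by
          have : p ^ 3 * U.index = p ^ 3 * p := by rw [hUmul]; ring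
          exact Nat.eq_of_mul_eq_mul_left (pow_pos hpp.pos 3) this
        haveI : Fact (Nat.card (G ⧸ U)).Prime := ⟨by
          rw [← Subgroup.index_eq_card, hUi]; exact hpp⟩
        haveI : IsCyclic (G ⧸ U) := isCyclic_of_prime_card rfl
        let f : G ⧸ Z →* G ⧸ U := QuotientGroup.map Z U (MonoidHom.id G) hZU
        have hf : f.ker ≤ Subgroup.center (G ⧸ Z) := by
          intro q hq
          obtain ⟨y, rfl⟩ := QuotientGroup.mk_surjective q
          have h1 : ((y : G) : G ⧸ U) = 1 := hq
          rw [QuotientGroup.eq_one_iff] at h1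
          rw [Subgroup.mem_center_iff]
          intro r
          obtain ⟨v, rfl⟩ := QuotientGroup.mk_surjective r
          have h2 := mem_U2.1 h1 v
          rw [← QuotientGroup.eq_one_iff] at h2
          have h3 : (y : G ⧸ Z) * (v : G ⧸ Z) * (y : G ⧸ Z)⁻¹ * (v : G ⧸ Z)⁻¹ = 1 := h2
          have h4 : (y : G ⧸ Z) * (v : G ⧸ Z) * (y : G ⧸ Z)⁻¹ = (v : G ⧸ Z) := by
            rw [← mul_inv_eq_one, h3]
          calc (v : G ⧸ Z) * (y : G ⧸ Z) = (y : G ⧸ Z) * (v : G ⧸ Z) * (y : G ⧸ Z)⁻¹ * (y : G ⧸ Z) := by rw [h4]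
            _ = (y : G ⧸ Z) * (v : G ⧸ Z) := by group
        have hcomm := (f.isMulCommutative_of_isCyclic_of_ker_le_center hf).is_comm.comm
        intro a b
        rw [← QuotientGroup.eq_one_iff]
        show (a : G ⧸ Z) * (b : G ⧸ Z) * (a : G ⧸ Z)⁻¹ * (b : G ⧸ Z)⁻¹ = 1
        rw [hcomm (a : G ⧸ Z) (b : G ⧸ Z)]
        group
    exact false_of_parity hc hZ hcm hnc


/-- Structure of a nonabelian group of order `p⁴` without flag. -/
theorem struct_of_noFlag (hc : Nat.card G = p ^ 4) (hno : NoFlag p G) (hnc : ¬ ∀ x y : G, x * y = y * x) :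
    (∀ x y : G, x * y * x⁻¹ * y⁻¹ ∈ Subgroup.center G) ∧ commutator G ≤ Subgroup.center G ∧ Nat.card (commutator G) = p ∧ ∀ x : G, x ^ p ∈ commutator G := by
  have hpp := hp.out
  have hZ := card_center_sq hc hno hnc
  set Z := Subgroup.center G with hZd
  have hZmul := Subgroup.card_mul_index Z
  rw [hZ, hc] at hZmul
  have hZi : Z.index = p ^ 2 := by
    have : p ^ 2 * Z.index = p ^ 2 * p ^ 2 := by rw [hZmul]; ring
    exact Nat.eq_of_mul_eq_mul_left (pow_pos hpp.pos 2) this
  have hQc : Nat.card (G ⧸ Z) = p ^ 2 := by rw [← Subgroup.index_eq_card, hZi]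
  have hQcomm : ∀ a b : G ⧸ Z, a * b = b * a := (IsPGroup.isMulCommutative_of_card_eq_prime_sq hQc).is_comm.comm
  have hcm : ∀ a b : G, a * b * a⁻¹ * b⁻¹ ∈ Z := by
    intro a b
    rw [← QuotientGroup.eq_one_iff]
    show (a : G ⧸ Z) * (b : G ⧸ Z) * (a : G ⧸ Z)⁻¹ * (b : G ⧸ Z)⁻¹ = 1
    rw [hQcomm (a : G ⧸ Z) (b : G ⧸ Z)]
    group
  have hpZ : ∀ x : G, x ^ p ∈ Z := by
    intro x
    by_contra hx
    apply hnc
    have h1 : ((x : G ⧸ Z)) ^ p ^ 1 ≠ 1 := by
      rw [pow_one]
      intro h
      apply hx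
      rw [← QuotientGroup.eq_one_iff]
      exact h
    have h2 : ((x : G ⧸ Z)) ^ p ^ (1 + 1) = 1 := by
      rw [show (1 + 1 : ℕ) = 2 from rfl, ← hQc]
      exact pow_card_eq_one'
    have h3 := orderOf_eq_prime_pow h1 h2
    haveI : IsCyclic (G ⧸ Z) := isCyclic_of_orderOf_eq_card _ (by rw [h3, hQc])
    exact (MonoidHom.isMulCommutative_of_isCyclic_of_ker_le_center (QuotientGroup.mk' Z) (by simpa using le_of_eq hZd)).is_comm.comm
  have hDZ : commutator G ≤ Z := by
    rw [commutator_def, Subgroup.commutator_le]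
    intro a _ b _
    rw [commutatorElement_def]
    exact hcm a b
  have hnc' := hnc
  push Not at hnc'
  obtain ⟨a, b, hab⟩ := hnc'
  have haZ : a ∉ Z := fun h => hab (Subgroup.mem_center_iff.1 h b).symm
  -- the commutator
  set z := a * b * a⁻¹ * b⁻¹ with hz
  have hzne : z ≠ 1 := by
    intro h
    apply hab
    have h2 : a * b * a⁻¹ = b := by
      rw [← mul_inv_eq_one]
      exact h
    calc a * b = (a * b * a⁻¹) * a := by group
      _ = b * a := by rw [h2]
  have hzp : z ^ p = 1 := by
    have h1 : (commHom b (fun x => hcm x b)) (a ^ p) = 1 := by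
      apply Subtype.ext
      show a ^ p * b * (a ^ p)⁻¹ * b⁻¹ = 1
      rw [← Subgroup.mem_center_iff.1 (hpZ a) b]
      group
    rw [map_pow] at h1
    exact congrArg Subtype.val h1
  have hzord : orderOf z = p := orderOf_eq_prime hzp hzne
  set W := Subgroup.zpowers z with hW
  have hWc : Nat.card W = p := by rw [hW, Nat.card_zpowers, hzord]
  have hzD : z ∈ commutator G := by
    rw [hz, ← commutatorElement_def, commutator_def]
    exact Subgroup.commutator_mem_commutator trivial trivial
  -- generation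
  have htop : ∀ K : Subgroup G, Z ≤ K → a ∈ K → b ∈ K → K = ⊤ := by
    intro K hZK haK hbK
    set L := Subgroup.zpowers a ⊔ Z with hL
    have hLK : L ≤ K := sup_le (by rw [Subgroup.zpowers_le]; exact haK) hZK
    have hLa : L ≤ Subgroup.centralizer {a} := by
      refine sup_le ?_ (Subgroup.center_le_centralizer _)
      rw [Subgroup.zpowers_le, Subgroup.mem_centralizer_iff]
      intro h hh
      have hh' : h = a := hh
      rw [hh']
    obtain ⟨j, hj, hjc⟩ := card_dvd_p4 hc L
    have hj3 : 3 ≤ j := by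
      by_contra hcon
      push Not at hcon
      have h1 : Z = L := Subgroup.eq_of_le_of_card_ge le_sup_right (by
        rw [hjc, hZ]
        exact Nat.pow_le_pow_right hpp.pos (by omega))
      apply haZ
      rw [h1]
      exact (le_sup_left : Subgroup.zpowers a ≤ _) (Subgroup.mem_zpowers a)
    obtain ⟨k, hk, hkc⟩ := card_dvd_p4 hc K
    have hjk : j ≤ k := by
      have h1 : Nat.card L ∣ Nat.card K := Subgroup.card_dvd_of_le hLK
      rw [hjc, hkc] at h1
      exact (Nat.pow_dvd_pow_iff_le_right hpp.one_lt).1 h1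
    by_cases hk4 : k = 4
    · subst hk4
      exact Subgroup.eq_top_of_card_eq _ (by rw [hkc, hc])
    · exfalso
      have hjk' : j = k := by omega
      subst hjk'
      have h1 : L = K := Subgroup.eq_of_le_of_card_ge hLK (by rw [hjc, hkc])
      have h2 : b ∈ Subgroup.centralizer {a} := hLa (h1 ▸ hbK)
      exact hab ((Subgroup.mem_centralizer_iff.1 h2) a rfl)
  have hstep : ∀ y : G, a * y * a⁻¹ * y⁻¹ ∈ W → b * y * b⁻¹ * y⁻¹ ∈ W → ∀ x : G, x * y * x⁻¹ * y⁻¹ ∈ W := by
    intro y hy1 hy2 x
    let K : Subgroup G := (W.comap Z.subtype).comap (commHom y (fun x => hcm x y))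
    have hK : ∀ v, v ∈ K ↔ v * y * v⁻¹ * y⁻¹ ∈ W := fun v => Iff.rfl
    have hKtop : K = ⊤ := by
      refine htop K ?_ ((hK a).2 hy1) ((hK b).2 hy2)
      intro u hu
      rw [hK]
      have : u * y * u⁻¹ * y⁻¹ = 1 := by
        rw [← Subgroup.mem_center_iff.1 hu y]
        group
      rw [this]
      exact W.one_mem
    have hx : x ∈ K := by rw [hKtop]; trivial
    exact (hK x).1 hx
  have hcommW : ∀ x y : G, x * y * x⁻¹ * y⁻¹ ∈ W := by
    have hAa : ∀ x : G, x * a * x⁻¹ * a⁻¹ ∈ W := by
      refine hstep a ?_ ?_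
      · have : a * a * a⁻¹ * a⁻¹ = 1 := by group
        rw [this]
        exact W.one_mem
      · have h1 := W.inv_mem (Subgroup.mem_zpowers z)
        have e : z⁻¹ = b * a * b⁻¹ * a⁻¹ := by
          rw [hz]
          group
        rwa [e] at h1
    have hAb : ∀ x : G, x * b * x⁻¹ * b⁻¹ ∈ W := by
      refine hstep b ?_ ?_
      · exact Subgroup.mem_zpowers z
      · have : b * b * b⁻¹ * b⁻¹ = 1 := by group
        rw [this]
        exact W.one_mem
    intro x y
    refine hstep y ?_ ?_ x
    · have h1 := W.inv_mem (hAa y)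
      have e : (y * a * y⁻¹ * a⁻¹)⁻¹ = a * y * a⁻¹ * y⁻¹ := by group
      rwa [e] at h1
    · have h1 := W.inv_mem (hAb y)
      have e : (y * b * y⁻¹ * b⁻¹)⁻¹ = b * y * b⁻¹ * y⁻¹ := by group
      rwa [e] at h1
  have hDW : commutator G = W := by
    apply le_antisymm
    · rw [commutator_def, Subgroup.commutator_le]
      intro x _ y _
      rw [commutatorElement_def]
      exact hcommW x y
    · rw [hW, Subgroup.zpowers_le]
      exact hzD
  have hDc : Nat.card (commutator G) = p := by rw [hDW, hWc]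
  refine ⟨hcm, hDZ, hDc, ?_⟩
  -- powers
  by_contra hcon
  push Not at hcon
  obtain ⟨x₀, hx₀⟩ := hcon
  let ρ : G →* Abelianization G := Abelianization.of
  have hρ : ∀ g : G, ρ g = 1 ↔ g ∈ commutator G := by
    intro g
    rw [← MonoidHom.mem_ker]
    show g ∈ (Abelianization.of : G →* Abelianization G).ker ↔ _
    rw [Abelianization.ker_of]
  let f : G →* Abelianization G := (powMonoidHom p).comp ρ
  have hf : ∀ g : G, f g = ρ (g ^ p) := fun g => by
    show (ρ g) ^ p = _
    rw [map_pow]
  have hmemM : ∀ g : G, g ∈ f.ker ↔ g ^ p ∈ commutator G := by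
    intro g
    rw [MonoidHom.mem_ker, hf, hρ]
  have hmapc : Nat.card (Z.map ρ) = p := by
    rw [← Subgroup.relIndex_ker]
    have h1 : ρ.ker = commutator G := Abelianization.ker_of G
    rw [h1]
    have h2 := card_mul_relIndex_of_le hDZ
    rw [hDc, hZ, pow_two] at h2
    exact Nat.eq_of_mul_eq_mul_left hpp.pos h2
  have hrange : f.range ≤ Z.map ρ := by
    rintro _ ⟨g, rfl⟩
    rw [hf]
    exact ⟨_, hpZ g, rfl⟩
  have hMi : f.ker.index = p := by
    rw [Subgroup.index_ker]
    have h1 : Nat.card f.range ∣ p := by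
      have := Subgroup.card_dvd_of_le hrange
      rwa [hmapc] at this
    refine ((Nat.dvd_prime hpp).1 h1).resolve_left (fun h => hx₀ ?_)
    have h2 : f.range = ⊥ := Subgroup.card_eq_one.1 h
    have h3 : x₀ ∈ f.ker := by
      rw [MonoidHom.mem_ker]
      have : f x₀ ∈ f.range := ⟨x₀, rfl⟩
      rw [h2] at this
      exact this
    exact (hmemM x₀).1 h3
  have hMc : Nat.card f.ker = p ^ 3 := by
    have h4 := Subgroup.card_mul_index f.ker
    rw [hMi, hc] at h4
    have : Nat.card f.ker * p = p ^ 3 * p := by rw [h4]; ring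
    exact Nat.eq_of_mul_eq_mul_right hpp.pos this
  have hZM : Z ≤ f.ker := by
    intro u hu
    rw [MonoidHom.mem_ker]
    show (ρ u) ^ p = 1
    have h1 := pow_card_eq_one' (x := (⟨ρ u, u, hu, rfl⟩ : Z.map ρ))
    rw [hmapc] at h1
    exact congrArg Subtype.val h1
  have hMinv : AInv f.ker := by
    intro α g hg
    rw [hmemM] at hg ⊢
    rw [← map_pow]
    exact aInv_commutator α _ hg
  exact hno (commutator G) Z f.ker aInv_commutator aInv_center hMinv hDZ hZM hDc hZ hMc

theorem quat_of_invol_central [Fact (Nat.Prime 2)] (hc : Nat.card G = 2 ^ 3) (hcen : ∀ t : G, t ^ 2 = 1 → t ∈ Subgroup.center G)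
    (hnc : ¬ ∀ x y : G, x * y = y * x) (x : G) (hx : x ^ 2 ≠ 1) : Nonempty (G ≃* QuaternionGroup 2) := by
  have hE := Cfsg.Agent.Lib.Fusion2.isExtraspecial_of_card_p3 hc hnc
  have hZ : Nat.card (Subgroup.center G) = 2 := hE.2
  have hGp : IsPGroup 2 G := IsPGroup.of_card hc
  have hsq : ∀ g : G, g ^ 2 ∈ Subgroup.center G := by
    intro g
    rw [← hE.1.2.1]
    exact Cfsg.Agent.Lib.Transfer.pow_mem_frattini hGp g
  set z := x ^ 2 with hz
  have hzZ : z ∈ Subgroup.center G := hsq x
  have hZsq : ∀ c ∈ Subgroup.center G, c ^ 2 = 1 := by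
    intro c hc'
    have := pow_card_eq_one' (x := (⟨c, hc'⟩ : Subgroup.center G))
    rw [hZ] at this
    exact congrArg Subtype.val this
  -- the centre is `{1, z}`
  have hZel : ∀ c ∈ Subgroup.center G, c = 1 ∨ c = z := by
    intro c hc'
    by_contra hcon
    push Not at hcon
    have hcard : (3 : ℕ) ≤ Nat.card (Subgroup.center G) := by
      let f : Fin 3 → Subgroup.center G := ![1, ⟨z, hzZ⟩, ⟨c, hc'⟩]
      have hf : Function.Injective f := by
        intro i j hij
        have hij' := congrArg Subtype.val hij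
        fin_cases i <;> fin_cases j <;> simp [f] at hij' ⊢
        · exact hx hij'.symm
        · exact hcon.1 hij'.symm
        · exact hx hij'
        · exact hcon.2 hij'.symm
        · exact hcon.1 hij'
        · exact hcon.2 hij'
      have := Nat.card_le_card_of_injective f hf
      simpa using this
    omega
  have hord : orderOf x = 2 * 2 := by
    have h4 : x ^ (2 ^ 2) = 1 := by
      rw [show (2 ^ 2 : ℕ) = 2 * 2 by norm_num, pow_mul]
      exact hZsq _ hzZ
    have h2 : x ^ (2 ^ 1) ≠ 1 := by simpa using hx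
    simpa using orderOf_eq_prime_pow (p := 2) (n := 1) h2 h4
  set M := Subgroup.zpowers x with hM
  have hMc : Nat.card M = 2 ^ 2 := by
    rw [hM, Nat.card_zpowers, hord]
    norm_num
  have hMi : M.index = 2 := by
    have h2 := Subgroup.card_mul_index M
    rw [hMc, hc] at h2
    omega
  haveI hMn : M.Normal := Subgroup.normal_of_index_eq_two hMi
  have hout : ∀ w g : G, w ∉ M → g ∉ M → w⁻¹ * g ∈ M := by
    intro w g hw hg
    rw [Subgroup.mul_mem_iff_of_index_two hMi]
    constructor
    · intro h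
      exact absurd (by simpa using M.inv_mem h) hw
    · intro h
      exact absurd h hg
  -- elements of `M`
  have hMel : ∀ m ∈ M, m = 1 ∨ m = x ∨ m = z ∨ m = x⁻¹ := by
    intro m hm
    rw [hM, ← mem_powers_iff_mem_zpowers] at hm
    obtain ⟨n, rfl⟩ := hm
    have e : x ^ n = x ^ (n % 4) := by
      conv_lhs => rw [← pow_mod_orderOf x n, hord]
    show x ^ n = 1 ∨ x ^ n = x ∨ x ^ n = z ∨ x ^ n = x⁻¹
    rw [e]
    have hlt : n % 4 < 4 := Nat.mod_lt _ (by norm_num)
    have hx4 : x ^ 4 = 1 := by
      rw [show (4 : ℕ) = orderOf x by rw [hord], pow_orderOf_eq_one]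
    interval_cases (n % 4)
    · left; simp
    · right; left; simp
    · right; right; left; rfl
    · right; right; right
      rw [eq_inv_iff_mul_eq_one, ← pow_succ]
      exact hx4
  -- conjugation by elements outside `M`
  have hconj : ∀ w : G, w ∉ M → w⁻¹ * x * w = x⁻¹ := by
    intro w hw
    have hmem : w⁻¹ * x * w ∈ M := by
      have := hMn.conj_mem x (Subgroup.mem_zpowers x) w⁻¹
      simpa using this
    have hsq' : (w⁻¹ * x * w) ^ 2 = z := by
      have e : (w⁻¹ * x * w) ^ 2 = w⁻¹ * x ^ 2 * w := by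
        have := conj_pow (a := w⁻¹) (b := x) (i := 2)
        simpa using this
      rw [e, ← hz, mul_assoc, (Subgroup.mem_center_iff.1 hzZ w).symm]
      group
    rcases hMel _ hmem with h | h | h | h
    · rw [h, one_pow] at hsq'
      exact absurd hsq'.symm hx
    · exfalso
      apply hnc
      have hwx : w * x = x * w := by
        have h' := congrArg (fun t => w * t) h
        have e' : w * (w⁻¹ * x * w) = x * w := by group
        exact (e'.symm.trans h').symm
      -- every element is `x^i` or `w x^i`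
      have hcx : ∀ g : G, g * x = x * g := by
        intro g
        by_cases hg : g ∈ M
        · rw [hM] at hg
          obtain ⟨i, rfl⟩ := Subgroup.mem_zpowers_iff.1 hg
          exact (Commute.zpow_left (Commute.refl x) i).eq
        · have h1 := hout w g hw hg
          rw [hM] at h1
          obtain ⟨i, hi⟩ := Subgroup.mem_zpowers_iff.1 h1
          have e : g = w * x ^ i := by rw [hi]; group
          rw [e, mul_assoc, (Commute.zpow_left (Commute.refl x) i).eq, ← mul_assoc, hwx, mul_assoc]
      have hcw : ∀ g : G, g * w = w * g := by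
        intro g
        by_cases hg : g ∈ M
        · rw [hM] at hg
          obtain ⟨i, rfl⟩ := Subgroup.mem_zpowers_iff.1 hg
          exact (Commute.zpow_left (show Commute x w from hwx.symm) i).eq
        · have h1 := hout w g hw hg
          rw [hM] at h1
          obtain ⟨i, hi⟩ := Subgroup.mem_zpowers_iff.1 h1
          have e : g = w * x ^ i := by rw [hi]; group
          rw [e, mul_assoc, (Commute.zpow_left (show Commute x w from hwx.symm) i).eq]
      intro a b
      by_cases ha : a ∈ M
      · rw [hM] at ha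
        obtain ⟨i, rfl⟩ := Subgroup.mem_zpowers_iff.1 ha
        exact (Commute.zpow_left (show Commute x b from (hcx b).symm) i).eq
      · have h1 := hout w a hw ha
        rw [hM] at h1
        obtain ⟨i, hi⟩ := Subgroup.mem_zpowers_iff.1 h1
        have e : a = w * x ^ i := by rw [hi]; group
        rw [e, mul_assoc, (Commute.zpow_left (show Commute x b from (hcx b).symm) i).eq, ← mul_assoc, (hcw b).symm, mul_assoc]
    · exfalso
      rw [h, hz, ← pow_mul] at hsq'
      have hx2 : x ^ (2 * 2) = x ^ 2 := hsq'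
      rw [pow_mul] at hx2
      have h1 := hZsq _ hzZ
      rw [hz] at h1
      rw [h1] at hx2
      exact hx hx2.symm
    · exact h
  obtain ⟨y, hyM⟩ : ∃ y, y ∉ M := by
    by_contra hall
    push Not at hall
    have : M = ⊤ := (Subgroup.eq_top_iff' M).2 hall
    rw [this] at hMi
    simp at hMi
  have hy2 : y * y = x ^ 2 := by
    have h1 := hsq y
    rcases hZel _ h1 with h | h
    · exfalso
      have := hcen y h
      rcases hZel y this with h' | h'
      · exact hyM (h' ▸ M.one_mem)
      · exact hyM (h' ▸ M.pow_mem (Subgroup.mem_zpowers x) 2)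
    · rw [← pow_two, h]
  refine Cfsg.Agent.Lib.OddLocal.exists_quaternion_equiv x y hord hy2 (hconj y hyM) hyM ?_
  intro g
  by_cases hg : g ∈ M
  · exact Or.inl hg
  · exact Or.inr (hout y g hyM hg)


theorem exists_addHom_ne {V : Type*} [AddCommGroup V] [Module (ZMod p) V] (v : V) (hv : v ≠ 0) : ∃ φ : V →+ ZMod p, φ v ≠ 0 := by
  obtain ⟨φ, hφ⟩ := Module.Projective.exists_dual_ne_zero (ZMod p) hv
  exact ⟨φ.toAddMonoidHom, hφ⟩

/-- A character separating a non-trivial element of an elementary abelian group. -/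
theorem exists_char_ne {A : Type*} [CommGroup A] (hexp : ∀ x : A, x ^ p = 1) (v : A) (hv : v ≠ 1) :
    ∃ f : A →* Multiplicative (ZMod p), f v ≠ 1 := by
  have inst : Module (ZMod p) (Additive A) := AddCommGroup.zmodModule (n := p) (fun x => by
    show Additive.ofMul ((Additive.toMul x) ^ p) = 0
    rw [hexp]
    rfl)
  have hne : Additive.ofMul v ≠ 0 := fun h => hv (Additive.ofMul.injective h)
  obtain ⟨φ, hφ⟩ := exists_addHom_ne (p := p) (Additive.ofMul v) hne
  let f : A →* Multiplicative (ZMod p) :=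
      { toFun := fun x => Multiplicative.ofAdd (φ (Additive.ofMul x))
        map_one' := by simp
        map_mul' := fun x y => by simp }
  exact ⟨f, fun h => hφ (Multiplicative.ofAdd.injective h)⟩

/-- Splitting off a central subgroup of order `p` by a character. -/
theorem exists_iso_prod (χ : G →* Multiplicative (ZMod p)) {c : G} (hcZ : c ∈ Subgroup.center G) (hcp : c ^ p = 1) (hχ : χ c ≠ 1) {n : ℕ}
    (hcard : Nat.card G = p ^ (n + 1)) :
    Nat.card χ.ker = p ^ n ∧ Nonempty (G ≃* χ.ker × Multiplicative (ZMod p)) := by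
  have hpp := hp.out
  haveI : NeZero p := ⟨hpp.ne_zero⟩
  have hMc : Nat.card (Multiplicative (ZMod p)) = p := by
    rw [Nat.card_congr Multiplicative.toAdd, Nat.card_zmod]
  have hrange : Nat.card χ.range = p := by
    have h1 := Subgroup.card_subgroup_dvd_card χ.range
    rw [hMc] at h1
    refine ((Nat.dvd_prime hpp).1 h1).resolve_left (fun h => hχ ?_)
    have h2 : χ.range = ⊥ := Subgroup.card_eq_one.1 h
    have h3 : χ c ∈ χ.range := ⟨c, rfl⟩
    rw [h2] at h3
    exact h3
  have hidx : χ.ker.index = p := by rw [Subgroup.index_ker, hrange]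
  have hkc : Nat.card χ.ker = p ^ n := by
    have h4 := Subgroup.card_mul_index χ.ker
    rw [hidx, hcard, pow_succ] at h4
    exact Nat.eq_of_mul_eq_mul_right hpp.pos h4
  refine ⟨hkc, ?_⟩
  have hcc : ∀ g : G, g * c = c * g := Subgroup.mem_center_iff.1 hcZ
  let Φ : χ.ker × Multiplicative (ZMod p) →* G :=
    { toFun := fun q => (q.1 : G) * c ^ (Multiplicative.toAdd q.2).val
      map_one' := by
        show ((1 : χ.ker) : G) * c ^ (0 : ZMod p).val = 1
        simp
      map_mul' := fun q q' => by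
        show ((q.1 * q'.1 : χ.ker) : G) * c ^ (Multiplicative.toAdd q.2 + Multiplicative.toAdd q'.2).val = _
        rw [pow_val_add hcp]
        have hc2 : ∀ m : ℕ, ∀ g : G, g * c ^ m = c ^ m * g := fun m g => (Commute.pow_right (show Commute g c from hcc g) m)
        have e := hc2 (Multiplicative.toAdd q.2).val (q'.1 : G)
        show (q.1 : G) * q'.1 * (c ^ (Multiplicative.toAdd q.2).val * c ^ (Multiplicative.toAdd q'.2).val) =
          (q.1 : G) * c ^ (Multiplicative.toAdd q.2).val * ((q'.1 : G) * c ^ (Multiplicative.toAdd q'.2).val)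
        calc (q.1 : G) * q'.1 * (c ^ (Multiplicative.toAdd q.2).val * c ^ (Multiplicative.toAdd q'.2).val)
            = (q.1 : G) * ((q'.1 : G) * c ^ (Multiplicative.toAdd q.2).val) * c ^ (Multiplicative.toAdd q'.2).val := by simp only [mul_assoc]
          _ = (q.1 : G) * (c ^ (Multiplicative.toAdd q.2).val * q'.1) * c ^ (Multiplicative.toAdd q'.2).val := by rw [e]
          _ = _ := by simp only [mul_assoc] }
  have hinj : Function.Injective Φ := by
    rw [injective_iff_map_eq_one]
    rintro ⟨e, i⟩ h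
    have h0 : (e : G) * c ^ (Multiplicative.toAdd i).val = 1 := h
    have h1 : χ ((e : G) * c ^ (Multiplicative.toAdd i).val) = 1 := by rw [h0, map_one]
    rw [map_mul, (MonoidHom.mem_ker.1 e.2), one_mul, map_pow] at h1
    have hcχp : (χ c) ^ p = 1 := by rw [← map_pow, hcp, map_one]
    have hord : orderOf (χ c) = p := orderOf_eq_prime hcχp hχ
    have h2 : p ∣ (Multiplicative.toAdd i).val := by
      have h2' := orderOf_dvd_of_pow_eq_one h1
      rwa [hord] at h2'
    have h3 : (Multiplicative.toAdd i).val = 0 := Nat.eq_zero_of_dvd_of_lt h2 (ZMod.val_lt _)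
    have h4 : Multiplicative.toAdd i = 0 := (ZMod.val_eq_zero _).1 h3
    rw [h3, pow_zero, mul_one] at h0
    have h5 : e = 1 := Subtype.ext h0
    have h6 : i = 1 := Multiplicative.toAdd.injective h4
    rw [h5, h6]
    rfl
  have hbij : Function.Bijective Φ := (Nat.bijective_iff_injective_and_card Φ).2 ⟨hinj, by
    rw [Nat.card_prod, hkc, hMc, hcard, pow_succ]⟩
  exact ⟨(MulEquiv.ofBijective Φ hbij).symm⟩

/-- The element `x` of order `2`, and so on: the case `p = 2` with a noncentral involution. -/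
theorem false_of_two [Fact (Nat.Prime 2)] (hc : Nat.card G = 2 ^ 4) (hno : NoFlag 2 G) (hcm : ∀ x y : G, x * y * x⁻¹ * y⁻¹ ∈ Subgroup.center G)
    (hDZ : commutator G ≤ Subgroup.center G) (hDc : Nat.card (commutator G) = 2) (hpD : ∀ x : G, x ^ 2 ∈ commutator G)
    (hZ : Nat.card (Subgroup.center G) = 2 ^ 2) (hZexp : ∀ u ∈ Subgroup.center G, u ^ 2 = 1) {g₀ : G} (hg₀ : g₀ ∉ Subgroup.center G) (hg₀2 : g₀ ^ 2 = 1) : False := by
  set Z := Subgroup.center G with hZd
  set D := commutator G with hDd
  obtain ⟨g₁, hg₁⟩ : ∃ g₁, g₀ * g₁ ≠ g₁ * g₀ := by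
    by_contra hcon
    push Not at hcon
    exact hg₀ (Subgroup.mem_center_iff.2 (fun g => (hcon g).symm))
  have hcomD : ∀ x y : G, x * y * x⁻¹ * y⁻¹ ∈ D := by
    intro x y
    rw [← commutatorElement_def, hDd, commutator_def]
    exact Subgroup.commutator_mem_commutator trivial trivial
  have hneone : ∀ x y : G, x * y ≠ y * x → x * y * x⁻¹ * y⁻¹ ≠ 1 := by
    intro x y hxy h
    apply hxy
    have h2 : x * y * x⁻¹ = y := by
      rw [← mul_inv_eq_one]
      exact h
    calc x * y = (x * y * x⁻¹) * x := by group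
      _ = y * x := by rw [h2]
  set z := g₀ * g₁ * g₀⁻¹ * g₁⁻¹ with hz
  have hzD : z ∈ D := hcomD _ _
  have hzne : z ≠ 1 := hneone _ _ hg₁
  have hDel : ∀ d ∈ D, d ≠ 1 → d = z := by
    intro d hd hd1
    obtain ⟨y, -, hy⟩ := (Nat.card_eq_two_iff' (1 : D)).1 hDc
    have e1 := hy ⟨d, hd⟩ (fun h => hd1 (congrArg Subtype.val h))
    have e2 := hy ⟨z, hzD⟩ (fun h => hzne (congrArg Subtype.val h))
    exact congrArg Subtype.val (e1.trans e2.symm)
  have hzZ : z ∈ Z := hDZ hzD
  have hz2 : z ^ 2 = 1 := hZexp z hzZ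
  have hzc : ∀ g : G, g * z = z * g := Subgroup.mem_center_iff.1 hzZ
  have hsqu : ∀ x u : G, u ∈ Z → (x * u) ^ 2 = x ^ 2 := by
    intro x u hu
    have h1 : x * u * (x * u) = x * x * (u * u) := by
      rw [mul_assoc x u, ← mul_assoc u x u, ← Subgroup.mem_center_iff.1 hu x]
      group
    rw [pow_two, h1, ← pow_two u, hZexp u hu, mul_one, pow_two]
  have hg₀inv : g₀⁻¹ = g₀ := inv_eq_of_mul_eq_one_left (by rw [← pow_two]; exact hg₀2)
  have hnc2 : ∀ y : G, g₀ * y ≠ y * g₀ → g₀ * y * g₀ = z * y := by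
    intro y hy
    have h1 := hDel _ (hcomD g₀ y) (hneone _ _ hy)
    rw [hg₀inv] at h1
    rw [← h1]
    group
  obtain ⟨x₀, hx₀2, hx₀c⟩ : ∃ x₀, x₀ ^ 2 = z ∧ g₀ * x₀ ≠ x₀ * g₀ := by
    have h1 : g₁ ^ 2 ∈ D := hpD g₁
    by_cases h2 : g₁ ^ 2 = 1
    · refine ⟨g₀ * g₁, ?_, ?_⟩
      · have h3 := hnc2 g₁ hg₁
        rw [pow_two] at h2 ⊢
        calc g₀ * g₁ * (g₀ * g₁) = (g₀ * g₁ * g₀) * g₁ := by group
          _ = z * (g₁ * g₁) := by rw [h3, mul_assoc]
          _ = z := by rw [h2, mul_one]
      · intro h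
        have h3 := hnc2 g₁ hg₁
        have h4 : g₀ * (g₀ * g₁) = g₁ := by
          rw [← mul_assoc, ← pow_two, hg₀2, one_mul]
        rw [h4] at h
        rw [← h] at h3
        apply hzne
        simpa using h3
    · exact ⟨g₁, hDel _ h1 h2, hg₁⟩
  have hx₀Z : x₀ ∉ Z := fun h => hx₀c (Subgroup.mem_center_iff.1 h g₀)
  set L := Subgroup.zpowers x₀ ⊔ Z with hL
  have hLC : L ≤ Subgroup.centralizer {x₀} := by
    refine sup_le ?_ (Subgroup.center_le_centralizer _)
    rw [Subgroup.zpowers_le, Subgroup.mem_centralizer_iff]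
    intro h hh
    have hh' : h = x₀ := hh
    rw [hh']
  have hg₀L : g₀ ∉ L := by
    intro h
    have h1 := (Subgroup.mem_centralizer_iff.1 (hLC h)) x₀ rfl
    exact hx₀c h1.symm
  have hLc : Nat.card L = 2 ^ 3 := by
    obtain ⟨j, hj, hjc⟩ := card_dvd_p4 hc L
    have hj3 : 3 ≤ j := by
      by_contra hcon
      push Not at hcon
      have h1 : Z = L := Subgroup.eq_of_le_of_card_ge le_sup_right (by
        rw [hjc, hZ]
        exact Nat.pow_le_pow_right (by norm_num) (by omega))
      apply hx₀Z
      rw [h1]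
      exact (le_sup_left : Subgroup.zpowers x₀ ≤ _) (Subgroup.mem_zpowers x₀)
    have hj4 : j ≠ 4 := by
      rintro rfl
      have h1 : L = ⊤ := Subgroup.eq_top_of_card_eq _ (by rw [hjc, hc])
      exact hg₀L (h1 ▸ Subgroup.mem_top g₀)
    have : j = 3 := by omega
    rw [hjc, this]
  have hLi : L.index = 2 := by
    have h1 := Subgroup.card_mul_index L
    rw [hLc, hc] at h1
    omega
  haveI : L.Normal := Subgroup.normal_of_index_eq_two hLi
  have hLel : ∀ l ∈ L, l ∈ Z ∨ x₀⁻¹ * l ∈ Z := by
    intro l hl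
    rw [hL, Subgroup.mem_sup_of_normal_right] at hl
    obtain ⟨y, hy, u, hu, rfl⟩ := hl
    obtain ⟨i, rfl⟩ := Subgroup.mem_zpowers_iff.1 hy
    obtain ⟨k, hk | hk⟩ := Int.even_or_odd' i
    · left
      rw [hk, zpow_mul]
      refine Z.mul_mem (Z.zpow_mem ?_ k) hu
      rw [zpow_two, ← pow_two, hx₀2]
      exact hzZ
    · right
      rw [hk, zpow_add, zpow_mul, zpow_one]
      have hm : (x₀ ^ (2 : ℤ)) ^ k ∈ Z := by
        refine Z.zpow_mem ?_ k
        rw [zpow_two, ← pow_two, hx₀2]
        exact hzZ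
      have hc' : (x₀ ^ (2 : ℤ)) ^ k * x₀ = x₀ * (x₀ ^ (2 : ℤ)) ^ k := Subgroup.mem_center_iff.1 hm x₀ |>.symm
      have e : x₀⁻¹ * ((x₀ ^ (2 : ℤ)) ^ k * x₀ * u) = (x₀ ^ (2 : ℤ)) ^ k * u := by
        rw [hc']
        group
      rw [e]
      exact Z.mul_mem hm hu
  have hLsq : ∀ l ∈ L, l ∉ Z → l ^ 2 = z := by
    intro l hl hlZ
    rcases hLel l hl with h | h
    · exact absurd h hlZ
    · have e : l = x₀ * (x₀⁻¹ * l) := by group
      rw [e, hsqu _ _ h, hx₀2]
  have hout : ∀ g : G, g ∉ L → g ^ 2 = 1 := by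
    intro g hg
    have h1 : g₀⁻¹ * g ∈ L := by
      rw [Subgroup.mul_mem_iff_of_index_two hLi]
      constructor
      · intro h
        exact absurd (by simpa using L.inv_mem h) hg₀L
      · intro h
        exact absurd h hg
    have e : g = g₀ * (g₀⁻¹ * g) := by group
    rcases hLel _ h1 with h | h
    · rw [e, hsqu _ _ h, hg₀2]
    · have e2 : g = g₀ * x₀ * (x₀⁻¹ * (g₀⁻¹ * g)) := by group
      rw [e2, hsqu _ _ h]
      have h3 := hnc2 x₀ hx₀c
      calc (g₀ * x₀) ^ 2 = (g₀ * x₀ * g₀) * x₀ := by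
            rw [pow_two]
            group
        _ = z * (x₀ * x₀) := by rw [h3, mul_assoc]
        _ = z * x₀ ^ 2 := by rw [pow_two]
        _ = z ^ 2 := by rw [hx₀2, pow_two]
        _ = 1 := hz2
  have hLinv : AInv L := by
    intro α m hm
    by_cases hmZ : m ∈ Z
    · exact (le_sup_right : Z ≤ L) (aInv_center α m hmZ)
    · by_contra hαm
      have h1 := hout _ hαm
      rw [← map_pow, hLsq m hm hmZ] at h1
      apply hzne
      simpa using h1
  exact hno D Z L aInv_commutator aInv_center hLinv hDZ le_sup_right hDc hZ hLc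

/-- The nonabelian case. -/
theorem nonab_of_noFlag {G : Type*} [Group G] [Finite G] (hc : Nat.card G = p ^ 4) (hno : NoFlag p G) (hnc : ¬ ∀ x y : G, x * y = y * x) :
    ((∀ x : G, x ^ p ^ 2 = 1) ∧ IsCyclic (Subgroup.center G) ∧ Nat.card (Subgroup.center G) = p ^ 2) ∨
    (Odd p ∧ ∃ (E : Type) (_ : Group E) (_ : Finite E), IsExtraspecial p E ∧ Nat.card E = p ^ 3 ∧ (∀ x : E, x ^ p = 1) ∧
      Nonempty (G ≃* E × Multiplicative (ZMod p))) ∨
    (p = 2 ∧ Nonempty (G ≃* QuaternionGroup 2 × Multiplicative (ZMod 2))) := by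
  have hpp := hp.out
  obtain ⟨hcm, hDZ, hDc, hpD⟩ := struct_of_noFlag hc hno hnc
  have hZ := card_center_sq hc hno hnc
  have hDexp : ∀ d ∈ commutator G, d ^ p = 1 := by
    intro d hd
    have := pow_card_eq_one' (x := (⟨d, hd⟩ : commutator G))
    rw [hDc] at this
    exact congrArg Subtype.val this
  by_cases hcyc : IsCyclic (Subgroup.center G)
  · left
    refine ⟨fun x => ?_, hcyc, hZ⟩
    rw [pow_two, pow_mul]
    exact hDexp _ (hpD x)
  right
  have hZexp : ∀ u ∈ Subgroup.center G, u ^ p = 1 := by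
    intro u hu
    by_contra hcon
    apply hcyc
    have h1 : (⟨u, hu⟩ : Subgroup.center G) ^ p ^ 1 ≠ 1 := by
      rw [pow_one]
      intro h
      exact hcon (congrArg Subtype.val h)
    have h2 : (⟨u, hu⟩ : Subgroup.center G) ^ p ^ (1 + 1) = 1 := by
      rw [show (1 + 1 : ℕ) = 2 from rfl, ← hZ]
      exact pow_card_eq_one'
    have h3 := orderOf_eq_prime_pow h1 h2
    exact isCyclic_of_orderOf_eq_card _ (by rw [h3, hZ])
  obtain ⟨c, hcZ, hcD⟩ : ∃ c ∈ Subgroup.center G, c ∉ commutator G := by
    by_contra hcon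
    push Not at hcon
    have h1 : Nat.card (Subgroup.center G) ≤ Nat.card (commutator G) :=
      Nat.card_le_card_of_injective _ (Subgroup.inclusion_injective (hcon : Subgroup.center G ≤ _))
    rw [hZ, hDc] at h1
    nlinarith [hpp.two_le]
  let ρ : G →* Abelianization G := Abelianization.of
  have hρ : ∀ g : G, ρ g = 1 ↔ g ∈ commutator G := by
    intro g
    rw [← MonoidHom.mem_ker]
    show g ∈ (Abelianization.of : G →* Abelianization G).ker ↔ _
    rw [Abelianization.ker_of]
  have hAexp : ∀ x : Abelianization G, x ^ p = 1 := by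
    intro x
    obtain ⟨g, rfl⟩ := QuotientGroup.mk_surjective x
    show (ρ g) ^ p = 1
    rw [← map_pow, hρ]
    exact hpD g
  obtain ⟨f, hf⟩ := exists_char_ne hAexp (ρ c) (fun h => hcD ((hρ c).1 h))
  let χ : G →* Multiplicative (ZMod p) := f.comp ρ
  obtain ⟨hEc, ⟨e⟩⟩ := exists_iso_prod χ hcZ (hZexp c hcZ) hf (n := 3) hc
  have hEnc : ¬ ∀ x y : χ.ker, x * y = y * x := by
    intro hcon
    apply hnc
    intro x y
    apply e.injective
    rw [map_mul, map_mul]
    refine Prod.ext (hcon _ _) (mul_comm _ _)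
  rcases eq_or_ne p 2 with rfl | hodd
  · right
    refine ⟨rfl, ?_⟩
    by_cases hq : ∀ g : G, g ^ 2 = 1 → g ∈ Subgroup.center G
    · obtain ⟨x, hx⟩ : ∃ x : χ.ker, x ^ 2 ≠ 1 := by
        by_contra hall
        push Not at hall
        apply hEnc
        intro a b
        have h1 := hall (a * b)
        have h2 := hall a
        have h3 := hall b
        have ha : a⁻¹ = a := inv_eq_of_mul_eq_one_left (by rw [← pow_two]; exact h2)
        have hb : b⁻¹ = b := inv_eq_of_mul_eq_one_left (by rw [← pow_two]; exact h3)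
        have hab : (a * b)⁻¹ = a * b := inv_eq_of_mul_eq_one_left (by rw [← pow_two]; exact h1)
        rw [mul_inv_rev, ha, hb] at hab
        exact hab.symm
      have hcen : ∀ t : χ.ker, t ^ 2 = 1 → t ∈ Subgroup.center χ.ker := by
        intro t ht
        have h1 : (t : G) ^ 2 = 1 := congrArg Subtype.val ht
        have h2 := hq _ h1
        rw [Subgroup.mem_center_iff]
        intro g
        exact Subtype.ext (Subgroup.mem_center_iff.1 h2 g)
      obtain ⟨eq⟩ := quat_of_invol_central hEc hcen hEnc x hx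
      exact ⟨e.trans (MulEquiv.prodCongr eq (MulEquiv.refl _))⟩
    · exfalso
      push Not at hq
      obtain ⟨g₀, hg₀2, hg₀⟩ := hq
      exact false_of_two hc hno hcm hDZ hDc hpD hZ hZexp hg₀ hg₀2
  · left
    refine ⟨hpp.odd_of_ne_two hodd, ?_⟩
    have hmap : ∀ X Y : G, (X * Y) ^ p = X ^ p * Y ^ p := by
      intro X Y
      have hcm' : Y⁻¹ * X * Y * X⁻¹ ∈ commutator G := by
        have h1 : ⁅Y⁻¹, X⁆ ∈ commutator G := by
          rw [commutator_def]
          exact Subgroup.commutator_mem_commutator trivial trivial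
        rw [commutatorElement_def] at h1
        simpa using h1
      set d := Y⁻¹ * X * Y * X⁻¹ with hdd
      have hdc : ∀ g : G, g * d = d * g := fun g => Subgroup.mem_center_iff.1 (hDZ hcm') g
      refine Cfsg.Agent.Lib.Fusion2.class2_pow_p hodd (hdc X) (hdc Y) ?_ (hDexp d hcm')
      rw [hdd]
      group
    let π : G →* G := { toFun := fun x => x ^ p, map_one' := one_pow p, map_mul' := hmap }
    have hexp : ∀ x : G, x ^ p = 1 := by
      by_contra hcon
      push Not at hcon
      obtain ⟨x₀, hx₀⟩ := hcon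
      have hrange : π.range ≤ commutator G := by
        rintro _ ⟨g, rfl⟩
        exact hpD g
      have hMi : π.ker.index = p := by
        rw [Subgroup.index_ker]
        have h1 : Nat.card π.range ∣ p := by
          have := Subgroup.card_dvd_of_le hrange
          rwa [hDc] at this
        refine ((Nat.dvd_prime hpp).1 h1).resolve_left (fun h => hx₀ ?_)
        have h2 : π.range = ⊥ := Subgroup.card_eq_one.1 h
        have h3 : π x₀ ∈ π.range := ⟨x₀, rfl⟩
        rw [h2] at h3
        exact h3
      have hMc : Nat.card π.ker = p ^ 3 := by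
        have h4 := Subgroup.card_mul_index π.ker
        rw [hMi, hc] at h4
        have : Nat.card π.ker * p = p ^ 3 * p := by rw [h4]; ring
        exact Nat.eq_of_mul_eq_mul_right hpp.pos this
      have hZM : Subgroup.center G ≤ π.ker := fun u hu => hZexp u hu
      have hMinv : AInv π.ker := by
        intro α g hg
        rw [MonoidHom.mem_ker] at hg ⊢
        show (α g) ^ p = 1
        have hg' : g ^ p = 1 := hg
        rw [← map_pow, hg', map_one]
      exact hno (commutator G) (Subgroup.center G) π.ker aInv_commutator aInv_center hMinv hDZ hZM hDc hZ hMc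
    obtain ⟨X', iG, ⟨e'⟩⟩ := Cfsg.Agent.Lib.Fusion2.exists_type_group χ.ker
    letI := iG
    have hfin : Finite X' := Finite.of_equiv _ e'.toEquiv
    have hXc : Nat.card X' = p ^ 3 := by rw [← Nat.card_congr e'.toEquiv, hEc]
    have hXnc : ¬ ∀ x y : X', x * y = y * x := by
      intro hcon
      apply hEnc
      intro x y
      apply e'.injective
      rw [map_mul, map_mul]
      exact hcon _ _
    refine ⟨X', iG, hfin, Cfsg.Agent.Lib.Fusion2.isExtraspecial_of_card_p3 hXc hXnc, hXc, fun x => ?_,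
      ⟨e.trans (MulEquiv.prodCongr e' (MulEquiv.refl _))⟩⟩
    obtain ⟨y, rfl⟩ := e'.surjective x
    rw [← map_pow]
    have : y ^ p = 1 := Subtype.ext (hexp y)
    rw [this, map_one]


theorem pow_val_add_gen {n : ℕ} [NeZero n] {x : G} (hx : x ^ n = 1) (s t : ZMod n) : x ^ (s + t).val = x ^ s.val * x ^ t.val := by
  rw [ZMod.val_add, ← pow_add]
  exact (pow_eq_pow_mod _ hx).symm

theorem mem_of_pow_mem_coprime (H : Subgroup G) {b : G} {a c : ℕ} (h : Nat.Coprime a c) (ha : b ^ a ∈ H) (hc : b ^ c ∈ H) : b ∈ H := by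
  have e := Nat.gcd_eq_gcd_ab a c
  rw [h] at e
  have e2 : b = (b ^ a) ^ (Nat.gcdA a c) * (b ^ c) ^ (Nat.gcdB a c) := by
    rw [← zpow_natCast, ← zpow_natCast, ← zpow_mul, ← zpow_mul, ← zpow_add, ← e]
    simp
  rw [e2]
  exact H.mul_mem (H.zpow_mem ha _) (H.zpow_mem hc _)

theorem mul_six_aux (hcomm : ∀ x y : G, x * y = y * x) (a b c d e f : G) : a * b * (c * d) * (e * f) = a * c * e * (b * d * f) := by
  letI iC : CommGroup G := { (inferInstance : Group G) with mul_comm := hcomm }
  rw [mul_mul_mul_comm a b c d, mul_mul_mul_comm (a * c) (b * d) e f]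

/-- The abelian group with `|G^p| = p`. -/
theorem iso_of_pow_range (hcomm : ∀ x y : G, x * y = y * x) (hc : Nat.card G = p ^ 4) (hr : Nat.card (abPow hcomm p).range = p) :
    Nonempty (G ≃* Multiplicative (ZMod (p ^ 2) × ZMod p × ZMod p)) := by
  have hpp := hp.out
  haveI : NeZero p := ⟨hpp.ne_zero⟩
  haveI : NeZero (p ^ 2) := ⟨pow_ne_zero 2 hpp.ne_zero⟩
  letI iC : CommGroup G := { (inferInstance : Group G) with mul_comm := hcomm }
  set π := abPow hcomm p with hπ
  have hkc : Nat.card π.ker = p ^ 3 := by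
    have h1 := Subgroup.card_mul_index π.ker
    rw [Subgroup.index_ker, hr, hc] at h1
    have : Nat.card π.ker * p = p ^ 3 * p := by rw [h1]; ring
    exact Nat.eq_of_mul_eq_mul_right hpp.pos this
  obtain ⟨a, ha⟩ : ∃ a : G, a ^ p ≠ 1 := by
    by_contra hcon
    push Not at hcon
    have h1 : π.range = ⊥ := by
      rw [eq_bot_iff]
      rintro _ ⟨g, rfl⟩
      exact hcon g
    rw [h1] at hr
    simp at hr
    exact hpp.one_lt.ne hr
  have hap : (a ^ p) ^ p = 1 := by
    have h1 := pow_card_eq_one' (x := (⟨a ^ p, a, rfl⟩ : π.range))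
    rw [hr] at h1
    exact congrArg Subtype.val h1
  have ha2 : a ^ p ^ 2 = 1 := by
    rw [pow_two, pow_mul]
    exact hap
  have haord : orderOf a = p ^ 2 := by
    have := orderOf_eq_prime_pow (p := p) (n := 1) (x := a) (by simpa using ha) (by simpa using ha2)
    simpa using this
  have hapord : orderOf (a ^ p) = p := orderOf_eq_prime hap ha
  set A₀ := Subgroup.zpowers (a ^ p) with hA₀
  have hA₀c : Nat.card A₀ = p := by rw [hA₀, Nat.card_zpowers, hapord]
  obtain ⟨b, hbk, hbA⟩ : ∃ b ∈ π.ker, b ∉ A₀ := by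
    by_contra hcon
    push Not at hcon
    have h1 : Nat.card π.ker ≤ Nat.card A₀ := Nat.card_le_card_of_injective _ (Subgroup.inclusion_injective (hcon : π.ker ≤ _))
    rw [hkc, hA₀c] at h1
    have h2 : p ^ 1 < p ^ 3 := Nat.pow_lt_pow_right hpp.one_lt (by norm_num)
    simp only [pow_one] at h2
    omega
  have hbp : b ^ p = 1 := hbk
  have hbne : b ≠ 1 := fun h => hbA (h ▸ Subgroup.one_mem _)
  have hbord : orderOf b = p := orderOf_eq_prime hbp hbne
  set B := A₀ ⊔ Subgroup.zpowers b with hB
  have hBc : Nat.card B ≤ p ^ 2 := by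
    let g : A₀ × Subgroup.zpowers b → B := fun q => ⟨(q.1 : G) * (q.2 : G), B.mul_mem ((le_sup_left : A₀ ≤ B) q.1.2) ((le_sup_right : _ ≤ B) q.2.2)⟩
    have hg : Function.Surjective g := by
      rintro ⟨x, hx⟩
      obtain ⟨y, hy, z, hz, rfl⟩ := Subgroup.mem_sup.1 hx
      exact ⟨(⟨y, hy⟩, ⟨z, hz⟩), rfl⟩
    have h1 := Nat.card_le_card_of_surjective g hg
    rw [Nat.card_prod, hA₀c, Nat.card_zpowers, hbord] at h1
    rw [pow_two]
    exact h1
  obtain ⟨c, hck, hcB⟩ : ∃ c ∈ π.ker, c ∉ B := by
    by_contra hcon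
    push Not at hcon
    have h1 : Nat.card π.ker ≤ Nat.card B := Nat.card_le_card_of_injective _ (Subgroup.inclusion_injective (hcon : π.ker ≤ _))
    rw [hkc] at h1
    have h2 : p ^ 2 < p ^ 3 := Nat.pow_lt_pow_right hpp.one_lt (by norm_num)
    omega
  have hcp : c ^ p = 1 := hck
  let Φ : Multiplicative (ZMod (p ^ 2) × ZMod p × ZMod p) →* G :=
    { toFun := fun q => a ^ (Multiplicative.toAdd q).1.val * b ^ (Multiplicative.toAdd q).2.1.val * c ^ (Multiplicative.toAdd q).2.2.val
      map_one' := by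
        show a ^ (0 : ZMod (p ^ 2)).val * b ^ (0 : ZMod p).val * c ^ (0 : ZMod p).val = 1
        simp
      map_mul' := fun q q' => by
        show a ^ ((Multiplicative.toAdd q).1 + (Multiplicative.toAdd q').1).val * b ^ ((Multiplicative.toAdd q).2.1 + (Multiplicative.toAdd q').2.1).val *
          c ^ ((Multiplicative.toAdd q).2.2 + (Multiplicative.toAdd q').2.2).val = _
        rw [pow_val_add_gen ha2, pow_val_add_gen hbp, pow_val_add_gen hcp]
        exact mul_six_aux hcomm _ _ _ _ _ _ }
  have hinj : Function.Injective Φ := by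
    rw [injective_iff_map_eq_one]
    intro q hq
    set i := (Multiplicative.toAdd q).1 with hi
    set j := (Multiplicative.toAdd q).2.1 with hj
    set k := (Multiplicative.toAdd q).2.2 with hk
    have h0 : a ^ i.val * b ^ j.val * c ^ k.val = 1 := hq
    have hbj : (b ^ j.val) ^ p = 1 := by rw [← pow_mul, mul_comm, pow_mul, hbp, one_pow]
    have hck' : (c ^ k.val) ^ p = 1 := by rw [← pow_mul, mul_comm, pow_mul, hcp, one_pow]
    have h1 : (a ^ i.val) ^ p = 1 := by
      have := congrArg (fun x => x ^ p) h0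
      simp only [mul_pow, hbj, hck', mul_one, one_pow] at this
      exact this
    have hpi : p ∣ i.val := by
      have h2 : orderOf a ∣ i.val * p := by
        rw [← pow_mul] at h1
        exact orderOf_dvd_of_pow_eq_one h1
      rw [haord] at h2
      have h3 : p * p ∣ i.val * p := by
        rw [← pow_two]
        exact h2
      exact Nat.dvd_of_mul_dvd_mul_right hpp.pos h3
    obtain ⟨m, hm⟩ := hpi
    have haA : a ^ i.val ∈ A₀ := by
      rw [hm, pow_mul]
      exact A₀.pow_mem (Subgroup.mem_zpowers _) m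
    have hckB : c ^ k.val ∈ B := by
      have e : c ^ k.val = (a ^ i.val * b ^ j.val)⁻¹ := eq_inv_of_mul_eq_one_right h0
      rw [e]
      exact B.inv_mem (B.mul_mem ((le_sup_left : A₀ ≤ B) haA) ((le_sup_right : _ ≤ B) (Subgroup.pow_mem _ (Subgroup.mem_zpowers b) _)))
    have hk0 : k.val = 0 := by
      by_contra hne
      have hnd : ¬ p ∣ k.val := fun hd => hne (Nat.eq_zero_of_dvd_of_lt hd (ZMod.val_lt _))
      have hcop : Nat.Coprime k.val p := ((Nat.Prime.coprime_iff_not_dvd hpp).2 hnd).symm
      refine hcB (mem_of_pow_mem_coprime B hcop hckB ?_)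
      rw [hcp]
      exact B.one_mem
    rw [hk0, pow_zero, mul_one] at h0
    have hbjA : b ^ j.val ∈ A₀ := by
      have e : b ^ j.val = (a ^ i.val)⁻¹ := eq_inv_of_mul_eq_one_right h0
      rw [e]
      exact A₀.inv_mem haA
    have hj0 : j.val = 0 := by
      by_contra hne
      have hnd : ¬ p ∣ j.val := fun hd => hne (Nat.eq_zero_of_dvd_of_lt hd (ZMod.val_lt _))
      have hcop : Nat.Coprime j.val p := ((Nat.Prime.coprime_iff_not_dvd hpp).2 hnd).symm
      refine hbA (mem_of_pow_mem_coprime A₀ hcop hbjA ?_)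
      rw [hbp]
      exact A₀.one_mem
    rw [hj0, pow_zero, mul_one] at h0
    have hi0 : i.val = 0 := by
      have h2 := orderOf_dvd_of_pow_eq_one h0
      rw [haord] at h2
      exact Nat.eq_zero_of_dvd_of_lt h2 (ZMod.val_lt _)
    apply Multiplicative.toAdd.injective
    refine Prod.ext ((ZMod.val_eq_zero _).1 hi0) (Prod.ext ((ZMod.val_eq_zero _).1 hj0) ((ZMod.val_eq_zero _).1 hk0))
  have hbij : Function.Bijective Φ := (Nat.bijective_iff_injective_and_card Φ).2 ⟨hinj, by
    rw [Nat.card_congr Multiplicative.toAdd, Nat.card_prod, Nat.card_prod, Nat.card_zmod, Nat.card_zmod, hc]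
    ring⟩
  exact ⟨(MulEquiv.ofBijective Φ hbij).symm⟩

end Alg


section Main

variable {Ω : Type*} [Group Ω] {S : Subgroup Ω} [Finite S] {F : FusionSystem S} {p : ℕ} [hp : Fact p.Prime]

theorem noFlag_of_essential (hS : IsPGroup p S) {H : Subgroup Ω} (hH : F.IsEssential p H) (hcard : Nat.card H = p ^ 4) :
    NoFlag p H := by
  have hpp : p.Prime := hp.out
  have hHS : H ≤ S := hH.1.1
  haveI : Finite H := finite_of_le hHS
  intro U V W hU hV hW hUV hVW hUc hVc hWc
  let c : ℕ → Subgroup H := fun i => match i with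
    | 0 => ⊥
    | 1 => U
    | 2 => V
    | 3 => W
    | _ => ⊤
  have hnorm : ∀ L : Subgroup H, AInv L → L.Normal := fun L hL =>
    ⟨fun x hx g => hL (MulAut.conj g) x hx⟩
  have hWi : W.index = p := by
    have h2 := Subgroup.card_mul_index W
    rw [hWc, hcard] at h2
    have : p ^ 3 * W.index = p ^ 3 * p := by rw [h2]; ring
    exact Nat.eq_of_mul_eq_mul_left (pow_pos hpp.pos 3) this
  have hUi : U.relIndex V = p := by
    have h1 := card_mul_relIndex_of_le hUV
    rw [hUc, hVc, pow_two] at h1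
    exact Nat.eq_of_mul_eq_mul_left hpp.pos h1
  have hVi : V.relIndex W = p := by
    have h1 := card_mul_relIndex_of_le hVW
    rw [hVc, hWc, pow_succ] at h1
    exact Nat.eq_of_mul_eq_mul_left (pow_pos hpp.pos 2) h1
  refine false_of_chain hS hH c 4 rfl rfl ?_ ?_ ?_ ?_
  · intro i hi
    interval_cases i
    · exact bot_le
    · exact hUV
    · exact hVW
    · exact le_top
  · intro i hi
    interval_cases i
    · exact inferInstanceAs (⊥ : Subgroup H).Normal
    · exact hnorm U hU
    · exact hnorm V hV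
    · exact hnorm W hW
    · exact inferInstanceAs (⊤ : Subgroup H).Normal
  · intro i hi α hα x hx
    interval_cases i
    · have hx1 : x = 1 := hx
      rw [hx1, map_one]
      exact Subgroup.one_mem _
    · exact hU α x hx
    · exact hV α x hx
    · exact hW α x hx
    · trivial
  · intro i hi
    interval_cases i
    · show (⊥ : Subgroup H).relIndex U ∣ p
      rw [Subgroup.relIndex_bot_left, hUc]
    · show U.relIndex V ∣ p
      rw [hUi]
    · show V.relIndex W ∣ p
      rw [hVi]
    · show W.relIndex ⊤ ∣ p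
      rw [Subgroup.relIndex_top_right, hWi]

/-- **Essential subgroups of order `p⁴`.** -/
theorem essential_card_p4 (hS : IsPGroup p S) {H : Subgroup Ω} (hH : F.IsEssential p H) (hcard : Nat.card H = p ^ 4) :
    IsElementaryAbelian p H ∨
      Nonempty (↥H ≃* Multiplicative (ZMod (p ^ 2) × ZMod p × ZMod p)) ∨
      ((p = 2 ∨ p = 3) ∧ Nonempty (↥H ≃* Multiplicative (ZMod (p ^ 2) × ZMod (p ^ 2)))) ∨
      (Odd p ∧ ∃ (E : Type) (_ : Group E) (_ : Finite E), IsExtraspecial p E ∧ Nat.card E = p ^ 3 ∧
        (∀ x : E, x ^ p = 1) ∧ Nonempty (↥H ≃* E × Multiplicative (ZMod p))) ∨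
      (p = 2 ∧ Nonempty (↥H ≃* QuaternionGroup 2 × Multiplicative (ZMod 2))) ∨
      (¬ IsMulCommutative ↥H ∧ (∀ x ∈ H, x ^ (p ^ 2) = 1) ∧ IsCyclic ↥(Subgroup.center ↥H) ∧
        Nat.card (Subgroup.center ↥H) = p ^ 2) := by
  have hpp : p.Prime := hp.out
  have hHS : H ≤ S := hH.1.1
  haveI : Finite H := finite_of_le hHS
  have hno := noFlag_of_essential hS hH hcard
  by_cases hcomm : ∀ x y : H, x * y = y * x
  · by_cases hexp : ∀ x : H, x ^ p = 1
    · left
      exact ⟨⟨⟨hcomm⟩⟩, fun a ha => congrArg Subtype.val (hexp ⟨a, ha⟩)⟩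
    · right
      push Not at hexp
      obtain ⟨x₀, hx₀⟩ := hexp
      set π := abPow hcomm p with hπ
      have hGp : IsPGroup p H := IsPGroup.of_card hcard
      have hdvd : Nat.card π.range ∣ p ^ 4 := by
        have := Subgroup.card_subgroup_dvd_card π.range
        rwa [hcard] at this
      obtain ⟨k, hk, hkc⟩ := (Nat.dvd_prime_pow hpp).1 hdvd
      have hk0 : k ≠ 0 := by
        rintro rfl
        rw [pow_zero] at hkc
        have h2 : π.range = ⊥ := Subgroup.card_eq_one.1 hkc
        have h3 : π x₀ ∈ π.range := ⟨x₀, rfl⟩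
        rw [h2] at h3
        exact hx₀ h3
      by_cases hk1 : k = 1
      · subst hk1
        left
        have hkc' : Nat.card π.range = p := by rw [hkc, pow_one]
        exact iso_of_pow_range hcomm hcard hkc'
      · right
        left
        have hle : π.range ≤ frattini H := by
          rintro _ ⟨g, rfl⟩
          exact Cfsg.Agent.Lib.Transfer.pow_mem_frattini hGp g
        have hfr : (frattini H).index ≤ p ^ 2 := by
          have h1 := Subgroup.card_mul_index (frattini H)
          have h2 := Subgroup.card_mul_index π.range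
          have h3 : Nat.card π.range ≤ Nat.card (frattini H) := Nat.card_le_card_of_injective _ (Subgroup.inclusion_injective hle)
          rw [hcard] at h1 h2
          rw [hkc] at h2 h3
          have h4 : p ^ 2 * p ^ (k - 2) = p ^ k := by
            rw [← pow_add]
            congr 1
            omega
          by_contra hcon
          push Not at hcon
          have h5 : p ^ 2 * Nat.card (frattini H) < (frattini H).index * Nat.card (frattini H) :=
            Nat.mul_lt_mul_of_pos_right hcon (Nat.card_pos)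
          have h6 : p ^ 2 ≤ p ^ k := Nat.pow_le_pow_right hpp.pos (by omega)
          have h7 : p ^ 2 * p ^ 2 ≤ p ^ 2 * Nat.card (frattini H) := Nat.mul_le_mul_left _ (h6.trans h3)
          have h8 : (frattini H).index * Nat.card (frattini H) = p ^ 4 := by rw [mul_comm, h1]
          have h9 : p ^ 2 * p ^ 2 = p ^ 4 := by ring
          omega
        rcases essential_ab_rank2 hS hH ⟨⟨hcomm⟩⟩ hfr with ⟨-, h⟩ | ⟨h3, k', ⟨e⟩⟩
        · exfalso
          rw [hcard] at h
          have : p ^ 2 < p ^ 4 := Nat.pow_lt_pow_right hpp.one_lt (by norm_num)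
          omega
        · have hc := Nat.card_congr e.toEquiv
          rw [Nat.card_congr Multiplicative.toAdd, Nat.card_prod, hcard] at hc
          haveI : NeZero (p ^ k') := ⟨pow_ne_zero _ hpp.ne_zero⟩
          rw [Nat.card_zmod, ← pow_add] at hc
          have hk2 : k' + k' = 4 := (Nat.pow_right_injective hpp.two_le hc).symm
          have hk' : k' = 2 := by omega
          subst hk'
          have hp23 : p = 2 ∨ p = 3 := by
            have h2 := hpp.two_le
            omega
          exact ⟨hp23, ⟨e⟩⟩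
  · right; right; right
    rcases nonab_of_noFlag hcard hno hcomm with ⟨h1, h2, h3⟩ | h | h
    · right; right
      refine ⟨fun hab => hcomm hab.is_comm.comm, fun x hx => ?_, h2, h3⟩
      exact congrArg Subtype.val (h1 ⟨x, hx⟩)
    · left
      exact h
    · right; left
      exact h

end Main

end Cfsg.Agent.Lib.Fusion
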