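/-
Essential subgroups inside an extraspecial subgroup.
-/
import Cfsg.Agent.Lib.Fusion.EssP4
import Cfsg.Agent.Lib.Fusion.GroupFusion

set_option autoImplicit false
set_option linter.unusedSectionVars false
set_option linter.style.haveILetI false

namespace Cfsg.Agent.Lib.Fusion

open Cfsg Cfsg.FusionSystem
open scoped commutatorElement

section Link

variable {X : Type*} [Group X] [Finite X] {p : ℕ} [hp : Fact p.Prime]

theorem mem_smul_sylow {g x : X} {P : Sylow p X} : x ∈ ((g • P : Sylow p X) : Subgroup X) ↔ g⁻¹ * x * g ∈ (P : Subgroup X) := by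
  rw [Sylow.coe_subgroup_smul, Subgroup.mem_pointwise_smul_iff_inv_smul_mem]
  simp [MulAut.smul_def]

/-- Sylow subgroups meeting a given one nontrivially are conjugate under the core. -/
theorem conj_of_inter (P : Sylow p X) (H : Subgroup X) (hN : ∀ B : Subgroup X, B ≤ P → B ≠ ⊥ → Subgroup.normalizer (B : Set X) ≤ H) :
    ∀ R : Sylow p X, (R : Subgroup X) ⊓ P ≠ ⊥ → ∃ h ∈ H, h • P = R := by
  intro R
  induction' hn : Nat.card P - Nat.card ((R : Subgroup X) ⊓ (P : Subgroup X) : Subgroup X) using Nat.strong_induction_on with n ih generalizing R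
  intro hne
  set D := (R : Subgroup X) ⊓ (P : Subgroup X) with hD
  by_cases hDR : D = R
  · refine ⟨1, Subgroup.one_mem _, ?_⟩
    rw [one_smul]
    have hRP : (R : Subgroup X) ≤ P := by
      rw [← hDR]
      exact inf_le_right
    have hc : Nat.card R = Nat.card P := Nat.card_congr (Sylow.equiv R P).toEquiv
    exact Sylow.ext (Subgroup.eq_of_le_of_card_ge hRP hc.ge).symm
  · have hDlt : D < R := lt_of_le_of_ne inf_le_left hDR
    have hRp : IsPGroup p R := R.isPGroup'
    obtain ⟨r, hr, hrD⟩ := exists_mem_normalizerIn_not_mem hRp hDlt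
    set T := normalizerIn (R : Subgroup X) D with hT
    have hTH : T ≤ H := (inf_le_right : T ≤ _).trans (hN D inf_le_right hne)
    have hPne : (P : Subgroup X) ≠ ⊥ := by
      intro h
      apply hne
      rw [hD, h, inf_bot_eq]
    have hPH : (P : Subgroup X) ≤ H := (Subgroup.le_normalizer).trans (hN P le_rfl hPne)
    have hsyl : SylowIn p (P : Subgroup X) H := sylowIn_of_max hPH P.isPGroup' (fun U _ hU => by
      obtain ⟨P', hP'⟩ := hU.exists_le_sylow
      calc Nat.card U ≤ Nat.card P' := Subgroup.card_le_of_le hP'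
        _ = Nat.card P := Nat.card_congr (Sylow.equiv P' P).toEquiv)
    have hTp : IsPGroup p T := hRp.to_le inf_le_left
    obtain ⟨c, hc, hcT⟩ := hsyl.exists_conj hTp hTH
    have hcj : cj c T ≤ ((c • R : Sylow p X) : Subgroup X) := by
      intro x hx
      rw [mem_smul_sylow]
      exact (inf_le_left : T ≤ _) (mem_cj.1 hx)
    have hD₁ : cj c T ≤ ((c • R : Sylow p X) : Subgroup X) ⊓ (P : Subgroup X) := le_inf hcj hcT
    have hDT : D < T := lt_of_le_of_ne (le_inf inf_le_left Subgroup.le_normalizer) (fun h => hrD (h ▸ hr))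
    have hc1 : Nat.card D < Nat.card T := by
      by_contra hcon
      exact hDT.ne (Subgroup.eq_of_le_of_card_ge hDT.le (not_lt.1 hcon))
    have hc2 : Nat.card T ≤ Nat.card (((c • R : Sylow p X) : Subgroup X) ⊓ (P : Subgroup X) : Subgroup X) := by
      rw [← card_cj c T]
      exact Subgroup.card_le_of_le hD₁
    have hc3 : Nat.card (((c • R : Sylow p X) : Subgroup X) ⊓ (P : Subgroup X) : Subgroup X) ≤ Nat.card P := Subgroup.card_le_of_le inf_le_right
    have hne₁ : ((c • R : Sylow p X) : Subgroup X) ⊓ (P : Subgroup X) ≠ ⊥ := by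
      intro h
      rw [h] at hc2
      simp only [Subgroup.card_bot] at hc2
      have : 0 < Nat.card D := Nat.card_pos
      omega
    obtain ⟨h₁, hh₁, he⟩ := ih _ (by omega) (c • R) rfl hne₁
    refine ⟨c⁻¹ * h₁, H.mul_mem (H.inv_mem hc) hh₁, ?_⟩
    rw [mul_smul, he, inv_smul_smul]

/-- Commuting nontrivial elements of `P` and of `g • P` force `g` into the core. -/
theorem mem_of_link (P : Sylow p X) (H : Subgroup X) (hN : ∀ B : Subgroup X, B ≤ P → B ≠ ⊥ → Subgroup.normalizer (B : Set X) ≤ H)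
    {g u u' : X} (hu : u ∈ (P : Subgroup X)) (hu1 : u ≠ 1) (hu' : u' ∈ ((g • P : Sylow p X) : Subgroup X)) (hu'1 : u' ≠ 1)
    (hc : u * u' = u' * u) : g ∈ H := by
  have hpu : IsPGroup p (Subgroup.zpowers u) := P.isPGroup'.to_le ((Subgroup.zpowers_le).2 hu)
  have hpu' : IsPGroup p (Subgroup.zpowers u') := (g • P).isPGroup'.to_le ((Subgroup.zpowers_le).2 hu')
  have hnorm : Subgroup.zpowers u' ≤ Subgroup.normalizer ((Subgroup.zpowers u : Subgroup X) : Set X) := by
    rw [Subgroup.zpowers_le, Subgroup.mem_normalizer_iff]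
    intro h
    have hcomm : ∀ t : X, t ∈ Subgroup.zpowers u → u' * t = t * u' := by
      intro t ht
      obtain ⟨i, rfl⟩ := Subgroup.mem_zpowers_iff.1 ht
      exact ((Commute.zpow_left (show Commute u u' from hc) i).eq).symm
    constructor
    · intro hh
      rw [hcomm h hh]
      simpa using hh
    · intro hh
      have h2 := hcomm _ hh
      have h3 : u' * h * u'⁻¹ = h := by
        have h4 : u' * (u' * h * u'⁻¹) = (u' * h * u'⁻¹) * u' := h2
        have h5 : u' * h = (u' * h * u'⁻¹) * u' := by group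
        rw [← h5] at h4
        exact mul_left_cancel h4
      rwa [h3] at hh
  have hV : IsPGroup p (Subgroup.zpowers u' ⊔ Subgroup.zpowers u : Subgroup X) := IsPGroup.to_sup_of_normal_right' hpu' hpu hnorm
  obtain ⟨R, hR⟩ := hV.exists_le_sylow
  have huR : u ∈ (R : Subgroup X) := hR ((le_sup_right : Subgroup.zpowers u ≤ _) (Subgroup.mem_zpowers u))
  have hu'R : u' ∈ (R : Subgroup X) := hR ((le_sup_left : Subgroup.zpowers u' ≤ _) (Subgroup.mem_zpowers u'))
  have hne1 : (R : Subgroup X) ⊓ (P : Subgroup X) ≠ ⊥ := by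
    intro h
    have : u ∈ (R : Subgroup X) ⊓ (P : Subgroup X) := ⟨huR, hu⟩
    rw [h] at this
    exact hu1 this
  obtain ⟨h₁, hh₁, he₁⟩ := conj_of_inter P H hN R hne1
  have hne2 : ((h₁⁻¹ • (g • P) : Sylow p X) : Subgroup X) ⊓ (P : Subgroup X) ≠ ⊥ := by
    intro h
    have hmem : h₁⁻¹ * u' * h₁ ∈ ((h₁⁻¹ • (g • P) : Sylow p X) : Subgroup X) ⊓ (P : Subgroup X) := by
      refine Subgroup.mem_inf.2 ⟨mem_smul_sylow.2 ?_, ?_⟩
      · have e : h₁⁻¹⁻¹ * (h₁⁻¹ * u' * h₁) * h₁⁻¹ = u' := by group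
        rw [e]
        exact hu'
      · rw [← he₁] at hu'R
        exact mem_smul_sylow.1 hu'R
    rw [h] at hmem
    apply hu'1
    have h1 : h₁⁻¹ * u' * h₁ = 1 := hmem
    have h2 : u' = h₁ * (h₁⁻¹ * u' * h₁) * h₁⁻¹ := by group
    rw [h2, h1]
    group
  obtain ⟨h₂, hh₂, he₂⟩ := conj_of_inter P H hN _ hne2
  have he3 : (g⁻¹ * h₁ * h₂) • P = P := by
    rw [mul_smul, he₂, ← mul_smul, ← mul_smul]
    simp
  have hPne : (P : Subgroup X) ≠ ⊥ := by
    intro h
    rw [h] at hu
    exact hu1 hu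
  have h3 : g⁻¹ * h₁ * h₂ ∈ H := hN P le_rfl hPne (Sylow.smul_eq_iff_mem_normalizer.1 he3)
  have h4 : g⁻¹ ∈ H := by
    have e : g⁻¹ = (g⁻¹ * h₁ * h₂) * h₂⁻¹ * h₁⁻¹ := by group
    rw [e]
    exact H.mul_mem (H.mul_mem h3 (H.inv_mem hh₂)) (H.inv_mem hh₁)
  simpa using H.inv_mem h4

end Link

section Main

variable {Ω : Type*} [Group Ω] {S : Subgroup Ω} [Finite S] {F : FusionSystem S} {p : ℕ} [hp : Fact p.Prime]

/-- Two "transvections" with centres fixed by each other commute. -/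
theorem commute_of_transvections {E : Type*} [Group E] (hcomm : ∀ a b : E, a * b = b * a) (u u' : MulAut E) (W W' : Subgroup E)
    (hu : ∀ e, u e * e⁻¹ ∈ W) (hu' : ∀ e, u' e * e⁻¹ ∈ W') (hfix : ∀ w ∈ W, u' w = w) (hfix' : ∀ w ∈ W', u w = w) : u * u' = u' * u := by
  ext e
  show u (u' e) = u' (u e)
  have e1 : u' e = (u' e * e⁻¹) * e := by group
  have e2 : u e = (u e * e⁻¹) * e := by group
  have h1 : u (u' e) = (u' e * e⁻¹) * ((u e * e⁻¹) * e) := by
    rw [e1, map_mul, hfix' _ (hu' e)]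
    simp
  have h2 : u' (u e) = (u e * e⁻¹) * ((u' e * e⁻¹) * e) := by
    rw [e2, map_mul, hfix _ (hu e)]
    simp
  rw [h1, h2]
  calc (u' e * e⁻¹) * ((u e * e⁻¹) * e) = (u' e * e⁻¹) * (u e * e⁻¹) * e := (mul_assoc _ _ _).symm
    _ = (u e * e⁻¹) * (u' e * e⁻¹) * e := by rw [hcomm (u' e * e⁻¹) (u e * e⁻¹)]
    _ = _ := mul_assoc _ _ _

/-- In a group with `[G,G] ≤ Z(G)`, `|Z(G)| = p`, `|G| ≥ p⁵`: outside a proper abelian subgroup every element has commuting partners. -/
theorem exists_comm_outside {G : Type*} [Group G] [Finite G] (hcm : ∀ x y : G, x * y * x⁻¹ * y⁻¹ ∈ Subgroup.center G)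
    (hZ : Nat.card (Subgroup.center G) = p) (h5 : p ^ 5 ≤ Nat.card G) (E₀ : Subgroup G) (hab : ∀ a ∈ E₀, ∀ b ∈ E₀, a * b = b * a) (hne : E₀ ≠ ⊤) (w : G) :
    ∃ x, x ∉ E₀ ∧ x * w = w * x := by
  have hpp := hp.out
  by_contra hcon
  push Not at hcon
  have hle : (commHom w (fun x => hcm x w)).ker ≤ E₀ := by
    intro x hx
    by_contra hxE
    exact hcon x hxE ((mem_ker_commHom w _ x).1 hx)
  have hidx : ∀ y : G, (commHom y (fun x => hcm x y)).ker.index ∣ p := by
    intro y
    rw [Subgroup.index_ker]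
    have := Subgroup.card_subgroup_dvd_card (commHom y (fun x => hcm x y)).range
    rwa [hZ] at this
  have h1 : E₀.index ∣ p := (Subgroup.index_dvd_of_le hle).trans (hidx w)
  have h2 : E₀.index ≠ 1 := fun h => hne (Subgroup.index_eq_one.1 h)
  have h3 : E₀.index = p := ((Nat.dvd_prime hpp).1 h1).resolve_left h2
  obtain ⟨x, hx⟩ : ∃ x, x ∉ E₀ := by
    by_contra hall
    push Not at hall
    exact hne ((Subgroup.eq_top_iff' E₀).2 hall)
  -- the kernel on `E₀` is central
  let f₀ : E₀ →* Subgroup.center G := (commHom x (fun y => hcm y x)).comp E₀.subtype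
  have hker : Nat.card f₀.ker ≤ p := by
    rw [← hZ]
    let ι : f₀.ker → Subgroup.center G := fun k => ⟨((k : E₀) : G), by
      rw [Subgroup.mem_center_iff]
      intro g
      have hk0 : commHom x (fun y => hcm y x) ((k : E₀) : G) = 1 := MonoidHom.mem_ker.1 k.2
      have hk1 : ((k : E₀) : G) * x = x * ((k : E₀) : G) := (mem_ker_commHom x _ _).1 (MonoidHom.mem_ker.2 hk0)
      have hc : Subgroup.centralizer {((k : E₀) : G)} = ⊤ := by
        have hcoat : E₀ ⊔ Subgroup.zpowers x = ⊤ := by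
          have hc' : IsCoatom E₀ := Cfsg.Agent.Lib.Transfer.isCoatom_of_index_prime (by rw [h3]; exact hpp)
          refine hc'.2 _ (lt_of_le_of_ne le_sup_left ?_)
          intro h
          apply hx
          rw [h]
          exact (le_sup_right : Subgroup.zpowers x ≤ _) (Subgroup.mem_zpowers x)
        rw [eq_top_iff, ← hcoat]
        refine sup_le (fun a ha => ?_) ?_
        · rw [Subgroup.mem_centralizer_iff]
          intro h hh
          have hh' : h = ((k : E₀) : G) := hh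
          rw [hh']
          exact hab _ (k : E₀).2 _ ha
        · rw [Subgroup.zpowers_le, Subgroup.mem_centralizer_iff]
          intro h hh
          have hh' : h = ((k : E₀) : G) := hh
          rw [hh']
          exact hk1
      have h5 : g ∈ Subgroup.centralizer {((k : E₀) : G)} := by
        rw [hc]
        trivial
      exact ((Subgroup.mem_centralizer_iff.1 h5) _ rfl).symm⟩
    refine Nat.card_le_card_of_injective ι (fun a b hab => ?_)
    exact Subtype.ext (Subtype.ext (congrArg (fun t : Subgroup.center G => (t : G)) hab))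
  have hrange : Nat.card f₀.range ≤ p := by
    rw [← hZ]
    exact Nat.card_le_card_of_injective _ Subtype.val_injective
  have hE₀c : Nat.card E₀ ≤ p * p := by
    have h4 := Subgroup.card_mul_index f₀.ker
    rw [Subgroup.index_ker] at h4
    rw [← h4]
    exact Nat.mul_le_mul hker hrange
  have h6 := Subgroup.card_mul_index E₀
  rw [h3] at h6
  have h7 : Nat.card G ≤ p * p * p := by
    rw [← h6]
    exact Nat.mul_le_mul_right p hE₀c
  have h8 : p * p * p < p ^ 5 := by
    have h9 : p ^ 3 < p ^ 5 := Nat.pow_lt_pow_right hpp.one_lt (by norm_num)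
    have h10 : p * p * p = p ^ 3 := by ring
    omega
  omega

/-- **An essential subgroup inside an extraspecial subgroup of order at least `p⁵` equals it.** -/
theorem essential_eq_of_le_extraspecial (hS : IsPGroup p S) {Q : Subgroup Ω} (hQS : Q ≤ S) (hQ : IsExtraspecial p Q) (h5 : p ^ 5 ≤ Nat.card Q)
    {E : Subgroup Ω} (hEQ : E ≤ Q) (hE : F.IsEssential p E) : E = Q := by
  have hpp := hp.out
  by_contra hne
  haveI : Finite Q := finite_of_le hQS
  have hES : E ≤ S := hE.1.1
  haveI : Finite E := finite_of_le hES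
  have hEp : IsPGroup p E := hS.to_le hES
  have hZ : Nat.card (Subgroup.center Q) = p := hQ.2
  have hcm : ∀ x y : Q, x * y * x⁻¹ * y⁻¹ ∈ Subgroup.center Q := by
    intro x y
    rw [← hQ.1.2.2, ← commutatorElement_def, commutator_def]
    exact Subgroup.commutator_mem_commutator trivial trivial
  -- `Z` in `Ω`
  have hcQ : ∀ c ∈ Subgroup.centralizer (E : Set Ω), c ∈ Q → c ∈ E := by
    intro c hc hcQ
    exact hE.1.2 E (isConj_refl hES) ⟨hQS hcQ, hc⟩
  have hZE : ∀ w : Q, w ∈ Subgroup.center Q → (w : Ω) ∈ E := by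
    intro w hw
    refine hcQ _ (Subgroup.mem_centralizer_iff.2 (fun e he => ?_)) w.2
    exact congrArg Subtype.val (Subgroup.mem_center_iff.1 hw ⟨e, hEQ he⟩)
  have hconj : ∀ x : Q, ∀ e ∈ E, (x : Ω) * e * (x : Ω)⁻¹ ∈ E := by
    intro x e he
    have h1 := hZE _ (hcm x ⟨e, hEQ he⟩)
    have e1 : (x : Ω) * e * (x : Ω)⁻¹ = (((x * ⟨e, hEQ he⟩ * x⁻¹ * (⟨e, hEQ he⟩ : Q)⁻¹ : Q) : Q) : Ω) * e := by
      show _ = (x : Ω) * e * (x : Ω)⁻¹ * e⁻¹ * e
      group
    rw [e1]
    exact E.mul_mem h1 he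
  have hQN : ∀ x : Q, (x : Ω) ∈ normalizerIn S E := by
    intro x
    refine ⟨hQS x.2, ?_⟩
    show (x : Ω) ∈ Subgroup.normalizer (E : Set Ω)
    rw [Subgroup.mem_normalizer_iff]
    intro e
    constructor
    · exact hconj x e
    · intro he
      have h1 := hconj x⁻¹ _ he
      have e1 : ((x⁻¹ : Q) : Ω) * ((x : Ω) * e * (x : Ω)⁻¹) * ((x⁻¹ : Q) : Ω)⁻¹ = e := by
        simp only [InvMemClass.coe_inv]
        group
      rwa [e1] at h1
  let c : Q → MulAut E := fun x => autOfNormalizer (hQN x).2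
  have hcv : ∀ (x : Q) (e : E), ((c x e : E) : Ω) = (x : Ω) * e * (x : Ω)⁻¹ := fun _ _ => rfl
  have hcA : ∀ x : Q, c x ∈ F.autGroup E := fun x => autOfNormalizer_mem_autGroup hES (hQN x)
  have hcone : ∀ x : Q, c x = 1 → (x : Ω) ∈ E := by
    intro x hx
    refine hcQ _ (Subgroup.mem_centralizer_iff.2 (fun e he => ?_)) x.2
    have h1 := congrArg (fun a : MulAut E => ((a ⟨e, he⟩ : E) : Ω)) hx
    have h2 : (x : Ω) * e * (x : Ω)⁻¹ = e := h1
    calc e * (x : Ω) = ((x : Ω) * e * (x : Ω)⁻¹) * x := by rw [h2]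
      _ = _ := by group
  by_cases hab : ∀ a b : E, a * b = b * a
  · -- abelian
    haveI : Nontrivial (Subgroup.center Q) := by
      rw [← Finite.one_lt_card_iff_nontrivial, hZ]
      exact hpp.one_lt
    obtain ⟨⟨w₀, hw₀⟩, hw₀1⟩ := exists_ne (1 : Subgroup.center Q)
    set zh : E := ⟨w₀, hZE w₀ hw₀⟩ with hzh
    set W := Subgroup.zpowers zh with hW
    have hgen : ∀ v : Q, v ∈ Subgroup.center Q → ∃ w ∈ W, (w : Ω) = v := by
      intro v hv
      haveI : Fact (Nat.card (Subgroup.center Q)).Prime := ⟨by rw [hZ]; exact hpp⟩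
      have htop := zpowers_eq_top_of_prime_card (G := Subgroup.center Q) (p := Nat.card (Subgroup.center Q)) (g := ⟨w₀, hw₀⟩) rfl hw₀1
      have hmem : (⟨v, hv⟩ : Subgroup.center Q) ∈ Subgroup.zpowers (⟨w₀, hw₀⟩ : Subgroup.center Q) := by
        rw [htop]
        trivial
      obtain ⟨i, hi⟩ := Subgroup.mem_zpowers_iff.1 hmem
      refine ⟨zh ^ i, Subgroup.zpow_mem_zpowers _ _, ?_⟩
      have h1 := congrArg (fun t : Subgroup.center Q => ((t : Q) : Ω)) hi
      simpa [hzh] using h1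
    have hcW : ∀ (x : Q) (e : E), c x e * e⁻¹ ∈ W := by
      intro x e
      obtain ⟨w, hw, hwv⟩ := hgen _ (hcm x ⟨e, hEQ e.2⟩)
      have : c x e * e⁻¹ = w := by
        apply Subtype.ext
        rw [hwv]
        rfl
      rw [this]
      exact hw
    have hE₀ne : E.subgroupOf Q ≠ ⊤ := by
      intro h
      apply hne
      apply le_antisymm hEQ
      intro x hx
      have : (⟨x, hx⟩ : Q) ∈ E.subgroupOf Q := by
        rw [h]
        trivial
      exact this
    have hQ5 : ∀ e : E, ∃ x : Q, (x : Ω) ∉ E ∧ c x e = e := by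
      intro e
      obtain ⟨x, hxE, hx⟩ := exists_comm_outside hcm hZ h5 (E.subgroupOf Q) (fun a ha b hb =>
        Subtype.ext (show ((a : Q) : Ω) * (b : Q) = (b : Q) * (a : Q) from congrArg Subtype.val (hab ⟨a.1, ha⟩ ⟨b.1, hb⟩))) hE₀ne ⟨e, hEQ e.2⟩
      refine ⟨x, hxE, Subtype.ext ?_⟩
      have h1 : (x : Ω) * e = e * x := congrArg Subtype.val hx
      rw [hcv, h1]
      group
    have hL : ∀ g' : MulAut E, ∃ x₁ x₂ : Q, (x₁ : Ω) ∉ E ∧ (x₂ : Ω) ∉ E ∧ c x₁ * (g' * c x₂ * g'⁻¹) = (g' * c x₂ * g'⁻¹) * c x₁ := by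
      intro g'
      obtain ⟨x₁, hx₁, h₁⟩ := hQ5 (g' zh)
      obtain ⟨x₂, hx₂, h₂⟩ := hQ5 (g'⁻¹ zh)
      refine ⟨x₁, x₂, hx₁, hx₂, commute_of_transvections hab (c x₁) (g' * c x₂ * g'⁻¹) W (W.map g'.toMonoidHom) (hcW x₁) ?_ ?_ ?_⟩
      · intro e
        have e1 : (g' * c x₂ * g'⁻¹) e * e⁻¹ = g' (c x₂ (g'⁻¹ e) * (g'⁻¹ e)⁻¹) := by
          rw [map_mul, map_inv]
          simp
        rw [e1]
        exact ⟨_, hcW x₂ _, rfl⟩
      · intro w hw
        obtain ⟨i, rfl⟩ := Subgroup.mem_zpowers_iff.1 hw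
        rw [map_zpow]
        congr 1
        show g' (c x₂ (g'⁻¹ zh)) = zh
        rw [h₂]
        simp
      · rintro _ ⟨w, hw, rfl⟩
        obtain ⟨i, rfl⟩ := Subgroup.mem_zpowers_iff.1 hw
        show c x₁ (g' (zh ^ i)) = g' (zh ^ i)
        rw [map_zpow, map_zpow, h₁]
    obtain ⟨-, -, hN, Y, hYs⟩ := hE
    obtain ⟨-, hYne, P, hP⟩ := hYs
    haveI := hN
    let π : F.autGroup E →* (F.autGroup E ⧸ (Inn E).subgroupOf (F.autGroup E)) := QuotientGroup.mk' _
    have hπ1 : ∀ v : F.autGroup E, π v = 1 → (v : MulAut E) = 1 := by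
      intro v hv
      have h1 : v ∈ (Inn E).subgroupOf (F.autGroup E) := (QuotientGroup.eq_one_iff v).1 hv
      obtain ⟨e, he⟩ := h1
      have he' : (v : MulAut E) = MulAut.conj e := he.symm
      rw [he']
      ext y
      show ((e * y * e⁻¹ : E) : Ω) = y
      rw [hab e y]
      simp
    have hNor : ∀ B : Subgroup (F.autGroup E ⧸ (Inn E).subgroupOf (F.autGroup E)), B ≤ P → B ≠ ⊥ → Subgroup.normalizer (B : Set _) ≤ Y :=
      fun B hB hne => (normalizer_le_kGeneratedCore hB (not_pRankLE_zero_of_ne_bot (P.isPGroup'.to_le hB) hne)).trans hP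
    let cH : Q →* F.autGroup E :=
      { toFun := fun x => ⟨c x, hcA x⟩
        map_one' := by
          apply Subtype.ext
          ext y
          show (1 : Ω) * y * (1 : Ω)⁻¹ = y
          group
        map_mul' := fun x y => by
          apply Subtype.ext
          ext e
          show ((x : Ω) * y) * e * ((x : Ω) * y)⁻¹ = (x : Ω) * ((y : Ω) * e * (y : Ω)⁻¹) * (x : Ω)⁻¹
          group }
    have hQp : IsPGroup p ↥Q := hS.to_le hQS
    have hUp : IsPGroup p (π.comp cH).range := hQp.of_surjective (π.comp cH).rangeRestrict (MonoidHom.rangeRestrict_surjective _)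
    obtain ⟨P', hP'⟩ := hUp.exists_le_sylow
    obtain ⟨a, ha⟩ := MulAction.exists_smul_eq (F.autGroup E ⧸ (Inn E).subgroupOf (F.autGroup E)) P' P
    obtain ⟨a₀, rfl⟩ := QuotientGroup.mk'_surjective _ a
    have hmemP : ∀ x : Q, π (a₀ * cH x * a₀⁻¹) ∈ (P : Subgroup _) := by
      intro x
      rw [← ha, mem_smul_sylow]
      have h1 : π (cH x) ∈ (P' : Subgroup _) := hP' ⟨x, rfl⟩
      have e : (QuotientGroup.mk' ((Inn E).subgroupOf (F.autGroup E)) a₀)⁻¹ * π (a₀ * cH x * a₀⁻¹) * (QuotientGroup.mk' ((Inn E).subgroupOf (F.autGroup E)) a₀) = π (cH x) := by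
        show (π a₀)⁻¹ * π (a₀ * cH x * a₀⁻¹) * π a₀ = _
        rw [map_mul, map_mul, map_inv]
        group
      rw [e]
      exact h1
    have hne1 : ∀ x : Q, (x : Ω) ∉ E → ∀ b : F.autGroup E, π (b * cH x * b⁻¹) ≠ 1 := by
      intro x hx b h
      have h1 := hπ1 _ h
      apply hx
      apply hcone
      have h2 : (b : MulAut E) * c x * (b : MulAut E)⁻¹ = 1 := h1
      have h3 : c x = (b : MulAut E)⁻¹ * ((b : MulAut E) * c x * (b : MulAut E)⁻¹) * (b : MulAut E) := by group
      rw [h3, h2]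
      group
    have htop : ∀ g : F.autGroup E ⧸ (Inn E).subgroupOf (F.autGroup E), g ∈ Y := by
      intro g
      obtain ⟨g₀, rfl⟩ := QuotientGroup.mk'_surjective _ g
      obtain ⟨x₁, x₂, hx₁, hx₂, hcomm⟩ := hL (((a₀⁻¹ * g₀ * a₀ : F.autGroup E)) : MulAut E)
      refine mem_of_link P Y hNor (hmemP x₁) (hne1 x₁ hx₁ a₀) (u' := π ((g₀ * a₀) * cH x₂ * (g₀ * a₀)⁻¹)) ?_ (hne1 x₂ hx₂ _) ?_
      · rw [mem_smul_sylow]
        have e : (QuotientGroup.mk' ((Inn E).subgroupOf (F.autGroup E)) g₀)⁻¹ * π ((g₀ * a₀) * cH x₂ * (g₀ * a₀)⁻¹) * (QuotientGroup.mk' ((Inn E).subgroupOf (F.autGroup E)) g₀) = π (a₀ * cH x₂ * a₀⁻¹) := by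
          show (π g₀)⁻¹ * π ((g₀ * a₀) * cH x₂ * (g₀ * a₀)⁻¹) * π g₀ = _
          simp only [map_mul, map_inv]
          group
        rw [e]
        exact hmemP x₂
      · rw [← map_mul, ← map_mul]
        congr 1
        apply Subtype.ext
        show (a₀ : MulAut E) * c x₁ * (a₀ : MulAut E)⁻¹ * (((g₀ : MulAut E) * a₀) * c x₂ * ((g₀ : MulAut E) * a₀)⁻¹) =
          (((g₀ : MulAut E) * a₀) * c x₂ * ((g₀ : MulAut E) * a₀)⁻¹) * ((a₀ : MulAut E) * c x₁ * (a₀ : MulAut E)⁻¹)
        have hcomm' : c x₁ * ((a₀ : MulAut E)⁻¹ * g₀ * a₀ * c x₂ * ((a₀ : MulAut E)⁻¹ * g₀ * a₀)⁻¹) = ((a₀ : MulAut E)⁻¹ * g₀ * a₀ * c x₂ * ((a₀ : MulAut E)⁻¹ * g₀ * a₀)⁻¹) * c x₁ := hcomm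
        have h1 := congrArg (fun t : MulAut E => (a₀ : MulAut E) * t * (a₀ : MulAut E)⁻¹) hcomm'
        beta_reduce at h1
        calc _ = (a₀ : MulAut E) * (c x₁ * ((a₀ : MulAut E)⁻¹ * g₀ * a₀ * c x₂ * ((a₀ : MulAut E)⁻¹ * g₀ * a₀)⁻¹)) * (a₀ : MulAut E)⁻¹ := by group
          _ = _ := h1
          _ = _ := by group
    exact hYne ((Subgroup.eq_top_iff' Y).2 htop)
  · -- nonabelian
    let ι : E →* Q := Subgroup.inclusion hEQ
    have hDle : ∀ d ∈ commutator E, ι d ∈ Subgroup.center Q := by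
      have h1 : commutator E ≤ (Subgroup.center Q).comap ι := by
        rw [commutator_def, Subgroup.commutator_le]
        intro a _ b _
        show ι ⁅a, b⁆ ∈ Subgroup.center Q
        rw [map_commutatorElement, ← hQ.1.2.2, commutator_def]
        exact Subgroup.commutator_mem_commutator trivial trivial
      exact fun d hd => h1 hd
    have hDne : commutator E ≠ ⊥ := by
      intro h
      apply hab
      intro a b
      have h1 : ⁅a, b⁆ ∈ commutator E := by
        rw [commutator_def]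
        exact Subgroup.commutator_mem_commutator trivial trivial
      rw [h] at h1
      have h2 : ⁅a, b⁆ = 1 := h1
      exact commutatorElement_eq_one_iff_mul_comm.1 h2
    have hmapeq : (commutator E).map ι = Subgroup.center Q := by
      have hle : (commutator E).map ι ≤ Subgroup.center Q := by
        rintro _ ⟨d, hd, rfl⟩
        exact hDle d hd
      have h1 : Nat.card ((commutator E).map ι) ∣ p := by
        have := Subgroup.card_dvd_of_le hle
        rwa [hZ] at this
      have hιinj : Function.Injective ι := Subgroup.inclusion_injective hEQ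
      have h2 : Nat.card ((commutator E).map ι) ≠ 1 := by
        intro h
        rw [Subgroup.card_map_of_injective hιinj] at h
        exact hDne (Subgroup.card_eq_one.1 h)
      have h3 := ((Nat.dvd_prime hpp).1 h1).resolve_left h2
      exact Subgroup.eq_of_le_of_card_ge hle (by rw [h3, hZ])
    let cc : ℕ → Subgroup E := fun i => match i with
      | 0 => ⊥
      | 1 => commutator E
      | _ => ⊤
    have hinv : ∀ i ≤ 2, ∀ α ∈ F.autGroup E, ∀ x ∈ cc i, α x ∈ cc i := by
      intro i hi α hα x hx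
      interval_cases i
      · have hx1 : x = 1 := hx
        rw [hx1, map_one]
        exact Subgroup.one_mem _
      · exact aInv_commutator α x hx
      · trivial
    haveI := essStab_normal (F.autGroup E) cc 2 hinv
    have hle := le_inn_of_essential hS hE (essStab (F.autGroup E) cc 2 hinv) (essStab_isPGroup hEp (F.autGroup E) cc 2 hinv rfl rfl)
    have hmem : ∀ x : Q, (⟨c x, hcA x⟩ : F.autGroup E) ∈ essStab (F.autGroup E) cc 2 hinv := by
      intro x i hi y hy
      interval_cases i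
      · have hy1 : y ∈ commutator E := hy
        have h1 := Subgroup.mem_center_iff.1 (hDle y hy1) x
        have h2 : y⁻¹ * c x y = 1 := by
          apply Subtype.ext
          show (y : Ω)⁻¹ * ((x : Ω) * y * (x : Ω)⁻¹) = 1
          have h3 : (x : Ω) * y = y * x := congrArg Subtype.val h1
          rw [h3]
          group
        rw [h2]
        exact Subgroup.one_mem _
      · show y⁻¹ * c x y ∈ commutator E
        have h1 : ((y⁻¹ * c x y : E) : Ω) = (((ι y)⁻¹ * x * (ι y) * x⁻¹ : Q) : Ω) := by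
          show (y : Ω)⁻¹ * ((x : Ω) * y * (x : Ω)⁻¹) = (y : Ω)⁻¹ * x * y * (x : Ω)⁻¹
          group
        have h2 : (ι y)⁻¹ * x * (ι y) * x⁻¹ ∈ Subgroup.center Q := by
          have := hcm (ι y)⁻¹ x
          simpa using this
        rw [← hmapeq] at h2
        obtain ⟨d, hd, hdv⟩ := h2
        have h3 : y⁻¹ * c x y = d := by
          apply Subtype.ext
          rw [h1, ← hdv]
          rfl
        rw [h3]
        exact hd
    apply hne
    apply le_antisymm hEQ
    intro x hx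
    have h1 := hle (hmem ⟨x, hx⟩)
    obtain ⟨e, he⟩ : (c ⟨x, hx⟩) ∈ Inn E := h1
    have hcent : (e : Ω)⁻¹ * x ∈ Subgroup.centralizer (E : Set Ω) := by
      refine Subgroup.mem_centralizer_iff.2 (fun y hy => ?_)
      have h2 := congrArg (fun a : MulAut E => ((a ⟨y, hy⟩ : E) : Ω)) he
      have h3 : (e : Ω) * y * (e : Ω)⁻¹ = x * y * x⁻¹ := h2
      have h4 : y * ((e : Ω)⁻¹ * x) * ((e : Ω)⁻¹ * x)⁻¹ * y⁻¹ = 1 := by group
      calc y * ((e : Ω)⁻¹ * x) = (e : Ω)⁻¹ * ((e : Ω) * y * (e : Ω)⁻¹) * x := by group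
        _ = (e : Ω)⁻¹ * (x * y * x⁻¹) * x := by rw [h3]
        _ = _ := by group
    have h5' := hcQ _ hcent (Q.mul_mem (Q.inv_mem (hEQ e.2)) hx)
    have e1 : x = (e : Ω) * ((e : Ω)⁻¹ * x) := by group
    rw [e1]
    exact E.mul_mem e.2 h5'

end Main

end Cfsg.Agent.Lib.Fusion
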