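import Cfsg.Agent.Lib.Fusion.Invariant

/-!
# Invariant subsystems: the equivalence with strong invariance
-/

set_option autoImplicit false
set_option linter.unusedSectionVars false
set_option linter.style.haveILetI false

namespace Cfsg.Agent.Lib.Fusion

open Cfsg Cfsg.FusionSystem

variable {Ω : Type*} [Group Ω] {S T : Subgroup Ω} {F : FusionSystem S} {E : FusionSystem T}

/-- The image of `P` under an automorphism of `T`, in the form of the definition of invariance. -/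
theorem isImage_fn_map {P : Subgroup Ω} (hPT : P ≤ T) (α : MulAut T) :
    IsImage (fn α) P ((P.subgroupOf T).map (T.subtype.comp α.toMonoidHom)) := by
  intro y
  constructor
  · rintro ⟨t, ht, rfl⟩
    exact ⟨t, ht, fn_coe α t⟩
  · rintro ⟨x, hx, rfl⟩
    exact ⟨⟨x, hPT hx⟩, hx, (fn_of_mem α (hPT hx)).symm⟩

/-- The third clause of invariance gives `AutInv`. -/
theorem autInv_of_invariant
    (hi : ∀ (P : Subgroup Ω) (hPT : P ≤ T) (φ : P →* Ω), φ ∈ E.Hom P → ∀ α ∈ F.autGroup T,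
      ∃ χ ∈ E.Hom ((P.subgroupOf T).map (T.subtype.comp α.toMonoidHom)),
        ∀ (x : P) (hφx : φ x ∈ T)
          (hαx : ((α ⟨x, hPT x.2⟩ : T) : Ω) ∈ (P.subgroupOf T).map (T.subtype.comp α.toMonoidHom)),
          χ ⟨(α ⟨x, hPT x.2⟩ : T), hαx⟩ = ((α ⟨φ x, hφx⟩ : T) : Ω)) : AutInv E F := by
  intro P f hPT hf α hα P' hP'
  obtain ⟨φ, hφ, hv⟩ := hf
  obtain ⟨χ, hχ, hχv⟩ := hi P hPT φ hφ α hα
  have hX := isImage_fn_map hPT α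
  obtain rfl : P' = (P.subgroupOf T).map (T.subtype.comp α.toMonoidHom) := hP'.unique hX
  refine ⟨χ, hχ, fun y => ?_⟩
  obtain ⟨x, hx, e⟩ := hX.exists_of_mem y.2
  have hxT := hPT hx
  have hφT : φ ⟨x, hx⟩ ∈ T := val_mem hφ _
  have hαx : ((α ⟨x, hxT⟩ : T) : Ω) ∈ (P.subgroupOf T).map (T.subtype.comp α.toMonoidHom) := ⟨⟨x, hxT⟩, hx, rfl⟩
  have hy : y = ⟨((α ⟨x, hxT⟩ : T) : Ω), hαx⟩ := Subtype.ext (by
    rw [← e, fn_of_mem α hxT])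
  have h2 := hχv ⟨x, hx⟩ hφT hαx
  rw [hy]
  show χ ⟨((α ⟨x, hxT⟩ : T) : Ω), hαx⟩ = fn α (f (fn α⁻¹ ((α ⟨x, hxT⟩ : T) : Ω)))
  have e1 : fn α⁻¹ ((α ⟨x, hxT⟩ : T) : Ω) = x := by
    rw [← fn_of_mem α hxT, fn_inv_fn α hxT]
  rw [e1, ← hv ⟨x, hx⟩, fn_of_mem α hφT]
  exact h2

variable [Finite S] {p : ℕ} [hp : Fact p.Prime]

/-- **A subsystem on a strongly closed subgroup is invariant iff it is strongly invariant.** -/
theorem isInvariantIn_iff (hS : IsPGroup p S) (hF : F.IsSaturated p) (hE : E.IsSubsystemOf F) (hT : F.StronglyClosed T) :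
    E.IsInvariantIn F ↔ ∀ (P Q : Subgroup Ω) (hPQ : P ≤ Q) (_ : Q ≤ T) (φ : P →* Ω) (_ : φ ∈ E.Hom P) (hφQ : ∀ x : P, φ x ∈ Q)
      (ψ : Q →* Ω) (_ : ψ ∈ F.Hom Q), ∃ χ ∈ E.Hom ((P.subgroupOf Q).map ψ),
        ∀ (x : P) (hx : ψ (Subgroup.inclusion hPQ x) ∈ (P.subgroupOf Q).map ψ),
          χ ⟨ψ (Subgroup.inclusion hPQ x), hx⟩ = ψ ⟨φ x, hφQ x⟩ := by
  have hTS : T ≤ S := hT.1
  constructor
  · rintro ⟨-, -, hi, hfr⟩ P Q hPQ hQT φ hφ hφQ ψ hψ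
    have hinv := autInv_of_invariant hi
    obtain ⟨α, hα, φ₀, hφ₀, hv⟩ := hfr Q hQT ψ hψ
    have hg₀ : IsMapOn E Q (toFun φ₀) := isMapOn_toFun hφ₀
    have hf : IsMapOn E P (toFun φ) := isMapOn_toFun hφ
    obtain ⟨Q₁, hQ₁⟩ := hg₀.exists_image le_rfl
    obtain ⟨g₁, hg₁, hg₁i, hg₁l, hg₁r⟩ := hg₀.exists_inv hQ₁
    obtain ⟨P₁, hP₁⟩ := hg₀.exists_image hPQ
    have hP₁Q₁ : P₁ ≤ Q₁ := by
      intro y hy
      obtain ⟨x, hx, rfl⟩ := hP₁.exists_of_mem hy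
      exact hQ₁.mem (hPQ hx)
    have hg₁P : ∀ y ∈ P₁, g₁ y ∈ P := by
      intro y hy
      obtain ⟨x, hx, rfl⟩ := hP₁.exists_of_mem hy
      rw [hg₁l x (hPQ hx)]
      exact hx
    have hφQ' : ∀ x ∈ P, toFun φ x ∈ Q := by
      intro x hx
      rw [toFun_of_mem φ hx]
      exact hφQ _
    have h₁ : IsMapOn E P₁ (fun y => toFun φ₀ (toFun φ (g₁ y))) :=
      ((hg₁.mono hP₁Q₁).comp hf hg₁P).comp hg₀ (fun y hy => hφQ' _ (hg₁P y hy))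
    have hP₁T : P₁ ≤ T := IsImage.le_S hg₀ hPQ hP₁
    have hval : ∀ x ∈ Q, toFun ψ x = fn α (toFun φ₀ x) := by
      intro x hx
      rw [toFun_of_mem ψ hx, toFun_of_mem φ₀ hx, hv ⟨x, hx⟩ (val_mem hφ₀ _), fn_of_mem α (val_mem hφ₀ _)]
    have him : IsImage (fn α) P₁ ((P.subgroupOf Q).map ψ) := by
      intro y
      constructor
      · rintro ⟨x, hx, rfl⟩
        have hxP : (x : Ω) ∈ P := hx
        refine ⟨toFun φ₀ x, hP₁.mem hxP, ?_⟩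
        rw [← hval x x.2, toFun_coe]
      · rintro ⟨z, hz, rfl⟩
        obtain ⟨x, hx, rfl⟩ := hP₁.exists_of_mem hz
        exact ⟨⟨x, hPQ hx⟩, hx, by
          show ψ ⟨x, hPQ hx⟩ = _
          rw [← toFun_of_mem ψ (hPQ hx), hval x (hPQ hx)]⟩
    obtain ⟨χ, hχ, hχv⟩ := hinv P₁ _ hP₁T h₁ α hα _ him
    refine ⟨χ, hχ, fun x hx => ?_⟩
    have hxQ : (x : Ω) ∈ Q := hPQ x.2
    have h3 := hχv ⟨_, hx⟩
    rw [h3]
    show fn α (toFun φ₀ (toFun φ (g₁ (fn α⁻¹ (ψ (Subgroup.inclusion hPQ x)))))) = _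
    have h4 : ψ (Subgroup.inclusion hPQ x) = fn α (toFun φ₀ x) := by
      rw [← hval x hxQ, toFun_of_mem ψ hxQ]
      rfl
    rw [h4, fn_inv_fn α (hg₀.mem_S hxQ), hg₁l _ hxQ, toFun_coe, ← hval _ (hφQ x), toFun_of_mem ψ (hφQ x)]
  · intro h
    have hSI : StrongInv E F := by
      intro P Q f g g' hPQ hQT hf hfQ hg P' hP' hg'
      obtain ⟨φ, hφ, hv⟩ := hf
      obtain ⟨ψ, hψ, hw⟩ := hg
      have hφQ : ∀ x : P, φ x ∈ Q := fun x => by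
        rw [hv]
        exact hfQ x x.2
      obtain ⟨χ, hχ, hχv⟩ := h P Q hPQ hQT φ hφ hφQ ψ hψ
      have hX : IsImage g P ((P.subgroupOf Q).map ψ) := by
        intro y
        constructor
        · rintro ⟨x, hx, rfl⟩
          exact ⟨x, hx, (hw x).symm⟩
        · rintro ⟨x, hx, rfl⟩
          exact ⟨⟨x, hPQ hx⟩, hx, hw _⟩
      obtain rfl : P' = (P.subgroupOf Q).map ψ := hP'.unique hX
      refine ⟨χ, hχ, fun y => ?_⟩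
      obtain ⟨x, hx, e⟩ := hX.exists_of_mem y.2
      have hmem : ψ (Subgroup.inclusion hPQ ⟨x, hx⟩) ∈ (P.subgroupOf Q).map ψ := ⟨⟨x, hPQ hx⟩, hx, rfl⟩
      have hy : y = ⟨ψ (Subgroup.inclusion hPQ ⟨x, hx⟩), hmem⟩ := Subtype.ext (by
        rw [← e]
        exact (hw ⟨x, hPQ hx⟩).symm)
      rw [hy, hχv ⟨x, hx⟩ hmem]
      show ψ ⟨φ ⟨x, hx⟩, hφQ ⟨x, hx⟩⟩ = g (f (g' (ψ (Subgroup.inclusion hPQ ⟨x, hx⟩))))
      have h5 : ψ (Subgroup.inclusion hPQ ⟨x, hx⟩) = g x := hw ⟨x, hPQ hx⟩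
      have e2 : ψ ⟨φ ⟨x, hx⟩, hφQ ⟨x, hx⟩⟩ = g (φ ⟨x, hx⟩) := hw _
      rw [e2, h5, hg' x hx, hv]
    refine ⟨hE, hT, fun P hPT φ hφ α hα => ?_, fun P hPT φ hφ => ?_⟩
    · obtain ⟨χ, hχ, hχv⟩ := h P T hPT le_rfl φ hφ (fun x => val_mem hφ x) (T.subtype.comp α.toMonoidHom) ((mem_autGroup_iff hTS).1 hα)
      exact ⟨χ, hχ, fun x hφx hαx => hχv x hαx⟩
    · obtain ⟨α, hα, f₀, hf₀, hv⟩ := fr_of_strong hS hF hE hT hSI P hPT _ (isMapOn_toFun hφ)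
      obtain ⟨φ₀, hφ₀, hφ₀v⟩ := hf₀
      refine ⟨α, hα, φ₀, hφ₀, fun x hx => ?_⟩
      rw [← toFun_coe φ x, hv x x.2, ← hφ₀v x, fn_of_mem α hx]

end Cfsg.Agent.Lib.Fusion
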