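import Cfsg.Agent.Lib.Fusion.NormalGroup
import Cfsg.Agent.Lib.Fusion.Hyperfocal
import Cfsg.Agent.Lib.Fusion.Solv

/-!
# Subsystems of `p`-power index: uniqueness and comparison
-/

set_option autoImplicit false
set_option linter.unusedSectionVars false
set_option linter.style.haveILetI false

namespace Cfsg.Agent.Lib.Fusion

open Cfsg Cfsg.FusionSystem

section general

variable {Ω : Type*} [Group Ω] {S T U : Subgroup Ω} {F : FusionSystem S} {E : FusionSystem T} {D : FusionSystem U}

theorem le_of_subsystem (h : E.IsSubsystemOf F) : T ≤ S :=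
  le_of_hom (h T (E.conj_mem le_rfl T.one_mem))

theorem autGroup_le_of_subsystem (hEF : E.IsSubsystemOf F) {P : Subgroup Ω} (hP : P ≤ T) :
    E.autGroup P ≤ F.autGroup P := by
  intro α hα
  exact (mem_autGroup_iff (hP.trans (le_of_subsystem hEF))).2 (hEF P ((mem_autGroup_iff hP).1 hα))

variable {p : ℕ}

/-- The inclusion carries `O^p(Aut_E(P))` into `O^p(Aut_F(P))`. -/
theorem pResidual_map_le_of_subsystem (hEF : E.IsSubsystemOf F) {P : Subgroup Ω} (hP : P ≤ T) :
    (pResidual p (E.autGroup P)).map (E.autGroup P).subtype ≤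
      (pResidual p (F.autGroup P)).map (F.autGroup P).subtype := by
  rintro _ ⟨v, hv, rfl⟩
  have h := Cfsg.Agent.Lib.LocalEven.pResidual_map_le (p := p)
    (Subgroup.inclusion (autGroup_le_of_subsystem hEF hP)) ⟨v, hv, rfl⟩
  exact ⟨_, h, rfl⟩

variable [Finite T] [hp : Fact p.Prime]

/-- A saturated subsystem `E` of `F` is contained in each system containing the `O^p(Aut_F(P))` and the inner maps
of the group of `E`. -/
theorem isSubsystem_of_pResidual_le (hpT : IsPGroup p T) (hE : E.IsSaturated p) (hEF : E.IsSubsystemOf F) (hTU : T ≤ U)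
    (h : ∀ P : Subgroup Ω, P ≤ T → (pResidual p (F.autGroup P)).map (F.autGroup P).subtype ≤ D.autGroup P) :
    E.IsSubsystemOf D := by
  intro P φ hφ
  refine alperin_induction (Φ := fun P φ => φ ∈ D.Hom P) hpT hE ?_ ?_ ?_ ?_ hφ
  · intro P g hP hg
    exact D.conj_mem (hP.trans hTU) (hTU hg)
  · intro P Q φ ψ _ _ h1 h2 h3
    exact D.comp_mem h1 h2 h3
  · intro P φ ψ _ _ hψx h1
    obtain ⟨ψ', hψ', hψ'x⟩ := D.inv_mem h1
    have : ψ = ψ' := by
      ext ⟨_, x, rfl⟩
      exact (hψx x).trans (hψ'x x).symm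
    rw [this]
    exact hψ'
  · intro R hR α hα
    have hRT : R ≤ T := by
      rcases hR with rfl | hR
      · exact le_rfl
      · exact hR.1.1
    have hRU := hRT.trans hTU
    have hRa := (fullyNormalized_spec hpT hE (fullyNormalized_of_mem R hR)).2
    obtain ⟨u, v, huv, hu, hv⟩ := exists_autS_mul_pResidual hRa ⟨α, hα⟩
    have h1 : (u : MulAut R) ∈ D.autGroup R := by
      obtain ⟨g, hg, hga⟩ := mem_autInducedBy_iff.1 hu
      exact (mem_autGroup_iff hRU).2 (isIso_of_forall (D.conj_mem hRU (hTU hg)) _ hga)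
    have h2 : (v : MulAut R) ∈ D.autGroup R :=
      h R hRT (pResidual_map_le_of_subsystem hEF hRT ⟨v, hv, rfl⟩)
    have h3 : α ∈ D.autGroup R := by
      have : α = (u : MulAut R) * (v : MulAut R) := congrArg Subtype.val huv
      rw [this]
      exact Subgroup.mul_mem _ h1 h2
    exact (mem_autGroup_iff hRU).1 h3

end general

section unique

variable {Ω : Type*} [Group Ω] {S : Subgroup Ω} {F : FusionSystem S} {p : ℕ} [hp : Fact p.Prime]

/-- **Uniqueness** of the saturated subsystem of `p`-power index over a given subgroup. -/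
theorem hom_eq_of_pPowerIndex [Finite S] (hS : IsPGroup p S) {T₁ T₂ : Subgroup Ω} (hT : T₁ = T₂) {E₁ : FusionSystem T₁} {E₂ : FusionSystem T₂}
    (hE₁ : E₁.IsSaturated p) (hE₂ : E₂.IsSaturated p) (h₁ : E₁.HasPPowerIndexIn F p) (h₂ : E₂.HasPPowerIndexIn F p) :
    ∀ P : Subgroup Ω, E₁.Hom P = E₂.Hom P := by
  subst hT
  have hTS := le_of_subsystem h₁.1
  haveI : Finite T₁ := finite_of_le hTS
  have hpT : IsPGroup p T₁ := hS.to_le hTS
  intro P
  apply Set.Subset.antisymm
  · exact isSubsystem_of_pResidual_le hpT hE₁ h₁.1 le_rfl h₂.2.2 P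
  · exact isSubsystem_of_pResidual_le hpT hE₂ h₂.1 le_rfl h₁.2.2 P

end unique

section group

variable {G : Type*} [Group G] [Finite G] {p : ℕ} [hp : Fact p.Prime]

/-- `O^p(Aut_G(P))` consists of automorphisms induced by elements of `O^p(G)`. -/
theorem pResidual_autGroup_le_of_group (S : Sylow p G) {T : Subgroup G} (hT : T ≤ pResidual p G) (hTS : T ≤ (S : Subgroup G))
    {P : Subgroup G} (hP : P ≤ T) :
    (pResidual p ((groupFusionSystem (S : Subgroup G)).autGroup P)).map ((groupFusionSystem (S : Subgroup G)).autGroup P).subtype ≤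
      (fusionSystemOfSubgroup (pResidual p G) T hT).autGroup P := by
  rw [Subgroup.map_le_iff_le_comap]
  refine (Subgroup.closure_le _).2 fun α hα => ?_
  obtain ⟨g, hg⟩ := (mem_autGroup_gfs (hP.trans hTS)).1 α.2
  obtain ⟨k, hk, hkc⟩ := exists_coprime_power g (orderOf α) hα
  have hpow : ∀ (j : ℕ) (y : P), (((α : MulAut P) ^ j) y : G) = g ^ j * (y : G) * (g ^ j)⁻¹ := by
    intro j
    induction j with
    | zero => intro y; simp
    | succ j ih =>
      intro y
      rw [pow_succ', MulAut.mul_apply, hg, ih, pow_succ']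
      group
  have hαk : (α : MulAut P) ^ k = α := by
    have h1 : α ^ k = α := by
      rw [← pow_mod_orderOf, hk, pow_mod_orderOf, pow_one]
    exact congrArg Subtype.val h1
  have hg' : g ^ k ∈ pResidual p G := Subgroup.subset_closure hkc
  refine (mem_autGroup_iff hP).2 ⟨hP, fun x => hP ((α : MulAut P) x).2, g ^ k, hg', fun x => ?_⟩
  have h2 := hpow k x
  rw [hαk] at h2
  exact h2

/-- **`O^p(F_S(G))` is the system of `O^p(G)`.** -/
theorem pResidual_system (S : Sylow p G)
    (E : FusionSystem ((groupFusionSystem (S : Subgroup G)).hyperfocalSubgroup p))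
    (hE : (groupFusionSystem (S : Subgroup G)).IsPResidual p E) (P : Subgroup G) :
    E.Hom P = (fusionSystemOfSubgroup (pResidual p G) ((S : Subgroup G) ⊓ pResidual p G) inf_le_right).Hom P := by
  have hT := hyp_gfs_eq S
  have hTS : (S : Subgroup G) ⊓ pResidual p G ≤ (S : Subgroup G) := inf_le_left
  have hD : (fusionSystemOfSubgroup (pResidual p G) ((S : Subgroup G) ⊓ pResidual p G) inf_le_right).IsSaturated p :=
    isSaturated_fusionSystemOfSubgroup _ (sylowIn_inf S (pResidual p G))
  refine hom_eq_of_pPowerIndex S.isPGroup' hT hE.1 hD hE.2 ⟨?_, hT.le, ?_⟩ P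
  · rintro P φ ⟨hP, hv, g, -, hg⟩
    exact ⟨hP.trans hTS, fun x => hTS (hv x), g, hg⟩
  · intro P hP
    exact pResidual_autGroup_le_of_group S inf_le_right hTS hP

/-- If `Z(S)` is strongly closed and `S` has class at most two then `S` is normal in the system. -/
theorem control_of_class_two (S : Sylow p G)
    (hcl : ⁅(S : Subgroup G), (S : Subgroup G)⁆ ≤ (S : Subgroup G) ⊓ Subgroup.centralizer ((S : Subgroup G) : Set G))
    (hZ : Cfsg.IsStronglyClosed ((S : Subgroup G) ⊓ Subgroup.centralizer ((S : Subgroup G) : Set G)) (S : Subgroup G)) :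
    (∀ (P : Subgroup G) (φ : P →* G), φ ∈ (groupFusionSystem (S : Subgroup G)).Hom P →
      ∃ g ∈ Subgroup.normalizer ((S : Subgroup G) : Set G), ∀ x : P, φ x = g * (x : G) * g⁻¹) ∧
    (groupFusionSystem (S : Subgroup G)).core = S := by
  have hS : IsPGroup p (S : Subgroup G) := S.isPGroup'
  have hF := isSaturated_gfs S
  have hZs : (groupFusionSystem (S : Subgroup G)).StronglyClosed ((S : Subgroup G) ⊓ Subgroup.centralizer ((S : Subgroup G) : Set G)) := by
    refine ⟨inf_le_left, ?_⟩
    rintro R hR φ ⟨-, hv, g, hg⟩ x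
    have h1 := hZ.2 x (hR x.2) g
    rw [← hg] at h1
    exact h1 (hv x)
  have hZab : ⁅(S : Subgroup G) ⊓ Subgroup.centralizer ((S : Subgroup G) : Set G),
      (S : Subgroup G) ⊓ Subgroup.centralizer ((S : Subgroup G) : Set G)⁆ ≤ ⊥ := by
    rw [Subgroup.commutator_le]
    intro a ha b hb
    have : a * b = b * a := Subgroup.mem_centralizer_iff.1 hb.2 a ha.1
    rw [commutatorElement_def, this]
    simp
  have hZn := Solv.isNormal_of_abelian hS hF hZs hZab
  have hSn := Solv.isNormal_sup_of_commutator_le hS hF hZn Solv.stronglyClosed_top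
    (fun s hs => Subgroup.mem_centralizer_iff.2 fun z hz => (Subgroup.mem_centralizer_iff.1 hz.2 s hs).symm) hcl
  rw [sup_eq_left.2 inf_le_left] at hSn
  refine ⟨fun P φ hφ => ?_, le_antisymm (Fusion2.core_isNormal _).1 (le_sSup hSn)⟩
  obtain ⟨ψ, hψ, h1, α, hα, hαx⟩ := Fusion2.isNormal_exists_aut hSn hφ
  have hPS := le_of_hom hφ
  obtain ⟨g, hg⟩ := (mem_autGroup_gfs le_rfl).1 hα
  have hgn : g ∈ Subgroup.normalizer ((S : Subgroup G) : Set G) := by
    refine mem_normalizer_of_conj_mem (S := (⊤ : Subgroup G)) le_top (fun s hs => ?_)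
    rw [← hg ⟨s, hs⟩]
    exact (α _).2
  refine ⟨g, hgn, fun x => ?_⟩
  have h2 := hαx ⟨x, hPS x.2⟩
  have h3 := h1 x
  have h4 : (Subgroup.inclusion le_sup_left x : ↥(P ⊔ (S : Subgroup G))) = Subgroup.inclusion le_sup_right (⟨x, hPS x.2⟩ : (S : Subgroup G)) := rfl
  rw [h4, ← h2] at h3
  rw [← h3, hg]

end group

end Cfsg.Agent.Lib.Fusion
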