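/-
Saturated subsystems of `p`-power index over a normal subgroup are normal.
-/
import Cfsg.Agent.Lib.Fusion.Invariant2
import Cfsg.Agent.Lib.Fusion.PIndex
import Cfsg.Agent.Lib.Fusion2.Hyp
import Cfsg.Agent.Lib.Fusion.ZJ5

set_option autoImplicit false
set_option linter.unusedSectionVars false
set_option linter.style.haveILetI false

namespace Cfsg.Agent.Lib.Fusion

open Cfsg Cfsg.FusionSystem Cfsg.Agent.Lib.Fusion2

variable {Ω : Type*} [Group Ω] {S T : Subgroup Ω} {F : FusionSystem S} {E : FusionSystem T}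

/-- The third clause of invariance from `AutInv`. -/
theorem invariant_of_autInv (h : AutInv E F) (P : Subgroup Ω) (hPT : P ≤ T) (φ : P →* Ω) (hφ : φ ∈ E.Hom P) (α : MulAut T) (hα : α ∈ F.autGroup T) :
    ∃ χ ∈ E.Hom ((P.subgroupOf T).map (T.subtype.comp α.toMonoidHom)),
      ∀ (x : P) (hφx : φ x ∈ T) (hαx : ((α ⟨x, hPT x.2⟩ : T) : Ω) ∈ (P.subgroupOf T).map (T.subtype.comp α.toMonoidHom)),
        χ ⟨(α ⟨x, hPT x.2⟩ : T), hαx⟩ = ((α ⟨φ x, hφx⟩ : T) : Ω) := by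
  obtain ⟨χ, hχ, hχv⟩ := h P (toFun φ) hPT (isMapOn_toFun hφ) α hα _ (isImage_fn_map hPT α)
  refine ⟨χ, hχ, fun x hφx hαx => ?_⟩
  rw [hχv]
  show fn α (toFun φ (fn α⁻¹ ((α ⟨x, hPT x.2⟩ : T) : Ω))) = _
  have e1 : fn α⁻¹ ((α ⟨x, hPT x.2⟩ : T) : Ω) = x := by
    rw [← fn_of_mem α (hPT x.2), fn_inv_fn α (hPT x.2)]
  rw [e1, toFun_coe, fn_of_mem α hφx]

/-- Restriction of an element of `O^p(Aut_F(P))` to a subgroup stable under `Aut_F(P)`. -/
theorem pResidual_restrict [Finite S] {p : ℕ} {P R : Subgroup Ω} (hRP : R ≤ P) (hPS : P ≤ S)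
    (hst : ∀ w ∈ F.autGroup P, ∀ x ∈ R, fn w x ∈ R) {v : F.autGroup P} (hv : v ∈ pResidual p (F.autGroup P)) :
    ∃ v' : F.autGroup R, v' ∈ pResidual p (F.autGroup R) ∧ ∀ x ∈ R, fn (v' : MulAut R) x = fn (v : MulAut P) x := by
  have hle : F.autGroup P ≤ stabAut P R := by
    intro w hw
    rw [mem_stabAut]
    intro x hx
    constructor
    · intro h
      have := hst w⁻¹ (Subgroup.inv_mem _ hw) _ h
      rwa [fn_inv_fn w hx] at this
    · exact hst w hw x
  let ρ₀ : F.autGroup P →* MulAut R := (resAut hRP).comp (Subgroup.inclusion hle)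
  have hρ₀ : ∀ (w : F.autGroup P) {y : Ω}, y ∈ R → fn (ρ₀ w) y = fn (w : MulAut P) y := fun w y hy => fn_resAut hRP _ hy
  have hmem : ∀ w, ρ₀ w ∈ F.autGroup R := by
    intro w
    refine (mem_autGroup_iff (hRP.trans hPS)).2 ?_
    have h1 := ((isMapOn_fn hPS w.2).mono hRP)
    obtain ⟨φ, hφ, hφv⟩ := h1
    refine isIso_of_forall hφ _ (fun x => ?_)
    rw [hφv, ← fn_coe, hρ₀ w x.2]
  let ρ : F.autGroup P →* F.autGroup R := ρ₀.codRestrict _ hmem
  refine ⟨ρ v, Cfsg.Agent.Lib.LocalEven.pResidual_map_le ρ ⟨v, hv, rfl⟩, fun x hx => hρ₀ v hx⟩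

variable [Finite S] {p : ℕ} [hp : Fact p.Prime]

section Main

variable (hS : IsPGroup p S) (hF : F.IsSaturated p) (hTS : T ≤ S) (hTn : S ≤ Subgroup.normalizer (T : Set Ω))
  (hT : F.hyperfocalSubgroup p ≤ T)

include hS hF hTS hTn hT in
theorem stronglyClosed_of_hyp_le : F.StronglyClosed T := by
  refine ⟨hTS, fun R hR φ hφ x => ?_⟩
  obtain ⟨g, hg, hgv⟩ := conj_mod_hyp hS hF hφ
  have h1 := hT (hgv x)
  have h2 : g * φ x * g⁻¹ ∈ T := by
    have := T.mul_mem h1 (hR x.2)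
    simpa using this
  have h3 := conj_mem_of_normalizer (Subgroup.inv_mem _ (hTn hg)) h2
  simpa [mul_assoc] using h3

include hS hF hTS hTn hT in
theorem mem_T_iff {R : Subgroup Ω} {φ : R →* Ω} (hφ : φ ∈ F.Hom R) (x : R) : φ x ∈ T ↔ (x : Ω) ∈ T := by
  have hSC := stronglyClosed_of_hyp_le hS hF hTS hTn hT
  obtain ⟨g, hg, hgv⟩ := conj_mod_hyp hS hF hφ
  have h1 := hT (hgv x)
  constructor
  · intro h
    have h2 := conj_mem_of_normalizer (hTn hg) h
    have := T.mul_mem (T.inv_mem h1) h2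
    simpa [mul_assoc] using this
  · intro h
    have h2 : g * φ x * g⁻¹ ∈ T := by
      have := T.mul_mem h1 h
      simpa using this
    have h3 := conj_mem_of_normalizer (Subgroup.inv_mem _ (hTn hg)) h2
    simpa [mul_assoc] using h3

variable [Finite T] (hE : E.IsSaturated p) (hi : E.HasPPowerIndexIn F p)

include hS hTS hTn hE hi

/-- `Aut_F(T)`-invariance. -/
theorem autInv_of_pPowerIndex : AutInv E F := by
  have hpT : IsPGroup p T := hS.to_le hTS
  have key : ∀ (P : Subgroup Ω) (φ : P →* Ω), φ ∈ E.Hom P → ∀ α ∈ F.autGroup T, ∀ P' : Subgroup Ω, IsImage (fn α) P P' →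
      IsMapOn E P' (fun y => fn α (toFun φ (fn α⁻¹ y))) := by
    intro P φ hφ
    refine alperin_induction (Φ := fun P φ => ∀ α ∈ F.autGroup T, ∀ P' : Subgroup Ω, IsImage (fn α) P P' →
      IsMapOn E P' (fun y => fn α (toFun φ (fn α⁻¹ y)))) hpT hE ?_ ?_ ?_ ?_ hφ
    · -- conjugation
      intro P g hP hg α hα P' hP'
      have hP'T : P' ≤ T := IsImage.le_S (isMapOn_fn (F := F) hTS hα) hP hP' |> fun _ => by
        intro y hy
        obtain ⟨x, hx, rfl⟩ := hP'.exists_of_mem hy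
        exact fn_mem α (hP hx)
      refine (isMapOn_conj hP'T (fn_mem α hg)).congr (fun y hy => ?_)
      obtain ⟨x, hx, rfl⟩ := hP'.exists_of_mem hy
      show fn α g * fn α x * (fn α g)⁻¹ = fn α (toFun (conjHom P g) (fn α⁻¹ (fn α x)))
      rw [fn_inv_fn α (hP hx), toFun_of_mem _ hx]
      show _ = fn α (g * x * g⁻¹)
      rw [fn_map_mul α (T.mul_mem hg (hP hx)) (T.inv_mem hg), fn_map_mul α hg (hP hx), fn_map_inv α hg]
    · -- composition
      intro P Q φ ψ hφ hψ h₁ h₂ h α hα P' hP'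
      obtain ⟨Q', hQ'⟩ := (isMapOn_fn (F := F) hTS hα).exists_image (le_of_hom hψ)
      have hPT : P ≤ T := le_of_hom hφ
      have hQT : Q ≤ T := le_of_hom hψ
      have hm₁ := h₁ α hα P' hP'
      have hm₂ := h₂ α hα Q' hQ'
      refine (hm₁.comp hm₂ (fun y hy => ?_)).congr (fun y hy => ?_)
      · obtain ⟨x, hx, rfl⟩ := hP'.exists_of_mem hy
        rw [fn_inv_fn α (hPT hx), toFun_of_mem _ hx]
        exact hQ'.mem (h ⟨x, hx⟩)
      · obtain ⟨x, hx, rfl⟩ := hP'.exists_of_mem hy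
        show fn α (toFun ψ (fn α⁻¹ (fn α (toFun φ (fn α⁻¹ (fn α x)))))) = fn α (toFun _ (fn α⁻¹ (fn α x)))
        rw [fn_inv_fn α (hPT hx), toFun_of_mem _ hx, fn_inv_fn α (hQT (h ⟨x, hx⟩)), toFun_of_mem _ hx]
        congr 1
        rw [toFun_of_mem ψ (h ⟨x, hx⟩)]
        rfl
    · -- inverses
      intro P φ ψ hφ hψ hψv h₁ α hα P' hP'
      have hPT : P ≤ T := le_of_hom hφ
      have hRT : φ.range ≤ T := le_of_hom hψ
      obtain ⟨P₀, hP₀⟩ := (isMapOn_fn (F := F) hTS hα).exists_image hPT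
      have hm := h₁ α hα P₀ hP₀
      have hPP : IsImage (fun y => fn α (toFun φ (fn α⁻¹ y))) P₀ P' := by
        intro y
        constructor
        · intro hy
          obtain ⟨z, ⟨x, rfl⟩, rfl⟩ := hP'.exists_of_mem hy
          refine ⟨fn α x, hP₀.mem x.2, ?_⟩
          show fn α (toFun φ (fn α⁻¹ (fn α x))) = _
          rw [fn_inv_fn α (hPT x.2), toFun_coe]
        · rintro ⟨z, hz, rfl⟩
          obtain ⟨x, hx, rfl⟩ := hP₀.exists_of_mem hz
          show fn α (toFun φ (fn α⁻¹ (fn α x))) ∈ _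
          rw [fn_inv_fn α (hPT hx), toFun_of_mem _ hx]
          exact hP'.mem ⟨_, rfl⟩
      obtain ⟨g, hg, -, hgl, -⟩ := hm.exists_inv hPP
      refine hg.congr (fun y hy => ?_)
      obtain ⟨z, ⟨x, rfl⟩, rfl⟩ := hP'.exists_of_mem hy
      have h3 := hgl (fn α x) (hP₀.mem x.2)
      have e1 : fn α (toFun φ (fn α⁻¹ (fn α x))) = fn α (φ x) := by
        rw [fn_inv_fn α (hPT x.2), toFun_coe]
      rw [e1] at h3
      rw [h3]
      show _ = fn α (toFun ψ (fn α⁻¹ (fn α (φ x))))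
      rw [fn_inv_fn α (hRT ⟨x, rfl⟩), toFun_of_mem ψ ⟨x, rfl⟩, hψv]
    · -- generators
      intro P hP γ hγ α hα P' hP'
      have hPT : P ≤ T := by
        rcases hP with rfl | hP
        · exact le_rfl
        · exact hP.1.1
      have hP'T : P' ≤ T := by
        intro y hy
        obtain ⟨x, hx, rfl⟩ := hP'.exists_of_mem hy
        exact fn_mem α (hPT hx)
      have hfa := (fullyNormalized_spec hpT hE (fullyNormalized_of_mem P hP)).2
      obtain ⟨u, v, huv, hu, hv⟩ := exists_autS_mul_pResidual hfa ⟨γ, hγ⟩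
      obtain ⟨t, ht, htv⟩ := mem_autInducedBy_iff.1 hu
      obtain ⟨v', hv', hv'e⟩ := pResidual_map_le_of_subsystem hi.1 hPT (p := p) ⟨v, hv, rfl⟩
      have hve : (v' : MulAut P) = (v : MulAut P) := hv'e
      have hmF : IsMapOn F P (fn α) := (isMapOn_fn hTS hα).mono hPT
      obtain ⟨e, he, hev⟩ := hmF.exists_iso hP'
      have h5 := autCongr_mem_pResidual he hv'
      have h6 : ((autCongr he v' : F.autGroup P') : MulAut P') ∈ E.autGroup P' := hi.2.2 P' hP'T ⟨_, h5, rfl⟩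
      have hm₁ : IsMapOn E P' (fn ((autCongr he v' : F.autGroup P') : MulAut P')) := isMapOn_fn hP'T h6
      have hm₂ : IsMapOn E P' (fun y => fn α t * y * (fn α t)⁻¹) := isMapOn_conj hP'T (fn_mem α ht)
      refine (hm₁.comp hm₂ (fun y hy => ?_)).congr (fun y hy => ?_)
      · exact (isImage_fn _).mem hy |> fun h => h
      · obtain ⟨x, hx, rfl⟩ := hP'.exists_of_mem hy
        have e1 : fn α x = ((e ⟨x, hx⟩ : P') : Ω) := (hev ⟨x, hx⟩).symm
        have e2 : fn ((autCongr he v' : F.autGroup P') : MulAut P') (fn α x) = fn α (fn (v : MulAut P) x) := by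
          rw [e1, fn_coe, autCongr_coe]
          rw [MulEquiv.symm_apply_apply, hve, hev, fn_of_mem (v : MulAut P) hx]
        show fn α t * fn ((autCongr he v' : F.autGroup P') : MulAut P') (fn α x) * (fn α t)⁻¹ = fn α (toFun _ (fn α⁻¹ (fn α x)))
        rw [e2, fn_inv_fn α (hPT hx), toFun_of_mem _ hx]
        have e3 : ((P.subtype.comp γ.toMonoidHom) ⟨x, hx⟩) = t * fn (v : MulAut P) x * t⁻¹ := by
          have h7 : γ = (u : MulAut P) * (v : MulAut P) := congrArg Subtype.val huv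
          show ((γ ⟨x, hx⟩ : P) : Ω) = _
          rw [h7]
          show (((u : MulAut P) ((v : MulAut P) ⟨x, hx⟩) : P) : Ω) = _
          rw [htv, fn_of_mem (v : MulAut P) hx]
        rw [e3]
        have hvx : fn (v : MulAut P) x ∈ T := hPT (fn_mem _ hx)
        rw [fn_map_mul α (T.mul_mem ht hvx) (T.inv_mem ht), fn_map_mul α ht hvx, fn_map_inv α ht]
  intro P f hPT hf α hα P' hP'
  obtain ⟨φ, hφ, hv⟩ := hf
  refine (key P φ hφ α hα P' hP').congr (fun y hy => ?_)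
  obtain ⟨x, hx, rfl⟩ := hP'.exists_of_mem hy
  show fn α (toFun φ (fn α⁻¹ (fn α x))) = fn α (f (fn α⁻¹ (fn α x)))
  rw [fn_inv_fn α (hPT hx), toFun_of_mem _ hx, hv ⟨x, hx⟩]

include hF hT in
/-- The Frattini condition. -/
theorem fr_of_pPowerIndex {P : Subgroup Ω} {φ : P →* Ω} (hφ : φ ∈ F.Hom P) : Fr E F (P ⊓ T) (toFun φ) := by
  have hinv : AutInv E F := autInv_of_pPowerIndex hS hTS hTn hE hi
  have hmem : ∀ {R : Subgroup Ω} {ψ : R →* Ω}, ψ ∈ F.Hom R → ∀ x : R, ψ x ∈ T ↔ (x : Ω) ∈ T :=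
    fun hψ x => mem_T_iff hS hF hTS hTn hT hψ x
  refine alperin_induction (Φ := fun P φ => Fr E F (P ⊓ T) (toFun φ)) hS hF ?_ ?_ ?_ ?_ hφ
  · intro P g hP hg
    have hc := autOfNormalizer_mem_autGroup (F := F) hTS ⟨hg, hTn hg⟩
    refine (fr_of_aut inf_le_right hc).congr (fun x hx => ?_)
    rw [fn_of_mem _ hx.2, toFun_of_mem _ hx.1]
    rfl
  · intro P Q φ ψ hφ hψ h₁ h₂ h
    refine (Fr.comp hTS hinv h₁ h₂ (fun x hx => ?_)).congr (fun x hx => ?_)
    · rw [toFun_of_mem _ hx.1]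
      exact ⟨h ⟨x, hx.1⟩, (hmem hφ ⟨x, hx.1⟩).2 hx.2⟩
    · rw [toFun_of_mem _ hx.1, toFun_of_mem _ hx.1, toFun_of_mem _ (h ⟨x, hx.1⟩)]
      rfl
  · intro P φ ψ hφ hψ hψv h₁
    refine Fr.inv hTS hinv h₁ (f := toFun φ) ?_ (fun x hx => ?_)
    · intro y
      constructor
      · rintro ⟨⟨x, rfl⟩, hy⟩
        exact ⟨x, ⟨x.2, (hmem hφ x).1 hy⟩, toFun_coe φ x⟩
      · rintro ⟨x, hx, rfl⟩
        rw [toFun_of_mem _ hx.1]
        exact ⟨⟨_, rfl⟩, (hmem hφ ⟨x, hx.1⟩).2 hx.2⟩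
    · rw [toFun_of_mem _ hx.1, toFun_of_mem ψ ⟨⟨x, hx.1⟩, rfl⟩, hψv ⟨x, hx.1⟩]
  · intro P hP α hα
    have hPS : P ≤ S := by
      rcases hP with rfl | hP
      · exact le_rfl
      · exact hP.1.1
    have hfa := (fullyNormalized_spec hS hF (fullyNormalized_of_mem P hP)).2
    obtain ⟨u, v, huv, hu, hv⟩ := exists_autS_mul_pResidual hfa ⟨α, hα⟩
    obtain ⟨t, ht, htv⟩ := mem_autInducedBy_iff.1 hu
    have hRP : P ⊓ T ≤ P := inf_le_left
    have hst : ∀ w ∈ F.autGroup P, ∀ x ∈ P ⊓ T, fn w x ∈ P ⊓ T := by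
      intro w hw x hx
      obtain ⟨φ, hφ, hφv⟩ := isMapOn_fn hPS hw
      refine ⟨fn_mem w hx.1, ?_⟩
      have := (hmem hφ ⟨x, hx.1⟩).2 hx.2
      rwa [hφv] at this
    obtain ⟨v', hv', hv'e⟩ := pResidual_restrict (F := F) hRP hPS hst hv
    have hR' : (v' : MulAut ↥(P ⊓ T)) ∈ E.autGroup (P ⊓ T) := hi.2.2 _ inf_le_right ⟨_, hv', rfl⟩
    have h1 : Fr E F (P ⊓ T) (fn (v' : MulAut ↥(P ⊓ T))) := fr_of_map (isMapOn_fn inf_le_right hR')
    have hc := autOfNormalizer_mem_autGroup (F := F) hTS ⟨ht, hTn ht⟩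
    have h2 : Fr E F T (fn (autOfNormalizer (hTn ht))) := fr_of_aut le_rfl hc
    refine (Fr.comp hTS hinv h1 h2 (fun x hx => (inf_le_right : P ⊓ T ≤ T) (fn_mem _ hx))).congr (fun x hx => ?_)
    have hfv : fn (autOfNormalizer (hTn ht)) (fn (v' : MulAut ↥(P ⊓ T)) x) = t * fn (v' : MulAut ↥(P ⊓ T)) x * t⁻¹ := by
      rw [fn_of_mem (autOfNormalizer _) ((inf_le_right : P ⊓ T ≤ T) (fn_mem _ hx))]
      rfl
    rw [hfv, toFun_of_mem _ hx.1, hv'e x hx]
    have h7 : α = (u : MulAut P) * (v : MulAut P) := congrArg Subtype.val huv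
    show _ = ((α ⟨x, hx.1⟩ : P) : Ω)
    rw [h7]
    show _ = (((u : MulAut P) ((v : MulAut P) ⟨x, hx.1⟩) : P) : Ω)
    rw [htv, fn_of_mem (v : MulAut P) hx.1]

end Main

section Extension

/-- The extension predicate. -/
def ExtN (F : FusionSystem S) (T : Subgroup Ω) (α : MulAut T) : Prop :=
  ∃ β ∈ F.autGroup (T ⊔ centralizerIn S T), (∀ x ∈ T, fn β x = fn α x) ∧
    ∀ c ∈ centralizerIn S T, c⁻¹ * fn β c ∈ T ⊓ Subgroup.centralizer (T : Set Ω)

omit [Finite S] hp in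
theorem mem_C_of (hTS : T ≤ S) {c z : Ω} (hc : c ∈ centralizerIn S T) (hz : z ∈ T ⊓ Subgroup.centralizer (T : Set Ω)) :
    c * z ∈ centralizerIn S T :=
  ⟨S.mul_mem hc.1 (hTS hz.1), Subgroup.mul_mem _ hc.2 hz.2⟩

omit [Finite S] hp in
theorem ExtN.mul (hTS : T ≤ S) {a b : MulAut T} (ha : ExtN F T a) (hb : ExtN F T b) : ExtN F T (a * b) := by
  obtain ⟨β₁, hβ₁, h1, h1'⟩ := ha
  obtain ⟨β₂, hβ₂, h2, h2'⟩ := hb
  refine ⟨β₁ * β₂, Subgroup.mul_mem _ hβ₁ hβ₂, fun x hx => ?_, fun c hc => ?_⟩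
  · rw [fn_mul _ _ (le_sup_left (a := T) hx), h2 x hx, h1 _ (fn_mem _ hx), fn_mul _ _ hx]
  · have hd := h2' c hc
    have hcX : c ∈ T ⊔ centralizerIn S T := (le_sup_right : centralizerIn S T ≤ T ⊔ centralizerIn S T) hc
    rw [fn_mul _ _ hcX]
    have e : fn β₂ c = c * (c⁻¹ * fn β₂ c) := by group
    have hdC : fn β₂ c ∈ centralizerIn S T := by
      rw [e]
      exact mem_C_of hTS hc hd
    have h3 := h1' _ hdC
    have e2 : c⁻¹ * fn β₁ (fn β₂ c) = (c⁻¹ * fn β₂ c) * ((fn β₂ c)⁻¹ * fn β₁ (fn β₂ c)) := by group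
    rw [e2]
    exact Subgroup.mul_mem _ hd h3

omit [Finite S] hp in
theorem ExtN.one (hTS : T ≤ S) : ExtN F T 1 := by
  refine ⟨1, Subgroup.one_mem _, fun x hx => ?_, fun c hc => ?_⟩
  · rw [fn_one (le_sup_left (a := T) hx), fn_one hx]
  · rw [fn_one ((le_sup_right : centralizerIn S T ≤ T ⊔ centralizerIn S T) hc), inv_mul_cancel]
    exact Subgroup.one_mem _

omit [Finite S] hp in
theorem ExtN.pow (hTS : T ≤ S) {a : MulAut T} (ha : ExtN F T a) (n : ℕ) : ExtN F T (a ^ n) := by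
  induction n with
  | zero => simpa using ExtN.one hTS
  | succ n ih => rw [pow_succ]; exact ih.mul hTS ha

omit hp in
theorem ExtN.inv [Finite T] (hTS : T ≤ S) {a : MulAut T} (ha : ExtN F T a) : ExtN F T a⁻¹ := by
  have h1 : a⁻¹ = a ^ (orderOf a - 1) := by
    apply inv_eq_of_mul_eq_one_left
    rw [← pow_succ, Nat.sub_add_cancel (orderOf_pos a), pow_orderOf_eq_one]
  rw [h1]
  exact ha.pow hTS _

omit hp in
theorem extN_of_conj (hTS : T ≤ S) {t : Ω} (ht : t ∈ T) {a : MulAut T} (ha : ∀ x ∈ T, fn a x = t * x * t⁻¹) : ExtN F T a := by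
  have hX : T ⊔ centralizerIn S T ≤ S := sup_le hTS inf_le_left
  have htX : t ∈ T ⊔ centralizerIn S T := (le_sup_left : T ≤ T ⊔ centralizerIn S T) ht
  have hn := Subgroup.le_normalizer htX
  refine ⟨autOfNormalizer hn, autOfNormalizer_mem_autGroup hX ⟨hTS ht, hn⟩, fun x hx => ?_, fun c hc => ?_⟩
  · rw [fn_of_mem _ ((le_sup_left : T ≤ T ⊔ centralizerIn S T) hx), ha x hx]
    rfl
  · rw [fn_of_mem _ ((le_sup_right : centralizerIn S T ≤ T ⊔ centralizerIn S T) hc)]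
    have h1 : t * c = c * t := by
      have : c ∈ Subgroup.centralizer (T : Set Ω) := hc.2
      rw [Subgroup.mem_centralizer_iff] at this
      exact this t ht
    have e : c⁻¹ * ((autOfNormalizer hn ⟨c, (le_sup_right : centralizerIn S T ≤ T ⊔ centralizerIn S T) hc⟩ : ↥(T ⊔ centralizerIn S T)) : Ω) = 1 := by
      show c⁻¹ * (t * c * t⁻¹) = 1
      rw [h1]
      group
    rw [e]
    exact Subgroup.one_mem _

omit [Finite S] hp in
/-- A map on `T C_S(T)` extending an automorphism of `T` preserves `C_S(T)`. -/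
theorem map_mem_C (hX : T ⊔ centralizerIn S T ≤ S) {f : Ω → Ω} (hf : IsMapOn F (T ⊔ centralizerIn S T) f) {α : MulAut T}
    (hfα : ∀ x ∈ T, f x = fn α x) {c : Ω} (hc : c ∈ centralizerIn S T) : f c ∈ centralizerIn S T := by
  have hcX : c ∈ T ⊔ centralizerIn S T := (le_sup_right : centralizerIn S T ≤ T ⊔ centralizerIn S T) hc
  refine ⟨hf.mem_S hcX, ?_⟩
  show f c ∈ Subgroup.centralizer (T : Set Ω)
  rw [Subgroup.mem_centralizer_iff]
  intro y hy
  obtain ⟨x, hx, rfl⟩ := (isImage_fn α).exists_of_mem hy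
  have hxX : x ∈ T ⊔ centralizerIn S T := (le_sup_left : T ≤ T ⊔ centralizerIn S T) hx
  have h1 : x * c = c * x := by
    have : c ∈ Subgroup.centralizer (T : Set Ω) := hc.2
    rw [Subgroup.mem_centralizer_iff] at this
    exact this x hx
  have h2 := hf.map_mul hxX hcX
  have h3 := hf.map_mul hcX hxX
  rw [h1] at h2
  rw [← hfα x hx, ← h2, h3]

variable (hS : IsPGroup p S) (hF : F.IsSaturated p) (hTS : T ≤ S) (hTn : S ≤ Subgroup.normalizer (T : Set Ω))
  (hT : F.hyperfocalSubgroup p ≤ T)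

include hS hF hTS hTn hT in
theorem extN_of_coprime [Finite T] {α : MulAut T} (hα : α ∈ F.autGroup T) (hc : (orderOf α).Coprime p) : ExtN F T α := by
  have hX : T ⊔ centralizerIn S T ≤ S := sup_le hTS inf_le_left
  have hTC : T ≤ Subgroup.normalizer (centralizerIn S T : Set Ω) := by
    intro t ht
    rw [Subgroup.mem_normalizer_iff]
    have key : ∀ (t : Ω), t ∈ T → ∀ c ∈ centralizerIn S T, t * c * t⁻¹ = c := by
      intro t ht c hc
      have : c ∈ Subgroup.centralizer (T : Set Ω) := hc.2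
      rw [Subgroup.mem_centralizer_iff] at this
      rw [this t ht]
      group
    intro c
    constructor
    · intro h
      rwa [key t ht c h]
    · intro h
      have h1 := key t⁻¹ (T.inv_mem ht) _ h
      have h2 : t⁻¹ * (t * c * t⁻¹) * t = c := by group
      rw [inv_inv, h2] at h1
      rw [h1] 
      exact h
  have hTrec : F.IsReceptive T := receptive_of_fullyNormalized hS hF (ZJ.fullyNormalized_of_normal hTS hTn)
  obtain ⟨f', hf', hf'v⟩ := (isMapOn_fn hTS hα).exists_ext hTrec (isImage_fn α) (le_sup_left : T ≤ T ⊔ centralizerIn S T) (fun g hg => by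
    obtain ⟨t, ht, c, hc, rfl⟩ := exists_mul_of_mem_sup hTC hg
    have hgT : t * c ∈ Subgroup.normalizer (T : Set Ω) := hTn (S.mul_mem (hTS ht) hc.1)
    refine ⟨S.mul_mem (hTS ht) hc.1, hgT, fn α t, hTS (fn_mem α ht), fun x hx => ?_⟩
    have hcx : c * x = x * c := by
      have : c ∈ Subgroup.centralizer (T : Set Ω) := hc.2
      rw [Subgroup.mem_centralizer_iff] at this
      exact (this x hx).symm
    have e : t * c * x * (t * c)⁻¹ = t * x * t⁻¹ := by
      calc t * c * x * (t * c)⁻¹ = t * (c * x) * c⁻¹ * t⁻¹ := by group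
        _ = t * x * t⁻¹ := by rw [hcx]; group
    rw [e, fn_map_mul α (T.mul_mem ht hx) (T.inv_mem ht), fn_map_mul α ht hx, fn_map_inv α ht])
  have hf'T : ∀ x ∈ T, f' x = fn α x := hf'v
  have hmapX : ∀ g ∈ T ⊔ centralizerIn S T, f' g ∈ T ⊔ centralizerIn S T := by
    intro g hg
    obtain ⟨t, ht, c, hc, rfl⟩ := exists_mul_of_mem_sup hTC hg
    rw [hf'.map_mul ((le_sup_left : T ≤ T ⊔ centralizerIn S T) ht) ((le_sup_right : centralizerIn S T ≤ T ⊔ centralizerIn S T) hc), hf'T t ht]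
    exact Subgroup.mul_mem _ ((le_sup_left : T ≤ T ⊔ centralizerIn S T) (fn_mem α ht))
      ((le_sup_right : centralizerIn S T ≤ T ⊔ centralizerIn S T) (map_mem_C hX hf' hf'T hc))
  obtain ⟨Q', hQ'⟩ := hf'.exists_image le_rfl
  have hQX : Q' ≤ T ⊔ centralizerIn S T := by
    intro y hy
    obtain ⟨x, hx, rfl⟩ := hQ'.exists_of_mem hy
    exact hmapX x hx
  obtain ⟨e, -, -⟩ := hf'.exists_iso hQ'
  have hfX : Finite ↥(T ⊔ centralizerIn S T) := finite_of_le hX
  have hQeq : Q' = T ⊔ centralizerIn S T := Subgroup.eq_of_le_of_card_ge hQX (by rw [Nat.card_congr e.toEquiv])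
  subst hQeq
  obtain ⟨β₀, hβ₀, hβ₀v⟩ := exists_aut_of_map hf' hQ'
  obtain ⟨k, hk, hkc⟩ := exists_coprime_power (p := p) (⟨β₀, hβ₀⟩ : F.autGroup (T ⊔ centralizerIn S T)) (orderOf α) hc
  set b : F.autGroup (T ⊔ centralizerIn S T) := (⟨β₀, hβ₀⟩ : F.autGroup (T ⊔ centralizerIn S T)) ^ k with hb
  have hpow : ∀ n : ℕ, ∀ x ∈ T, fn (β₀ ^ n) x = fn (α ^ n) x := by
    intro n
    induction n with
    | zero =>
      intro x hx
      rw [pow_zero, pow_zero, fn_one hx, fn_one ((le_sup_left : T ≤ T ⊔ centralizerIn S T) hx)]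
    | succ n ih =>
      intro x hx
      rw [pow_succ, pow_succ, fn_mul _ _ hx, fn_mul _ _ ((le_sup_left : T ≤ T ⊔ centralizerIn S T) hx), hβ₀v x ((le_sup_left : T ≤ T ⊔ centralizerIn S T) hx), hf'T x hx,
        ih _ (fn_mem α hx)]
  have hαk : α ^ k = α := by
    rw [← pow_mod_orderOf, hk, pow_mod_orderOf, pow_one]
  have hbv : (b : MulAut ↥(T ⊔ centralizerIn S T)) = β₀ ^ k := rfl
  have hbT : ∀ x ∈ T, fn (b : MulAut ↥(T ⊔ centralizerIn S T)) x = fn α x := by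
    intro x hx
    rw [hbv, hpow k x hx, hαk]
  refine ⟨b, b.2, hbT, fun c hc' => ?_⟩
  have hbres : b ∈ pResidual p (F.autGroup (T ⊔ centralizerIn S T)) := Subgroup.subset_closure hkc
  have hcX : c ∈ T ⊔ centralizerIn S T := (le_sup_right : centralizerIn S T ≤ T ⊔ centralizerIn S T) hc'
  have h1 := hT (mem_hyp_of hX hbres ⟨c, hcX⟩)
  rw [← fn_of_mem _ hcX] at h1
  have hbm : IsMapOn F (T ⊔ centralizerIn S T) (fn (b : MulAut ↥(T ⊔ centralizerIn S T))) := isMapOn_fn hX b.2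
  have h2 := map_mem_C hX hbm hbT hc'
  exact ⟨h1, Subgroup.mul_mem _ (Subgroup.inv_mem _ hc'.2) h2.2⟩

include hS hF hTS hTn hT in
theorem extN_of_mem_E [Finite T] (hE : E.IsSaturated p) (hi : E.HasPPowerIndexIn F p) {α : MulAut T} (hα : α ∈ E.autGroup T) : ExtN F T α := by
  have hpT : IsPGroup p T := hS.to_le hTS
  have hfa := (fullyNormalized_spec hpT hE fullyNormalized_self).2
  obtain ⟨u, v, huv, hu, hv⟩ := exists_autS_mul_pResidual hfa ⟨α, hα⟩
  obtain ⟨t, ht, htv⟩ := mem_autInducedBy_iff.1 hu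
  have h1 : ExtN F T (u : MulAut T) := extN_of_conj hTS ht (fun x hx => by
    rw [fn_of_mem _ hx]
    exact htv ⟨x, hx⟩)
  have hres : ∀ w : F.autGroup T, w ∈ pResidual p (F.autGroup T) → ExtN F T (w : MulAut T) := by
    intro w hw
    induction hw using Subgroup.closure_induction with
    | mem w hw => exact extN_of_coprime hS hF hTS hTn hT w.2 (by
        rw [Subgroup.orderOf_coe]
        exact hw)
    | one => exact ExtN.one hTS
    | mul a b _ _ ha hb => exact ha.mul hTS hb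
    | inv a _ ha => exact ha.inv hTS
  obtain ⟨v', hv', hv'e⟩ := pResidual_map_le_of_subsystem hi.1 (P := T) le_rfl (p := p) ⟨v, hv, rfl⟩
  have h2 : ExtN F T (v : MulAut T) := by
    have := hres v' hv'
    rwa [show (v' : MulAut T) = (v : MulAut T) from hv'e] at this
  have h3 : α = (u : MulAut T) * (v : MulAut T) := congrArg Subtype.val huv
  rw [h3]
  exact h1.mul hTS h2

end Extension

/-- **A saturated subsystem of `p`-power index over a normal subgroup is normal.** -/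
theorem isNormalIn_of_pPowerIndex (hS : IsPGroup p S) (hF : F.IsSaturated p) (hTS : T ≤ S) (hTn : S ≤ Subgroup.normalizer (T : Set Ω))
    (hT : F.hyperfocalSubgroup p ≤ T) (hE : E.IsSaturated p) (hi : E.HasPPowerIndexIn F p) : E.IsNormalIn F p := by
  haveI : Finite T := finite_of_le hTS
  have hSC := stronglyClosed_of_hyp_le hS hF hTS hTn hT
  have hinv : AutInv E F := autInv_of_pPowerIndex hS hTS hTn hE hi
  refine ⟨⟨hE, hF, hi.1, hSC, fun P hPT φ hφ α hα => invariant_of_autInv hinv P hPT φ hφ α hα, fun P hPT φ hφ => ?_⟩, fun α hα => ?_⟩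
  · obtain ⟨α, hα, f₀, hf₀, hv⟩ := (fr_of_pPowerIndex hS hF hTS hTn hT hE hi hφ).mono (le_inf le_rfl hPT)
    obtain ⟨φ₀, hφ₀, hφ₀v⟩ := hf₀
    refine ⟨α, hα, φ₀, hφ₀, fun x hx => ?_⟩
    rw [← toFun_coe φ x, hv x x.2, ← hφ₀v x, fn_of_mem α hx]
  · obtain ⟨β, hβ, h1, h2⟩ := extN_of_mem_E hS hF hTS hTn hT hE hi hα
    refine ⟨β, hβ, fun x => ?_, fun c hc => ?_⟩
    · have h3 := h1 x x.2
      rw [fn_of_mem _ ((le_sup_left : T ≤ T ⊔ centralizerIn S T) x.2), fn_of_mem _ x.2] at h3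
      exact h3
    · have h3 := h2 c hc
      rw [fn_of_mem _ c.2] at h3
      exact h3

end Cfsg.Agent.Lib.Fusion
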