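/-
The subsystem generated by the `O^{p'}(Aut_F(P))`, `P` centric: invariance and the Frattini condition.
-/
import Cfsg.Agent.Lib.Fusion.Invariant2
import Cfsg.Agent.Lib.Fusion.ZJ5
import Cfsg.Agent.Lib.Fusion2.Transport

set_option autoImplicit false
set_option linter.unusedSectionVars false
set_option linter.style.haveILetI false

namespace Cfsg.Agent.Lib.Fusion

open Cfsg Cfsg.FusionSystem

variable {Ω : Type*} [Group Ω] {S : Subgroup Ω} {F : FusionSystem S} {p : ℕ}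

/-- `O^{p'}(Aut_F(P))` in `Aut(P)`. -/
def oppAut (F : FusionSystem S) (p : ℕ) (P : Subgroup Ω) : Subgroup (MulAut P) :=
  (Subgroup.closure {α : F.autGroup P | ∃ k : ℕ, orderOf α = p ^ k}).map (F.autGroup P).subtype

/-- The subsystems containing all `O^{p'}(Aut_F(P))`, `P` centric. -/
def OppFam (F : FusionSystem S) (p : ℕ) (E : FusionSystem S) : Prop :=
  ∀ P : Subgroup Ω, F.IsCentric P → oppAut F p P ≤ E.autGroup P

/-- The smallest such subsystem. -/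
def oppSys (F : FusionSystem S) (p : ℕ) : FusionSystem S :=
  subSystem F (fun P φ => ∀ E : FusionSystem S, OppFam F p E → φ ∈ E.Hom P)
    (fun P g hP hg E _ => E.conj_mem hP hg)
    (fun P Q φ ψ _ _ h₁ h₂ h E hE => E.comp_mem (h₁ E hE) (h₂ E hE) h)
    (by
      intro P φ ψ _ _ hψx h₁ E hE
      obtain ⟨ψ', hψ', hψ'x⟩ := E.inv_mem (h₁ E hE)
      have e : ψ' = ψ := by
        ext ⟨_, x, rfl⟩
        rw [hψ'x, hψx]
      rwa [← e])

theorem mem_oppSys {P : Subgroup Ω} {φ : P →* Ω} :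
    φ ∈ (oppSys F p).Hom P ↔ φ ∈ F.Hom P ∧ ∀ E : FusionSystem S, OppFam F p E → φ ∈ E.Hom P := Iff.rfl

theorem oppSys_le {E : FusionSystem S} (hE : OppFam F p E) : (oppSys F p).IsSubsystemOf E :=
  fun _ _ h => h.2 E hE

theorem oppSys_sub : (oppSys F p).IsSubsystemOf F := fun _ _ h => h.1

theorem oppAut_le (P : Subgroup Ω) : oppAut F p P ≤ F.autGroup P := by
  rintro _ ⟨x, -, rfl⟩
  exact x.2

theorem oppFam_self : OppFam F p F := fun P _ => oppAut_le P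

variable [Finite S]

theorem oppFam_oppSys : OppFam F p (oppSys F p) := by
  intro P hP α hα
  refine (mem_autGroup_iff hP.1).2 ⟨(mem_autGroup_iff hP.1).1 (oppAut_le P hα), fun E hE => ?_⟩
  exact (mem_autGroup_iff hP.1).1 (hE P hP hα)

theorem oppAut_of_pow {P : Subgroup Ω} {α : MulAut P} (hα : α ∈ F.autGroup P) {k : ℕ} (hk : orderOf α = p ^ k) : α ∈ oppAut F p P := by
  refine ⟨⟨α, hα⟩, Subgroup.subset_closure ⟨k, ?_⟩, rfl⟩
  rw [← Subgroup.orderOf_coe]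
  exact hk

/-- `autCongr` carries `O^{p'}` into `O^{p'}`. -/
theorem autCongr_mem_oppAut {P Q : Subgroup Ω} {e : P ≃* Q} (he : IsIso F e) {v : F.autGroup P}
    (hv : (v : MulAut P) ∈ oppAut F p P) : ((autCongr he v : F.autGroup Q) : MulAut Q) ∈ oppAut F p Q := by
  obtain ⟨v₀, hv₀, hve⟩ := hv
  obtain rfl : v₀ = v := Subtype.ext hve
  have hinj : Function.Injective (autCongr he) := by
    intro a b hab
    apply Subtype.ext
    ext x
    have h1 := congrArg (fun c : F.autGroup Q => ((c : MulAut Q) (e x) : Q)) hab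
    simp only [autCongr_coe, MulEquiv.symm_apply_apply] at h1
    have h2 := e.injective h1
    exact congrArg Subtype.val h2
  have hle : (Subgroup.closure {α : F.autGroup P | ∃ k : ℕ, orderOf α = p ^ k}).map (autCongr he) ≤
      Subgroup.closure {α : F.autGroup Q | ∃ k : ℕ, orderOf α = p ^ k} := by
    rw [Subgroup.map_le_iff_le_comap, Subgroup.closure_le]
    rintro a ⟨k, hk⟩
    refine Subgroup.subset_closure ⟨k, ?_⟩
    rw [orderOf_injective _ hinj]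
    exact hk
  exact ⟨_, hle ⟨_, hv₀, rfl⟩, rfl⟩

/-- Invariance of the generated subsystem under `Aut_F(S)`. -/
theorem autInv_oppSys : AutInv (oppSys F p) F := by
  have hTS : S ≤ S := le_rfl
  let Φ : ∀ P : Subgroup Ω, (P →* Ω) → Prop := fun P φ => ∀ α ∈ F.autGroup S, ∀ P' : Subgroup Ω, IsImage (fn α) P P' →
      IsMapOn (oppSys F p) P' (fun y => fn α (toFun φ (fn α⁻¹ y)))
  have hconj : ∀ (P : Subgroup Ω) (g : Ω), P ≤ S → g ∈ S → Φ P (conjHom P g) := by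
    intro P g hP hg α hα P' hP'
    have hP'T : P' ≤ S := by
      intro y hy
      obtain ⟨x, hx, rfl⟩ := hP'.exists_of_mem hy
      exact fn_mem α (hP hx)
    refine (isMapOn_conj hP'T (fn_mem α hg)).congr (fun y hy => ?_)
    obtain ⟨x, hx, rfl⟩ := hP'.exists_of_mem hy
    show fn α g * fn α x * (fn α g)⁻¹ = fn α (toFun (conjHom P g) (fn α⁻¹ (fn α x)))
    rw [fn_inv_fn α (hP hx), toFun_of_mem _ hx]
    show _ = fn α (g * x * g⁻¹)
    rw [fn_map_mul α (S.mul_mem hg (hP hx)) (S.inv_mem hg), fn_map_mul α hg (hP hx), fn_map_inv α hg]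
  have hcomp : ∀ (P Q : Subgroup Ω) (φ : P →* Ω) (ψ : Q →* Ω), φ ∈ (oppSys F p).Hom P → ψ ∈ (oppSys F p).Hom Q → Φ P φ → Φ Q ψ →
      ∀ h : ∀ x : P, φ x ∈ Q, Φ P (ψ.comp (φ.codRestrict Q h)) := by
    intro P Q φ ψ hφ hψ h₁ h₂ h α hα P' hP'
    obtain ⟨Q', hQ'⟩ := (isMapOn_fn (F := F) hTS hα).exists_image (le_of_hom hψ)
    have hPT : P ≤ S := le_of_hom hφ
    have hQT : Q ≤ S := le_of_hom hψ
    have hm₁ := h₁ α hα P' hP'
    have hm₂ := h₂ α hα Q' hQ'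
    refine (hm₁.comp hm₂ (fun y hy => ?_)).congr (fun y hy => ?_)
    · obtain ⟨x, hx, rfl⟩ := hP'.exists_of_mem hy
      rw [fn_inv_fn α (hPT hx), toFun_of_mem _ hx]
      exact hQ'.mem (h ⟨x, hx⟩)
    · obtain ⟨x, hx, rfl⟩ := hP'.exists_of_mem hy
      show fn α (toFun ψ (fn α⁻¹ (fn α (toFun φ (fn α⁻¹ (fn α x)))))) = fn α (toFun _ (fn α⁻¹ (fn α x)))
      rw [fn_inv_fn α (hPT hx), toFun_of_mem _ hx, fn_inv_fn α (hQT (h ⟨x, hx⟩)), toFun_of_mem _ hx]
      congr 1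
      rw [toFun_of_mem ψ (h ⟨x, hx⟩)]
      rfl
  have hinv : ∀ (P : Subgroup Ω) (φ : P →* Ω) (ψ : φ.range →* Ω), φ ∈ (oppSys F p).Hom P → ψ ∈ (oppSys F p).Hom φ.range →
      (∀ x : P, ψ ⟨φ x, ⟨x, rfl⟩⟩ = (x : Ω)) → Φ P φ → Φ φ.range ψ := by
    intro P φ ψ hφ hψ hψv h₁ α hα P' hP'
    have hPT : P ≤ S := le_of_hom hφ
    have hRT : φ.range ≤ S := le_of_hom hψ
    obtain ⟨P₀, hP₀⟩ := (isMapOn_fn (F := F) hTS hα).exists_image hPT
    have hm := h₁ α hα P₀ hP₀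
    have hPP : IsImage (fun y => fn α (toFun φ (fn α⁻¹ y))) P₀ P' := by
      intro y
      constructor
      · intro hy
        obtain ⟨z, ⟨x, rfl⟩, rfl⟩ := hP'.exists_of_mem hy
        refine ⟨fn α x, hP₀.mem x.2, ?_⟩
        show fn α (toFun φ (fn α⁻¹ (fn α x))) = _
        rw [fn_inv_fn α (hPT x.2), toFun_coe]
      · rintro ⟨z, hz, rfl⟩
        obtain ⟨x, hx, rfl⟩ := hP₀.exists_of_mem hz
        show fn α (toFun φ (fn α⁻¹ (fn α x))) ∈ _
        rw [fn_inv_fn α (hPT hx), toFun_of_mem _ hx]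
        exact hP'.mem ⟨_, rfl⟩
    obtain ⟨g, hg, -, hgl, -⟩ := hm.exists_inv hPP
    refine hg.congr (fun y hy => ?_)
    obtain ⟨z, ⟨x, rfl⟩, rfl⟩ := hP'.exists_of_mem hy
    have h3 := hgl (fn α x) (hP₀.mem x.2)
    have e1 : fn α (toFun φ (fn α⁻¹ (fn α x))) = fn α (φ x) := by
      rw [fn_inv_fn α (hPT x.2), toFun_coe]
    rw [e1] at h3
    rw [h3]
    show _ = fn α (toFun ψ (fn α⁻¹ (fn α (φ x))))
    rw [fn_inv_fn α (hRT ⟨x, rfl⟩), toFun_of_mem ψ ⟨x, rfl⟩, hψv]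
  let E₁ : FusionSystem S := subSystem (oppSys F p) Φ hconj hcomp hinv
  have hE₁ : OppFam F p E₁ := by
    intro P hP κ hκ
    have hPS : P ≤ S := hP.1
    refine (mem_autGroup_iff hPS).2 ⟨(mem_autGroup_iff hPS).1 (oppFam_oppSys P hP hκ), fun α hα P' hP' => ?_⟩
    have hP'T : P' ≤ S := by
      intro y hy
      obtain ⟨x, hx, rfl⟩ := hP'.exists_of_mem hy
      exact fn_mem α (hPS hx)
    have hmF : IsMapOn F P (fn α) := (isMapOn_fn hTS hα).mono hPS
    obtain ⟨e, he, hev⟩ := hmF.exists_iso hP'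
    have hκF : κ ∈ F.autGroup P := oppAut_le P hκ
    have hcen' : F.IsCentric P' := Fusion2.isCentric_of_isConj (hmF.isConj hP') hP
    have h5 := autCongr_mem_oppAut he (v := ⟨κ, hκF⟩) hκ
    have h6 := oppFam_oppSys P' hcen' h5
    refine (isMapOn_fn hP'T h6).congr (fun y hy => ?_)
    obtain ⟨x, hx, rfl⟩ := hP'.exists_of_mem hy
    have e1 : fn α x = ((e ⟨x, hx⟩ : P') : Ω) := (hev ⟨x, hx⟩).symm
    rw [fn_inv_fn α (hPS hx), toFun_of_mem _ hx, e1, fn_coe, autCongr_coe, MulEquiv.symm_apply_apply, hev]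
    rfl
  intro P f hPT hf α hα P' hP'
  obtain ⟨φ, hφ, hv⟩ := hf
  have h1 := (oppSys_le hE₁ P hφ).2 α hα P' hP'
  refine h1.congr (fun y hy => ?_)
  obtain ⟨x, hx, rfl⟩ := hP'.exists_of_mem hy
  show fn α (toFun φ (fn α⁻¹ (fn α x))) = fn α (f (fn α⁻¹ (fn α x)))
  rw [fn_inv_fn α (hPT hx), toFun_of_mem _ hx, hv ⟨x, hx⟩]

end Cfsg.Agent.Lib.Fusion
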