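/-
The subsystem generated by the `O^{p'}(Aut_F(P))`, `P` centric: the Frattini condition, all subgroups, centric subgroups.
-/
import Cfsg.Agent.Lib.Fusion.PPrime
import Cfsg.Agent.Lib.Fusion.PIndexNormal

set_option autoImplicit false
set_option linter.unusedSectionVars false
set_option linter.style.haveILetI false

namespace Cfsg.Agent.Lib.Fusion

open Cfsg Cfsg.FusionSystem

variable {Ω : Type*} [Group Ω] {S : Subgroup Ω} {F : FusionSystem S} {p : ℕ}

variable [Finite S]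

/-- `R` normalizes its centralizer. -/
theorem le_normalizer_centralizerIn (R : Subgroup Ω) : R ≤ Subgroup.normalizer (centralizerIn S R : Set Ω) := by
  intro t ht
  rw [Subgroup.mem_normalizer_iff]
  have key : ∀ (t : Ω), t ∈ R → ∀ c ∈ centralizerIn S R, t * c * t⁻¹ = c := by
    intro t ht c hc
    have : c ∈ Subgroup.centralizer (R : Set Ω) := hc.2
    rw [Subgroup.mem_centralizer_iff] at this
    rw [this t ht]
    group
  intro c
  constructor
  · intro h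
    rwa [key t ht c h]
  · intro h
    have h1 := key t⁻¹ (R.inv_mem ht) _ h
    have h2 : t⁻¹ * (t * c * t⁻¹) * t = c := by group
    rw [inv_inv, h2] at h1
    rw [h1]
    exact h

/-- Automorphisms of a receptive subgroup extend to `R C_S(R)`. -/
theorem exists_aut_sup_centralizer {R : Subgroup Ω} (hrec : F.IsReceptive R) {ν : MulAut R} (hν : ν ∈ F.autGroup R) :
    ∃ β ∈ F.autGroup (R ⊔ centralizerIn S R), ∀ x ∈ R, fn β x = fn ν x := by
  have hRS : R ≤ S := hrec.1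
  have hX : R ⊔ centralizerIn S R ≤ S := sup_le hRS inf_le_left
  have hTC := le_normalizer_centralizerIn (S := S) R
  obtain ⟨f', hf', hf'v⟩ := (isMapOn_fn hRS hν).exists_ext hrec (isImage_fn ν) (le_sup_left : R ≤ R ⊔ centralizerIn S R) (fun g hg => by
    obtain ⟨t, ht, c, hc, rfl⟩ := exists_mul_of_mem_sup hTC hg
    have hcC : c ∈ Subgroup.centralizer (R : Set Ω) := hc.2
    have hgT : t * c ∈ Subgroup.normalizer (R : Set Ω) :=
      Subgroup.mul_mem _ (Subgroup.le_normalizer ht) (Subgroup.centralizer_le_normalizer _ hcC)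
    refine ⟨S.mul_mem (hRS ht) hc.1, hgT, fn ν t, hRS (fn_mem ν ht), fun x hx => ?_⟩
    have hcx : c * x = x * c := by
      rw [Subgroup.mem_centralizer_iff] at hcC
      exact (hcC x hx).symm
    have e : t * c * x * (t * c)⁻¹ = t * x * t⁻¹ := by
      calc t * c * x * (t * c)⁻¹ = t * (c * x) * c⁻¹ * t⁻¹ := by group
        _ = t * x * t⁻¹ := by rw [hcx]; group
    rw [e, fn_map_mul ν (R.mul_mem ht hx) (R.inv_mem ht), fn_map_mul ν ht hx, fn_map_inv ν ht])
  have hf'T : ∀ x ∈ R, f' x = fn ν x := hf'v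
  have hmapX : ∀ g ∈ R ⊔ centralizerIn S R, f' g ∈ R ⊔ centralizerIn S R := by
    intro g hg
    obtain ⟨t, ht, c, hc, rfl⟩ := exists_mul_of_mem_sup hTC hg
    rw [hf'.map_mul ((le_sup_left : R ≤ R ⊔ centralizerIn S R) ht) ((le_sup_right : centralizerIn S R ≤ R ⊔ centralizerIn S R) hc), hf'T t ht]
    exact Subgroup.mul_mem _ ((le_sup_left : R ≤ R ⊔ centralizerIn S R) (fn_mem ν ht))
      ((le_sup_right : centralizerIn S R ≤ R ⊔ centralizerIn S R) (map_mem_C hX hf' hf'T hc))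
  obtain ⟨Q', hQ'⟩ := hf'.exists_image le_rfl
  have hQX : Q' ≤ R ⊔ centralizerIn S R := by
    intro y hy
    obtain ⟨x, hx, rfl⟩ := hQ'.exists_of_mem hy
    exact hmapX x hx
  obtain ⟨e, -, -⟩ := hf'.exists_iso hQ'
  have hfX : Finite ↥(R ⊔ centralizerIn S R) := finite_of_le hX
  have hQeq : Q' = R ⊔ centralizerIn S R := Subgroup.eq_of_le_of_card_ge hQX (by rw [Nat.card_congr e.toEquiv])
  subst hQeq
  obtain ⟨β₀, hβ₀, hβ₀v⟩ := exists_aut_of_map hf' hQ'
  exact ⟨β₀, hβ₀, fun x hx => by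
    rw [hβ₀v x ((le_sup_left : R ≤ R ⊔ centralizerIn S R) hx), hf'T x hx]⟩

variable [hp : Fact p.Prime] {E : FusionSystem S}

/-- The Frattini skeleton: it suffices to treat automorphisms of fully normalized proper subgroups, assuming
the result for larger subgroups. -/
theorem fr_of_step (hS : IsPGroup p S) (hF : F.IsSaturated p) (hinv : AutInv E F)
    (hstep : ∀ R : Subgroup Ω, F.IsFullyNormalized R → R < S →
      (∀ X : Subgroup Ω, X ≤ S → Nat.card R < Nat.card X → ∀ f : Ω → Ω, IsMapOn F X f → Fr E F X f) →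
      ∀ ν ∈ F.autGroup R, Fr E F R (fn ν)) :
    ∀ P : Subgroup Ω, P ≤ S → ∀ f : Ω → Ω, IsMapOn F P f → Fr E F P f := by
  have hTS : S ≤ S := le_rfl
  intro P
  induction' hn : Nat.card S - Nat.card P using Nat.strong_induction_on with n ih generalizing P
  intro hPT
  have hcardT : ∀ X : Subgroup Ω, X ≤ S → Nat.card X ≤ Nat.card S := fun X hX => card_le_card_S (S := S) hX
  have ih' : ∀ X : Subgroup Ω, X ≤ S → Nat.card P < Nat.card X → ∀ f : Ω → Ω, IsMapOn F X f → Fr E F X f := by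
    intro X hXT hlt
    have h1 := hcardT X hXT
    have h2 := hcardT P hPT
    exact ih _ (by omega) X rfl hXT
  have hstep1 : ∀ R : Subgroup Ω, R ≤ S → Nat.card R = Nat.card P → F.IsFullyNormalized R → ∀ ν ∈ F.autGroup R, Fr E F R (fn ν) := by
    intro R hRT hcard hRn ν hν
    by_cases hRe : R = S
    · subst hRe
      exact fr_of_aut le_rfl hν
    · refine hstep R hRn (lt_of_le_of_ne hRT hRe) (fun X hX hlt => ih' X hX (hcard ▸ hlt)) ν hν
  have hup : ∀ Z : Subgroup Ω, Z ≤ S → Nat.card Z = Nat.card P → ∀ R₁ : Subgroup Ω, F.IsFullyNormalized R₁ → F.IsConj Z R₁ →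
      ∃ u, IsMapOn F Z u ∧ IsImage u Z R₁ ∧ Fr E F Z u := by
    intro Z hZT hcard R₁ hR₁ hconj
    obtain ⟨φ, hφ, -, hmap⟩ := exists_ext_of_fullyNormalized hS hF hR₁ hconj
    have hZN : Z ≤ normalizerIn S Z := fun x hx => ⟨hZT hx, Subgroup.le_normalizer hx⟩
    have hm := isMapOn_toFun hφ
    have him : IsImage (toFun φ) Z R₁ := by
      intro y
      rw [← hmap]
      constructor
      · rintro ⟨x, hx, rfl⟩
        exact ⟨x, hx, toFun_coe φ x⟩
      · rintro ⟨x, hx, rfl⟩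
        exact ⟨⟨x, hZN hx⟩, hx, (toFun_of_mem φ (hZN hx)).symm⟩
    refine ⟨toFun φ, hm.mono hZN, him, ?_⟩
    by_cases hZe : Z = S
    · subst hZe
      have hR₁T : R₁ = Z := by
        apply eq_of_le_of_card_le (S := Z)
        · exact IsImage.le_S hm hZN him
        · exact le_rfl
        · exact (IsImage.card_eq hm hZN him).le
      subst hR₁T
      obtain ⟨c, hc, hcv⟩ := exists_aut_of_map (hm.mono hZN) him
      exact (fr_of_aut le_rfl hc).congr hcv
    · have hlt : Z < S := lt_of_le_of_ne hZT hZe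
      have hZlt : Z < normalizerIn S Z := by
        obtain ⟨g, hg, hgR⟩ := exists_mem_normalizerIn_not_mem hS hlt
        refine lt_of_le_of_ne hZN (fun he => hgR ?_)
        rw [he]
        exact hg
      have hcl := card_lt_of_lt hZlt (normalizerIn_le Z)
      exact (ih' _ (normalizerIn_le Z) (by omega) _ hm).mono hZN
  intro f hf
  obtain ⟨R, hR⟩ := hf.exists_image le_rfl
  have hPc := hf.isConj hR
  have hRT : R ≤ S := IsImage.le_S hf le_rfl hR
  have hRcard : Nat.card R = Nat.card P := (IsImage.card_eq hf le_rfl hR).symm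
  obtain ⟨R₁, hRR₁, hR₁⟩ := exists_fullyNormalized_conj (F := F) hRT
  have hPR₁ : F.IsConj P R₁ := isConj_trans hPc hRR₁
  obtain ⟨u, hu, huR, hfu⟩ := hup P hPT rfl R₁ hR₁ hPR₁
  obtain ⟨u', hu', hu'R, hfu'⟩ := hup R hRT hRcard R₁ hR₁ hRR₁
  obtain ⟨uinv, huinv, huinvi, huinvl, huinvr⟩ := hu.exists_inv huR
  obtain ⟨uinv', huinv', huinvi', huinvl', huinvr'⟩ := hu'.exists_inv hu'R
  have hw : IsMapOn F R₁ (fun y => u' (f (uinv y))) :=
    (huinv.comp hf (fun y hy => huinvi.mem hy)).comp hu' (fun y hy => hR.mem (huinvi.mem hy))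
  have hwi : IsImage (fun y => u' (f (uinv y))) R₁ R₁ := (huinvi.comp hR).comp hu'R
  obtain ⟨c, hc, hcv⟩ := exists_aut_of_map hw hwi
  have hR₁T : R₁ ≤ S := hR₁.1
  have hR₁card : Nat.card R₁ = Nat.card P := (IsImage.card_eq hu le_rfl huR).symm
  have hf1 := hstep1 R₁ hR₁T hR₁card hR₁ c hc
  have hf2 : Fr E F R₁ uinv' := hfu'.inv hTS hinv hu'R huinvl'
  have hf3 := Fr.comp hTS hinv hfu hf1 (fun x hx => huR.mem hx)
  have hf4 := Fr.comp hTS hinv hf3 hf2 (fun x hx => fn_mem _ (huR.mem hx))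
  refine hf4.congr (fun x hx => ?_)
  show uinv' (fn c (u x)) = f x
  rw [hcv _ (huR.mem hx), huinvl x hx, huinvl' _ (hR.mem hx)]

/-- The subgroup generated by elements of `p`-power order is normal. -/
theorem normal_closure_pow (A : Type*) [Group A] : (Subgroup.closure {α : A | ∃ k : ℕ, orderOf α = p ^ k}).Normal := by
  constructor
  intro n hn g
  induction hn using Subgroup.closure_induction with
  | mem x hx =>
    obtain ⟨k, hk⟩ := hx
    refine Subgroup.subset_closure ⟨k, ?_⟩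
    have := MulEquiv.orderOf_eq (MulAut.conj g) x
    rw [← hk, ← this]
    rfl
  | one => simp [Subgroup.one_mem]
  | mul a b _ _ ha hb =>
    have e : g * (a * b) * g⁻¹ = (g * a * g⁻¹) * (g * b * g⁻¹) := by group
    rw [e]
    exact Subgroup.mul_mem _ ha hb
  | inv a _ ha =>
    have e : g * a⁻¹ * g⁻¹ = (g * a * g⁻¹)⁻¹ := by group
    rw [e]
    exact Subgroup.inv_mem _ ha

/-- **Frattini for the generated subsystem.** -/
theorem fr_oppSys (hS : IsPGroup p S) (hF : F.IsSaturated p) :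
    ∀ P : Subgroup Ω, P ≤ S → ∀ f : Ω → Ω, IsMapOn F P f → Fr (oppSys F p) F P f := by
  have hinv : AutInv (oppSys F p) F := autInv_oppSys
  refine fr_of_step hS hF hinv (fun R hRn hlt ih ν hν => ?_)
  have hRS : R ≤ S := hlt.le
  have := finite_of_le hRS
  have hrec := receptive_of_fullyNormalized hS hF hRn
  by_cases hc : centralizerIn S R ≤ R
  · have hRc : F.IsCentric R := ZJ.isCentric_of_centralizer_le hS hF hRn hc
    obtain ⟨-, B, hB⟩ := (fullyNormalized_spec hS hF hRn).2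
    haveI hK := normal_closure_pow (p := p) ↥(F.autGroup R)
    have hBK : (B : Subgroup ↥(F.autGroup R)) ≤ Subgroup.closure {α : ↥(F.autGroup R) | ∃ k : ℕ, orderOf α = p ^ k} := by
      intro x hx
      obtain ⟨k, hk⟩ := (IsPGroup.iff_orderOf.1 B.isPGroup') ⟨x, hx⟩
      refine Subgroup.subset_closure ⟨k, ?_⟩
      rwa [Subgroup.orderOf_mk] at hk
    obtain ⟨κ, hκ, μ, hμ, hνe⟩ := exists_mul_normalizer_inf (Subgroup.closure {α : ↥(F.autGroup R) | ∃ k : ℕ, orderOf α = p ^ k}) B ⟨ν, hν⟩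
    rw [inf_eq_left.2 hBK] at hμ
    have hκE : (κ : MulAut R) ∈ (oppSys F p).autGroup R := oppFam_oppSys R hRc ⟨κ, hκ, rfl⟩
    have hN : ∀ g ∈ normalizerIn S R, g ∈ S ∧ g ∈ Subgroup.normalizer (R : Set Ω) ∧
        ∃ k ∈ S, ∀ x ∈ R, fn (μ : MulAut R) (g * x * g⁻¹) = k * fn (μ : MulAut R) x * k⁻¹ := by
      intro g hg
      have hgS : g ∈ S := hg.1
      have hgn := hg.2
      refine ⟨hgS, hgn, ?_⟩
      have hc₁ : autOfNormalizer hgn ∈ F.autGroup R := autOfNormalizer_mem_autGroup hRS ⟨hgS, hgn⟩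
      have hmem : (⟨autOfNormalizer hgn, hc₁⟩ : F.autGroup R) ∈ (B : Subgroup (F.autGroup R)) := by
        rw [hB]
        exact autOfNormalizer_mem_autInducedBy hgn hgS
      have h1 := (Subgroup.mem_normalizer_iff.1 hμ _).1 hmem
      rw [hB] at h1
      obtain ⟨k, hk, hkv⟩ := mem_autInducedBy_iff.1 h1
      refine ⟨k, hk, fun x hx => ?_⟩
      have h3 := hkv ((μ : MulAut R) ⟨x, hx⟩)
      have h4 : ((((μ : F.autGroup R) * ⟨autOfNormalizer hgn, hc₁⟩ * (μ : F.autGroup R)⁻¹ : F.autGroup R) : MulAut R) ((μ : MulAut R) ⟨x, hx⟩) : R) =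
          (μ : MulAut R) (autOfNormalizer hgn ⟨x, hx⟩) := by
        show (μ : MulAut R) (autOfNormalizer hgn ((μ : MulAut R)⁻¹ ((μ : MulAut R) ⟨x, hx⟩))) = _
        simp
      have h3' : (((μ : MulAut R) (autOfNormalizer hgn ⟨x, hx⟩) : R) : Ω) = k * (((μ : MulAut R) ⟨x, hx⟩ : R) : Ω) * k⁻¹ := by
        rw [← h4]
        exact h3
      rw [fn_of_mem _ hx, fn_of_mem _ (conj_mem_of_normalizer hgn hx)]
      exact h3'
    have hRN : R ≤ normalizerIn S R := fun x hx => ⟨hRS hx, Subgroup.le_normalizer hx⟩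
    obtain ⟨f', hf', hf'v⟩ := (isMapOn_fn hRS μ.2).exists_ext hrec (isImage_fn (μ : MulAut R)) hRN hN
    have hRlt : R < normalizerIn S R := by
      obtain ⟨g, hg, hgR⟩ := exists_mem_normalizerIn_not_mem hS hlt
      refine lt_of_le_of_ne hRN (fun he => hgR ?_)
      rw [he]
      exact hg
    have hcl := card_lt_of_lt hRlt (normalizerIn_le R)
    have hfr₁ : Fr (oppSys F p) F R (fn (μ : MulAut R)) :=
      ((ih _ (normalizerIn_le R) hcl f' hf').mono hRN).congr hf'v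
    have hfr₂ : Fr (oppSys F p) F R (fn (κ : MulAut R)) := fr_of_map (isMapOn_fn hRS hκE)
    have hcomp := Fr.comp le_rfl hinv hfr₁ hfr₂ (fun x hx => fn_mem _ hx)
    refine hcomp.congr (fun x hx => ?_)
    have e : ν = (κ : MulAut R) * (μ : MulAut R) := congrArg Subtype.val hνe
    rw [e, fn_mul _ _ hx]
  · obtain ⟨β, hβ, hβv⟩ := exists_aut_sup_centralizer hrec hν
    have hX : R ⊔ centralizerIn S R ≤ S := sup_le hRS inf_le_left
    have hRX : R ≤ R ⊔ centralizerIn S R := le_sup_left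
    have hlt' : R < R ⊔ centralizerIn S R := by
      refine lt_of_le_of_ne hRX (fun he => hc ?_)
      exact (le_sup_right : centralizerIn S R ≤ R ⊔ centralizerIn S R).trans he.ge
    have hcl := card_lt_of_lt hlt' hX
    exact ((ih _ hX hcl _ (isMapOn_fn hX hβ)).mono hRX).congr hβv

/-- Full normalization transports along `Aut_F(S)`. -/
theorem fullyNormalized_of_aut {a : MulAut S} (ha : a ∈ F.autGroup S) {Q₀ Q : Subgroup Ω} (hi : IsImage (fn a) Q₀ Q) (hQ₀S : Q₀ ≤ S)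
    (hQ : F.IsFullyNormalized Q) : F.IsFullyNormalized Q₀ := by
  have hm : IsMapOn F S (fn a) := isMapOn_fn le_rfl ha
  have hm' : IsMapOn F S (fn a⁻¹) := isMapOn_fn le_rfl (Subgroup.inv_mem _ ha)
  have hconj : F.IsConj Q₀ Q := (hm.mono hQ₀S).isConj hi
  have hi' : IsImage (fn a⁻¹) Q Q₀ := by
    intro y
    constructor
    · intro hy
      refine ⟨fn a y, hi.mem hy, fn_inv_fn a (hQ₀S hy)⟩
    · rintro ⟨x, hx, rfl⟩
      obtain ⟨z, hz, rfl⟩ := hi.exists_of_mem hx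
      rw [fn_inv_fn a (hQ₀S hz)]
      exact hz
  have hN : IsImage (fn a) (normalizerIn S Q₀) (normalizerIn S Q) := by
    intro y
    constructor
    · intro hy
      refine ⟨fn a⁻¹ y, hm'.mem_normalizerIn hQ.1 hi' hy.1 hy.2, fn_fn_inv a hy.1⟩
    · rintro ⟨x, hx, rfl⟩
      exact hm.mem_normalizerIn hQ₀S hi hx.1 hx.2
  refine ⟨hQ₀S, fun R hR => ?_⟩
  have h1 := hQ.2 R (isConj_trans (isConj_symm hconj) hR)
  rwa [← IsImage.card_eq hm (normalizerIn_le Q₀) hN] at h1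

theorem aut_mem_of_restrict_E {X Q : Subgroup Ω} (hX : X ≤ S) {E' : FusionSystem S} {a : MulAut X} (ha : a ∈ E'.autGroup X) (hQX : Q ≤ X)
    {b : MulAut Q} (he : ∀ x ∈ Q, fn a x = fn b x) : b ∈ E'.autGroup Q := by
  obtain ⟨c, hc, hcv⟩ := exists_aut_of_map (((isMapOn_fn hX ha).mono hQX).congr he) (isImage_fn b)
  have : c = b := fn_ext hcv
  rwa [← this]

/-- The main step: a `p`-element of `Aut_F(Q)`, for `Q` fully normalized and not containing its centralizer, lies in the subsystem. -/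
theorem pow_mem_of_fullyNormalized (hS : IsPGroup p S) (hF : F.IsSaturated p) {Q : Subgroup Ω} (hQn : F.IsFullyNormalized Q)
    (hQc : ¬ F.IsCentric Q) (ih : ∀ X : Subgroup Ω, X ≤ S → Nat.card Q < Nat.card X → oppAut F p X ≤ (oppSys F p).autGroup X)
    {α : MulAut Q} (hα : α ∈ F.autGroup Q) {k : ℕ} (hk : orderOf α = p ^ k) : α ∈ (oppSys F p).autGroup Q := by
  have hQS : Q ≤ S := hQn.1
  haveI : Finite Q := finite_of_le hQS
  have hrec := receptive_of_fullyNormalized hS hF hQn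
  have hnc : ¬ centralizerIn S Q ≤ Q := fun h => hQc (ZJ.isCentric_of_centralizer_le hS hF hQn h)
  have hfa := (fullyNormalized_spec hS hF hQn).2
  obtain ⟨V, hV⟩ := hfa.2
  have hsyl : SylowIn p (autInducedBy S Q) (F.autGroup Q) := ⟨V, hV⟩
  have hU : IsPGroup p (Subgroup.zpowers α) := by
    rw [IsPGroup.iff_card, Nat.card_zpowers]
    exact ⟨k, hk⟩
  have hUle : Subgroup.zpowers α ≤ F.autGroup Q := by
    rw [Subgroup.zpowers_le]
    exact hα
  obtain ⟨c, hc, hcU⟩ := hsyl.exists_conj hU hUle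
  have hcα : c * α * c⁻¹ ∈ autInducedBy S Q := hcU (conj_mem_cj (Subgroup.mem_zpowers α))
  obtain ⟨g, hg, hgv⟩ := mem_autInducedBy_iff.1 hcα
  have hgQ : g ∈ Subgroup.normalizer (Q : Set Ω) := mem_normalizer_of_autInduced hQS hgv
  have hX : Q ⊔ centralizerIn S Q ≤ S := sup_le hQS inf_le_left
  have hgC : g ∈ Subgroup.normalizer (centralizerIn S Q : Set Ω) := by
    refine mem_normalizer_of_conj_mem (S := S) inf_le_left (fun y hy => ?_)
    refine ⟨S.mul_mem (S.mul_mem hg hy.1) (S.inv_mem hg), ?_⟩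
    show g * y * g⁻¹ ∈ Subgroup.centralizer (Q : Set Ω)
    rw [Subgroup.mem_centralizer_iff]
    intro x hx
    have hx' : g⁻¹ * x * g ∈ Q := by
      have := conj_mem_of_normalizer (Subgroup.inv_mem _ hgQ) hx
      simpa using this
    have hy' : y ∈ Subgroup.centralizer (Q : Set Ω) := hy.2
    have h1 := (Subgroup.mem_centralizer_iff.1 hy') _ hx'
    calc x * (g * y * g⁻¹) = g * ((g⁻¹ * x * g) * y) * g⁻¹ := by group
      _ = g * (y * (g⁻¹ * x * g)) * g⁻¹ := by rw [h1]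
      _ = g * y * g⁻¹ * x := by group
  have hgX : g ∈ Subgroup.normalizer ((Q ⊔ centralizerIn S Q : Subgroup Ω) : Set Ω) := by
    refine mem_normalizer_of_conj_mem (S := S) hX (fun y hy => ?_)
    obtain ⟨t, ht, w, hw, rfl⟩ := exists_mul_of_mem_sup (le_normalizer_centralizerIn (S := S) Q) hy
    have e : g * (t * w) * g⁻¹ = (g * t * g⁻¹) * (g * w * g⁻¹) := by group
    rw [e]
    exact Subgroup.mul_mem _ ((le_sup_left : Q ≤ Q ⊔ centralizerIn S Q) (conj_mem_of_normalizer hgQ ht))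
      ((le_sup_right : centralizerIn S Q ≤ Q ⊔ centralizerIn S Q) (conj_mem_of_normalizer hgC hw))
  obtain ⟨β, hβ, hβv⟩ := exists_aut_sup_centralizer hrec hc
  have hd := autOfNormalizer_mem_autGroup (F := F) hX ⟨hg, hgX⟩
  have hlt : Q < Q ⊔ centralizerIn S Q := by
    refine lt_of_le_of_ne le_sup_left (fun he => hnc ?_)
    exact (le_sup_right : centralizerIn S Q ≤ Q ⊔ centralizerIn S Q).trans he.ge
  have hcl := card_lt_of_lt hlt hX
  obtain ⟨m, hm⟩ := hS ⟨g, hg⟩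
  have hm' : g ^ p ^ m = 1 := congrArg Subtype.val hm
  have hdord : autOfNormalizer hgX ^ p ^ m = 1 := by
    have hmap : ∀ n : ℕ, ∀ y : ↥(Q ⊔ centralizerIn S Q), (((autOfNormalizer hgX ^ n) y : ↥(Q ⊔ centralizerIn S Q)) : Ω) = g ^ n * y * (g ^ n)⁻¹ := by
      intro n
      induction n with
      | zero => intro y; simp
      | succ n ih =>
        intro y
        rw [pow_succ', MulAut.mul_apply, autOfNormalizer_coe, ih, pow_succ']
        group
    ext y
    rw [hmap, hm']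
    simp
  obtain ⟨j, -, hj⟩ := (Nat.dvd_prime_pow hp.out).1 (orderOf_dvd_of_pow_eq_one hdord)
  have hγmem : β⁻¹ * autOfNormalizer hgX * β ∈ F.autGroup (Q ⊔ centralizerIn S Q) :=
    Subgroup.mul_mem _ (Subgroup.mul_mem _ (Subgroup.inv_mem _ hβ) hd) hβ
  have hγord : orderOf (β⁻¹ * autOfNormalizer hgX * β) = p ^ j := by
    have e : β⁻¹ * autOfNormalizer hgX * β = β⁻¹ * autOfNormalizer hgX * β⁻¹⁻¹ := by rw [inv_inv]
    rw [e, ← MulAut.conj_apply, MulEquiv.orderOf_eq, hj]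
  have h1 := ih _ hX hcl (oppAut_of_pow hγmem hγord)
  refine aut_mem_of_restrict_E hX h1 (le_sup_left : Q ≤ Q ⊔ centralizerIn S Q) (fun x hx => ?_)
  have hxX : x ∈ Q ⊔ centralizerIn S Q := (le_sup_left : Q ≤ Q ⊔ centralizerIn S Q) hx
  have hβx : fn β x ∈ Q ⊔ centralizerIn S Q := fn_mem _ hxX
  rw [fn_mul _ _ hxX, fn_mul _ _ hβx, hβv x hx]
  have hcx : fn c x ∈ Q := fn_mem c hx
  have e2 : fn (autOfNormalizer hgX) (fn c x) = g * fn c x * g⁻¹ := by
    rw [fn_of_mem _ ((le_sup_left : Q ≤ Q ⊔ centralizerIn S Q) hcx)]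
    rfl
  have e3 : g * fn c x * g⁻¹ = fn (c * α * c⁻¹) (fn c x) := by
    rw [fn_of_mem (c * α * c⁻¹) hcx]
    exact (hgv ⟨fn c x, hcx⟩).symm
  have e4 : fn (c * α * c⁻¹) (fn c x) = fn c (fn α x) := by
    rw [fn_mul _ _ hcx, fn_inv_fn c hx, fn_mul _ _ hx]
  rw [e2, e3, e4, ← hβv _ (fn_mem α hx), fn_inv_fn β ((le_sup_left : Q ≤ Q ⊔ centralizerIn S Q) (fn_mem α hx))]

/-- **`Aut_E(P) ≥ O^{p'}(Aut_F(P))` for every `P ≤ S`.** -/
theorem oppAut_le_oppSys (hS : IsPGroup p S) (hF : F.IsSaturated p) : ∀ P : Subgroup Ω, P ≤ S → oppAut F p P ≤ (oppSys F p).autGroup P := by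
  intro P
  induction' hn : Nat.card S - Nat.card P using Nat.strong_induction_on with n ih generalizing P
  intro hPS
  have hcardT : ∀ X : Subgroup Ω, X ≤ S → Nat.card X ≤ Nat.card S := fun X hX => card_le_card_S (S := S) hX
  have ih' : ∀ X : Subgroup Ω, X ≤ S → Nat.card P < Nat.card X → oppAut F p X ≤ (oppSys F p).autGroup X := by
    intro X hXT hlt
    have h1 := hcardT X hXT
    have h2 := hcardT P hPS
    exact ih _ (by omega) X rfl hXT
  by_cases hc : F.IsCentric P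
  · exact oppFam_oppSys P hc
  rw [oppAut, Subgroup.map_le_iff_le_comap, Subgroup.closure_le]
  rintro ⟨α, hα⟩ ⟨k, hk⟩
  have hk' : orderOf α = p ^ k := by
    rw [← Subgroup.orderOf_mk α hα]
    exact hk
  show α ∈ (oppSys F p).autGroup P
  obtain ⟨Q, ⟨φ, hφ, hr⟩, hQ⟩ := exists_fullyNormalized_conj (F := F) hPS
  obtain ⟨a, ha, f₀, hf₀, hv⟩ := fr_oppSys hS hF P hPS _ (isMapOn_toFun hφ)
  obtain ⟨Q₀, hQ₀⟩ := hf₀.exists_image le_rfl
  have hQ₀S : Q₀ ≤ S := IsImage.le_S hf₀ le_rfl hQ₀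
  have himg : IsImage (fn a) Q₀ Q := by
    intro y
    constructor
    · intro hy
      rw [← hr] at hy
      obtain ⟨x, rfl⟩ := hy
      refine ⟨f₀ x, hQ₀.mem x.2, ?_⟩
      rw [← hv x x.2, toFun_coe]
    · rintro ⟨x, hx, rfl⟩
      obtain ⟨z, hz, rfl⟩ := hQ₀.exists_of_mem hx
      rw [← hv z hz, toFun_of_mem _ hz, ← hr]
      exact ⟨_, rfl⟩
  have hQ₀n := fullyNormalized_of_aut ha himg hQ₀S hQ
  obtain ⟨φ₀, hφ₀, hφ₀v⟩ := hf₀
  have hf₀F : IsMapOn F P f₀ := ⟨φ₀, oppSys_sub P hφ₀, hφ₀v⟩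
  have hf₀E : IsMapOn (oppSys F p) P f₀ := ⟨φ₀, hφ₀, hφ₀v⟩
  have hQ₀c : ¬ F.IsCentric Q₀ := fun h => hc (Fusion2.isCentric_of_isConj (isConj_symm (hf₀F.isConj hQ₀)) h)
  have hcard : Nat.card P = Nat.card Q₀ := IsImage.card_eq hf₀F le_rfl hQ₀
  obtain ⟨e, he, hev⟩ := hf₀F.exists_iso hQ₀
  have hα' := (autCongr he ⟨α, hα⟩).2
  have hα'ord : orderOf ((autCongr he ⟨α, hα⟩ : F.autGroup Q₀) : MulAut Q₀) = p ^ k := by
    have h1 : ((autCongr he ⟨α, hα⟩ : F.autGroup Q₀) : MulAut Q₀) = MulAut.congr e α := rfl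
    rw [h1, MulEquiv.orderOf_eq, hk']
  have hmain := pow_mem_of_fullyNormalized hS hF hQ₀n hQ₀c (fun X hX hlt => ih' X hX (by omega)) hα' hα'ord
  obtain ⟨g₀, hg₀, hg₀i, hg₀l, -⟩ := hf₀E.exists_inv hQ₀
  have hcomp := (hf₀E.comp (isMapOn_fn hQ₀S hmain) (fun x hx => hQ₀.mem hx)).comp hg₀ (fun x hx => fn_mem _ (hQ₀.mem hx))
  have h1 : ∀ x ∈ P, fn ((autCongr he ⟨α, hα⟩ : F.autGroup Q₀) : MulAut Q₀) (f₀ x) = f₀ (fn α x) := by
    intro x hx
    rw [← hev ⟨x, hx⟩, fn_coe, autCongr_coe, MulEquiv.symm_apply_apply, fn_of_mem α hx]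
    exact hev _
  have hcomp' : IsMapOn (oppSys F p) P (fn α) := hcomp.congr (fun x hx => by
    show g₀ (fn _ (f₀ x)) = _
    rw [h1 x hx, hg₀l _ (fn_mem α hx)])
  obtain ⟨c, hc', hcv⟩ := exists_aut_of_map hcomp' (isImage_fn α)
  have : c = α := fn_ext hcv
  rwa [← this]

/-- Centric subgroups agree. -/
theorem isCentric_iff_of_oppFam (hS : IsPGroup p S) (hF : F.IsSaturated p) (hEF : E.IsSubsystemOf F) (hE : OppFam F p E) (P : Subgroup Ω) :
    E.IsCentric P ↔ F.IsCentric P := by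
  constructor
  · intro hP
    refine ⟨hP.1, ?_⟩
    rintro Q ⟨φ, hφ, rfl⟩
    obtain ⟨a, ha, f₀, hf₀, hv⟩ := fr_oppSys hS hF P hP.1 _ (isMapOn_toFun hφ)
    obtain ⟨Q₀, hQ₀⟩ := hf₀.exists_image le_rfl
    obtain ⟨φ₀, hφ₀, hφ₀v⟩ := hf₀
    have hf₀E : IsMapOn E P f₀ := ⟨φ₀, oppSys_le hE P hφ₀, hφ₀v⟩
    have h1 := hP.2 Q₀ (hf₀E.isConj hQ₀)
    intro c hc
    have hcS : c ∈ S := hc.1
    have hc₀ : fn a⁻¹ c ∈ centralizerIn S Q₀ := by
      refine ⟨fn_mem _ hcS, ?_⟩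
      show fn a⁻¹ c ∈ Subgroup.centralizer (Q₀ : Set Ω)
      rw [Subgroup.mem_centralizer_iff]
      intro y hy
      obtain ⟨x, hx, rfl⟩ := hQ₀.exists_of_mem hy
      have hyS : f₀ x ∈ S := hf₀E.mem_S hx
      have h2 : c ∈ Subgroup.centralizer ((φ.range : Subgroup Ω) : Set Ω) := hc.2
      rw [Subgroup.mem_centralizer_iff] at h2
      have h3 := h2 (φ ⟨x, hx⟩) ⟨_, rfl⟩
      have h4 : φ ⟨x, hx⟩ = fn a (f₀ x) := by
        rw [← hv x hx, toFun_of_mem _ hx]
      rw [h4] at h3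
      have h5 := congrArg (fn a⁻¹) h3
      rw [fn_map_mul a⁻¹ (fn_mem a hyS) hcS, fn_map_mul a⁻¹ hcS (fn_mem a hyS), fn_inv_fn a hyS] at h5
      exact h5
    have h6 := h1 hc₀
    have h7 : c = fn a (fn a⁻¹ c) := (fn_fn_inv a hcS).symm
    rw [h7]
    obtain ⟨x, hx, e⟩ := hQ₀.exists_of_mem h6
    rw [← e, ← hv x hx, toFun_of_mem _ hx]
    exact ⟨_, rfl⟩
  · intro hP
    refine ⟨hP.1, fun Q hQ => hP.2 Q ?_⟩
    obtain ⟨φ, hφ, hr⟩ := hQ
    exact ⟨φ, hEF P hφ, hr⟩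

/-- The Frattini decomposition, bundled. -/
theorem frattini_of_oppFam (hS : IsPGroup p S) (hF : F.IsSaturated p) (h : OppFam F p E) {P : Subgroup Ω} {φ : P →* Ω} (hφ : φ ∈ F.Hom P) :
    ∃ α ∈ F.autGroup S, ∃ φ₀ ∈ E.Hom P, ∀ (x : P) (hx : φ₀ x ∈ S), φ x = ((α ⟨φ₀ x, hx⟩ : S) : Ω) := by
  obtain ⟨α, hα, f₀, hf₀, hv⟩ := fr_oppSys hS hF P (le_of_hom hφ) _ (isMapOn_toFun hφ)
  obtain ⟨φ₀, hφ₀, hφ₀v⟩ := hf₀
  refine ⟨α, hα, φ₀, oppSys_le h P hφ₀, fun x hx => ?_⟩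
  rw [← toFun_coe φ x, hv x x.2, ← hφ₀v x, fn_of_mem α hx]

end Cfsg.Agent.Lib.Fusion
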