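/-
The `p'`-residual subsystem `O^{p'}(F)`.
-/
import Cfsg.Agent.Lib.Fusion.PPrime2
import Cfsg.Agent.Lib.Fusion.Criterion4
import Cfsg.Prelude.Def_FusionComponents

set_option autoImplicit false
set_option linter.unusedSectionVars false
set_option linter.style.haveILetI false

namespace Cfsg.Agent.Lib.Fusion

open Cfsg Cfsg.FusionSystem

variable {Ω : Type*} [Group Ω] {S : Subgroup Ω} {F : FusionSystem S} {p : ℕ}

/-- `Aut⁰_F(S)`. -/
def oa (F : FusionSystem S) (p : ℕ) : Subgroup (MulAut S) :=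
  Subgroup.closure {α | α ∈ F.autGroup S ∧ ∃ P : Subgroup Ω, F.IsCentric P ∧ IsMapOn (oppSys F p) P (fn α)}

theorem oa_le : oa F p ≤ F.autGroup S := (Subgroup.closure_le _).2 (fun _ h => h.1)

theorem mem_oa_of {α : MulAut S} (hα : α ∈ F.autGroup S) {P : Subgroup Ω} (hP : F.IsCentric P) (h : IsMapOn (oppSys F p) P (fn α)) : α ∈ oa F p :=
  Subgroup.subset_closure ⟨hα, P, hP, h⟩

/-- Membership in `O^{p'}(F)` of a map. -/
def MemE (F : FusionSystem S) (p : ℕ) (P : Subgroup Ω) (f : Ω → Ω) : Prop :=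
  ∃ a ∈ oa F p, ∃ f₀, IsMapOn (oppSys F p) P f₀ ∧ ∀ x ∈ P, f x = fn a (f₀ x)

theorem MemE.congr {P : Subgroup Ω} {f g : Ω → Ω} (h : MemE F p P f) (he : ∀ x ∈ P, f x = g x) : MemE F p P g := by
  obtain ⟨a, ha, f₀, hf₀, hv⟩ := h
  exact ⟨a, ha, f₀, hf₀, fun x hx => by rw [← he x hx, hv x hx]⟩

theorem memE_of_map {P : Subgroup Ω} {f : Ω → Ω} (h : IsMapOn (oppSys F p) P f) : MemE F p P f :=
  ⟨1, Subgroup.one_mem _, f, h, fun x hx => (fn_one (h.mem_S hx)).symm⟩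

theorem memE_of_aut {P : Subgroup Ω} (hP : P ≤ S) {a : MulAut S} (ha : a ∈ oa F p) : MemE F p P (fn a) :=
  ⟨a, ha, id, isMapOn_id hP, fun _ _ => rfl⟩

theorem IsMapOn.of_sub {T P : Subgroup Ω} {E : FusionSystem T} {f : Ω → Ω} (h : IsMapOn E P f) (hEF : E.IsSubsystemOf F) : IsMapOn F P f := by
  obtain ⟨φ, hφ, hv⟩ := h
  exact ⟨φ, hEF P hφ, hv⟩

variable [Finite S]

theorem MemE.comp {P Y : Subgroup Ω} {f g : Ω → Ω} (hf : MemE F p P f) (hg : MemE F p Y g) (hPY : ∀ x ∈ P, f x ∈ Y) :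
    MemE F p P (fun x => g (f x)) := by
  obtain ⟨a, ha, f₀, hf₀, hfv⟩ := hf
  obtain ⟨b, hb, g₀, hg₀, hgv⟩ := hg
  have hi : AutInv (oppSys F p) F := autInv_oppSys
  have hYT : Y ≤ S := hg₀.le
  have hainv := Subgroup.inv_mem _ ha
  have hainv' := oa_le hainv
  obtain ⟨Y₀, hY₀⟩ := (isMapOn_fn le_rfl hainv').exists_image hYT
  have hg₁ := hi Y g₀ hYT hg₀ a⁻¹ hainv' Y₀ hY₀
  rw [inv_inv] at hg₁
  have hf₀Y : ∀ x ∈ P, f₀ x ∈ Y₀ := by
    intro x hx
    have h1 := hY₀.mem (hPY x hx)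
    rw [hfv x hx, fn_inv_fn a (hf₀.mem_S hx)] at h1
    exact h1
  refine ⟨b * a, Subgroup.mul_mem _ hb ha, _, hf₀.comp hg₁ hf₀Y, fun x hx => ?_⟩
  have h2 : f₀ x ∈ S := hf₀.mem_S hx
  have h3 := hPY x hx
  have h4 : g₀ (f x) ∈ S := hg₀.mem_S h3
  have h5 : fn a (f₀ x) = f x := (hfv x hx).symm
  show g (f x) = fn (b * a) (fn a⁻¹ (g₀ (fn a (f₀ x))))
  rw [h5, fn_mul _ _ (fn_mem _ h4), fn_fn_inv a h4]
  exact hgv _ h3

theorem MemE.inv {P R : Subgroup Ω} {f f' : Ω → Ω} (hf : MemE F p P f) (hR : IsImage f P R) (hf' : ∀ x ∈ P, f' (f x) = x) : MemE F p R f' := by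
  obtain ⟨a, ha, f₀, hf₀, hfv⟩ := hf
  have hi : AutInv (oppSys F p) F := autInv_oppSys
  obtain ⟨P₀, hP₀⟩ := hf₀.exists_image le_rfl
  obtain ⟨g₀, hg₀, -, hg₀l, -⟩ := hf₀.exists_inv hP₀
  have hP₀T : P₀ ≤ S := IsImage.le_S hf₀ le_rfl hP₀
  have hPT : P ≤ S := hf₀.le
  have him : IsImage (fn a) P₀ R := by
    intro y
    constructor
    · intro hy
      obtain ⟨x, hx, rfl⟩ := hR.exists_of_mem hy
      exact ⟨f₀ x, hP₀.mem hx, (hfv x hx).symm⟩
    · rintro ⟨z, hz, rfl⟩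
      obtain ⟨x, hx, rfl⟩ := hP₀.exists_of_mem hz
      rw [← hfv x hx]
      exact hR.mem hx
  have hm := hi P₀ g₀ hP₀T hg₀ a (oa_le ha) R him
  refine ⟨a⁻¹, Subgroup.inv_mem _ ha, _, hm, fun y hy => ?_⟩
  obtain ⟨x, hx, rfl⟩ := hR.exists_of_mem hy
  rw [hf' x hx, hfv x hx, fn_inv_fn a (hf₀.mem_S hx), hg₀l x hx, fn_inv_fn a (hPT hx)]

/-- `O^{p'}(F)`. -/
noncomputable def primeSys (F : FusionSystem S) (p : ℕ) : FusionSystem S :=
  subSystem F (fun P φ => MemE F p P (toFun φ))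
    (fun P g hP hg => (memE_of_map (isMapOn_conj hP hg)).congr (fun x hx => by
      rw [toFun_of_mem _ hx]
      rfl))
    (by
      intro P Q φ ψ _ _ h₁ h₂ h
      refine (h₁.comp h₂ (fun x hx => ?_)).congr (fun x hx => ?_)
      · rw [toFun_of_mem _ hx]
        exact h ⟨x, hx⟩
      · rw [toFun_of_mem _ hx, toFun_of_mem _ hx, toFun_of_mem _ (h ⟨x, hx⟩)]
        rfl)
    (by
      intro P φ ψ _ _ hψv h₁
      refine h₁.inv (fun y => ?_) (fun x hx => ?_)
      · constructor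
        · rintro ⟨x, rfl⟩
          exact ⟨x, x.2, toFun_coe φ x⟩
        · rintro ⟨x, hx, rfl⟩
          rw [toFun_of_mem _ hx]
          exact ⟨_, rfl⟩
      · rw [toFun_of_mem _ hx, toFun_of_mem ψ ⟨⟨x, hx⟩, rfl⟩, hψv ⟨x, hx⟩])

theorem primeSys_sub : (primeSys F p).IsSubsystemOf F := fun _ _ h => h.1

theorem isMapOn_primeSys_iff {P : Subgroup Ω} {f : Ω → Ω} : IsMapOn (primeSys F p) P f ↔ IsMapOn F P f ∧ MemE F p P f := by
  constructor
  · rintro ⟨φ, hφ, hv⟩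
    exact ⟨⟨φ, hφ.1, hv⟩, hφ.2.congr (fun x hx => by rw [toFun_of_mem _ hx]; exact hv ⟨x, hx⟩)⟩
  · rintro ⟨⟨φ, hφ, hv⟩, h⟩
    exact ⟨φ, ⟨hφ, h.congr (fun x hx => by rw [toFun_of_mem _ hx]; exact (hv ⟨x, hx⟩).symm)⟩, hv⟩

theorem oppSys_le_primeSys : (oppSys F p).IsSubsystemOf (primeSys F p) := by
  intro P φ hφ
  exact ⟨oppSys_sub P hφ, memE_of_map (isMapOn_toFun hφ)⟩

theorem oppFam_primeSys : OppFam F p (primeSys F p) := by
  intro P hP
  exact (oppFam_oppSys P hP).trans (autGroup_le_of_subsystem oppSys_le_primeSys hP.1)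

theorem oa_mem_primeSys {a : MulAut S} (ha : a ∈ oa F p) : a ∈ (primeSys F p).autGroup S := by
  refine (mem_autGroup_iff le_rfl).2 ?_
  obtain ⟨φ, hφ, hv⟩ := isMapOn_primeSys_iff.2 ⟨isMapOn_fn le_rfl (oa_le ha), memE_of_aut le_rfl ha⟩
  refine isIso_of_forall hφ _ (fun x => ?_)
  rw [hv, fn_coe]

variable [hp : Fact p.Prime]

/-- An extension of a map of `O^{p'}(F)` on a centric subgroup lies in `O^{p'}(F)`. -/
theorem memE_of_restrict (hS : IsPGroup p S) (hF : F.IsSaturated p) {P X : Subgroup Ω} (hPc : F.IsCentric P) (hPX : P ≤ X) {f : Ω → Ω} (hf : IsMapOn F X f)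
    (hm : MemE F p P f) : MemE F p X f := by
  obtain ⟨a, ha, f₀, hf₀, hv⟩ := fr_oppSys hS hF X hf.le f hf
  obtain ⟨b, hb, g₀, hg₀, hw⟩ := hm
  refine ⟨a, ?_, f₀, hf₀, hv⟩
  have hbS := oa_le hb
  obtain ⟨P₁, hi⟩ := (hf₀.mono hPX).exists_image le_rfl
  have hf₀F : IsMapOn F P f₀ := (hf₀.mono hPX).of_sub oppSys_sub
  have hP₁c : F.IsCentric P₁ := Fusion2.isCentric_of_isConj (hf₀F.isConj hi) hPc
  have hmem : b⁻¹ * a ∈ oa F p := by
    refine mem_oa_of (Subgroup.mul_mem _ (Subgroup.inv_mem _ hbS) ha) hP₁c ?_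
    obtain ⟨h₀, hh₀, -, hh₀l, -⟩ := (hf₀.mono hPX).exists_inv hi
    refine (hh₀.comp hg₀ (fun x hx => ?_)).congr (fun x hx => ?_)
    · obtain ⟨z, hz, rfl⟩ := hi.exists_of_mem hx
      rw [hh₀l z hz]
      exact hz
    · obtain ⟨z, hz, rfl⟩ := hi.exists_of_mem hx
      have hzS : g₀ z ∈ S := hg₀.mem_S hz
      have h₁ := hv z (hPX hz)
      have h₂ := hw z hz
      rw [h₁] at h₂
      show g₀ (h₀ (f₀ z)) = _
      rw [hh₀l z hz, fn_mul _ _ (hf₀.mem_S (hPX hz)), h₂, fn_inv_fn b hzS]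
  have e : a = b * (b⁻¹ * a) := by group
  rw [e]
  exact Subgroup.mul_mem _ hb hmem

/-- **`O^{p'}(F)` is saturated.** -/
theorem isSaturated_primeSys (hS : IsPGroup p S) (hF : F.IsSaturated p) : (primeSys F p).IsSaturated p := by
  have hsub : (primeSys F p).IsSubsystemOf F := primeSys_sub
  have hfam : OppFam F p (primeSys F p) := oppFam_primeSys
  have hcen := isCentric_iff_of_oppFam hS hF hsub hfam
  refine isSaturated_of_criterion hS {P : Subgroup Ω | F.IsCentric P} ?_ ?_ ?_ ?_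
  · rintro P hP Q ⟨φ, hφ, hr⟩
    exact Fusion2.isCentric_of_isConj ⟨φ, hsub P hφ, hr⟩ hP
  · intro P hP
    have hPS : P ≤ S := hP.1
    obtain ⟨Q', ⟨φ, hφ, hr⟩, hQ'⟩ := exists_fullyNormalized_conj (F := F) hPS
    obtain ⟨a, ha, f₀, hf₀, hv⟩ := fr_oppSys hS hF P hPS _ (isMapOn_toFun hφ)
    obtain ⟨Q, hQ⟩ := hf₀.exists_image le_rfl
    have hQS : Q ≤ S := IsImage.le_S hf₀ le_rfl hQ
    have himg : IsImage (fn a) Q Q' := by
      intro y
      constructor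
      · intro hy
        rw [← hr] at hy
        obtain ⟨x, rfl⟩ := hy
        refine ⟨f₀ x, hQ.mem x.2, ?_⟩
        rw [← hv x x.2, toFun_coe]
      · rintro ⟨x, hx, rfl⟩
        obtain ⟨z, hz, rfl⟩ := hQ.exists_of_mem hx
        rw [← hv z hz, toFun_of_mem _ hz, ← hr]
        exact ⟨_, rfl⟩
    have hQn := fullyNormalized_of_aut ha himg hQS hQ'
    have hf₀F : IsMapOn F P f₀ := hf₀.of_sub oppSys_sub
    have hQc : F.IsCentric Q := Fusion2.isCentric_of_isConj (hf₀F.isConj hQ) hP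
    haveI : Finite Q := finite_of_le hQS
    refine ⟨Q, (hf₀.of_sub oppSys_le_primeSys).isConj hQ, ?_, ?_⟩
    · -- fully automized
      have hfa := (fullyNormalized_spec hS hF hQn).2
      have hsyl : SylowIn p (autInducedBy S Q) (F.autGroup Q) := hfa.2
      have hle1 : autInducedBy S Q ≤ F.autGroup Q := autInducedBy_le_autGroup hQS
      have hle2 : (primeSys F p).autGroup Q ≤ F.autGroup Q := autGroup_le_of_subsystem hsub hQS
      have hle3 : autInducedBy S Q ≤ (primeSys F p).autGroup Q := by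
        intro α hα
        have hαF := hle1 hα
        have hαp : IsPGroup p (autInducedBy S Q) := isPGroup_autInducedBy hS hQS
        obtain ⟨k, hk⟩ := (IsPGroup.iff_orderOf.1 hαp) ⟨α, hα⟩
        rw [Subgroup.orderOf_mk] at hk
        exact hfam Q hQc (oppAut_of_pow hαF hk)
      exact ⟨hQS, sylowIn_of_max hle3 (isPGroup_autInducedBy hS hQS) (fun U hU hUp => hsyl.max hle1 hUp (hU.trans hle2))⟩
    · -- receptive
      refine ⟨hQS, fun R φ' hφ' hr' => ?_⟩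
      have hφF : φ' ∈ F.Hom R := hsub R hφ'
      have hrecF := receptive_of_fullyNormalized hS hF hQn
      obtain ⟨ψ, hψ, hψv⟩ := hrecF.2 R φ' hφF hr'
      have hRc : F.IsCentric R := Fusion2.isCentric_of_isConj (isConj_symm ⟨φ', hφF, hr'⟩) hQc
      have hRX : R ≤ extender S R φ' := le_extender hφF
      have hmem : MemE F p (extender S R φ') (toFun ψ) := by
        refine memE_of_restrict hS hF hRc hRX (isMapOn_toFun hψ) (hφ'.2.congr (fun x hx => ?_))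
        rw [toFun_of_mem _ hx, toFun_of_mem _ (hRX hx), hψv x hx (hRX hx)]
      exact ⟨ψ, ⟨hψ, hmem⟩, hψv⟩
  · intro E' hE'
    have hfamE' : OppFam F p E' := by
      intro P hP α hα
      have h1 := hfam P hP hα
      exact (mem_autGroup_iff hP.1).2 (hE' P hP ((mem_autGroup_iff hP.1).1 h1))
    have hScent : F.IsCentric S := isCentric_self
    intro P φ hφ
    obtain ⟨a, ha, f₀, hf₀, hv⟩ := hφ.2
    have hf₀E : IsMapOn E' P f₀ := hf₀.of_sub (oppSys_le hfamE')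
    have haE : a ∈ E'.autGroup S := (mem_autGroup_iff le_rfl).2 (hE' S hScent ((mem_autGroup_iff le_rfl).1 (oa_mem_primeSys ha)))
    have hm : IsMapOn E' P (fun x => fn a (f₀ x)) := hf₀E.comp (isMapOn_fn le_rfl haE) (fun x hx => hf₀E.mem_S hx)
    obtain ⟨ψ, hψ, hψv⟩ := hm
    have e : φ = ψ := by
      ext x
      rw [hψv]
      show φ x = fn a (f₀ x)
      rw [← hv x x.2, toFun_coe]
    rwa [e]
  · intro P hP hn
    exact absurd ((hcen P).1 hP) hn

/-- Extension from a centric normal subgroup in a saturated subsystem of index prime to `p`. -/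
theorem ext_of_centric (hS : IsPGroup p S) {D : FusionSystem S} (hD : D.IsSaturated p) (hDF : D.IsSubsystemOf F)
    (hall : ∀ Y : Subgroup Ω, Y ≤ S → oppAut F p Y ≤ D.autGroup Y) {R X : Subgroup Ω} (hRc : F.IsCentric R) (hRX : R ≤ X)
    (hXN : X ≤ Subgroup.normalizer (R : Set Ω)) {f : Ω → Ω} (hf : IsMapOn F X f) (hfR : IsMapOn D R f) : IsMapOn D X f := by
  obtain ⟨R', hR'⟩ := hfR.exists_image le_rfl
  have hR'S : R' ≤ S := IsImage.le_S hfR le_rfl hR'
  obtain ⟨Q, hR'Q, hQ⟩ := exists_fullyNormalized_conj (F := D) hR'S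
  obtain ⟨φ, hφ, -, hφmap⟩ := exists_ext_of_fullyNormalized hS hD hQ hR'Q
  have hum := isMapOn_toFun hφ
  have hfX : ∀ x ∈ X, f x ∈ normalizerIn S R' := fun x hx => hf.mem_normalizerIn hRX hR' hx (hXN hx)
  have hhF : IsMapOn F X (fun x => toFun φ (f x)) := hf.comp (hum.of_sub hDF) hfX
  have hRh : IsMapOn D R (fun x => toFun φ (f x)) := hfR.comp hum (fun x hx => hfX x (hRX hx))
  have hR'N : R' ≤ normalizerIn S R' := le_normalizerIn hR'S
  have himu : IsImage (toFun φ) R' Q := by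
    intro y
    rw [← hφmap]
    constructor
    · rintro ⟨x, hx, rfl⟩
      exact ⟨x, hx, toFun_coe φ x⟩
    · rintro ⟨x, hx, rfl⟩
      exact ⟨⟨x, hR'N hx⟩, hx, (toFun_of_mem φ (hR'N hx)).symm⟩
  have him : IsImage (fun x => toFun φ (f x)) R Q := hR'.comp himu
  obtain ⟨θ, hθ, hθv⟩ := hRh.exists_ext (receptive_of_fullyNormalized hS hD hQ) him hRX (fun g hg => by
    refine ⟨hf.le hg, hXN hg, toFun φ (f g), hhF.mem_S hg, fun x hx => hhF.map_conj hg (hRX hx)⟩)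
  have hQc : F.IsCentric Q := Fusion2.isCentric_of_isConj ((hhF.mono hRX).isConj him) hRc
  have hQS : Q ≤ S := hQ.1
  obtain ⟨Y, hY⟩ := hθ.exists_image le_rfl
  have hYS : Y ≤ S := IsImage.le_S hθ le_rfl hY
  have hQY : Q ≤ Y := by
    intro q hq
    obtain ⟨r, hr, rfl⟩ := him.exists_of_mem hq
    show toFun φ (f r) ∈ Y
    rw [← hθv r hr]
    exact hY.mem (hRX hr)
  have hkey : ∀ x ∈ X, (θ x)⁻¹ * toFun φ (f x) ∈ Q := by
    intro x hx
    refine hQc.2 Q (isConj_refl hQS) ⟨S.mul_mem (S.inv_mem (hθ.mem_S hx)) (hhF.mem_S hx), ?_⟩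
    show _ ∈ Subgroup.centralizer (Q : Set Ω)
    rw [Subgroup.mem_centralizer_iff]
    intro q hq
    obtain ⟨r, hr, rfl⟩ := him.exists_of_mem hq
    have hr' : x * r * x⁻¹ ∈ R := conj_mem_of_normalizer (hXN hx) hr
    have e1 := hhF.map_conj hx (hRX hr)
    have e2 := hθ.map_conj hx (hRX hr)
    have e3 := hθv _ hr'
    have e4 := hθv _ hr
    rw [e3, e1, e4] at e2
    show toFun φ (f r) * ((θ x)⁻¹ * toFun φ (f x)) = (θ x)⁻¹ * toFun φ (f x) * toFun φ (f r)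
    have e5 : toFun φ (f x) * toFun φ (f r) = θ x * toFun φ (f r) * (θ x)⁻¹ * toFun φ (f x) := by
      rw [← e2]
      group
    calc toFun φ (f r) * ((θ x)⁻¹ * toFun φ (f x)) = (θ x)⁻¹ * (θ x * toFun φ (f r) * (θ x)⁻¹ * toFun φ (f x)) := by group
      _ = (θ x)⁻¹ * (toFun φ (f x) * toFun φ (f r)) := by rw [e5]
      _ = _ := by group
  obtain ⟨Y', hY'⟩ := hhF.exists_image le_rfl
  have hY'Y : Y' ≤ Y := by
    intro y hy
    obtain ⟨x, hx, rfl⟩ := hY'.exists_of_mem hy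
    have e : toFun φ (f x) = θ x * ((θ x)⁻¹ * toFun φ (f x)) := by group
    show toFun φ (f x) ∈ Y
    rw [e]
    exact Y.mul_mem (hY.mem hx) (hQY (hkey x hx))
  haveI : Finite Y := finite_of_le hYS
  have hY'eq : Y' = Y := Subgroup.eq_of_le_of_card_ge hY'Y (by
    rw [← IsImage.card_eq hhF le_rfl hY', ← IsImage.card_eq (hθ.of_sub hDF) le_rfl hY])
  subst hY'eq
  obtain ⟨i, hi, hii, hil, hir⟩ := hθ.exists_inv hY
  have hδ : IsMapOn F Y' (fun y => toFun φ (f (i y))) := (hi.of_sub hDF).comp hhF (fun y hy => hii.mem hy)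
  obtain ⟨d, hd, hdv⟩ := exists_aut_of_map hδ (hii.comp hY')
  have hdθ : ∀ x ∈ X, fn d (θ x) = toFun φ (f x) := by
    intro x hx
    rw [hdv _ (hY.mem hx)]
    show toFun φ (f (i (θ x))) = _
    rw [hil x hx]
  have hdQ : ∀ q ∈ Q, fn d q = q := by
    intro q hq
    obtain ⟨r, hr, rfl⟩ := him.exists_of_mem hq
    show fn d (toFun φ (f r)) = toFun φ (f r)
    rw [← hθv r hr, hdθ r (hRX hr), hθv r hr]
  have hdz : ∀ y ∈ Y', y⁻¹ * fn d y ∈ Q := by
    intro y hy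
    obtain ⟨x, hx, rfl⟩ := hY.exists_of_mem hy
    rw [hdθ x hx]
    exact hkey x hx
  have hdpow : ∀ n : ℕ, ∀ y ∈ Y', fn (d ^ n) y = y * (y⁻¹ * fn d y) ^ n := by
    intro n
    induction n with
    | zero =>
      intro y hy
      rw [pow_zero, pow_zero, mul_one, fn_one hy]
    | succ n ih =>
      intro y hy
      have hz := hdz y hy
      rw [pow_succ', fn_mul _ _ hy, ih y hy]
      have hzn : (y⁻¹ * fn d y) ^ n ∈ Q := Q.pow_mem hz n
      rw [fn_map_mul d hy (hQY hzn), hdQ _ hzn, pow_succ']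
      generalize (y⁻¹ * fn d y) ^ n = w
      calc fn d y * w = y * (y⁻¹ * fn d y * w) := by group
        _ = _ := rfl
  haveI : Finite Q := finite_of_le hQS
  obtain ⟨m, hm⟩ := IsPGroup.iff_card.1 (hS.to_le hQS)
  have hdord : d ^ p ^ m = 1 := by
    refine fn_ext (fun y hy => ?_)
    rw [hdpow _ y hy, fn_one hy]
    have hz := hdz y hy
    have h3 := pow_card_eq_one' (G := Q) (x := ⟨_, hz⟩)
    rw [hm] at h3
    have h4 : (y⁻¹ * fn d y) ^ p ^ m = 1 := congrArg Subtype.val h3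
    rw [h4, mul_one]
  obtain ⟨j, -, hj⟩ := (Nat.dvd_prime_pow hp.out).1 (orderOf_dvd_of_pow_eq_one hdord)
  have hdD : d ∈ D.autGroup Y' := hall Y' hYS (oppAut_of_pow hd hj)
  have hhD : IsMapOn D X (fun x => toFun φ (f x)) :=
    (hθ.comp (isMapOn_fn hYS hdD) (fun x hx => hY.mem hx)).congr (fun x hx => hdθ x hx)
  obtain ⟨X₁, hX₁⟩ := hf.exists_image le_rfl
  have hX₁N : X₁ ≤ normalizerIn S R' := by
    intro y hy
    obtain ⟨x, hx, rfl⟩ := hX₁.exists_of_mem hy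
    exact hfX x hx
  have hu₁ : IsImage (toFun φ) X₁ Y' := by
    intro y
    constructor
    · intro hy
      obtain ⟨x, hx, rfl⟩ := hY'.exists_of_mem hy
      exact ⟨f x, hX₁.mem hx, rfl⟩
    · rintro ⟨z, hz, rfl⟩
      obtain ⟨x, hx, rfl⟩ := hX₁.exists_of_mem hz
      exact hY'.mem hx
  obtain ⟨g, hg, -, hgl, -⟩ := (hum.mono hX₁N).exists_inv hu₁
  refine (hhD.comp hg (fun x hx => hY'.mem hx)).congr (fun x hx => ?_)
  exact hgl _ (hX₁.mem hx)

theorem mem_autGroup_of_restrict (hS : IsPGroup p S) {D : FusionSystem S} (hD : D.IsSaturated p) (hDF : D.IsSubsystemOf F)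
    (hall : ∀ Y : Subgroup Ω, Y ≤ S → oppAut F p Y ≤ D.autGroup Y) {α : MulAut S} (hα : α ∈ F.autGroup S) :
    ∀ P : Subgroup Ω, F.IsCentric P → IsMapOn D P (fn α) → α ∈ D.autGroup S := by
  intro P
  induction' hn : Nat.card S - Nat.card P using Nat.strong_induction_on with n ih generalizing P
  intro hPc hm
  have hPS : P ≤ S := hPc.1
  by_cases hPe : P = S
  · subst hPe
    obtain ⟨c, hc, hcv⟩ := exists_aut_of_map hm (isImage_fn α)
    have : c = α := fn_ext hcv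
    rwa [← this]
  · have hlt : P < S := lt_of_le_of_ne hPS hPe
    have hPN := le_normalizerIn (S := S) hPS
    have hXS := normalizerIn_le (S := S) P
    have hPlt : P < normalizerIn S P := by
      obtain ⟨g, hg, hgR⟩ := exists_mem_normalizerIn_not_mem hS hlt
      refine lt_of_le_of_ne hPN (fun he => hgR ?_)
      rw [he]
      exact hg
    have hcl := card_lt_of_lt hPlt hXS
    have hcS := card_le_card_S (S := S) hXS
    have hm' := ext_of_centric hS hD hDF hall hPc hPN inf_le_right ((isMapOn_fn le_rfl hα).mono hXS) hm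
    exact ih _ (by omega) _ rfl (isCentric_of_le hPc hPN hXS) hm'

/-- **`O^{p'}(F)` is least.** -/
theorem primeSys_le (hS : IsPGroup p S) {D : FusionSystem S} (hD : D.IsSaturated p) (hi : D.HasPrimeToPIndexIn F p) :
    (primeSys F p).IsSubsystemOf D := by
  have hall : ∀ Y : Subgroup Ω, Y ≤ S → oppAut F p Y ≤ D.autGroup Y := hi.2
  have hfam : OppFam F p D := fun P hP => hall P hP.1
  have hoa : oa F p ≤ D.autGroup S := by
    refine (Subgroup.closure_le _).2 ?_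
    rintro α ⟨hα, P, hP, hm⟩
    exact mem_autGroup_of_restrict hS hD hi.1 hall hα P hP (hm.of_sub (oppSys_le hfam))
  intro P φ hφ
  obtain ⟨a, ha, f₀, hf₀, hv⟩ := hφ.2
  have hf₀E : IsMapOn D P f₀ := hf₀.of_sub (oppSys_le hfam)
  have hm : IsMapOn D P (fun x => fn a (f₀ x)) := hf₀E.comp (isMapOn_fn le_rfl (hoa ha)) (fun x hx => hf₀E.mem_S hx)
  obtain ⟨ψ, hψ, hψv⟩ := hm
  have e : φ = ψ := by
    ext x
    rw [hψv]
    show φ x = fn a (f₀ x)
    rw [← hv x x.2, toFun_coe]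
  rwa [e]

/-- **Existence of `O^{p'}(F)`.** -/
theorem isPPrimeResidual_primeSys (hS : IsPGroup p S) (hF : F.IsSaturated p) : F.IsPPrimeResidual p (primeSys F p) :=
  ⟨isSaturated_primeSys hS hF, ⟨primeSys_sub, fun P hP => (oppAut_le_oppSys hS hF P hP).trans (autGroup_le_of_subsystem oppSys_le_primeSys hP)⟩,
    fun _ hD hi => primeSys_le hS hD hi⟩

end Cfsg.Agent.Lib.Fusion
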