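/-
`O^{p'}(E)` lies in every normal subsystem of `F` on `T`.
-/
import Cfsg.Agent.Lib.Fusion.PPrime3
import Cfsg.Agent.Lib.Fusion.PIndexNormal
import Cfsg.Prelude.Def_FusionComponents

set_option autoImplicit false
set_option linter.unusedSectionVars false
set_option linter.style.haveILetI false

namespace Cfsg.Agent.Lib.Fusion

open Cfsg Cfsg.FusionSystem

variable {Ω : Type*} [Group Ω] {S T : Subgroup Ω} {F : FusionSystem S} {p : ℕ}

/-- Restriction of `F` to a strongly closed subgroup. -/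
def sysOnClosed (F : FusionSystem S) (hT : F.StronglyClosed T) : FusionSystem T where
  Hom P := {φ | φ ∈ F.Hom P ∧ P ≤ T}
  le_of_mem := fun {P} {φ} h => ⟨h.2, fun x => hT.2 P h.2 φ h.1 x⟩
  injective_of_mem := fun h => F.injective_of_mem h.1
  conj_mem := fun hP hg => ⟨F.conj_mem (hP.trans hT.1) (hT.1 hg), hP⟩
  comp_mem := fun hφ hψ h => ⟨F.comp_mem hφ.1 hψ.1 h, hφ.2⟩
  inv_mem := by
    intro P φ h
    obtain ⟨ψ, hψ, hv⟩ := F.inv_mem h.1
    refine ⟨ψ, ⟨hψ, ?_⟩, hv⟩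
    rintro _ ⟨x, rfl⟩
    exact hT.2 P h.2 φ h.1 x

theorem mem_of_pow_mem_of_coprime {G : Type*} [Group G] (H : Subgroup G) {b : G} {a c : ℕ} (h : Nat.Coprime a c) (ha : b ^ a ∈ H)
    (hc : b ^ c ∈ H) : b ∈ H := by
  have e := Nat.gcd_eq_gcd_ab a c
  rw [h] at e
  have e2 : b = (b ^ a) ^ (Nat.gcdA a c) * (b ^ c) ^ (Nat.gcdB a c) := by
    rw [← zpow_natCast, ← zpow_natCast, ← zpow_mul, ← zpow_mul, ← zpow_add, ← e]
    simp
  rw [e2]
  exact H.mul_mem (H.zpow_mem ha _) (H.zpow_mem hc _)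

variable [Finite S] [hp : Fact p.Prime]

/-- The core of the extension argument from a centric normal subgroup. -/
theorem exists_centric_data (hS : IsPGroup p S) {D : FusionSystem S} (hD : D.IsSaturated p) (hDF : D.IsSubsystemOf F) {R X : Subgroup Ω} (hRc : F.IsCentric R) (hRX : R ≤ X)
    (hXN : X ≤ Subgroup.normalizer (R : Set Ω)) {f : Ω → Ω} (hf : IsMapOn F X f) (hfR : IsMapOn D R f) :
    ∃ (Y N : Subgroup Ω) (θ u i : Ω → Ω) (d : MulAut Y) (r : ℕ), IsMapOn D X θ ∧ IsImage θ X Y ∧ IsMapOn D Y i ∧ (∀ y ∈ Y, i y ∈ X) ∧ N ≤ S ∧ IsMapOn D N u ∧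
      (∀ x ∈ X, f x ∈ N) ∧ d ∈ F.autGroup Y ∧ d ^ p ^ r = 1 ∧ ∀ y ∈ Y, fn d y = u (f (i y)) := by
  obtain ⟨R', hR'⟩ := hfR.exists_image le_rfl
  have hR'S : R' ≤ S := IsImage.le_S hfR le_rfl hR'
  obtain ⟨Q, hR'Q, hQ⟩ := exists_fullyNormalized_conj (F := D) hR'S
  obtain ⟨φ, hφ, -, hφmap⟩ := exists_ext_of_fullyNormalized hS hD hQ hR'Q
  have hum := isMapOn_toFun hφ
  have hfX : ∀ x ∈ X, f x ∈ normalizerIn S R' := fun x hx => hf.mem_normalizerIn hRX hR' hx (hXN hx)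
  have hhF : IsMapOn F X (fun x => toFun φ (f x)) := hf.comp (hum.of_sub hDF) hfX
  have hRh : IsMapOn D R (fun x => toFun φ (f x)) := hfR.comp hum (fun x hx => hfX x (hRX hx))
  have hR'N : R' ≤ normalizerIn S R' := le_normalizerIn hR'S
  have himu : IsImage (toFun φ) R' Q := by
    intro y
    rw [← hφmap]
    constructor
    · rintro ⟨x, hx, rfl⟩
      exact ⟨x, hx, toFun_coe φ x⟩
    · rintro ⟨x, hx, rfl⟩
      exact ⟨⟨x, hR'N hx⟩, hx, (toFun_of_mem φ (hR'N hx)).symm⟩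
  have him : IsImage (fun x => toFun φ (f x)) R Q := hR'.comp himu
  obtain ⟨θ, hθ, hθv⟩ := hRh.exists_ext (receptive_of_fullyNormalized hS hD hQ) him hRX (fun g hg => by
    refine ⟨hf.le hg, hXN hg, toFun φ (f g), hhF.mem_S hg, fun x hx => hhF.map_conj hg (hRX hx)⟩)
  have hQc : F.IsCentric Q := Fusion2.isCentric_of_isConj ((hhF.mono hRX).isConj him) hRc
  have hQS : Q ≤ S := hQ.1
  obtain ⟨Y, hY⟩ := hθ.exists_image le_rfl
  have hYS : Y ≤ S := IsImage.le_S hθ le_rfl hY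
  have hQY : Q ≤ Y := by
    intro q hq
    obtain ⟨r, hr, rfl⟩ := him.exists_of_mem hq
    show toFun φ (f r) ∈ Y
    rw [← hθv r hr]
    exact hY.mem (hRX hr)
  have hkey : ∀ x ∈ X, (θ x)⁻¹ * toFun φ (f x) ∈ Q := by
    intro x hx
    refine hQc.2 Q (isConj_refl hQS) ⟨S.mul_mem (S.inv_mem (hθ.mem_S hx)) (hhF.mem_S hx), ?_⟩
    show _ ∈ Subgroup.centralizer (Q : Set Ω)
    rw [Subgroup.mem_centralizer_iff]
    intro q hq
    obtain ⟨r, hr, rfl⟩ := him.exists_of_mem hq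
    have hr' : x * r * x⁻¹ ∈ R := conj_mem_of_normalizer (hXN hx) hr
    have e1 := hhF.map_conj hx (hRX hr)
    have e2 := hθ.map_conj hx (hRX hr)
    have e3 := hθv _ hr'
    have e4 := hθv _ hr
    rw [e3, e1, e4] at e2
    show toFun φ (f r) * ((θ x)⁻¹ * toFun φ (f x)) = (θ x)⁻¹ * toFun φ (f x) * toFun φ (f r)
    have e5 : toFun φ (f x) * toFun φ (f r) = θ x * toFun φ (f r) * (θ x)⁻¹ * toFun φ (f x) := by
      rw [← e2]
      group
    calc toFun φ (f r) * ((θ x)⁻¹ * toFun φ (f x)) = (θ x)⁻¹ * (θ x * toFun φ (f r) * (θ x)⁻¹ * toFun φ (f x)) := by group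
      _ = (θ x)⁻¹ * (toFun φ (f x) * toFun φ (f r)) := by rw [e5]
      _ = _ := by group
  obtain ⟨Y', hY'⟩ := hhF.exists_image le_rfl
  have hY'Y : Y' ≤ Y := by
    intro y hy
    obtain ⟨x, hx, rfl⟩ := hY'.exists_of_mem hy
    have e : toFun φ (f x) = θ x * ((θ x)⁻¹ * toFun φ (f x)) := by group
    show toFun φ (f x) ∈ Y
    rw [e]
    exact Y.mul_mem (hY.mem hx) (hQY (hkey x hx))
  haveI : Finite Y := finite_of_le hYS
  have hY'eq : Y' = Y := Subgroup.eq_of_le_of_card_ge hY'Y (by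
    rw [← IsImage.card_eq hhF le_rfl hY', ← IsImage.card_eq (hθ.of_sub hDF) le_rfl hY])
  subst hY'eq
  obtain ⟨i, hi, hii, hil, hir⟩ := hθ.exists_inv hY
  have hδ : IsMapOn F Y' (fun y => toFun φ (f (i y))) := (hi.of_sub hDF).comp hhF (fun y hy => hii.mem hy)
  obtain ⟨d, hd, hdv⟩ := exists_aut_of_map hδ (hii.comp hY')
  have hdθ : ∀ x ∈ X, fn d (θ x) = toFun φ (f x) := by
    intro x hx
    rw [hdv _ (hY.mem hx)]
    show toFun φ (f (i (θ x))) = _
    rw [hil x hx]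
  have hdQ : ∀ q ∈ Q, fn d q = q := by
    intro q hq
    obtain ⟨r, hr, rfl⟩ := him.exists_of_mem hq
    show fn d (toFun φ (f r)) = toFun φ (f r)
    rw [← hθv r hr, hdθ r (hRX hr), hθv r hr]
  have hdz : ∀ y ∈ Y', y⁻¹ * fn d y ∈ Q := by
    intro y hy
    obtain ⟨x, hx, rfl⟩ := hY.exists_of_mem hy
    rw [hdθ x hx]
    exact hkey x hx
  have hdpow : ∀ n : ℕ, ∀ y ∈ Y', fn (d ^ n) y = y * (y⁻¹ * fn d y) ^ n := by
    intro n
    induction n with
    | zero =>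
      intro y hy
      rw [pow_zero, pow_zero, mul_one, fn_one hy]
    | succ n ih =>
      intro y hy
      have hz := hdz y hy
      rw [pow_succ', fn_mul _ _ hy, ih y hy]
      have hzn : (y⁻¹ * fn d y) ^ n ∈ Q := Q.pow_mem hz n
      rw [fn_map_mul d hy (hQY hzn), hdQ _ hzn, pow_succ']
      generalize (y⁻¹ * fn d y) ^ n = w
      calc fn d y * w = y * (y⁻¹ * fn d y * w) := by group
        _ = _ := rfl
  haveI : Finite Q := finite_of_le hQS
  obtain ⟨m, hm⟩ := IsPGroup.iff_card.1 (hS.to_le hQS)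
  have hdord : d ^ p ^ m = 1 := by
    refine fn_ext (fun y hy => ?_)
    rw [hdpow _ y hy, fn_one hy]
    have hz := hdz y hy
    have h3 := pow_card_eq_one' (G := Q) (x := ⟨_, hz⟩)
    rw [hm] at h3
    have h4 : (y⁻¹ * fn d y) ^ p ^ m = 1 := congrArg Subtype.val h3
    rw [h4, mul_one]
  exact ⟨Y', normalizerIn S R', θ, toFun φ, i, d, m, hθ, hY, hi, fun y hy => hii.mem hy, inf_le_left, hum, hfX, hd, hdord, hdv⟩

/-- **Lifting automorphisms whose `p'`-power is known.** -/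
theorem mem_autGroup_of_coprime (hS : IsPGroup p S) {D : FusionSystem S} (hD : D.IsSaturated p) (hDF : D.IsSubsystemOf F) (hinv : AutInv D F) {m : ℕ} (hm : Nat.Coprime p m) :
    ∀ (W : Subgroup Ω) (b : MulAut S), F.IsCentric W → b ∈ F.autGroup S → b ^ m ∈ D.autGroup S → IsMapOn D W (fn b) → b ∈ D.autGroup S := by
  intro W
  induction' hn : Nat.card S - Nat.card W using Nat.strong_induction_on with n ih generalizing W
  intro b hWc hb hbm hmap
  have hWS : W ≤ S := hWc.1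
  by_cases hWe : W = S
  · subst hWe
    obtain ⟨c, hc, hcv⟩ := exists_aut_of_map hmap (isImage_fn b)
    have : c = b := fn_ext hcv
    rwa [← this]
  · have hlt : W < S := lt_of_le_of_ne hWS hWe
    have hWN := le_normalizerIn (S := S) hWS
    have hXS := normalizerIn_le (S := S) W
    have hWlt : W < normalizerIn S W := by
      obtain ⟨g, hg, hgR⟩ := exists_mem_normalizerIn_not_mem hS hlt
      refine lt_of_le_of_ne hWN (fun he => hgR ?_)
      rw [he]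
      exact hg
    have hcl := card_lt_of_lt hWlt hXS
    have hcS := card_le_card_S (S := S) hXS
    have hbinv : b⁻¹ ∈ F.autGroup S := Subgroup.inv_mem _ hb
    obtain ⟨Y, N, θ, u, i, d, r, hθ, hY, hi, hiX, hNS, hu, hfN, hd, hdr, hdv⟩ :=
      exists_centric_data hS hD hDF hWc hWN inf_le_right ((isMapOn_fn le_rfl hb).mono hXS) hmap
    have hYS : Y ≤ S := IsImage.le_S hθ le_rfl hY
    obtain ⟨N', hN'⟩ := (isMapOn_fn le_rfl hbinv).exists_image hNS
    have hv := hinv N u hNS hu b⁻¹ hbinv N' hN'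
    rw [inv_inv] at hv
    have hf₁ : IsMapOn D Y (fun y => fn b⁻¹ (u (fn b (i y)))) := hi.comp hv (fun y hy => by
      have h1 := hN'.mem (hfN _ (hiX y hy))
      rwa [fn_inv_fn b (hXS (hiX y hy))] at h1)
    have hdf₁ : ∀ y ∈ Y, fn d y = fn b (fn b⁻¹ (u (fn b (i y)))) := by
      intro y hy
      rw [hdv y hy, fn_fn_inv b (hu.mem_S (hfN _ (hiX y hy)))]
    have key : ∀ n : ℕ, ∃ f, IsMapOn D Y f ∧ ∀ y ∈ Y, fn (d ^ n) y = fn (b ^ n) (f y) := by
      intro n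
      induction n with
      | zero =>
        refine ⟨id, isMapOn_id hYS, fun y hy => ?_⟩
        rw [pow_zero, pow_zero, fn_one hy]
        exact (fn_one (hYS hy)).symm
      | succ n ih' =>
        obtain ⟨f, hf, hfv⟩ := ih'
        have hc : b ^ n ∈ F.autGroup S := Subgroup.pow_mem _ hb n
        have hcinv : (b ^ n)⁻¹ ∈ F.autGroup S := Subgroup.inv_mem _ hc
        obtain ⟨Y₁, hY₁⟩ := (isMapOn_fn le_rfl hcinv).exists_image hYS
        have hg := hinv Y _ hYS hf₁ (b ^ n)⁻¹ hcinv Y₁ hY₁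
        rw [inv_inv] at hg
        refine ⟨_, hf.comp hg (fun y hy => ?_), fun y hy => ?_⟩
        · have h1 : fn (d ^ n) y ∈ Y := fn_mem _ hy
          rw [hfv y hy] at h1
          have h2 := hY₁.mem h1
          rwa [fn_inv_fn (b ^ n) (hf.mem_S hy)] at h2
        · have h1 : fn (d ^ n) y ∈ Y := fn_mem _ hy
          have h2 := h1
          rw [hfv y hy] at h2
          have h3 := hf₁.mem_S h2
          rw [pow_succ', fn_mul _ _ hy, hdf₁ _ h1, hfv y hy, pow_succ']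
          show _ = fn (b * b ^ n) (fn (b ^ n)⁻¹ (fn b⁻¹ (u (fn b (i (fn (b ^ n) (f y)))))))
          rw [fn_mul _ _ (fn_mem _ h3), fn_fn_inv (b ^ n) h3]
    obtain ⟨f, hf, hfv⟩ := key (p ^ r)
    rw [hdr] at hfv
    have hmapY : IsMapOn D Y (fn (b ^ p ^ r)⁻¹) := hf.congr (fun y hy => by
      have h1 := hfv y hy
      rw [fn_one hy] at h1
      refine (fn_inv_fn (b ^ p ^ r) (hf.mem_S hy)).symm.trans ?_
      rw [← h1])
    have hXc : F.IsCentric (normalizerIn S W) := isCentric_of_le hWc hWN hXS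
    have hYc : F.IsCentric Y := Fusion2.isCentric_of_isConj ((hθ.of_sub hDF).isConj hY) hXc
    have hce := IsImage.card_eq (hθ.of_sub hDF) le_rfl hY
    have hYcS := card_le_card_S (S := S) hYS
    have hb1 : (b ^ p ^ r)⁻¹ ∈ F.autGroup S := Subgroup.inv_mem _ (Subgroup.pow_mem _ hb _)
    have hb2 : ((b ^ p ^ r)⁻¹) ^ m ∈ D.autGroup S := by
      rw [inv_pow, ← pow_mul, mul_comm, pow_mul]
      exact Subgroup.inv_mem _ (Subgroup.pow_mem _ hbm _)
    have h5 := ih _ (by omega) Y rfl _ hYc hb1 hb2 hmapY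
    have h6 : b ^ p ^ r ∈ D.autGroup S := by
      have := Subgroup.inv_mem _ h5
      rwa [inv_inv] at this
    exact mem_of_pow_mem_of_coprime _ (Nat.Coprime.pow_left r hm) h6 hbm

/-- Strong invariance from invariance. -/
theorem strongInv_of_isInvariantIn {T : Subgroup Ω} {E : FusionSystem T} (hS : IsPGroup p S) (hF : F.IsSaturated p) (hinv : E.IsInvariantIn F) : StrongInv E F := by
  have h := (isInvariantIn_iff hS hF hinv.1 hinv.2.1).1 hinv
  intro P Q f g g' hPQ hQT hf hfQ hg P' hP' hg'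
  obtain ⟨φ, hφ, hv⟩ := hf
  obtain ⟨ψ, hψ, hw⟩ := hg
  have hφQ : ∀ x : P, φ x ∈ Q := fun x => by
    rw [hv]
    exact hfQ x x.2
  obtain ⟨χ, hχ, hχv⟩ := h P Q hPQ hQT φ hφ hφQ ψ hψ
  have hX : IsImage g P ((P.subgroupOf Q).map ψ) := by
    intro y
    constructor
    · rintro ⟨x, hx, rfl⟩
      exact ⟨x, hx, (hw x).symm⟩
    · rintro ⟨x, hx, rfl⟩
      exact ⟨⟨x, hPQ hx⟩, hx, hw _⟩
  obtain rfl : P' = (P.subgroupOf Q).map ψ := hP'.unique hX
  refine ⟨χ, hχ, fun y => ?_⟩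
  obtain ⟨x, hx, e⟩ := hX.exists_of_mem y.2
  have hmem : ψ (Subgroup.inclusion hPQ ⟨x, hx⟩) ∈ (P.subgroupOf Q).map ψ := ⟨⟨x, hPQ hx⟩, hx, rfl⟩
  have hy : y = ⟨ψ (Subgroup.inclusion hPQ ⟨x, hx⟩), hmem⟩ := Subtype.ext (by
    rw [← e]
    exact (hw ⟨x, hPQ hx⟩).symm)
  rw [hy, hχv ⟨x, hx⟩ hmem]
  show ψ ⟨φ ⟨x, hx⟩, hφQ ⟨x, hx⟩⟩ = g (f (g' (ψ (Subgroup.inclusion hPQ ⟨x, hx⟩))))
  have h5 : ψ (Subgroup.inclusion hPQ ⟨x, hx⟩) = g x := hw ⟨x, hPQ hx⟩
  have e2 : ψ ⟨φ ⟨x, hx⟩, hφQ ⟨x, hx⟩⟩ = g (φ ⟨x, hx⟩) := hw _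
  rw [e2, h5, hg' x hx, hv]

/-- `p`-elements of `Aut_E(P)` lie in `Aut_K(P)` for `K` invariant on the same subgroup. -/
theorem oppAut_le_of_invariant {T : Subgroup Ω} {E K : FusionSystem T} (hS : IsPGroup p S) (hF : F.IsSaturated p) (hE : E.IsSaturated p)
    (hEF : E.IsSubsystemOf F) (hK : K.IsInvariantIn F) {P : Subgroup Ω} (hPT : P ≤ T) : oppAut E p P ≤ K.autGroup P := by
  have hTS : T ≤ S := hK.2.1.1
  haveI : Finite T := finite_of_le hTS
  have hpT : IsPGroup p T := hS.to_le hTS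
  have hSI := strongInv_of_isInvariantIn hS hF hK
  rw [oppAut, Subgroup.map_le_iff_le_comap, Subgroup.closure_le]
  rintro ⟨α, hα⟩ ⟨k, hk⟩
  have hk' : orderOf α = p ^ k := by
    rw [← hk]
    exact (Subgroup.orderOf_mk _ _).symm
  obtain ⟨R, hPR, hR⟩ := exists_fullyNormalized_conj (F := E) hPT
  obtain ⟨φ, hφ, hφr⟩ := hPR
  have hm := isMapOn_toFun hφ
  have him : IsImage (toFun φ) P R := by
    intro y
    rw [← hφr]
    constructor
    · rintro ⟨x, rfl⟩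
      exact ⟨x, x.2, toFun_coe φ x⟩
    · rintro ⟨x, hx, rfl⟩
      exact ⟨⟨x, hx⟩, (toFun_of_mem φ hx).symm⟩
  have hRT : R ≤ T := hR.1
  have hRS : R ≤ S := hRT.trans hTS
  obtain ⟨g, hg, hgi, hgl, hgr⟩ := hm.exists_inv him
  have hαm : IsMapOn E P (fn α) := isMapOn_fn hPT hα
  have hf' : IsMapOn E R (fun y => toFun φ (fn α (g y))) := (hg.comp hαm (fun y hy => hgi.mem hy)).comp hm (fun y hy => fn_mem _ (hgi.mem hy))
  obtain ⟨a, ha, hav⟩ := exists_aut_of_map hf' ((hgi.comp (isImage_fn α)).comp him)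
  have hpow : ∀ n : ℕ, ∀ y ∈ R, fn (a ^ n) y = toFun φ (fn (α ^ n) (g y)) := by
    intro n
    induction n with
    | zero =>
      intro y hy
      rw [pow_zero, pow_zero, fn_one hy, fn_one (hgi.mem hy), hgr y hy]
    | succ n ih =>
      intro y hy
      have h1 : fn (α ^ n) (g y) ∈ P := fn_mem _ (hgi.mem hy)
      rw [pow_succ', fn_mul _ _ hy, hav _ (fn_mem _ hy), ih y hy, pow_succ', fn_mul _ _ (hgi.mem hy)]
      show toFun φ (fn α (g (toFun φ (fn (α ^ n) (g y))))) = _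
      rw [hgl _ h1]
  have hapow : a ^ p ^ k = 1 := by
    refine fn_ext (fun y hy => ?_)
    rw [hpow _ y hy, ← hk', pow_orderOf_eq_one, fn_one (hgi.mem hy), hgr y hy, fn_one hy]
  obtain ⟨j, -, hj⟩ := (Nat.dvd_prime_pow hp.out).1 (orderOf_dvd_of_pow_eq_one hapow)
  have hfa := (fullyNormalized_spec hpT hE hR).2
  have hU : IsPGroup p (Subgroup.zpowers a) := IsPGroup.of_card (n := j) (by rw [Nat.card_zpowers, hj])
  have hUA : Subgroup.zpowers a ≤ E.autGroup R := by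
    rw [Subgroup.zpowers_le]
    exact ha
  haveI : Finite (MulAut R) := by
    haveI : Finite R := finite_of_le hRS
    infer_instance
  obtain ⟨c, hc, hcu⟩ := SylowIn.exists_conj (p := p) hfa.2 hU hUA
  have h1 : c * a * c⁻¹ ∈ autInducedBy T R := hcu (mem_cj.2 (by
    have : c⁻¹ * (c * a * c⁻¹) * c = a := by group
    rw [this]
    exact Subgroup.mem_zpowers a))
  have h2 : c * a * c⁻¹ ∈ K.autGroup R := autInducedBy_le_autGroup hRT h1
  have hcF : c ∈ F.autGroup R := autGroup_le_of_subsystem hEF hRT hc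
  have hn := normal_of_strongInv hSI hRT hRS
  have haF : c * a * c⁻¹ ∈ F.autGroup R := Subgroup.mul_mem _ (Subgroup.mul_mem _ hcF (autGroup_le_of_subsystem hEF hRT ha)) (Subgroup.inv_mem _ hcF)
  have h3 := hn.conj_mem ⟨c * a * c⁻¹, haF⟩ h2 ⟨c⁻¹, Subgroup.inv_mem _ hcF⟩
  have h4 : a ∈ K.autGroup R := by
    have e : c⁻¹ * (c * a * c⁻¹) * c⁻¹⁻¹ = a := by group
    have h5 : c⁻¹ * (c * a * c⁻¹) * c⁻¹⁻¹ ∈ K.autGroup R := h3
    rwa [e] at h5
  have h5 := hSI R R (fn a) g (toFun φ) le_rfl hRT (isMapOn_fn hRT h4) (fun x hx => fn_mem a hx) (hg.of_sub hEF) P hgi hgr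
  have h6 : IsMapOn K P (fn α) := h5.congr (fun y hy => by
    show g (fn a (toFun φ y)) = _
    rw [hav _ (him.mem hy)]
    show g (toFun φ (fn α (g (toFun φ y)))) = _
    rw [hgl y hy, hgl _ (fn_mem _ hy)])
  obtain ⟨b, hb, hbv⟩ := exists_aut_of_map h6 (isImage_fn α)
  have : b = α := fn_ext hbv
  show α ∈ K.autGroup P
  rwa [← this]

/-- A centric subgroup of `E` is centric in the restriction of `F`. -/
theorem isCentric_sysOnClosed {T : Subgroup Ω} {E : FusionSystem T} (hinv : E.IsInvariantIn F) (hT : F.StronglyClosed T) {P : Subgroup Ω} (hP : E.IsCentric P) :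
    (sysOnClosed F hT).IsCentric P := by
  refine ⟨hP.1, fun Q hQ => ?_⟩
  obtain ⟨φ, hφ, hr⟩ := hQ
  obtain ⟨α, hα, φ₀, hφ₀, hv⟩ := hinv.2.2.2 P hP.1 φ hφ.1
  have hQ₀ : E.IsConj P φ₀.range := ⟨φ₀, hφ₀, rfl⟩
  intro c hc
  have hcT : c ∈ T := hc.1
  have hmem : ((α⁻¹ ⟨c, hcT⟩ : T) : Ω) ∈ centralizerIn T φ₀.range := by
    refine ⟨(α⁻¹ ⟨c, hcT⟩ : T).2, Subgroup.mem_centralizer_iff.2 ?_⟩
    rintro _ ⟨x, rfl⟩
    have h1 : φ x ∈ Q := by
      rw [← hr]
      exact ⟨x, rfl⟩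
    have h2 := Subgroup.mem_centralizer_iff.1 hc.2 _ h1
    rw [hv x (val_mem hφ₀ x)] at h2
    have h3 := congrArg (fun z : T => ((α⁻¹ z : T) : Ω)) (Subtype.ext h2 : (α ⟨φ₀ x, val_mem hφ₀ x⟩ * ⟨c, hcT⟩ : T) = ⟨c, hcT⟩ * α ⟨φ₀ x, val_mem hφ₀ x⟩)
    simpa using h3
  obtain ⟨x, hx⟩ := hP.2 _ hQ₀ hmem
  rw [← hr]
  refine ⟨x, ?_⟩
  rw [hv x (val_mem hφ₀ x)]
  have h4 : (⟨φ₀ x, val_mem hφ₀ x⟩ : T) = α⁻¹ ⟨c, hcT⟩ := Subtype.ext hx
  rw [h4]
  simp

/-- **`O^{p'}(E)` lies in every invariant saturated subsystem on `T`.** -/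
theorem primeSys_le_of_invariant {T : Subgroup Ω} [Finite T] {E K : FusionSystem T} (hS : IsPGroup p S) (hF : F.IsSaturated p) (hE : E.IsSaturated p)
    (hEinv : E.IsInvariantIn F) (hKs : K.IsSaturated p) (hK : K.IsInvariantIn F) : (primeSys E p).IsSubsystemOf K := by
  have hT : F.StronglyClosed T := hK.2.1
  have hTS : T ≤ S := hT.1
  have hpT : IsPGroup p T := hS.to_le hTS
  have hfam : OppFam E p K := fun P hP => oppAut_le_of_invariant hS hF hE hEinv.1 hK hP.1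
  have hKG : K.IsSubsystemOf (sysOnClosed F hT) := fun P φ hφ => ⟨hK.1 P hφ, (K.le_of_mem hφ).1⟩
  have hEG : E.IsSubsystemOf (sysOnClosed F hT) := fun P φ hφ => ⟨hEinv.1 P hφ, (E.le_of_mem hφ).1⟩
  have hinvK := autInv_of_invariant hK.2.2.1
  have hiG : AutInv K (sysOnClosed F hT) := by
    intro P f hPT hf α hα P' hP'
    exact hinvK P f hPT hf α ((mem_autGroup_iff hTS).2 ((mem_autGroup_iff le_rfl).1 hα).1) P' hP'
  have hoa : oa E p ≤ K.autGroup T := by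
    refine (Subgroup.closure_le _).2 ?_
    rintro α ⟨hα, P, hP, hm⟩
    have hKmap : IsMapOn K P (fn α) := hm.of_sub (oppSys_le hfam)
    obtain ⟨k, n, hpn, hord⟩ := Nat.exists_eq_pow_mul_and_not_dvd (orderOf_pos α).ne' p hp.out.ne_one
    have hn0 : n ≠ 0 := by
      rintro rfl
      exact hpn (dvd_zero p)
    have hαn : α ^ n ∈ E.autGroup T := Subgroup.pow_mem _ hα n
    have hordn : orderOf (α ^ n) = p ^ k := by
      rw [orderOf_pow_of_dvd hn0 ⟨p ^ k, by rw [hord, mul_comm]⟩, hord]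
      exact Nat.mul_div_cancel _ (Nat.pos_of_ne_zero hn0)
    have h1 : α ^ n ∈ K.autGroup T := hfam T isCentric_self (oppAut_of_pow hαn hordn)
    have hcop : Nat.Coprime p n := (Nat.Prime.coprime_iff_not_dvd hp.out).2 hpn
    exact mem_autGroup_of_coprime hpT hKs hKG hiG hcop P α (isCentric_sysOnClosed hEinv hT hP)
      (autGroup_le_of_subsystem hEG le_rfl hα) h1 hKmap
  intro P φ hφ
  obtain ⟨a, ha, f₀, hf₀, hv⟩ := hφ.2
  have hf₀E : IsMapOn K P f₀ := hf₀.of_sub (oppSys_le hfam)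
  have hm : IsMapOn K P (fun x => fn a (f₀ x)) := hf₀E.comp (isMapOn_fn le_rfl (hoa ha)) (fun x hx => hf₀E.mem_S hx)
  obtain ⟨ψ, hψ, hψv⟩ := hm
  have e : φ = ψ := by
    ext x
    rw [hψv]
    show φ x = fn a (f₀ x)
    rw [← hv x x.2, toFun_coe]
  rwa [e]

end Cfsg.Agent.Lib.Fusion
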