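/-
A criterion for the simplicity of the fusion system of a group.
-/
import Cfsg.Agent.Lib.Fusion.PPrimeNormal

set_option autoImplicit false
set_option linter.unusedSectionVars false
set_option linter.style.haveILetI false

namespace Cfsg.Agent.Lib.Fusion

open Cfsg Cfsg.FusionSystem

section General

variable {Ω : Type*} [Group Ω] {S : Subgroup Ω} [Finite S] {F : FusionSystem S} {p : ℕ} [hp : Fact p.Prime]

/-- An automorphism of `S` in `F` that restricts into `E` on a centric subgroup lies in `E`, for `E` invariant on `S`. -/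
theorem mem_aut_of_centric_restrict (hS : IsPGroup p S) (hF : F.IsSaturated p) {E : FusionSystem S} (hE : E.IsSaturated p)
    (hinv : E.IsInvariantIn F) {W : Subgroup Ω} (hW : F.IsCentric W) {α : MulAut S} (hα : α ∈ F.autGroup S)
    (hmap : IsMapOn E W (fn α)) : α ∈ E.autGroup S := by
  have hpp := hp.out
  haveI : Finite (MulAut S) := inferInstance
  have hord : orderOf α ≠ 0 := (orderOf_pos α).ne'
  obtain ⟨a, m, hm, he⟩ := Nat.exists_eq_pow_mul_and_not_dvd hord p hpp.ne_one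
  have hcop : Nat.Coprime p m := (Nat.Prime.coprime_iff_not_dvd hpp).2 hm
  have hαm : α ^ m ∈ F.autGroup S := Subgroup.pow_mem _ hα m
  have hord2 : orderOf (α ^ m) = p ^ a := by
    have hmpos : 0 < m := Nat.pos_of_ne_zero (fun h => by
      rw [h, mul_zero] at he
      exact hord he)
    rw [orderOf_pow_of_dvd hmpos.ne' ⟨p ^ a, by rw [he, mul_comm]⟩, he]
    exact Nat.mul_div_cancel _ hmpos
  have h1 : α ^ m ∈ oppAut F p S := ⟨⟨α ^ m, hαm⟩, Subgroup.subset_closure ⟨a, by
    rw [Subgroup.orderOf_mk]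
    exact hord2⟩, rfl⟩
  have h2 := oppAut_le_of_invariant hS hF hF (F := F) (E := F) (K := E) (fun _ _ h => h) hinv (P := S) le_rfl h1
  exact mem_autGroup_of_coprime hS hE hinv.1 (autInv_of_invariant hinv.2.2.1) hcop W α hW hα h2 hmap

/-- A subsystem on `S` invariant in `F` with the same `Aut(S)` is all of `F`. -/
theorem hom_eq_of_aut_le {E : FusionSystem S} (hinv : E.IsInvariantIn F) (h : F.autGroup S ≤ E.autGroup S) (P : Subgroup Ω) :
    E.Hom P = F.Hom P := by
  ext φ
  refine ⟨fun hφ => hinv.1 P hφ, fun hφ => ?_⟩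
  have hP : P ≤ S := le_of_hom hφ
  obtain ⟨α, hα, φ₀, hφ₀, hv⟩ := hinv.2.2.2 P hP φ hφ
  have h1 : IsMapOn E S (fn α) := isMapOn_fn le_rfl (h hα)
  have h2 : IsMapOn E P (toFun φ₀) := isMapOn_toFun hφ₀
  have h3 := h2.comp h1 (fun x hx => h2.mem_S hx)
  obtain ⟨ψ, hψ, hψv⟩ := h3
  have e : ψ = φ := by
    ext x
    rw [hψv x, hv x (val_mem hφ₀ x)]
    show fn α (toFun φ₀ x) = _
    rw [toFun_coe, fn_of_mem α (val_mem hφ₀ x)]
  rwa [e] at hψ

end General

section Group

variable {G : Type*} [Group G] [Finite G] {p : ℕ} [hp : Fact p.Prime]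

/-- A product of `p`-elements normalizing a centric `R` acts through `E`. -/
theorem mem_aut_of_closure (S : Sylow p G) {E : FusionSystem (S : Subgroup G)} (hE : E.IsSaturated p)
    (hinv : E.IsInvariantIn (groupFusionSystem (S : Subgroup G))) {R : Subgroup G} (hR : (groupFusionSystem (S : Subgroup G)).IsCentric R) {g : G}
    (hg : g ∈ Subgroup.closure {g : G | g ∈ Subgroup.normalizer (R : Set G) ∧ ∃ k : ℕ, orderOf g = p ^ k})
    {α : MulAut (S : Subgroup G)} (hα : ∀ x : (S : Subgroup G), ((α x : (S : Subgroup G)) : G) = g * (x : G) * g⁻¹) : α ∈ E.autGroup (S : Subgroup G) := by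
  have hpS : IsPGroup p (S : Subgroup G) := S.isPGroup'
  have hF := isSaturated_gfs (p := p) S
  have hRS : R ≤ S := hR.1
  set F := groupFusionSystem (S : Subgroup G) with hFdef
  let K : Subgroup G := (((E.autGroup R).subgroupOf (autInducedBy ⊤ R)).comap (normalizerToAut R)).map (Subgroup.normalizer (R : Set G)).subtype
  have hle : Subgroup.closure {g : G | g ∈ Subgroup.normalizer (R : Set G) ∧ ∃ k : ℕ, orderOf g = p ^ k} ≤ K := by
    rw [Subgroup.closure_le]
    rintro g₀ ⟨hg₀, k, hk⟩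
    refine ⟨⟨g₀, hg₀⟩, ?_, rfl⟩
    show ((normalizerToAut R ⟨g₀, hg₀⟩ : autInducedBy ⊤ R) : MulAut R) ∈ E.autGroup R
    set c : MulAut R := ((normalizerToAut R ⟨g₀, hg₀⟩ : autInducedBy ⊤ R) : MulAut R) with hc
    have hcF : c ∈ F.autGroup R := by
      rw [hFdef, autGroup_gfs_eq hRS]
      exact (normalizerToAut R ⟨g₀, hg₀⟩).2
    have hcp : c ^ p ^ k = 1 := by
      have h1 : (normalizerToAut R ⟨g₀, hg₀⟩) ^ p ^ k = 1 := by
        rw [← map_pow]
        have : (⟨g₀, hg₀⟩ : Subgroup.normalizer (R : Set G)) ^ p ^ k = 1 := by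
          apply Subtype.ext
          show g₀ ^ p ^ k = 1
          rw [← hk, pow_orderOf_eq_one]
        rw [this, map_one]
      exact congrArg Subtype.val h1
    obtain ⟨j, -, hj⟩ := (Nat.dvd_prime_pow hp.out).1 (orderOf_dvd_of_pow_eq_one hcp)
    have h1 : c ∈ oppAut F p R := ⟨⟨c, hcF⟩, Subgroup.subset_closure ⟨j, by
      rw [Subgroup.orderOf_mk]
      exact hj⟩, rfl⟩
    exact oppAut_le_of_invariant hpS hF hF (F := F) (E := F) (K := E) (fun _ _ h => h) hinv hRS h1
  obtain ⟨⟨g₁, hg₁⟩, hg₂, rfl⟩ := hle hg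
  have hβ : ((normalizerToAut R ⟨g₁, hg₁⟩ : autInducedBy ⊤ R) : MulAut R) ∈ E.autGroup R := hg₂
  have hm := (isMapOn_fn hRS hβ).congr (f := fn ((normalizerToAut R ⟨g₁, hg₁⟩ : autInducedBy ⊤ R) : MulAut R)) (g := fn α) (fun x hx => by
    rw [fn_of_mem _ hx, fn_of_mem α (hRS hx), hα]
    rfl)
  exact mem_aut_of_centric_restrict hpS hF hE hinv hR (by
    rw [hFdef, autGroup_gfs_eq le_rfl, mem_autInducedBy_iff]
    exact ⟨g₁, trivial, hα⟩) hm

/-- The generating set of `Aut_G(S)` needed. -/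
def CentricGen (S : Sylow p G) : Set (MulAut (S : Subgroup G)) :=
  {α | ∃ R : Subgroup G, (groupFusionSystem (S : Subgroup G)).IsCentric R ∧
    ∃ g ∈ Subgroup.closure {g : G | g ∈ Subgroup.normalizer (R : Set G) ∧ ∃ k : ℕ, orderOf g = p ^ k},
      ∀ x : (S : Subgroup G), ((α x : (S : Subgroup G)) : G) = g * (x : G) * g⁻¹}

/-- **Simplicity criterion.** -/
theorem isSimple_gfs_of_gen (S : Sylow p G) (hS1 : (S : Subgroup G) ≠ ⊥)
    (ha : ∀ T : Subgroup G, (groupFusionSystem (S : Subgroup G)).StronglyClosed T → T = ⊥ ∨ T = (S : Subgroup G))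
    (hb : (groupFusionSystem (S : Subgroup G)).autGroup (S : Subgroup G) ≤ Subgroup.closure (CentricGen S)) :
    (groupFusionSystem (S : Subgroup G)).IsSimple p := by
  refine ⟨isSaturated_gfs S, hS1, ?_⟩
  intro T E hE
  have hinv := hE.1.2.2
  rcases ha T hinv.2.1 with h | h
  · exact Or.inl h
  · right
    subst h
    refine ⟨rfl, hom_eq_of_aut_le hinv (hb.trans ?_)⟩
    rw [Subgroup.closure_le]
    rintro α ⟨R, hR, g, hg, hα⟩
    exact mem_aut_of_closure S hE.1.1 hinv hR hg hα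

end Group

end Cfsg.Agent.Lib.Fusion
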