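/-
The defining characteristic fusion system of `PSL_n(K)`, `n ≥ 3`, is simple.
-/
import Cfsg.Agent.Lib.Fusion.PSLMat2
import Cfsg.Agent.Lib.Fusion.SimpleCrit
import Cfsg.Agent.Lib.Fusion.FixElt
import Cfsg.Agent.Lib.Fusion.EssExtra
import Cfsg.Agent.Lib.Basic.Nilpotent

set_option autoImplicit false
set_option linter.unusedSectionVars false
set_option linter.unusedVariables false
set_option linter.unusedSimpArgs false
set_option linter.style.haveILetI false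

namespace Cfsg.Agent.Lib.Fusion.PSLF

open Cfsg Cfsg.FusionSystem Matrix Cfsg.Agent.Lib.Fusion

variable {K : Type*} [Field K] [Fintype K] {n : ℕ}

abbrev PSLn (n : ℕ) (K : Type*) [Field K] := Matrix.ProjectiveSpecialLinearGroup (Fin n) K

/-- The projection. -/
def pi : SLn n K →* PSLn n K := QuotientGroup.mk' _

theorem pi_surj : Function.Surjective (pi (n := n) (K := K)) := QuotientGroup.mk'_surjective _

theorem pi_eq {a b : SLn n K} : pi a = pi b ↔ a⁻¹ * b ∈ Subgroup.center (SLn n K) := QuotientGroup.eq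

theorem pi_eq_one {a : SLn n K} : pi a = 1 ↔ a ∈ Subgroup.center (SLn n K) := QuotientGroup.eq_one_iff a

/-- The image of the unitriangular group. -/
def UU (n : ℕ) (K : Type*) [Field K] [Fintype K] : Subgroup (PSLn n K) := (U0 n K).map pi

variable {p : ℕ} [hp : Fact p.Prime] [hc : CharP K p]

theorem conj_mem_U0_of_pi (p : ℕ) [Fact p.Prime] [CharP K p] {m u : SLn n K} (hu : u ∈ U0 n K) (h : pi (m * u * m⁻¹) ∈ UU n K) : m * u * m⁻¹ ∈ U0 n K := by
  obtain ⟨u', hu', e⟩ := h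
  have : (m * u * m⁻¹)⁻¹ * u' ∈ Subgroup.center (SLn n K) := pi_eq.1 e.symm
  rw [conj_eq_of_mul_center p hu hu' this]
  exact hu'

theorem comm_of_pi (p : ℕ) [Fact p.Prime] [CharP K p] {m u : SLn n K} (hu : u ∈ U0 n K) (h : pi u * pi m = pi m * pi u) : u * m = m * u := by
  have h1 : (m * u * m⁻¹)⁻¹ * u ∈ Subgroup.center (SLn n K) := by
    apply pi_eq.1
    simp only [map_mul, map_inv]
    rw [← h]
    group
  have h2 := conj_eq_of_mul_center p hu hu h1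
  calc u * m = m * u * m⁻¹ * m := by rw [h2]
    _ = m * u := by group

theorem isUp_of_mem_normalizer (p : ℕ) [Fact p.Prime] [CharP K p] {m : SLn n K} (h : pi m ∈ Subgroup.normalizer ((UU n K : Subgroup (PSLn n K)) : Set (PSLn n K))) : IsUp m.1 := by
  refine isUp_of_norm m (fun c d hcd => ⟨m⁻¹ * rt c d hcd.ne 1 * m, ?_, by group⟩)
  have h1 := conj_mem_U0_of_pi p (m := m⁻¹) (rt_mem_U0 (hab := hcd.ne) hcd 1) (by
    have h2 := (Subgroup.mem_normalizer_iff.1 (Subgroup.inv_mem _ h) (pi (rt c d hcd.ne 1))).1 ⟨_, rt_mem_U0 hcd 1, rfl⟩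
    simpa only [map_mul, map_inv] using h2)
  simpa using h1

theorem isPGroup_UU (p : ℕ) [Fact p.Prime] [CharP K p] : IsPGroup p (UU n K) := by
  rintro ⟨_, u, hu, rfl⟩
  refine ⟨n, Subtype.ext ?_⟩
  show pi u ^ p ^ n = 1
  rw [← map_pow, exists_pow_U0 u hu, map_one]

theorem mem_UU_of_normalizer (p : ℕ) [Fact p.Prime] [CharP K p] (hn : 1 ≤ n) {y : PSLn n K} (hy : y ∈ Subgroup.normalizer ((UU n K : Subgroup (PSLn n K)) : Set (PSLn n K))) {k : ℕ} (hk : y ^ p ^ k = 1) : y ∈ UU n K := by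
  obtain ⟨m, rfl⟩ := pi_surj y
  have hup := isUp_of_mem_normalizer p hy
  have hz : m ^ p ^ k ∈ Subgroup.center (SLn n K) := pi_eq_one.1 (by rw [map_pow, hk])
  obtain ⟨c, hc', hz'⟩ := exists_zc_of_center hz
  have hent : ∀ i, m.1 i i ^ p ^ k = c := by
    intro i
    have h1 : (m ^ p ^ k).1 i i = c := by
      rw [hz', zc_apply, if_pos rfl]
    rw [Matrix.SpecialLinearGroup.coe_pow, hup.pow_diag] at h1
    exact h1
  let b0 : Fin n := ⟨0, by omega⟩
  have hconst : ∀ i, m.1 i i = m.1 b0 b0 := fun i => field_pow_inj (p := p) (k := k) (by rw [hent, hent])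
  obtain ⟨h1, u, hu, e, -⟩ := exists_zc_mul_of_const hup hconst
  refine ⟨u, hu, ?_⟩
  rw [e, map_mul, pi_eq_one.2 zc_mem_center, one_mul]

theorem exists_sylow_UU (p : ℕ) [Fact p.Prime] [CharP K p] (hn : 1 ≤ n) : ∃ P : Sylow p (PSLn n K), (P : Subgroup (PSLn n K)) = UU n K := by
  obtain ⟨P, hP⟩ := (isPGroup_UU (n := n) (K := K) p).exists_le_sylow
  refine ⟨P, ?_⟩
  by_contra hne
  have hlt : UU n K < P := lt_of_le_of_ne hP (Ne.symm hne)
  obtain ⟨g, hg, hgU⟩ := exists_mem_normalizerIn_not_mem P.isPGroup' hlt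
  obtain ⟨k, hk⟩ := P.isPGroup' ⟨g, hg.1⟩
  have hk' : g ^ p ^ k = 1 := congrArg Subtype.val hk
  exact hgU (mem_UU_of_normalizer p hn hg.2 hk')

theorem exists_conj_UU (hn : 1 ≤ n) (S : Sylow p (PSLn n K)) : ∃ k : PSLn n K, ∀ x, x ∈ (S : Subgroup (PSLn n K)) ↔ k⁻¹ * x * k ∈ UU n K := by
  obtain ⟨P, hP⟩ := exists_sylow_UU (n := n) (K := K) p hn
  obtain ⟨k, hk⟩ := MulAction.exists_smul_eq (PSLn n K) P S
  refine ⟨k, fun x => ?_⟩
  rw [← hk, mem_smul_sylow, hP]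

/-- The image of `Rab`. -/
def RR (a b : Fin n) (hadj : (a : ℕ) + 1 = (b : ℕ)) : Subgroup (PSLn n K) := (Rab a b hadj).map pi

theorem RR_le_UU {a b : Fin n} {hadj : (a : ℕ) + 1 = (b : ℕ)} : RR (K := K) a b hadj ≤ UU n K := by
  rintro _ ⟨r, hr, rfl⟩
  exact ⟨r, hr.1, rfl⟩

theorem centralizer_RR_le (p : ℕ) [Fact p.Prime] [CharP K p] (hn : 3 ≤ n) {a b : Fin n} {hadj : (a : ℕ) + 1 = (b : ℕ)} {y : PSLn n K}
    (hy : ∀ r ∈ RR (K := K) a b hadj, r * y = y * r) : y ∈ RR (K := K) a b hadj := by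
  obtain ⟨g, rfl⟩ := pi_surj y
  have hab : a ≠ b := by
    intro e
    rw [e] at hadj
    omega
  have h1 : ∀ (c d : Fin n) (hcd : c < d), (c, d) ≠ (a, b) → rt c d hcd.ne 1 * g = g * rt c d hcd.ne 1 := by
    intro c d hcd hne
    have hmem : rt c d hcd.ne (1 : K) ∈ Rab a b hadj := by
      refine ⟨rt_mem_U0 hcd 1, ?_⟩
      rw [rt_apply, Matrix.one_apply_ne hab, if_neg, add_zero]
      rintro ⟨rfl, rfl⟩
      exact hne rfl
    exact comm_of_pi p (rt_mem_U0 hcd 1) (hy _ ⟨_, hmem, rfl⟩)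
  obtain ⟨z, u, hz, hu, e⟩ := exists_of_commute_Rab hn h1
  refine ⟨u, hu, ?_⟩
  rw [e, map_mul, pi_eq_one.2 hz, one_mul]

/-- A self-centralizing conjugate of a subgroup of `UU` is centric. -/
theorem isCentric_cj (S : Sylow p (PSLn n K)) {k : PSLn n K} (hk : ∀ x, x ∈ (S : Subgroup (PSLn n K)) ↔ k⁻¹ * x * k ∈ UU n K) {R₀ : Subgroup (PSLn n K)} (hR₀ : R₀ ≤ UU n K)
    (hcent : ∀ y, (∀ r ∈ R₀, r * y = y * r) → y ∈ R₀) : (groupFusionSystem (S : Subgroup (PSLn n K))).IsCentric (cj k R₀) := by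
  refine ⟨fun x hx => (hk x).2 (hR₀ (mem_cj.1 hx)), fun Q hQ y hy => ?_⟩
  obtain ⟨g, rfl⟩ := exists_eq_cj_of_isConj hQ
  rw [mem_cj, mem_cj]
  refine hcent _ (fun r hr => ?_)
  have h1 : g * (k * r * k⁻¹) * g⁻¹ ∈ cj g (cj k R₀) := conj_mem_cj (conj_mem_cj hr)
  have h2 := Subgroup.mem_centralizer_iff.1 hy.2 _ h1
  calc r * (k⁻¹ * (g⁻¹ * y * g) * k) = (g * k)⁻¹ * ((g * (k * r * k⁻¹) * g⁻¹) * y) * (g * k) := by group
    _ = (g * k)⁻¹ * (y * (g * (k * r * k⁻¹) * g⁻¹)) * (g * k) := by rw [h2]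
    _ = _ := by group

theorem mem_of_stronglyClosed {G : Type*} [Group G] {S T : Subgroup G} (hT : (groupFusionSystem S).StronglyClosed T) {t g : G} (ht : t ∈ T) (h : g * t * g⁻¹ ∈ S) : g * t * g⁻¹ ∈ T := by
  have hRT : Subgroup.zpowers t ≤ T := (Subgroup.zpowers_le).2 ht
  have hcj : cj g (Subgroup.zpowers t) ≤ S := by
    rw [cj_le_iff]
    intro x hx
    obtain ⟨i, rfl⟩ := Subgroup.mem_zpowers_iff.1 hx
    rw [← conj_zpow]
    exact S.zpow_mem h i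
  have h1 := hT.2 _ hRT _ (conjHom_mem_gHom (hRT.trans hT.1) hcj) ⟨t, Subgroup.mem_zpowers t⟩
  exact h1

/-- Strongly closed subgroups. -/
theorem stronglyClosed_eq (hn : 3 ≤ n) (S : Sylow p (PSLn n K)) {k : PSLn n K} (hk : ∀ x, x ∈ (S : Subgroup (PSLn n K)) ↔ k⁻¹ * x * k ∈ UU n K) {T : Subgroup (PSLn n K)}
    (hT : (groupFusionSystem (S : Subgroup (PSLn n K))).StronglyClosed T) : T = ⊥ ∨ T = (S : Subgroup (PSLn n K)) := by
  by_cases hne : T = ⊥
  · exact Or.inl hne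
  right
  set T₀ := cj k⁻¹ T with hT₀
  have hmem : ∀ x, x ∈ T₀ ↔ k * x * k⁻¹ ∈ T := by
    intro x
    rw [hT₀, mem_cj, inv_inv]
  have hT₀U : T₀ ≤ UU n K := by
    intro x hx
    have h1 := hT.1 ((hmem x).1 hx)
    have h2 := (hk _).1 h1
    have e : k⁻¹ * (k * x * k⁻¹) * k = x := by group
    rwa [e] at h2
  have key : ∀ x ∈ T₀, ∀ h, h * x * h⁻¹ ∈ UU n K → h * x * h⁻¹ ∈ T₀ := by
    intro x hx h hh
    rw [hmem]
    have e : k * (h * x * h⁻¹) * k⁻¹ = (k * h * k⁻¹) * (k * x * k⁻¹) * (k * h * k⁻¹)⁻¹ := by group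
    rw [e]
    refine mem_of_stronglyClosed hT ((hmem x).1 hx) ?_
    rw [← e, hk]
    have e2 : k⁻¹ * (k * (h * x * h⁻¹) * k⁻¹) * k = h * x * h⁻¹ := by group
    rwa [e2]
  have hT₀ne : T₀ ≠ ⊥ := by
    intro h
    apply hne
    rw [eq_bot_iff]
    intro x hx
    have h1 : k⁻¹ * x * k ∈ T₀ := by
      rw [hmem]
      have e : k * (k⁻¹ * x * k) * k⁻¹ = x := by group
      rwa [e]
    rw [h] at h1
    have h2 : k⁻¹ * x * k = 1 := h1
    have e3 : x = k * (k⁻¹ * x * k) * k⁻¹ := by group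
    rw [e3, h2]
    simp
  -- a central element
  have hpU := isPGroup_UU (n := n) (K := K) p
  haveI : Group.IsNilpotent (UU n K) := hpU.isNilpotent
  let N : Subgroup (UU n K) := T₀.subgroupOf (UU n K)
  haveI hNn : N.Normal := by
    constructor
    intro a ha g
    show ((g * a * g⁻¹ : UU n K) : PSLn n K) ∈ T₀
    exact key _ ha _ (g * a * g⁻¹).2
  have hNne : N ≠ ⊥ := by
    intro h
    apply hT₀ne
    rw [eq_bot_iff]
    intro x hx
    have h1 : (⟨x, hT₀U hx⟩ : UU n K) ∈ N := hx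
    rw [h] at h1
    have h2 : (⟨x, hT₀U hx⟩ : UU n K) = 1 := h1
    exact congrArg Subtype.val h2
  have hinf := Cfsg.Agent.Lib.Basic.normal_inf_center_ne_bot N hNne
  obtain ⟨⟨z, hzN, hzC⟩, hz1⟩ := Subgroup.ne_bot_iff_exists_ne_one.1 hinf
  obtain ⟨m, hm, hmz⟩ := z.2
  have hzT : pi m ∈ T₀ := by
    rw [hmz]
    exact hzN
  have hz1' : pi m ≠ 1 := by
    rw [hmz]
    intro h
    exact hz1 (Subtype.ext (Subtype.ext h))
  have hcomm : ∀ (c d : Fin n) (hcd : c < d), rt c d hcd.ne 1 * m = m * rt c d hcd.ne 1 := by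
    intro c d hcd
    refine comm_of_pi p (rt_mem_U0 hcd 1) ?_
    have h1 := Subgroup.mem_center_iff.1 hzC ⟨pi (rt c d hcd.ne 1), _, rt_mem_U0 hcd 1, rfl⟩
    have h2 : (pi (rt c d hcd.ne 1) : PSLn n K) * (z : PSLn n K) = (z : PSLn n K) * pi (rt c d hcd.ne 1) := congrArg Subtype.val h1
    rwa [← hmz] at h2
  obtain ⟨hbt, s, hms⟩ := exists_rt_of_commute_U0 (by omega) hm hcomm
  have hs0 : s ≠ 0 := by
    rintro rfl
    apply hz1'
    rw [hms, rt_zero, map_one]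
  have hroot : ∀ (c d : Fin n) (hcd : c < d) (t : K), pi (rt c d hcd.ne t) ∈ T₀ := by
    intro c d hcd t
    by_cases ht : t = 0
    · rw [ht, rt_zero, map_one]
      exact Subgroup.one_mem _
    · obtain ⟨G, hG⟩ := exists_conj_rt hn hbt hcd.ne hs0 ht
      have h1 : pi G * pi m * (pi G)⁻¹ = pi (rt c d hcd.ne t) := by
        rw [hms, ← hG]
        simp only [map_mul, map_inv]
      rw [← h1]
      refine key _ hzT _ ?_
      rw [h1]
      exact ⟨_, rt_mem_U0 hcd t, rfl⟩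
  have hUT : UU n K ≤ T₀ := by
    rw [UU, Subgroup.map_le_iff_le_comap]
    refine (U0_le_Gen (n := n) (K := K)).trans ?_
    rw [Gen, Subgroup.closure_le]
    rintro _ ⟨c, d, hcd, t, rfl⟩
    exact hroot c d hcd t
  apply le_antisymm hT.1
  intro x hx
  have h1 := hUT ((hk x).1 hx)
  have h2 := (hmem _).1 h1
  have e : k * (k⁻¹ * x * k) * k⁻¹ = x := by group
  rwa [e] at h2

/-- Elements with `p`-th power one have `p`-power order. -/
theorem orderOf_of_pow_p {G : Type*} [Group G] {x : G} (h : x ^ p = 1) : ∃ j : ℕ, orderOf x = p ^ j := by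
  obtain ⟨j, -, hj⟩ := (Nat.dvd_prime_pow hp.out).1 (show orderOf x ∣ p ^ 1 by
    rw [pow_one]
    exact orderOf_dvd_of_pow_eq_one h)
  exact ⟨j, hj⟩

theorem pi_mem_normalizer_of {A : Subgroup (SLn n K)} {r : SLn n K} (h1 : ∀ q ∈ A, r * q * r⁻¹ ∈ A) (h2 : ∀ q ∈ A, r⁻¹ * q * r ∈ A) :
    pi r ∈ Subgroup.normalizer ((A.map pi : Subgroup (PSLn n K)) : Set (PSLn n K)) := by
  rw [Subgroup.mem_normalizer_iff]
  intro y
  constructor
  · rintro ⟨q, hq, rfl⟩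
    exact ⟨_, h1 q hq, by simp only [map_mul, map_inv]⟩
  · rintro ⟨q, hq, e⟩
    refine ⟨_, h2 q hq, ?_⟩
    simp only [map_mul, map_inv]
    rw [e]
    group

theorem pi_mem_normalizer_of_B0 {m : SLn n K} (hm : m ∈ B0 n K) : pi m ∈ Subgroup.normalizer ((UU n K : Subgroup (PSLn n K)) : Set (PSLn n K)) :=
  pi_mem_normalizer_of (fun q hq => conj_mem_U0 hm hq) (fun q hq => by
    have := conj_mem_U0 ((B0 n K).inv_mem hm) hq
    simpa using this)

theorem rt_mem_normalizer_RR {a b : Fin n} {hadj : (a : ℕ) + 1 = (b : ℕ)} {hab : a ≠ b} (t : K) :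
    pi (rt a b hab t) ∈ Subgroup.normalizer ((RR (K := K) a b hadj : Subgroup (PSLn n K)) : Set (PSLn n K)) := by
  have hlt : a < b := by
    rw [Fin.lt_def]
    omega
  refine pi_mem_normalizer_of (fun q hq => conj_mem_Rab_of_U0 (rt_mem_U0 hlt t) hq) (fun q hq => ?_)
  have := conj_mem_Rab_of_U0 ((U0 n K).inv_mem (rt_mem_U0 (hab := hab) hlt t)) hq
  simpa using this

theorem rt_opp_mem_normalizer_RR {a b : Fin n} {hadj : (a : ℕ) + 1 = (b : ℕ)} {hba : b ≠ a} (t : K) :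
    pi (rt b a hba t) ∈ Subgroup.normalizer ((RR (K := K) a b hadj : Subgroup (PSLn n K)) : Set (PSLn n K)) := by
  refine pi_mem_normalizer_of (fun q hq => conj_mem_Rab_of_opp t hq) (fun q hq => ?_)
  have := conj_mem_Rab_of_opp (hadj := hadj) (hba := hba) (-t) hq
  rw [← rt_inv] at this
  simpa using this

/-- `Aut_G(S)` is generated as required. -/
theorem autGroup_le_closure (hn : 3 ≤ n) (S : Sylow p (PSLn n K)) {k : PSLn n K} (hk : ∀ x, x ∈ (S : Subgroup (PSLn n K)) ↔ k⁻¹ * x * k ∈ UU n K) :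
    (groupFusionSystem (S : Subgroup (PSLn n K))).autGroup (S : Subgroup (PSLn n K)) ≤ Subgroup.closure (CentricGen S) := by
  set H := Subgroup.closure (CentricGen S) with hH
  let A : Subgroup (PSLn n K) := (H.comap (S : Subgroup (PSLn n K)).normalizerMonoidHom).map (Subgroup.normalizer ((S : Subgroup (PSLn n K)) : Set (PSLn n K))).subtype
  let Φ : SLn n K →* PSLn n K := (MulAut.conj k).toMonoidHom.comp pi
  have hΦ : ∀ m, Φ m = k * pi m * k⁻¹ := fun m => rfl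
  have hNS : ∀ m, m ∈ B0 n K → Φ m ∈ Subgroup.normalizer ((S : Subgroup (PSLn n K)) : Set (PSLn n K)) := by
    intro m hm
    rw [Subgroup.mem_normalizer_iff]
    intro h
    rw [hk, hk, hΦ]
    have e : k⁻¹ * (k * pi m * k⁻¹ * h * (k * pi m * k⁻¹)⁻¹) * k = pi m * (k⁻¹ * h * k) * (pi m)⁻¹ := by group
    rw [e]
    exact (Subgroup.mem_normalizer_iff.1 (pi_mem_normalizer_of_B0 hm)) _
  have hU : U0 n K ≤ A.comap Φ := by
    intro u hu
    have hxS : Φ u ∈ (S : Subgroup (PSLn n K)) := by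
      rw [hk, hΦ]
      have e : k⁻¹ * (k * pi u * k⁻¹) * k = pi u := by group
      rw [e]
      exact ⟨u, hu, rfl⟩
    have hxN : Φ u ∈ Subgroup.normalizer ((S : Subgroup (PSLn n K)) : Set (PSLn n K)) := Subgroup.le_normalizer hxS
    refine ⟨⟨Φ u, hxN⟩, Subgroup.subset_closure ⟨S, isCentric_self, Φ u, Subgroup.subset_closure ⟨hxN, ?_⟩, fun y => rfl⟩, rfl⟩
    obtain ⟨j, hj⟩ := (IsPGroup.iff_orderOf.1 S.isPGroup') ⟨Φ u, hxS⟩
    refine ⟨j, ?_⟩
    rw [← hj, Subgroup.orderOf_mk]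
  have hD : Dgen n K ≤ A.comap Φ := by
    rw [Dgen, Subgroup.closure_le]
    rintro _ ⟨a, b, hadj, hab, t, ht, rfl⟩
    have hm : hh a b hab t ht ∈ B0 n K := hh_mem_B0
    have hxN := hNS _ hm
    refine ⟨⟨Φ (hh a b hab t ht), hxN⟩, Subgroup.subset_closure ⟨cj k (RR a b hadj), isCentric_cj S hk RR_le_UU (fun y hy => centralizer_RR_le p hn hy), Φ (hh a b hab t ht), ?_, fun y => rfl⟩, rfl⟩
    have h1 : ∀ s : K, Φ (rt a b hab s) ∈ Subgroup.closure {g : PSLn n K | g ∈ Subgroup.normalizer ((cj k (RR (K := K) a b hadj) : Subgroup (PSLn n K)) : Set (PSLn n K)) ∧ ∃ j : ℕ, orderOf g = p ^ j} := by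
      intro s
      refine Subgroup.subset_closure ⟨mem_normalizer_cj (rt_mem_normalizer_RR s), orderOf_of_pow_p ?_⟩
      rw [← map_pow, rt_pow_p (p := p), map_one]
    have h2 : ∀ s : K, Φ (rt b a hab.symm s) ∈ Subgroup.closure {g : PSLn n K | g ∈ Subgroup.normalizer ((cj k (RR (K := K) a b hadj) : Subgroup (PSLn n K)) : Set (PSLn n K)) ∧ ∃ j : ℕ, orderOf g = p ^ j} := by
      intro s
      refine Subgroup.subset_closure ⟨mem_normalizer_cj (rt_opp_mem_normalizer_RR s), orderOf_of_pow_p ?_⟩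
      rw [← map_pow, rt_pow_p (p := p), map_one]
    rw [hh_eq, map_mul, map_mul, map_mul, map_mul, map_mul]
    exact Subgroup.mul_mem _ (Subgroup.mul_mem _ (Subgroup.mul_mem _ (Subgroup.mul_mem _ (Subgroup.mul_mem _ (h1 _) (h2 _)) (h1 _)) (h1 _)) (h2 _)) (h1 _)
  intro α hα
  obtain ⟨x, hx⟩ := (mem_autGroup_gfs le_rfl).1 hα
  -- `x` normalizes `S`
  have hxS : ∀ y ∈ (S : Subgroup (PSLn n K)), x * y * x⁻¹ ∈ (S : Subgroup (PSLn n K)) := by
    intro y hy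
    rw [← hx ⟨y, hy⟩]
    exact (α ⟨y, hy⟩).2
  have hxS' : ∀ h, x * h * x⁻¹ ∈ (S : Subgroup (PSLn n K)) → h ∈ (S : Subgroup (PSLn n K)) := by
    intro h hh'
    have h1 := hx (α⁻¹ ⟨_, hh'⟩)
    rw [MulAut.apply_inv_self] at h1
    have h2 : x * h * x⁻¹ = x * ((α⁻¹ ⟨_, hh'⟩ : (S : Subgroup (PSLn n K))) : PSLn n K) * x⁻¹ := h1
    have h3 : h = ((α⁻¹ ⟨_, hh'⟩ : (S : Subgroup (PSLn n K))) : PSLn n K) := by
      have := congrArg (fun t => x⁻¹ * t * x) h2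
      simpa [mul_assoc] using this
    rw [h3]
    exact (α⁻¹ ⟨_, hh'⟩).2
  have hxN : x ∈ Subgroup.normalizer ((S : Subgroup (PSLn n K)) : Set (PSLn n K)) :=
    Subgroup.mem_normalizer_iff.2 (fun h => ⟨hxS h, hxS' h⟩)
  have hx₁ : k⁻¹ * x * k ∈ Subgroup.normalizer ((UU n K : Subgroup (PSLn n K)) : Set (PSLn n K)) := by
    rw [Subgroup.mem_normalizer_iff]
    intro y
    have e : y ∈ UU n K ↔ k * y * k⁻¹ ∈ (S : Subgroup (PSLn n K)) := by
      rw [hk]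
      have e2 : k⁻¹ * (k * y * k⁻¹) * k = y := by group
      rw [e2]
    rw [e, Subgroup.mem_normalizer_iff.1 hxN, hk]
    have e2 : k⁻¹ * (x * (k * y * k⁻¹) * x⁻¹) * k = k⁻¹ * x * k * y * (k⁻¹ * x * k)⁻¹ := by group
    rw [e2]
  obtain ⟨m, hm⟩ := pi_surj (k⁻¹ * x * k)
  have hup : IsUp m.1 := isUp_of_mem_normalizer p (by rw [hm]; exact hx₁)
  have hxΦ : x = Φ m := by
    rw [hΦ, hm]
    group
  obtain ⟨d, u, hd, hu, e⟩ := exists_dg_mul m hup
  have hmem : x ∈ A := by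
    rw [hxΦ, e, map_mul]
    exact A.mul_mem (hD (dg_mem hd)) (hU hu)
  obtain ⟨⟨x', hN⟩, hHm, hxe⟩ := hmem
  have hxe' : x' = x := hxe
  subst hxe'
  have hαeq : α = (S : Subgroup (PSLn n K)).normalizerMonoidHom ⟨x', hN⟩ := by
    ext y
    exact hx y
  rw [hαeq]
  exact hHm

/-- **The fusion system of `PSL_n(K)` at the defining characteristic is simple.** -/
theorem isSimple_psl (hn : 3 ≤ n) (S : Sylow p (PSLn n K)) : (groupFusionSystem (S : Subgroup (PSLn n K))).IsSimple p := by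
  obtain ⟨k, hk⟩ := exists_conj_UU (by omega) S
  refine isSimple_gfs_of_gen S ?_ (fun T hT => stronglyClosed_eq hn S hk hT) (autGroup_le_closure hn S hk)
  intro hbot
  let b0 : Fin n := ⟨0, by omega⟩
  let b1 : Fin n := ⟨1, by omega⟩
  have h01 : b0 < b1 := by
    rw [Fin.lt_def]
    show 0 < 1
    omega
  have h1 : k * pi (rt b0 b1 h01.ne (1 : K)) * k⁻¹ ∈ (S : Subgroup (PSLn n K)) := by
    rw [hk]
    have e : k⁻¹ * (k * pi (rt b0 b1 h01.ne (1 : K)) * k⁻¹) * k = pi (rt b0 b1 h01.ne (1 : K)) := by group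
    rw [e]
    exact ⟨_, rt_mem_U0 h01 1, rfl⟩
  rw [hbot] at h1
  have h2 : k * pi (rt b0 b1 h01.ne (1 : K)) * k⁻¹ = 1 := h1
  have h3 : pi (rt b0 b1 h01.ne (1 : K)) = 1 := by
    have e : pi (rt b0 b1 h01.ne (1 : K)) = k⁻¹ * (k * pi (rt b0 b1 h01.ne (1 : K)) * k⁻¹) * k := by group
    rw [e, h2]
    group
  obtain ⟨c, hc', hz⟩ := exists_zc_of_center (pi_eq_one.1 h3)
  have h4 : (rt b0 b1 h01.ne (1 : K)).1 b0 b1 = (zc c hc').1 b0 b1 := by rw [hz]
  rw [rt_apply, zc_apply, if_neg h01.ne, if_pos ⟨rfl, rfl⟩, Matrix.one_apply_ne h01.ne, zero_add] at h4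
  exact one_ne_zero h4

end Cfsg.Agent.Lib.Fusion.PSLF
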