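/-
A simplicity criterion for the `p`-fusion system of a finite group with a self-normalizing
Sylow `p`-subgroup in which the only nontrivial subgroup closed under conjugation in the group
is the whole Sylow subgroup.
-/
import Cfsg.Agent.Lib.Fusion.PSLSimple

set_option autoImplicit false
set_option linter.unusedSectionVars false
set_option linter.unusedVariables false
set_option linter.unusedSimpArgs false
set_option linter.style.haveILetI false

namespace Cfsg.Agent.Lib.Fusion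

open Cfsg Cfsg.FusionSystem

/-- **Criterion.** -/
theorem isSimple_of_selfNorm {G : Type*} [Group G] [Finite G] {p : ℕ} [hp : Fact p.Prime]
    (U : Subgroup G) (hU1 : U ≠ ⊥) (hUS : ∃ P : Sylow p G, (P : Subgroup G) = U)
    (hN : ∀ x ∈ Subgroup.normalizer (U : Set G), x ∈ U)
    (hcl : ∀ T : Subgroup G, T ≤ U → T ≠ ⊥ →
      (∀ t ∈ T, ∀ h, h * t * h⁻¹ ∈ U → h * t * h⁻¹ ∈ T) → U ≤ T)
    (S : Sylow p G) : (groupFusionSystem (S : Subgroup G)).IsSimple p := by
  obtain ⟨P, hP⟩ := hUS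
  obtain ⟨k, hk'⟩ := MulAction.exists_smul_eq G P S
  have hk : ∀ x, x ∈ (S : Subgroup G) ↔ k⁻¹ * x * k ∈ U := by
    intro x
    rw [← hk', mem_smul_sylow, hP]
  refine isSimple_gfs_of_gen S ?_ ?_ ?_
  · intro hbot
    apply hU1
    rw [eq_bot_iff]
    intro x hx
    have h1 : k * x * k⁻¹ ∈ (S : Subgroup G) := by
      rw [hk]
      have e : k⁻¹ * (k * x * k⁻¹) * k = x := by group
      rwa [e]
    rw [hbot] at h1
    have h2 : k * x * k⁻¹ = 1 := h1
    have e3 : x = k⁻¹ * (k * x * k⁻¹) * k := by group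
    rw [e3, h2]
    simp
  · intro T hT
    by_cases hne : T = ⊥
    · exact Or.inl hne
    right
    set T₀ := cj k⁻¹ T with hT₀
    have hmem : ∀ x, x ∈ T₀ ↔ k * x * k⁻¹ ∈ T := by
      intro x
      rw [hT₀, mem_cj, inv_inv]
    have hT₀U : T₀ ≤ U := by
      intro x hx
      have h1 := hT.1 ((hmem x).1 hx)
      have h2 := (hk _).1 h1
      have e : k⁻¹ * (k * x * k⁻¹) * k = x := by group
      rwa [e] at h2
    have key : ∀ x ∈ T₀, ∀ h, h * x * h⁻¹ ∈ U → h * x * h⁻¹ ∈ T₀ := by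
      intro x hx h hh
      rw [hmem]
      have e : k * (h * x * h⁻¹) * k⁻¹ = (k * h * k⁻¹) * (k * x * k⁻¹) * (k * h * k⁻¹)⁻¹ := by group
      rw [e]
      refine PSLF.mem_of_stronglyClosed hT ((hmem x).1 hx) ?_
      rw [← e, hk]
      have e2 : k⁻¹ * (k * (h * x * h⁻¹) * k⁻¹) * k = h * x * h⁻¹ := by group
      rwa [e2]
    have hT₀ne : T₀ ≠ ⊥ := by
      intro h
      apply hne
      rw [eq_bot_iff]
      intro x hx
      have h1 : k⁻¹ * x * k ∈ T₀ := by
        rw [hmem]
        have e : k * (k⁻¹ * x * k) * k⁻¹ = x := by group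
        rwa [e]
      rw [h] at h1
      have h2 : k⁻¹ * x * k = 1 := h1
      have e3 : x = k * (k⁻¹ * x * k) * k⁻¹ := by group
      rw [e3, h2]
      simp
    have hUT := hcl T₀ hT₀U hT₀ne key
    apply le_antisymm hT.1
    intro x hx
    have h1 := hUT ((hk x).1 hx)
    have h2 := (hmem _).1 h1
    have e : k * (k⁻¹ * x * k) * k⁻¹ = x := by group
    rwa [e] at h2
  · intro α hα
    apply Subgroup.subset_closure
    obtain ⟨x, hx⟩ := (mem_autGroup_gfs le_rfl).1 hα
    have hxS : ∀ y ∈ (S : Subgroup G), x * y * x⁻¹ ∈ (S : Subgroup G) := by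
      intro y hy
      rw [← hx ⟨y, hy⟩]
      exact (α ⟨y, hy⟩).2
    have hxS' : ∀ h, x * h * x⁻¹ ∈ (S : Subgroup G) → h ∈ (S : Subgroup G) := by
      intro h hh'
      have h1 := hx (α⁻¹ ⟨_, hh'⟩)
      rw [MulAut.apply_inv_self] at h1
      have h2 : x * h * x⁻¹ = x * ((α⁻¹ ⟨_, hh'⟩ : (S : Subgroup G)) : G) * x⁻¹ := h1
      have h3 : h = ((α⁻¹ ⟨_, hh'⟩ : (S : Subgroup G)) : G) := by
        have := congrArg (fun t => x⁻¹ * t * x) h2
        simpa [mul_assoc] using this
      rw [h3]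
      exact (α⁻¹ ⟨_, hh'⟩).2
    have hxN : x ∈ Subgroup.normalizer ((S : Subgroup G) : Set G) :=
      Subgroup.mem_normalizer_iff.2 (fun h => ⟨hxS h, hxS' h⟩)
    have hx₁ : k⁻¹ * x * k ∈ Subgroup.normalizer (U : Set G) := by
      rw [Subgroup.mem_normalizer_iff]
      intro y
      have e : y ∈ U ↔ k * y * k⁻¹ ∈ (S : Subgroup G) := by
        rw [hk]
        have e2 : k⁻¹ * (k * y * k⁻¹) * k = y := by group
        rw [e2]
      rw [e, Subgroup.mem_normalizer_iff.1 hxN, hk]
      have e2 : k⁻¹ * (x * (k * y * k⁻¹) * x⁻¹) * k = k⁻¹ * x * k * y * (k⁻¹ * x * k)⁻¹ := by group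
      rw [e2]
    have hxU := hN _ hx₁
    have hxS2 : x ∈ (S : Subgroup G) := by
      rw [hk]
      exact hxU
    refine ⟨S, isCentric_self, x, Subgroup.subset_closure ⟨Subgroup.le_normalizer hxS2, ?_⟩, hx⟩
    obtain ⟨j, hj⟩ := (IsPGroup.iff_orderOf.1 S.isPGroup') ⟨x, hxS2⟩
    refine ⟨j, ?_⟩
    rw [← hj, Subgroup.orderOf_mk]

/-- The criterion for a subgroup `H` of an ambient group. -/
theorem isSimple_of_selfNorm' {A : Type*} [Group A] (H U : Subgroup A) [Finite H] (hUH : U ≤ H) {p : ℕ} [hp : Fact p.Prime]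
    (hU1 : U ≠ ⊥) (hUp : IsPGroup p U) {m : ℕ} (hm : ¬ p ∣ m) (hcard : Nat.card H = Nat.card U * m)
    (hN : ∀ x ∈ H, x ∈ Subgroup.normalizer (U : Set A) → x ∈ U)
    (hcl : ∀ T : Subgroup A, T ≤ U → T ≠ ⊥ →
      (∀ t ∈ T, ∀ h ∈ H, h * t * h⁻¹ ∈ U → h * t * h⁻¹ ∈ T) → U ≤ T)
    (S : Sylow p H) : (groupFusionSystem (S : Subgroup H)).IsSimple p := by
  classical
  haveI : Finite U := Finite.of_injective (fun u : U => (⟨u.1, hUH u.2⟩ : H))
    (fun a b hab => Subtype.ext (congrArg (fun w : H => (w : A)) hab))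
  let U' : Subgroup H := U.subgroupOf H
  have hmemU' : ∀ x : H, x ∈ U' ↔ (x : A) ∈ U := fun x => Iff.rfl
  have hcU' : Nat.card U' = Nat.card U := Nat.card_congr (Subgroup.subgroupOfEquivOfLe hUH).toEquiv
  have hUS : ∃ P : Sylow p H, (P : Subgroup H) = U' := by
    have hpU' : IsPGroup p U' := by
      intro x
      obtain ⟨k, hk⟩ := hUp ⟨(x.1 : A), x.2⟩
      refine ⟨k, ?_⟩
      have h2 : (x.1 : A) ^ p ^ k = 1 := congrArg Subtype.val hk
      apply Subtype.ext
      apply Subtype.ext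
      exact h2
    have hidx : ¬ p ∣ U'.index := by
      intro hd
      apply hm
      have h1 := Subgroup.card_mul_index U'
      rw [hcU', hcard] at h1
      have hpos : 0 < Nat.card U := Nat.card_pos
      have h2 : U'.index = m := Nat.eq_of_mul_eq_mul_left hpos h1
      rwa [h2] at hd
    exact ⟨hpU'.toSylow hidx, hpU'.toSylow_coe hidx⟩
  refine isSimple_of_selfNorm U' ?_ hUS ?_ ?_ S
  · intro h
    apply hU1
    rw [eq_bot_iff]
    intro x hx
    have h1 : (⟨x, hUH hx⟩ : H) ∈ U' := hx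
    rw [h] at h1
    have h2 : (⟨x, hUH hx⟩ : H) = 1 := h1
    exact congrArg Subtype.val h2
  · intro x hx
    rw [hmemU']
    refine hN _ x.2 ?_
    rw [Subgroup.mem_normalizer_iff]
    intro y
    constructor
    · intro hy
      have h1 := (Subgroup.mem_normalizer_iff.1 hx ⟨y, hUH hy⟩).1 hy
      exact h1
    · intro hy
      have hyH : y ∈ H := by
        have := H.mul_mem (H.mul_mem (H.inv_mem x.2) (hUH hy)) x.2
        have e : (x : A)⁻¹ * ((x : A) * y * (x : A)⁻¹) * x = y := by group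
        rwa [e] at this
      exact (Subgroup.mem_normalizer_iff.1 hx ⟨y, hyH⟩).2 hy
  · intro T hTU hTne hTcl
    -- transport
    let T' : Subgroup A := T.map H.subtype
    have hT'U : T' ≤ U := by
      rintro _ ⟨t, ht, rfl⟩
      exact hTU ht
    have hmemT' : ∀ x : H, x ∈ T ↔ (x : A) ∈ T' := by
      intro x
      constructor
      · intro hx
        exact ⟨x, hx, rfl⟩
      · rintro ⟨y, hy, e⟩
        have : y = x := Subtype.ext e
        rwa [← this]
    have hT'ne : T' ≠ ⊥ := by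
      intro h
      apply hTne
      rw [eq_bot_iff]
      intro x hx
      have h1 := (hmemT' x).1 hx
      rw [h] at h1
      have h2 : (x : A) = 1 := h1
      exact Subtype.ext h2
    have h1 := hcl T' hT'U hT'ne (by
      intro t ht h hh hU
      obtain ⟨t', ht', rfl⟩ := ht
      have hc := hTcl t' ht' ⟨h, hh⟩ (by
        rw [hmemU']
        exact hU)
      exact (hmemT' _).1 hc)
    intro x hx
    exact (hmemT' x).2 (h1 hx)

end Cfsg.Agent.Lib.Fusion
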