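/-
A simplicity criterion with local subgroups: the normalizer of the Sylow subgroup is covered by `p`-elements of
normalizers of self-centralizing subgroups.
-/
import Cfsg.Agent.Lib.Fusion.SelfNorm

set_option autoImplicit false
set_option linter.unusedSectionVars false
set_option linter.unusedVariables false
set_option linter.unusedSimpArgs false
set_option linter.style.haveILetI false

namespace Cfsg.Agent.Lib.Fusion

open Cfsg Cfsg.FusionSystem

/-- **Criterion with local subgroups.** -/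
theorem isSimple_of_local {G : Type*} [Group G] [Finite G] {p : ℕ} [hp : Fact p.Prime]
    (U : Subgroup G) (hU1 : U ≠ ⊥) (hUS : ∃ P : Sylow p G, (P : Subgroup G) = U)
    (RR : Set (Subgroup G)) (hR : ∀ R ∈ RR, R ≤ U)
    (hRc : ∀ R ∈ RR, ∀ y, (∀ r ∈ R, r * y = y * r) → y ∈ R)
    (hK : ∀ m ∈ Subgroup.normalizer (U : Set G), m ∈ Subgroup.closure {w | w ∈ Subgroup.normalizer (U : Set G) ∧
      ∃ R ∈ RR, w ∈ Subgroup.closure {g | g ∈ Subgroup.normalizer (R : Set G) ∧ ∃ j : ℕ, g ^ p ^ j = 1}})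
    (hcl : ∀ T : Subgroup G, T ≤ U → T ≠ ⊥ → (∀ t ∈ T, ∀ h, h * t * h⁻¹ ∈ U → h * t * h⁻¹ ∈ T) → U ≤ T)
    (S : Sylow p G) : (groupFusionSystem (S : Subgroup G)).IsSimple p := by
  obtain ⟨P, hP⟩ := hUS
  obtain ⟨k, hk'⟩ := MulAction.exists_smul_eq G P S
  have hk : ∀ x, x ∈ (S : Subgroup G) ↔ k⁻¹ * x * k ∈ U := by
    intro x
    rw [← hk', mem_smul_sylow, hP]
  refine isSimple_gfs_of_gen S ?_ ?_ ?_
  · intro hbot
    apply hU1
    rw [eq_bot_iff]
    intro x hx
    have h1 : k * x * k⁻¹ ∈ (S : Subgroup G) := by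
      rw [hk]
      have e : k⁻¹ * (k * x * k⁻¹) * k = x := by group
      rwa [e]
    rw [hbot] at h1
    have h2 : k * x * k⁻¹ = 1 := h1
    have e3 : x = k⁻¹ * (k * x * k⁻¹) * k := by group
    rw [e3, h2]
    simp
  · intro T hT
    by_cases hne : T = ⊥
    · exact Or.inl hne
    right
    set T₀ := cj k⁻¹ T with hT₀
    have hmem : ∀ x, x ∈ T₀ ↔ k * x * k⁻¹ ∈ T := by
      intro x
      rw [hT₀, mem_cj, inv_inv]
    have hT₀U : T₀ ≤ U := by
      intro x hx
      have h1 := hT.1 ((hmem x).1 hx)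
      have h2 := (hk _).1 h1
      have e : k⁻¹ * (k * x * k⁻¹) * k = x := by group
      rwa [e] at h2
    have key : ∀ x ∈ T₀, ∀ h, h * x * h⁻¹ ∈ U → h * x * h⁻¹ ∈ T₀ := by
      intro x hx h hh
      rw [hmem]
      have e : k * (h * x * h⁻¹) * k⁻¹ = (k * h * k⁻¹) * (k * x * k⁻¹) * (k * h * k⁻¹)⁻¹ := by group
      rw [e]
      refine PSLF.mem_of_stronglyClosed hT ((hmem x).1 hx) ?_
      rw [← e, hk]
      have e2 : k⁻¹ * (k * (h * x * h⁻¹) * k⁻¹) * k = h * x * h⁻¹ := by group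
      rwa [e2]
    have hT₀ne : T₀ ≠ ⊥ := by
      intro h
      apply hne
      rw [eq_bot_iff]
      intro x hx
      have h1 : k⁻¹ * x * k ∈ T₀ := by
        rw [hmem]
        have e : k * (k⁻¹ * x * k) * k⁻¹ = x := by group
        rwa [e]
      rw [h] at h1
      have h2 : k⁻¹ * x * k = 1 := h1
      have e3 : x = k * (k⁻¹ * x * k) * k⁻¹ := by group
      rw [e3, h2]
      simp
    have hUT := hcl T₀ hT₀U hT₀ne key
    apply le_antisymm hT.1
    intro x hx
    have h1 := hUT ((hk x).1 hx)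
    have h2 := (hmem _).1 h1
    have e : k * (k⁻¹ * x * k) * k⁻¹ = x := by group
    rwa [e] at h2
  · -- the automizer
    set H := Subgroup.closure (CentricGen S) with hH
    let A : Subgroup G := (H.comap (S : Subgroup G).normalizerMonoidHom).map (Subgroup.normalizer ((S : Subgroup G) : Set G)).subtype
    let Φ : G →* G := (MulAut.conj k).toMonoidHom
    have hΦ : ∀ m, Φ m = k * m * k⁻¹ := fun m => rfl
    have hNS : ∀ m, m ∈ Subgroup.normalizer (U : Set G) → Φ m ∈ Subgroup.normalizer ((S : Subgroup G) : Set G) := by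
      intro m hm
      rw [Subgroup.mem_normalizer_iff]
      intro h
      rw [hk, hk, hΦ]
      have e1 : k⁻¹ * (k * m * k⁻¹ * h * (k * m * k⁻¹)⁻¹) * k = m * (k⁻¹ * h * k) * m⁻¹ := by group
      rw [e1]
      exact (Subgroup.mem_normalizer_iff.1 hm) _
    have hRc' : ∀ R ∈ RR, (groupFusionSystem (S : Subgroup G)).IsCentric (cj k R) := by
      intro R hRR
      refine ⟨fun x hx => (hk x).2 (hR R hRR (mem_cj.1 hx)), fun Q hQ y hy => ?_⟩
      obtain ⟨g, rfl⟩ := exists_eq_cj_of_isConj hQ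
      rw [mem_cj, mem_cj]
      have hcomm : ∀ r ∈ R, r * (k⁻¹ * (g⁻¹ * y * g) * k) = (k⁻¹ * (g⁻¹ * y * g) * k) * r := by
        intro r hr
        have h1 : g * (k * r * k⁻¹) * g⁻¹ ∈ cj g (cj k R) := conj_mem_cj (conj_mem_cj hr)
        have h2 := Subgroup.mem_centralizer_iff.1 hy.2 _ h1
        calc r * (k⁻¹ * (g⁻¹ * y * g) * k) = (g * k)⁻¹ * ((g * (k * r * k⁻¹) * g⁻¹) * y) * (g * k) := by group
          _ = (g * k)⁻¹ * (y * (g * (k * r * k⁻¹) * g⁻¹)) * (g * k) := by rw [h2]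
          _ = _ := by group
      exact hRc R hRR _ hcomm
    have hgen : ∀ w, w ∈ Subgroup.normalizer (U : Set G) → (∃ R ∈ RR, w ∈ Subgroup.closure {g | g ∈ Subgroup.normalizer (R : Set G) ∧ ∃ j : ℕ, g ^ p ^ j = 1}) → Φ w ∈ A := by
      rintro w hw ⟨R, hRR, hwR⟩
      have hxN := hNS w hw
      refine ⟨⟨Φ w, hxN⟩, Subgroup.subset_closure ⟨cj k R, hRc' R hRR, Φ w, ?_, fun y => rfl⟩, rfl⟩
      have hle : Subgroup.closure {g | g ∈ Subgroup.normalizer (R : Set G) ∧ ∃ j : ℕ, g ^ p ^ j = 1} ≤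
          (Subgroup.closure {g : G | g ∈ Subgroup.normalizer ((cj k R : Subgroup G) : Set G) ∧ ∃ j : ℕ, orderOf g = p ^ j}).comap Φ := by
        rw [Subgroup.closure_le]
        rintro g ⟨hg1, j, hj⟩
        apply Subgroup.subset_closure
        refine ⟨?_, ?_⟩
        · rw [hΦ]
          exact mem_normalizer_cj hg1
        · have h1 : (Φ g) ^ p ^ j = 1 := by
            rw [← map_pow, hj, map_one]
          obtain ⟨i, -, hi⟩ := (Nat.dvd_prime_pow hp.out).1 (orderOf_dvd_of_pow_eq_one h1)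
          exact ⟨i, hi⟩
      exact hle hwR
    intro α hα
    obtain ⟨x, hx⟩ := (mem_autGroup_gfs le_rfl).1 hα
    have hxS : ∀ y ∈ (S : Subgroup G), x * y * x⁻¹ ∈ (S : Subgroup G) := by
      intro y hy
      rw [← hx ⟨y, hy⟩]
      exact (α ⟨y, hy⟩).2
    have hxS' : ∀ h, x * h * x⁻¹ ∈ (S : Subgroup G) → h ∈ (S : Subgroup G) := by
      intro h hh'
      have h1 := hx (α⁻¹ ⟨_, hh'⟩)
      rw [MulAut.apply_inv_self] at h1
      have h2 : x * h * x⁻¹ = x * ((α⁻¹ ⟨_, hh'⟩ : (S : Subgroup G)) : G) * x⁻¹ := h1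
      have h3 : h = ((α⁻¹ ⟨_, hh'⟩ : (S : Subgroup G)) : G) := by
        have := congrArg (fun t => x⁻¹ * t * x) h2
        simpa [mul_assoc] using this
      rw [h3]
      exact (α⁻¹ ⟨_, hh'⟩).2
    have hxN : x ∈ Subgroup.normalizer ((S : Subgroup G) : Set G) :=
      Subgroup.mem_normalizer_iff.2 (fun h => ⟨hxS h, hxS' h⟩)
    have hx₁ : k⁻¹ * x * k ∈ Subgroup.normalizer (U : Set G) := by
      rw [Subgroup.mem_normalizer_iff]
      intro y
      have e : y ∈ U ↔ k * y * k⁻¹ ∈ (S : Subgroup G) := by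
        rw [hk]
        have e2 : k⁻¹ * (k * y * k⁻¹) * k = y := by group
        rw [e2]
      rw [e, Subgroup.mem_normalizer_iff.1 hxN, hk]
      have e2 : k⁻¹ * (x * (k * y * k⁻¹) * x⁻¹) * k = k⁻¹ * x * k * y * (k⁻¹ * x * k)⁻¹ := by group
      rw [e2]
    have hxΦ : x = Φ (k⁻¹ * x * k) := by
      rw [hΦ]
      group
    have hmA : k⁻¹ * x * k ∈ A.comap Φ := by
      have hle : Subgroup.closure {w | w ∈ Subgroup.normalizer (U : Set G) ∧
          ∃ R ∈ RR, w ∈ Subgroup.closure {g | g ∈ Subgroup.normalizer (R : Set G) ∧ ∃ j : ℕ, g ^ p ^ j = 1}} ≤ A.comap Φ := by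
        rw [Subgroup.closure_le]
        rintro w ⟨hw1, hw2⟩
        exact hgen w hw1 hw2
      exact hle (hK _ hx₁)
    have hmem : x ∈ A := by
      rw [hxΦ]
      exact hmA
    obtain ⟨⟨x', hN⟩, hHm, hxe⟩ := hmem
    have hxe' : x' = x := hxe
    subst hxe'
    have hαeq : α = (S : Subgroup G).normalizerMonoidHom ⟨x', hN⟩ := by
      ext y
      exact hx y
    rw [hαeq]
    exact hHm

section Lift

variable {A : Type*} [Group A]

theorem mem_closure_lift (H : Subgroup A) {Sa : Set A} {Sb : Set H} (hSa : ∀ g ∈ Sa, ∃ h : g ∈ H, (⟨g, h⟩ : H) ∈ Sb) {x : H}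
    (hx : (x : A) ∈ Subgroup.closure Sa) : x ∈ Subgroup.closure Sb := by
  have hle : Subgroup.closure Sa ≤ (Subgroup.closure Sb).map H.subtype := by
    rw [Subgroup.closure_le]
    intro g hg
    obtain ⟨h, h2⟩ := hSa g hg
    exact ⟨⟨g, h⟩, Subgroup.subset_closure h2, rfl⟩
  obtain ⟨y, hy, e⟩ := hle hx
  have : y = x := Subtype.ext e
  rwa [← this]

theorem mem_N_sub (H : Subgroup A) {R : Subgroup A} {x : H} (hx : (x : A) ∈ Subgroup.normalizer (R : Set A)) :
    x ∈ Subgroup.normalizer ((R.subgroupOf H : Subgroup H) : Set H) := by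
  rw [Subgroup.mem_normalizer_iff]
  intro y
  have := Subgroup.mem_normalizer_iff.1 hx (y : A)
  exact this

theorem mem_N_sub' (H : Subgroup A) {R : Subgroup A} (hRH : R ≤ H) {x : H} (hx : x ∈ Subgroup.normalizer ((R.subgroupOf H : Subgroup H) : Set H)) :
    (x : A) ∈ Subgroup.normalizer (R : Set A) := by
  rw [Subgroup.mem_normalizer_iff]
  intro y
  constructor
  · intro hy
    exact (Subgroup.mem_normalizer_iff.1 hx ⟨y, hRH hy⟩).1 hy
  · intro hy
    have hyH : y ∈ H := by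
      have := H.mul_mem (H.mul_mem (H.inv_mem x.2) (hRH hy)) x.2
      have e : (x : A)⁻¹ * ((x : A) * y * (x : A)⁻¹) * x = y := by group
      rwa [e] at this
    exact (Subgroup.mem_normalizer_iff.1 hx ⟨y, hyH⟩).2 hy

/-- The criterion for a subgroup `H` of an ambient group. -/
theorem isSimple_of_local' (H U : Subgroup A) [Finite H] (hUH : U ≤ H) {p : ℕ} [hp : Fact p.Prime]
    (hU1 : U ≠ ⊥) (hUp : IsPGroup p U) {m : ℕ} (hm : ¬ p ∣ m) (hcard : Nat.card H = Nat.card U * m)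
    (RR : Set (Subgroup A)) (hR : ∀ R ∈ RR, R ≤ U)
    (hRc : ∀ R ∈ RR, ∀ y ∈ H, (∀ r ∈ R, r * y = y * r) → y ∈ R)
    (hK : ∀ x ∈ H, x ∈ Subgroup.normalizer (U : Set A) → x ∈ Subgroup.closure {w | w ∈ H ∧ w ∈ Subgroup.normalizer (U : Set A) ∧
      ∃ R ∈ RR, w ∈ Subgroup.closure {g | g ∈ H ∧ g ∈ Subgroup.normalizer (R : Set A) ∧ ∃ j : ℕ, g ^ p ^ j = 1}})
    (hcl : ∀ T : Subgroup A, T ≤ U → T ≠ ⊥ →
      (∀ t ∈ T, ∀ h ∈ H, h * t * h⁻¹ ∈ U → h * t * h⁻¹ ∈ T) → U ≤ T)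
    (S : Sylow p H) : (groupFusionSystem (S : Subgroup H)).IsSimple p := by
  classical
  haveI : Finite U := Finite.of_injective (fun u : U => (⟨u.1, hUH u.2⟩ : H))
    (fun a b hab => Subtype.ext (congrArg (fun w : H => (w : A)) hab))
  let U' : Subgroup H := U.subgroupOf H
  have hmemU' : ∀ x : H, x ∈ U' ↔ (x : A) ∈ U := fun x => Iff.rfl
  have hcU' : Nat.card U' = Nat.card U := Nat.card_congr (Subgroup.subgroupOfEquivOfLe hUH).toEquiv
  have hUS : ∃ P : Sylow p H, (P : Subgroup H) = U' := by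
    have hpU' : IsPGroup p U' := by
      intro x
      obtain ⟨k, hk⟩ := hUp ⟨(x.1 : A), x.2⟩
      refine ⟨k, ?_⟩
      have h2 : (x.1 : A) ^ p ^ k = 1 := congrArg Subtype.val hk
      apply Subtype.ext
      apply Subtype.ext
      exact h2
    have hidx : ¬ p ∣ U'.index := by
      intro hd
      apply hm
      have h1 := Subgroup.card_mul_index U'
      rw [hcU', hcard] at h1
      have hpos : 0 < Nat.card U := Nat.card_pos
      have h2 : U'.index = m := Nat.eq_of_mul_eq_mul_left hpos h1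
      rwa [h2] at hd
    exact ⟨hpU'.toSylow hidx, hpU'.toSylow_coe hidx⟩
  refine isSimple_of_local U' ?_ hUS ((fun R => R.subgroupOf H) '' RR) ?_ ?_ ?_ ?_ S
  · intro h
    apply hU1
    rw [eq_bot_iff]
    intro x hx
    have h1 : (⟨x, hUH hx⟩ : H) ∈ U' := hx
    rw [h] at h1
    have h2 : (⟨x, hUH hx⟩ : H) = 1 := h1
    exact congrArg Subtype.val h2
  · rintro _ ⟨R, hRR, rfl⟩ x hx
    exact hR R hRR hx
  · rintro _ ⟨R, hRR, rfl⟩ y hy
    refine hRc R hRR y y.2 (fun r hr => ?_)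
    have hrH : r ∈ H := hUH (hR R hRR hr)
    have := hy ⟨r, hrH⟩ hr
    exact congrArg Subtype.val this
  · intro x hx
    have h1 := hK x x.2 (mem_N_sub' H hUH hx)
    refine mem_closure_lift H ?_ h1
    rintro w ⟨hwH, hwN, R, hRR, hw⟩
    refine ⟨hwH, mem_N_sub H hwN, _, ⟨R, hRR, rfl⟩, ?_⟩
    refine mem_closure_lift (x := ⟨w, hwH⟩) H ?_ hw
    rintro g ⟨hgH, hgN, j, hj⟩
    refine ⟨hgH, mem_N_sub H hgN, j, ?_⟩
    apply Subtype.ext
    exact hj
  · intro T hTU hTne hTcl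
    let T' : Subgroup A := T.map H.subtype
    have hT'U : T' ≤ U := by
      rintro _ ⟨t, ht, rfl⟩
      exact hTU ht
    have hmemT' : ∀ x : H, x ∈ T ↔ (x : A) ∈ T' := by
      intro x
      constructor
      · intro hx
        exact ⟨x, hx, rfl⟩
      · rintro ⟨y, hy, e⟩
        have : y = x := Subtype.ext e
        rwa [← this]
    have hT'ne : T' ≠ ⊥ := by
      intro h
      apply hTne
      rw [eq_bot_iff]
      intro x hx
      have h1 := (hmemT' x).1 hx
      rw [h] at h1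
      have h2 : (x : A) = 1 := h1
      exact Subtype.ext h2
    have h1 := hcl T' hT'U hT'ne (by
      intro t ht h hh hU
      obtain ⟨t', ht', rfl⟩ := ht
      have hc := hTcl t' ht' ⟨h, hh⟩ (by
        rw [hmemU']
        exact hU)
      exact (hmemT' _).1 hc)
    intro x hx
    exact (hmemT' x).2 (h1 hx)

variable {A' : Type*} [Group A']

/-- The criterion through an isomorphism of the ambient groups. -/
theorem isSimple_of_local_equiv (ψ : A ≃* A') (H U : Subgroup A) (H' : Subgroup A') (hH : H' = H.map ψ.toMonoidHom) [Finite H'] (hUH : U ≤ H) {p : ℕ} [hp : Fact p.Prime]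
    (hU1 : U ≠ ⊥) (hUp : IsPGroup p U) {m : ℕ} (hm : ¬ p ∣ m) (hcard : Nat.card H = Nat.card U * m)
    (RR : Set (Subgroup A)) (hR : ∀ R ∈ RR, R ≤ U)
    (hRc : ∀ R ∈ RR, ∀ y ∈ H, (∀ r ∈ R, r * y = y * r) → y ∈ R)
    (hK : ∀ x ∈ H, x ∈ Subgroup.normalizer (U : Set A) → x ∈ Subgroup.closure {w | w ∈ H ∧ w ∈ Subgroup.normalizer (U : Set A) ∧
      ∃ R ∈ RR, w ∈ Subgroup.closure {g | g ∈ H ∧ g ∈ Subgroup.normalizer (R : Set A) ∧ ∃ j : ℕ, g ^ p ^ j = 1}})
    (hcl : ∀ T : Subgroup A, T ≤ U → T ≠ ⊥ →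
      (∀ t ∈ T, ∀ h ∈ H, h * t * h⁻¹ ∈ U → h * t * h⁻¹ ∈ T) → U ≤ T)
    (S : Sylow p H') : (groupFusionSystem (S : Subgroup H')).IsSimple p := by
  subst hH
  let f : A →* A' := ψ.toMonoidHom
  have hfe : ∀ x, f x = ψ x := fun _ => rfl
  have hmap : ∀ (R : Subgroup A) (x : A), f x ∈ R.map f ↔ x ∈ R := by
    intro R x
    constructor
    · rintro ⟨y, hy, e⟩
      rwa [← ψ.injective e]
    · intro h
      exact ⟨x, h, rfl⟩
  have hN : ∀ (R : Subgroup A) (x : A), x ∈ Subgroup.normalizer (R : Set A) → f x ∈ Subgroup.normalizer ((R.map f : Subgroup A') : Set A') := by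
    intro R x hx
    rw [Subgroup.mem_normalizer_iff]
    intro y'
    obtain ⟨y, rfl⟩ := ψ.surjective y'
    rw [← hfe, hmap]
    have e : f x * f y * (f x)⁻¹ = f (x * y * x⁻¹) := by simp only [map_mul, map_inv]
    rw [e, hmap]
    exact Subgroup.mem_normalizer_iff.1 hx y
  have hN' : ∀ (R : Subgroup A) (x : A), f x ∈ Subgroup.normalizer ((R.map f : Subgroup A') : Set A') → x ∈ Subgroup.normalizer (R : Set A) := by
    intro R x hx
    rw [Subgroup.mem_normalizer_iff]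
    intro y
    have h1 := Subgroup.mem_normalizer_iff.1 hx (f y)
    have e : f x * f y * (f x)⁻¹ = f (x * y * x⁻¹) := by simp only [map_mul, map_inv]
    rw [e, hmap, hmap] at h1
    exact h1
  have hcl' : ∀ {Sa : Set A} {Sb : Set A'}, (∀ g ∈ Sa, f g ∈ Sb) → ∀ {x : A}, x ∈ Subgroup.closure Sa → f x ∈ Subgroup.closure Sb := by
    intro Sa Sb h x hx
    have hle : Subgroup.closure Sa ≤ (Subgroup.closure Sb).comap f := by
      rw [Subgroup.closure_le]
      intro g hg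
      exact Subgroup.subset_closure (h g hg)
    exact hle hx
  refine isSimple_of_local' (H.map f) (U.map f) (Subgroup.map_mono hUH) ?_ ?_ hm ?_ ((fun R => R.map f) '' RR) ?_ ?_ ?_ ?_ S
  · intro h
    apply hU1
    rw [eq_bot_iff]
    intro x hx
    have h1 : f x ∈ U.map f := ⟨x, hx, rfl⟩
    rw [h] at h1
    have h2 : f x = 1 := h1
    exact ψ.injective (h2.trans (map_one ψ).symm)
  · rintro ⟨_, u, hu, rfl⟩
    obtain ⟨k, hk⟩ := hUp ⟨u, hu⟩
    refine ⟨k, Subtype.ext ?_⟩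
    have h2 : u ^ p ^ k = 1 := congrArg Subtype.val hk
    show f u ^ p ^ k = 1
    rw [← map_pow, h2, map_one]
  · rw [Subgroup.card_map_of_injective ψ.injective, Subgroup.card_map_of_injective ψ.injective]
    exact hcard
  · rintro _ ⟨R, hRR, rfl⟩
    exact Subgroup.map_mono (hR R hRR)
  · rintro _ ⟨R, hRR, rfl⟩ y' hy' hc
    obtain ⟨y, hy, rfl⟩ := hy'
    refine ⟨y, hRc R hRR y hy (fun r hr => ?_), rfl⟩
    have h1 := hc (f r) ⟨r, hr, rfl⟩
    apply ψ.injective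
    show f (r * y) = f (y * r)
    rw [map_mul, map_mul]
    exact h1
  · rintro x' hx' hxN
    obtain ⟨x, hx, rfl⟩ := hx'
    have h1 := hK x hx (hN' U x hxN)
    refine hcl' ?_ h1
    rintro w ⟨hwH, hwN, R, hRR, hw⟩
    refine ⟨⟨w, hwH, rfl⟩, hN U w hwN, _, ⟨R, hRR, rfl⟩, hcl' ?_ hw⟩
    rintro g ⟨hgH, hgN, j, hj⟩
    refine ⟨⟨g, hgH, rfl⟩, hN R g hgN, j, ?_⟩
    rw [← map_pow, hj, map_one]
  · intro T' hT'U hT'1 hT'cl
    let T : Subgroup A := T'.comap f
    have hTU : T ≤ U := by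
      intro t ht
      exact (hmap U t).1 (hT'U ht)
    have hT1 : T ≠ ⊥ := by
      intro h
      apply hT'1
      rw [eq_bot_iff]
      intro y' hy'
      obtain ⟨y, rfl⟩ := ψ.surjective y'
      have h1 : y ∈ T := hy'
      rw [h] at h1
      have h2 : y = 1 := h1
      rw [h2, map_one]
      exact Subgroup.one_mem _
    have hTcl : ∀ t ∈ T, ∀ h ∈ H, h * t * h⁻¹ ∈ U → h * t * h⁻¹ ∈ T := by
      intro t ht h hh hU
      have e : f (h * t * h⁻¹) = f h * f t * (f h)⁻¹ := by simp only [map_mul, map_inv]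
      show f (h * t * h⁻¹) ∈ T'
      rw [e]
      refine hT'cl _ ht _ ⟨h, hh, rfl⟩ ?_
      rw [← e]
      exact (hmap U _).2 hU
    rintro _ ⟨u, hu, rfl⟩
    exact hcl T hTU hT1 hTcl hu

end Lift

end Cfsg.Agent.Lib.Fusion
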