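/-
A Thompson-type transfer through characteristic bisets.
-/
import Cfsg.Agent.Lib.Fusion2.CharBiset
import Cfsg.Agent.Lib.Fusion.Generation

set_option autoImplicit false

namespace Cfsg.Agent.Lib.Fusion

open Cfsg Cfsg.FusionSystem Cfsg.Agent.Lib.Fusion2

section Generic

theorem dvd_card_of_forall_orbit {K Y : Type*} [Group K] [MulAction K Y] [Finite Y] (d : ℕ)
    (h : ∀ y : Y, d ∣ Nat.card (MulAction.orbit K y)) : d ∣ Nat.card Y := by
  classical
  letI : Fintype (MulAction.orbitRel.Quotient K Y) := Fintype.ofFinite _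
  rw [Nat.card_congr (MulAction.selfEquivSigmaOrbits K Y), Nat.card_sigma]
  exact Finset.dvd_sum (fun ω _ => h _)

theorem card_orbit_of_free {K Y : Type*} [Group K] [MulAction K Y] (h : ∀ (k : K) (y : Y), k • y = y → k = 1) (y : Y) :
    Nat.card (MulAction.orbit K y) = Nat.card K := by
  refine Nat.card_congr (Equiv.ofBijective (fun k : K => (⟨k • y, ⟨k, rfl⟩⟩ : MulAction.orbit K y)) ⟨?_, ?_⟩).symm
  · intro a b hab
    have h1 : a • y = b • y := congrArg Subtype.val hab
    have h2 : (b⁻¹ * a) • y = y := by rw [mul_smul, h1, inv_smul_smul]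
    have h3 := h _ _ h2
    exact (inv_mul_eq_one.1 h3).symm
  · rintro ⟨_, k, rfl⟩
    exact ⟨k, rfl⟩

theorem dvd_card_of_free {K Y : Type*} [Group K] [MulAction K Y] [Finite Y] (h : ∀ (k : K) (y : Y), k • y = y → k = 1) :
    Nat.card K ∣ Nat.card Y :=
  dvd_card_of_forall_orbit _ (fun y => by rw [card_orbit_of_free h])

end Generic

section Abstract

variable {H X : Type*} [Group H] [MulAction (H × H) X]

/-- Counting points of a subset invariant on the right through the section. -/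
theorem card_sub_eq_sec {ξ : X → H} (hξ : ∀ (x : X) (s : H), ξ (((1 : H), s) • x) = ξ x * s⁻¹) (A : X → Prop)
    (hA : ∀ (x : X) (s : H), A (((1 : H), s) • x) ↔ A x) :
    Nat.card {x : X // A x} = Nat.card {b : {x : X // ξ x = 1} // A b} * Nat.card H := by
  rw [← Nat.card_prod]
  have hN : ∀ x : X, ξ (((1 : H), ξ x) • x) = 1 := fun x => by rw [hξ, mul_inv_cancel]
  refine Nat.card_congr
    { toFun := fun x => (⟨⟨((1 : H), ξ x) • (x : X), hN x⟩, (hA _ _).2 x.2⟩, ξ x)
      invFun := fun y => ⟨((1 : H), y.2⁻¹) • (y.1.1 : X), (hA _ _).2 y.1.2⟩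
      left_inv := fun x => Subtype.ext ?_
      right_inv := fun y => Prod.ext (Subtype.ext (Subtype.ext ?_)) ?_ }
  · show ((1 : H), (ξ x)⁻¹) • ((1 : H), ξ x) • (x : X) = x
    rw [pp]
    simp only [one_mul, inv_mul_cancel]
    exact one_smul (H × H) _
  · show ((1 : H), ξ (((1 : H), y.2⁻¹) • (y.1.1 : X))) • ((1 : H), y.2⁻¹) • (y.1.1 : X) = y.1.1
    rw [hξ, y.1.1.2, pp]
    simp only [one_mul, inv_inv, mul_inv_cancel]
    exact one_smul (H × H) _
  · show ξ (((1 : H), y.2⁻¹) • (y.1.1 : X)) = y.2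
    rw [hξ, y.1.1.2, one_mul, inv_inv]

end Abstract

variable {Ω : Type*} [Group Ω] {S : Subgroup Ω} {F : FusionSystem S}

theorem range_eq_zpowers {i : Ω} {φ : Subgroup.zpowers i →* Ω} : φ.range = Subgroup.zpowers (φ ⟨i, Subgroup.mem_zpowers i⟩) := by
  ext y
  constructor
  · rintro ⟨⟨_, m, rfl⟩, rfl⟩
    refine ⟨m, ?_⟩
    show (φ ⟨i, _⟩) ^ m = φ ⟨i ^ m, _⟩
    rw [← map_zpow]
    rfl
  · rintro ⟨m, rfl⟩
    refine ⟨⟨i ^ m, ⟨m, rfl⟩⟩, ?_⟩
    show φ ⟨i ^ m, _⟩ = (φ ⟨i, _⟩) ^ m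
    rw [← map_zpow]
    rfl

/-- The order of the normalizer of a subgroup of order two. -/
theorem normalizerIn_zpowers_eq {j : Ω} (hj : orderOf j = 2) :
    normalizerIn S (Subgroup.zpowers j) = S ⊓ Subgroup.centralizer {j} := by
  ext s
  refine and_congr_right (fun _ => ?_)
  have hz : ∀ y, y ∈ Subgroup.zpowers j ↔ y = 1 ∨ y = j := by
    intro y
    rw [Subgroup.mem_zpowers_iff]
    constructor
    · rintro ⟨m, rfl⟩
      rcases Int.emod_two_eq_zero_or_one m with h | h
      · left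
        obtain ⟨k, hk⟩ := Int.dvd_of_emod_eq_zero h
        rw [hk, zpow_mul, zpow_ofNat, ← hj, pow_orderOf_eq_one, one_zpow]
      · right
        have : m = 2 * (m / 2) + 1 := by omega
        rw [this, zpow_add, zpow_mul, zpow_ofNat, ← hj, pow_orderOf_eq_one, one_zpow, one_mul, zpow_one]
    · rintro (rfl | rfl)
      · exact ⟨0, zpow_zero _⟩
      · exact ⟨1, zpow_one _⟩
  have hj1 : j ≠ 1 := by
    rintro rfl
    rw [orderOf_one] at hj
    omega
  show s ∈ Subgroup.normalizer (Subgroup.zpowers j : Set Ω) ↔ s ∈ Subgroup.centralizer {j}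
  rw [Subgroup.mem_normalizer_iff, Subgroup.mem_centralizer_singleton_iff]
  constructor
  · intro h
    have h1 : s * j * s⁻¹ ∈ Subgroup.zpowers j := (h j).1 (Subgroup.mem_zpowers j)
    rcases (hz _).1 h1 with h2 | h2
    · exfalso
      apply hj1
      have : s * j * s⁻¹ * s = 1 * s := by rw [h2]
      simpa [mul_assoc] using this
    · have : s * j * s⁻¹ * s = j * s := by rw [h2]
      simpa [mul_assoc] using this
  · intro h y
    have h1 : s * j * s⁻¹ = j := by rw [h]; simp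
    constructor
    · intro hy
      rcases (hz _).1 hy with rfl | rfl
      · simp
      · show s * y * s⁻¹ ∈ Subgroup.zpowers y
        rw [h1]
        exact Subgroup.mem_zpowers y
    · intro hy
      rcases (hz _).1 hy with h2 | h2
      · have : y = 1 := by
          have h3 : s⁻¹ * (s * y * s⁻¹) * s = y := by group
          rw [h2] at h3
          simpa using h3.symm
        rw [this]
        exact Subgroup.one_mem _
      · have : y = j := by
          have h3 : s * y * s⁻¹ = s * j * s⁻¹ := by rw [h2, h1]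
          exact mul_left_cancel (mul_right_cancel h3)
        rw [this]
        exact Subgroup.mem_zpowers j

section Main

variable {X : Type*} [MulAction (↥S × ↥S) X] (hX : IsCharBiset F X)

include hX

theorem uniq_of_fix (x : X) (a b u : ↥S) (ha : (u, a) • x = x) (hb : (u, b) • x = x) : a = b := by
  have h1 : ((1 : ↥S), a * b⁻¹) • x = x := by
    have e : (u, a) • x = ((1 : ↥S), a * b⁻¹) • (u, b) • x := by
      simp only [pp, one_mul, inv_mul_cancel_right]
    rw [hb, ha] at e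
    exact e.symm
  have := hX.free x _ h1
  exact mul_inv_eq_one.1 this

theorem isConjElt_of_fix {x : X} {u w : ↥S} (h : (u, w) • x = x) : F.IsConjElt (u : Ω) (w : Ω) := by
  obtain ⟨P, φ, hφ, hst⟩ := hX.hG x
  have h1 : (u, w) ∈ gr S P φ := by
    rw [← hst]
    exact h
  obtain ⟨h2, h3⟩ := h1
  have hle : Subgroup.zpowers (u : Ω) ≤ P := (Subgroup.zpowers_le).2 h2
  exact ⟨φ.comp (Subgroup.inclusion hle), restrict_mem hφ hle, h3⟩

omit hX in
theorem isConjElt_conj {i w : Ω} (h : F.IsConjElt i w) (s : Ω) (hs : s ∈ S) : F.IsConjElt i (s * w * s⁻¹) := by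
  obtain ⟨φ, hφ, rfl⟩ := h
  have h1 := F.comp_mem hφ (F.conj_mem (le_refl S) hs) (val_mem hφ)
  exact ⟨_, h1, rfl⟩

omit hX in
theorem isConj_zpowers_of_conjElt {i w : Ω} (h : F.IsConjElt i w) : F.IsConj (Subgroup.zpowers i) (Subgroup.zpowers w) := by
  obtain ⟨φ, hφ, rfl⟩ := h
  exact ⟨φ, hφ, range_eq_zpowers⟩

/-- Fixed points of `(u, w)` are the marks of the graph. -/
theorem card_fix_eq_mk {u w : ↥S} (φ : Subgroup.zpowers (u : Ω) →* Ω) (hφw : φ ⟨u, Subgroup.mem_zpowers _⟩ = w) :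
    Nat.card {x : X // (u, w) • x = x} = Fusion2.mk X (gr S (Subgroup.zpowers (u : Ω)) φ) := by
  rw [Fusion2.mk]
  refine Nat.card_congr (Equiv.subtypeEquivRight (fun x => ?_))
  constructor
  · rintro h ⟨a, b⟩ ⟨h1, h2⟩
    obtain ⟨m, hm⟩ := h1
    have e1 : a = u ^ m := Subtype.ext (by
      show (a : Ω) = (u : Ω) ^ m
      exact hm.symm)
    have e2 : b = w ^ m := Subtype.ext (by
      have : (⟨((a, b) : ↥S × ↥S).1, ⟨m, hm⟩⟩ : Subgroup.zpowers (u : Ω)) = ⟨u, Subgroup.mem_zpowers _⟩ ^ m := Subtype.ext hm.symm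
      rw [this, map_zpow, hφw] at h2
      exact h2.symm)
    have e3 : ((a, b) : ↥S × ↥S) = (u, w) ^ m := by
      rw [e1, e2]
      rfl
    rw [e3]
    have hmem : (u, w) ∈ MulAction.stabilizer (↥S × ↥S) x := h
    exact (MulAction.stabilizer (↥S × ↥S) x).zpow_mem hmem m
  · intro h
    exact h _ ⟨Subgroup.mem_zpowers _, hφw⟩


variable [Finite X] [Finite S]

/-- The points fixed by some `(u, w)`, `w` in a normal subgroup, are even in number. -/
theorem two_dvd_card_fix (hS : IsPGroup 2 S) (T' : Subgroup ↥S) [hT' : T'.Normal] (u : ↥S) (hu : orderOf (u : Ω) = 2)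
    (h : ∀ w : ↥S, F.IsConjElt (u : Ω) w → F.IsFullyNormalized (Subgroup.zpowers (w : Ω)) → w ∉ T')
    {ξ : X → ↥S} (hξ : ∀ (x : X) (s : ↥S), ξ (((1 : ↥S), s) • x) = ξ x * s⁻¹) :
    2 ∣ Nat.card {b : {x : X // ξ x = 1} // ∃ w ∈ T', (u, w) • (b : X) = b} := by
  classical
  let A : X → Prop := fun x => ∃ w ∈ T', (u, w) • x = x
  have hA : ∀ (x : X) (s : ↥S), A (((1 : ↥S), s) • x) ↔ A x := by
    intro x s
    constructor
    · rintro ⟨w, hw, hf⟩
      refine ⟨s⁻¹ * w * s, ?_, ?_⟩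
      · have := hT'.conj_mem w hw s⁻¹
        rwa [inv_inv] at this
      · have h1 : ((1 : ↥S), s⁻¹) • (u, w) • ((1 : ↥S), s) • x = ((1 : ↥S), s⁻¹) • ((1 : ↥S), s) • x := by rw [hf]
        simp only [pp, mul_one, one_mul, inv_mul_cancel] at h1
        have h2 : ((1 : ↥S), (1 : ↥S)) • x = x := one_smul (↥S × ↥S) x
        rw [h2, ← mul_assoc] at h1
        exact h1
    · rintro ⟨w, hw, hf⟩
      refine ⟨s * w * s⁻¹, hT'.conj_mem w hw s, ?_⟩
      have h1 : (u, s * w * s⁻¹) • ((1 : ↥S), s) • x = ((1 : ↥S), s) • (u, w) • x := by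
        simp only [pp, mul_one, one_mul, inv_mul_cancel_right]
      rw [h1, hf]
  have hcardA := card_sub_eq_sec hξ A hA
  let Sg := {w : ↥S // w ∈ T' ∧ F.IsConjElt (u : Ω) w}
  have hex : ∀ x : {x : X // A x}, ∃ w : Sg, (u, w.1) • (x : X) = x := by
    rintro ⟨x, w, hw, hf⟩
    exact ⟨⟨w, hw, isConjElt_of_fix hX hf⟩, hf⟩
  choose f hf using hex
  -- a fully normalized conjugate
  have huS : Subgroup.zpowers (u : Ω) ≤ S := (Subgroup.zpowers_le).2 u.2
  obtain ⟨Q, ⟨φ₀, hφ₀, hr⟩, hQfn⟩ := exists_fullyNormalized_conj (F := F) huS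
  let j₀ : ↥S := ⟨φ₀ ⟨u, Subgroup.mem_zpowers _⟩, val_mem hφ₀ _⟩
  have hQ : Q = Subgroup.zpowers (j₀ : Ω) := by rw [← hr]; exact range_eq_zpowers
  subst hQ
  have hj₀ : F.IsConjElt (u : Ω) (j₀ : Ω) := ⟨φ₀, hφ₀, rfl⟩
  have hord : ∀ w : ↥S, F.IsConjElt (u : Ω) w → orderOf (w : Ω) = 2 := by
    rintro w ⟨φ, hφ, hw⟩
    rw [← hw, orderOf_injective φ (inj hφ)]
    rw [← hu]
    exact Subgroup.orderOf_mk _ _
  let mk₀ := Fusion2.mk X (gr S (Subgroup.zpowers (u : Ω)) φ₀)
  have hfix : ∀ w : ↥S, F.IsConjElt (u : Ω) w → Nat.card {x : X // (u, w) • x = x} = mk₀ := by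
    rintro w ⟨φ, hφ, hw⟩
    rw [card_fix_eq_mk hX φ hw]
    exact hX.hst _ _ φ φ₀ hφ hφ₀ (isConj_refl huS) (Nat.zero_le _)
  have hfib : ∀ w : Sg, Nat.card {x : {x : X // A x} // f x = w} = mk₀ := by
    intro w
    rw [← hfix w.1 w.2.2]
    refine Nat.card_congr
      { toFun := fun x => ⟨x.1.1, by have := hf x.1; rw [x.2] at this; exact this⟩
        invFun := fun x => ⟨⟨x.1, w.1, w.2.1, x.2⟩, ?_⟩
        left_inv := fun x => rfl
        right_inv := fun x => rfl }
    apply Subtype.ext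
    exact uniq_of_fix hX x.1 _ _ u (hf _) x.2
  letI : Fintype Sg := Fintype.ofFinite _
  have hA2 : Nat.card {x : X // A x} = Nat.card Sg * mk₀ := by
    rw [Nat.card_congr (Equiv.sigmaFiberEquiv f).symm, Nat.card_sigma, Finset.sum_congr rfl (fun w _ => hfib w),
      Finset.sum_const, Finset.card_univ, smul_eq_mul, Nat.card_eq_fintype_card (α := Sg)]
  -- the centralizer acts freely on the fixed points
  let K₀ : Subgroup ↥S := Subgroup.centralizer {j₀}
  have hB : Nat.card K₀ ∣ mk₀ := by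
    rw [← hfix j₀ hj₀]
    letI : MulAction K₀ {x : X // (u, j₀) • x = x} :=
      { smul := fun k y => ⟨((1 : ↥S), (k : ↥S)) • (y : X), by
          have hk : (k : ↥S) * j₀ = j₀ * k := Subgroup.mem_centralizer_singleton_iff.1 k.2
          have h1 : (u, j₀) • ((1 : ↥S), (k : ↥S)) • (y : X) = ((1 : ↥S), (k : ↥S)) • (u, j₀) • (y : X) := by
            simp only [pp, mul_one, one_mul, hk]
          rw [h1, y.2]⟩
        one_smul := fun y => Subtype.ext (one_smul (↥S × ↥S) (y : X))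
        mul_smul := fun a b y => Subtype.ext (by
          show ((1 : ↥S), ((a * b : K₀) : ↥S)) • (y : X) = ((1 : ↥S), (a : ↥S)) • ((1 : ↥S), (b : ↥S)) • (y : X)
          simp only [pp, mul_one]
          rfl) }
    refine dvd_card_of_free (fun k y hk => ?_)
    have h1 : ((1 : ↥S), (k : ↥S)) • (y : X) = y := congrArg Subtype.val hk
    exact Subtype.ext (hX.free _ _ h1)
  -- the conjugation action
  have hconjmem : ∀ (s : ↥S) (w : Sg), (s * w.1 * s⁻¹ : ↥S) ∈ T' ∧ F.IsConjElt (u : Ω) ((s * w.1 * s⁻¹ : ↥S) : Ω) :=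
    fun s w => ⟨hT'.conj_mem _ w.2.1 s, isConjElt_conj w.2.2 s s.2⟩
  letI : MulAction ↥S Sg :=
    { smul := fun s w => ⟨s * w.1 * s⁻¹, hconjmem s w⟩
      one_smul := fun w => Subtype.ext (by
        show (1 : ↥S) * w.1 * 1⁻¹ = w.1
        simp)
      mul_smul := fun a b w => Subtype.ext (by
        show (a * b) * w.1 * (a * b)⁻¹ = a * (b * w.1 * b⁻¹) * a⁻¹
        group) }
  obtain ⟨n, hn⟩ := IsPGroup.iff_card.1 hS
  have hcardcent : ∀ w : ↥S, Nat.card (normalizerIn S (Subgroup.zpowers (w : Ω))) = Nat.card (Subgroup.centralizer {w} : Subgroup ↥S) →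
      True := fun _ _ => trivial
  have hcent : ∀ w : ↥S, F.IsConjElt (u : Ω) w → Nat.card (normalizerIn S (Subgroup.zpowers (w : Ω))) = Nat.card (Subgroup.centralizer {w} : Subgroup ↥S) := by
    intro w hw
    rw [normalizerIn_zpowers_eq (hord w hw)]
    symm
    refine Nat.card_congr
      { toFun := fun s => ⟨(s : ↥S), s.1.2, ?_⟩
        invFun := fun s => ⟨⟨s, s.2.1⟩, ?_⟩
        left_inv := fun s => rfl
        right_inv := fun s => rfl }
    · have h1 : (s : ↥S) * w = w * s := Subgroup.mem_centralizer_singleton_iff.1 s.2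
      exact Subgroup.mem_centralizer_singleton_iff.2 (congrArg Subtype.val h1)
    · have h1 := Subgroup.mem_centralizer_singleton_iff.1 s.2.2
      exact Subgroup.mem_centralizer_singleton_iff.2 (Subtype.ext h1)
  obtain ⟨a, ha⟩ : ∃ a, Nat.card K₀ = 2 ^ a := (Nat.dvd_prime_pow Nat.prime_two).1 (hn ▸ Subgroup.card_subgroup_dvd_card K₀) |>.imp (fun _ h => h.2)
  have han : a ≤ n := by
    have h1 : 2 ^ a ∣ 2 ^ n := by
      rw [← ha, ← hn]
      exact Subgroup.card_subgroup_dvd_card K₀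
    exact (Nat.pow_dvd_pow_iff_le_right (by norm_num)).1 h1
  have hC : 2 ^ (n - a + 1) ∣ Nat.card Sg := by
    refine dvd_card_of_forall_orbit (K := ↥S) _ (fun w => ?_)
    have hst : MulAction.stabilizer ↥S w = Subgroup.centralizer {w.1} := by
      ext s
      rw [MulAction.mem_stabilizer_iff, Subgroup.mem_centralizer_singleton_iff]
      constructor
      · intro h1
        have h2 : s * w.1 * s⁻¹ = w.1 := congrArg Subtype.val h1
        rw [mul_inv_eq_iff_eq_mul] at h2
        exact h2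
      · intro h1
        apply Subtype.ext
        show s * w.1 * s⁻¹ = w.1
        rw [mul_inv_eq_iff_eq_mul]
        exact h1
    obtain ⟨b, hb⟩ : ∃ b, Nat.card (Subgroup.centralizer {w.1} : Subgroup ↥S) = 2 ^ b :=
      (Nat.dvd_prime_pow Nat.prime_two).1 (hn ▸ Subgroup.card_subgroup_dvd_card (Subgroup.centralizer {w.1} : Subgroup ↥S)) |>.imp (fun _ h => h.2)
    have hlt : Nat.card (Subgroup.centralizer {w.1} : Subgroup ↥S) < Nat.card K₀ := by
      rw [← hcent _ w.2.2, ← hcent _ hj₀]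
      by_contra hcon
      rw [not_lt] at hcon
      apply h w.1 w.2.2 _ w.2.1
      refine ⟨(Subgroup.zpowers_le).2 w.1.2, fun R hR => ?_⟩
      have h3 : F.IsConj (Subgroup.zpowers (j₀ : Ω)) R :=
        isConj_trans (isConj_trans (isConj_symm (isConj_zpowers_of_conjElt hj₀)) (isConj_zpowers_of_conjElt w.2.2)) hR
      exact (hQfn.2 R h3).trans hcon
    rw [hb, ha] at hlt
    have hba : b < a := (Nat.pow_lt_pow_iff_right (by norm_num)).1 hlt
    have horb : Nat.card (MulAction.orbit ↥S w) * 2 ^ b = 2 ^ n := by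
      rw [← hb, ← hst, ← hn, mul_comm]
      have h5 := Subgroup.card_mul_index (MulAction.stabilizer ↥S w)
      rw [MulAction.index_stabilizer, ← Nat.card_coe_set_eq] at h5
      exact h5
    have horb' : Nat.card (MulAction.orbit ↥S w) = 2 ^ (n - b) := by
      have h6 : 2 ^ n = 2 ^ (n - b) * 2 ^ b := by
        rw [← pow_add]
        congr 1
        omega
      rw [h6] at horb
      exact Nat.eq_of_mul_eq_mul_right (by positivity) horb
    rw [horb']
    exact pow_dvd_pow 2 (by omega)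
  -- conclusion
  have hfinal : 2 ^ (n + 1) ∣ Nat.card {b : {x : X // ξ x = 1} // A b} * 2 ^ n := by
    have e : Nat.card {b : {x : X // ξ x = 1} // A b} * 2 ^ n = Nat.card Sg * mk₀ := by
      rw [← hn, ← hcardA, hA2]
    rw [e]
    have h7 : 2 ^ (n + 1) = 2 ^ (n - a + 1) * 2 ^ a := by
      rw [← pow_add]
      congr 1
      omega
    rw [h7]
    exact mul_dvd_mul hC (ha ▸ hB)
  rw [pow_succ, mul_comm] at hfinal
  exact Nat.dvd_of_mul_dvd_mul_right (by positivity) hfinal

end Main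

/-- **Thompson transfer for fusion systems.** -/
theorem not_mem_focal_of_thompson [Finite S] (hS : IsPGroup 2 S) (hF : F.IsSaturated 2) (T' : Subgroup ↥S) (hT' : T'.index = 2)
    (u : ↥S) (hu : orderOf (u : Ω) = 2)
    (h : ∀ w : ↥S, F.IsConjElt (u : Ω) w → F.IsFullyNormalized (Subgroup.zpowers (w : Ω)) → w ∉ T') :
    (u : Ω) ∉ F.focalSubgroup := by
  classical
  haveI : Fact (Nat.Prime 2) := ⟨Nat.prime_two⟩
  obtain ⟨m, hX⟩ := exists_isCharBiset hS hF
  have hfin : Finite (XS m) := inferInstance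
  obtain ⟨ξ, hξ, -⟩ := hX.exists_xi_of (⊤ : Subgroup ↥S) (fun P φ hφ => ⟨1, fun x => ⟨⟨_, by
    exact S.mul_mem (S.mul_mem (S.mul_mem S.one_mem (val_mem hφ x)) (S.inv_mem S.one_mem)) (S.inv_mem (le_of_hom hφ x.2))⟩, trivial, rfl⟩⟩)
  haveI hTn : T'.Normal := Subgroup.normal_of_index_eq_two hT'
  let χ : ↥S →* ℤˣ := MonoidHom.mk' (fun s => if s ∈ T' then 1 else -1) (fun a b => by
    have h1 := Subgroup.mul_mem_iff_of_index_two hT' (a := a) (b := b)
    by_cases ha : a ∈ T' <;> by_cases hb : b ∈ T' <;> simp [h1, ha, hb])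
  have hχ1 : ∀ s ∈ T', χ s = 1 := fun s hs => if_pos hs
  have hχ2 : ∀ s, s ∉ T' → χ s = -1 := fun s hs => if_neg hs
  have hf₁ : ∀ a ∈ (⊤ : Subgroup ↥S), ∀ b ∈ (⊤ : Subgroup ↥S), χ (a * b) = χ a * χ b := fun a _ b _ => map_mul χ a b
  have hf₂ : ∀ s, ∀ t ∈ (⊤ : Subgroup ↥S), χ (s * t * s⁻¹) = χ t := by
    intro s t _
    rw [map_mul, map_mul, map_inv, mul_comm (χ s), mul_assoc, mul_inv_cancel, mul_one]
  have hT : ∀ (v : ↥S) (b : XS m), ξ b = 1 → hh ξ v b * v⁻¹ ∈ (⊤ : Subgroup ↥S) := fun _ _ _ => trivial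
  letI : Fintype {x : XS m // ξ x = 1} := Fintype.ofFinite _
  let D : ↥S →* ℤˣ := MonoidHom.mk' (fun v => ∏ b : {x : XS m // ξ x = 1}, χ (hh ξ v b))
    (fun a b => DD_mul hξ ⊤ χ hf₁ hf₂ hT trivial trivial)
  have hDinv : ∀ (P : Subgroup Ω) (φ : P →* Ω) (hφ : φ ∈ F.Hom P) (x : P), D ⟨φ x, val_mem hφ x⟩ = D ⟨x, le_of_hom hφ x.2⟩ := by
    intro P φ hφ x
    obtain ⟨g, hg₁, hg₂⟩ := hX.exists_twist_iso hφ
    exact DD_stable hξ ⊤ χ hf₁ hf₂ hT trivial trivial g g.injective hg₁ (hg₂ x)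
  have hfoc : F.focalSubgroup ≤ (D.ker).map S.subtype := by
    rw [focalSubgroup, Subgroup.closure_le]
    rintro _ ⟨P, φ, x, hφ, rfl⟩
    refine ⟨⟨(x : Ω)⁻¹ * φ x, S.mul_mem (S.inv_mem (le_of_hom hφ x.2)) (val_mem hφ x)⟩, ?_, rfl⟩
    rw [SetLike.mem_coe, MonoidHom.mem_ker]
    have e : (⟨(x : Ω)⁻¹ * φ x, S.mul_mem (S.inv_mem (le_of_hom hφ x.2)) (val_mem hφ x)⟩ : ↥S) =
        (⟨x, le_of_hom hφ x.2⟩ : ↥S)⁻¹ * ⟨φ x, val_mem hφ x⟩ := rfl
    rw [e, map_mul, map_inv, hDinv P φ hφ x, inv_mul_cancel]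
  have hu2 : u * u = 1 := by
    apply Subtype.ext
    show (u : Ω) * u = 1
    rw [← pow_two, ← hu]
    exact pow_orderOf_eq_one _
  have hDu : D u = -1 := by
    let π : {x : XS m // ξ x = 1} → {x : XS m // ξ x = 1} := fun b => ⟨pii ξ u b, xi_pii hξ u b⟩
    have hππ : ∀ b, π (π b) = b := by
      intro b
      apply Subtype.ext
      show pii ξ u (pii ξ u b) = b
      rw [← pii_mul hξ, hu2]
      exact pii_of_sec hξ b.2
    have hh1 : ∀ b : {x : XS m // ξ x = 1}, hh ξ (1 : ↥S) (b : XS m) = 1 := by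
      intro b
      have : ((1 : ↥S), (1 : ↥S)) • (b : XS m) = b := one_smul (↥S × ↥S) _
      rw [hh, this, b.2]
    have hgg : ∀ b : {x : XS m // ξ x = 1}, χ (hh ξ u (π b)) * χ (hh ξ u b) = 1 := by
      intro b
      rw [← map_mul]
      show χ (hh ξ u (pii ξ u b) * hh ξ u b) = 1
      rw [← hh_mul hξ, hu2, hh1, map_one]
    let e : {x : XS m // ξ x = 1} → ℤˣ := fun b => (-1) * χ (hh ξ u b)
    let p : {x : XS m // ξ x = 1} → Prop := fun b => ∃ w ∈ T', (u, w) • (b : XS m) = b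
    have hW : ∏ b ∈ Finset.univ.filter p, e b = 1 := by
      have h1 : ∀ b ∈ Finset.univ.filter p, e b = -1 := by
        intro b hb
        obtain ⟨w, hw, hf⟩ := (Finset.mem_filter.1 hb).2
        have h2 := (hh_of_fix hξ hf b.2).1
        show (-1) * χ (hh ξ u b) = -1
        rw [h2, hχ1 w hw, mul_one]
      rw [Finset.prod_congr rfl h1, Finset.prod_const]
      have h3 := two_dvd_card_fix hX hS T' u hu h hξ
      have h4 : (Finset.univ.filter p).card = Nat.card {b : {x : XS m // ξ x = 1} // p b} := by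
        rw [Nat.card_eq_fintype_card, Fintype.card_subtype]
      rw [Even.neg_one_pow]
      rw [h4]
      exact even_iff_two_dvd.2 h3
    have hC : ∏ b ∈ Finset.univ.filter (fun b => ¬ p b), e b = 1 := by
      refine Finset.prod_involution (fun b _ => π b) ?_ ?_ ?_ ?_
      · intro b _
        show (-1) * χ (hh ξ u b) * ((-1) * χ (hh ξ u (π b))) = 1
        have h1 := hgg b
        calc (-1) * χ (hh ξ u b) * ((-1) * χ (hh ξ u (π b))) = ((-1) * (-1)) * (χ (hh ξ u (π b)) * χ (hh ξ u b)) := by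
              rw [mul_mul_mul_comm, mul_comm (χ (hh ξ u b))]
          _ = 1 := by rw [h1]; simp
      · intro b hb hne hfix
        apply hne
        have hnp := (Finset.mem_filter.1 hb).2
        have h1 : pii ξ u (b : XS m) = b := congrArg Subtype.val hfix
        have h2 := fix_of_pii hξ h1
        have h3 : hh ξ u (b : XS m) ∉ T' := fun hmem => hnp ⟨_, hmem, h2⟩
        show (-1) * χ (hh ξ u b) = 1
        rw [hχ2 _ h3]
        simp
      · intro b hb
        rw [Finset.mem_filter] at hb ⊢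
        refine ⟨Finset.mem_univ _, fun hp => hb.2 ?_⟩
        obtain ⟨w, hw, hf⟩ := hp
        have h2 := (hh_of_fix hξ hf (π b).2).2
        have h3 : π (π b) = π b := Subtype.ext h2
        rw [hππ] at h3
        rw [h3] at hb
        have hfb : (u, w) • (b : XS m) = b := by
          have : ((π b : {x : XS m // ξ x = 1}) : XS m) = b := congrArg Subtype.val h3.symm
          rw [this] at hf
          exact hf
        exact ⟨w, hw, hfb⟩
      · intro b _
        exact hππ b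
    have htot : ∏ b : {x : XS m // ξ x = 1}, e b = 1 := by
      rw [← Finset.prod_filter_mul_prod_filter_not Finset.univ p, hW, hC, one_mul]
    have htot2 : ∏ b : {x : XS m // ξ x = 1}, e b = (-1) ^ (Fintype.card {x : XS m // ξ x = 1}) * D u := by
      show ∏ b : {x : XS m // ξ x = 1}, ((-1) * χ (hh ξ u b)) = _
      rw [Finset.prod_mul_distrib, Finset.prod_const, Finset.card_univ]
      rfl
    have hodd : Odd (Fintype.card {x : XS m // ξ x = 1}) := by
      have h1 := hX.coprime_num hS hF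
      rw [← Nat.card_eq_fintype_card, IsCharBiset.card_sec_eq_num hξ]
      exact Nat.Coprime.odd_of_right h1
    rw [htot2, hodd.neg_one_pow] at htot
    have : (-1 : ℤˣ) * (-1) * D u = -1 := by rw [mul_assoc, htot, mul_one]
    simpa using this
  intro hmem
  obtain ⟨v, hv, hve⟩ := hfoc hmem
  have hvu : v = u := Subtype.ext hve
  rw [hvu] at hv
  have h1 : D u = 1 := hv
  rw [hDu] at h1
  exact absurd h1 (by decide)

theorem not_mem_hyp_of_thompson [Finite S] (hS : IsPGroup 2 S) (hF : F.IsSaturated 2) (T' : Subgroup ↥S) (hT' : T'.index = 2)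
    (u : ↥S) (hu : orderOf (u : Ω) = 2)
    (h : ∀ w : ↥S, F.IsConjElt (u : Ω) w → F.IsFullyNormalized (Subgroup.zpowers (w : Ω)) → w ∉ T') :
    (u : Ω) ∉ F.hyperfocalSubgroup 2 := by
  haveI : Fact (Nat.Prime 2) := ⟨Nat.prime_two⟩
  intro hmem
  apply not_mem_focal_of_thompson hS hF T' hT' u hu h
  rw [focal_eq_hyp_sup hS hF]
  exact Subgroup.mem_sup_left hmem

end Cfsg.Agent.Lib.Fusion
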