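/-
Direct products of strongly closed subgroups.
-/
import Cfsg.Agent.Lib.Fusion.PIndexNormal
import Cfsg.Agent.Lib.Fusion.KSystem
import Cfsg.Agent.Lib.Fusion.Admis3
import Cfsg.Prelude.Def_TwoFusion

set_option autoImplicit false
set_option linter.unusedSectionVars false
set_option linter.style.haveILetI false

namespace Cfsg.Agent.Lib.Fusion

open Cfsg Cfsg.FusionSystem

variable {Ω : Type*} [Group Ω] {S T : Subgroup Ω} {F : FusionSystem S} {E : FusionSystem T} [Finite S] {p : ℕ} [hp : Fact p.Prime]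

omit [Finite S] hp in
theorem le_normalizer_of_comm' {P Y : Subgroup Ω} (hc : ∀ t ∈ P, ∀ y ∈ Y, t * y = y * t) :
    P ≤ Subgroup.normalizer (Y : Set Ω) := by
  intro t ht
  rw [Subgroup.mem_normalizer_iff]
  intro y
  constructor
  · intro hy
    have e : t * y * t⁻¹ = y := by
      rw [hc t ht y hy]
      group
    rw [e]
    exact hy
  · intro hy
    have e : t⁻¹ * (t * y * t⁻¹) * t = t * y * t⁻¹ := by
      rw [hc _ (P.inv_mem ht) _ hy]
      group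
    have e2 : t⁻¹ * (t * y * t⁻¹) * t = y := by group
    rw [← e2, e]
    exact hy

omit [Finite S] hp in
/-- Assembling invariance from its unbundled parts. -/
theorem isInvariantIn_of_data (hEF : E.IsSubsystemOf F) (hT : F.StronglyClosed T) (hinv : AutInv E F)
    (hfr : ∀ P : Subgroup Ω, P ≤ T → ∀ f : Ω → Ω, IsMapOn F P f → Fr E F P f) : E.IsInvariantIn F := by
  refine ⟨hEF, hT, fun P hPT φ hφ α hα => invariant_of_autInv hinv P hPT φ hφ α hα, fun P hPT φ hφ => ?_⟩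
  obtain ⟨α, hα, f₀, hf₀, hv⟩ := hfr P hPT (toFun φ) (isMapOn_toFun hφ)
  obtain ⟨φ₀, hφ₀, hφ₀v⟩ := hf₀
  refine ⟨α, hα, φ₀, hφ₀, fun x hx => ?_⟩
  rw [← toFun_coe φ x, hv x x.2, ← hφ₀v x, fn_of_mem α hx]

omit [Finite S] hp in
theorem extension_of_extN {α : MulAut T} (h : ExtN F T α) :
    ∃ β ∈ F.autGroup (T ⊔ centralizerIn S T),
      (∀ x : T, ((β (Subgroup.inclusion le_sup_left x) : ↥(T ⊔ centralizerIn S T)) : Ω) = ((α x : T) : Ω)) ∧
      ∀ c : ↥(T ⊔ centralizerIn S T), (c : Ω) ∈ centralizerIn S T →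
        (c : Ω)⁻¹ * ((β c : ↥(T ⊔ centralizerIn S T)) : Ω) ∈ T ⊓ Subgroup.centralizer (T : Set Ω) := by
  obtain ⟨β, hβ, h1, h2⟩ := h
  refine ⟨β, hβ, fun x => ?_, fun c hc => ?_⟩
  · have h3 := h1 x x.2
    rw [fn_of_mem _ ((le_sup_left : T ≤ T ⊔ centralizerIn S T) x.2), fn_of_mem _ x.2] at h3
    exact h3
  · have h3 := h2 c hc
    rw [fn_of_mem _ c.2] at h3
    exact h3

omit [Finite S] hp in
theorem isImage_self_of_stronglyClosed' {W X : Subgroup Ω} [Finite S] (hW : F.StronglyClosed W) {f : Ω → Ω} (h : IsMapOn F X f)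
    (hWX : W ≤ X) : IsImage f W W := by
  obtain ⟨Q, hQ⟩ := h.exists_image hWX
  have hle : Q ≤ W := by
    intro y hy
    obtain ⟨x, hx, rfl⟩ := hQ.exists_of_mem hy
    obtain ⟨φ, hφ, hv⟩ := h.mono hWX
    rw [← hv ⟨x, hx⟩]
    exact hW.2 W le_rfl φ hφ _
  have hc := IsImage.card_eq h hWX hQ
  have : Q = W := eq_of_le_of_card_le (S := S) hle hW.1 (le_of_eq hc)
  rw [this] at hQ
  exact hQ

theorem isFullyCentralized_of_stronglyClosed {W : Subgroup Ω} (hW : F.StronglyClosed W) : F.IsFullyCentralized W := by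
  refine ⟨hW.1, fun Q ⟨φ, hφ, hr⟩ => ?_⟩
  have hle : Q ≤ W := by
    rw [← hr]
    rintro _ ⟨x, rfl⟩
    exact hW.2 W le_rfl φ hφ x
  have hc := isConj_card_eq (F := F) ⟨φ, hφ, hr⟩
  have : Q = W := eq_of_le_of_card_le (S := S) hle hW.1 (le_of_eq hc)
  rw [this]

omit hp in
theorem exists_ext_sup_of_central {Y P Q : Subgroup Ω} {f : Ω → Ω} (hQ : F.IsReceptive Q) (h : IsMapOn F P f) (hi : IsImage f P Q)
    (hYS : Y ≤ S) (hc : ∀ y ∈ Y, ∀ x ∈ P, y * x = x * y) : ∃ f', IsMapOn F (P ⊔ Y) f' ∧ ∀ x ∈ P, f' x = f x := by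
  have hPS := h.le
  refine h.exists_ext hQ hi le_sup_left ?_
  intro g hg
  have hPn : P ≤ Subgroup.normalizer (Y : Set Ω) := le_normalizer_of_comm' (fun x hx y hy => (hc y hy x hx).symm)
  obtain ⟨u, hu, q, hq, rfl⟩ := exists_mul_of_mem_sup hPn hg
  have e : ∀ x ∈ P, (u * q) * x * (u * q)⁻¹ = u * x * u⁻¹ := by
    intro x hx
    have h1 := hc q hq x hx
    calc (u * q) * x * (u * q)⁻¹ = u * (q * x) * q⁻¹ * u⁻¹ := by group
      _ = u * (x * q) * q⁻¹ * u⁻¹ := by rw [h1]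
      _ = _ := by group
  refine ⟨S.mul_mem (hPS hu) (hYS hq), ?_, f u, h.mem_S hu, fun x hx => ?_⟩
  · refine mem_normalizer_of_conj_mem (S := S) hPS (fun x hx => ?_)
    rw [e x hx]
    exact P.mul_mem (P.mul_mem hu hx) (P.inv_mem hu)
  · rw [e x hx]
    exact h.map_conj hu hx

/-- The full subsystem on a strongly closed direct factor is saturated. -/
theorem isSaturated_full_of_factor (hS : IsPGroup p S) (hF : F.IsSaturated p) {Y : Subgroup Ω} (hT : F.StronglyClosed T)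
    (hYS : Y ≤ S) (hc : ∀ t ∈ T, ∀ y ∈ Y, t * y = y * t) (hsup : T ⊔ Y = S) (R : FusionSystem T)
    (hR : ∀ P : Subgroup Ω, P ≤ T → R.Hom P = F.Hom P) : R.IsSaturated p := by
  intro P hP
  obtain ⟨Q, hPQ, hQn⟩ := exists_fullyNormalized_conj (F := F) (hP.trans hT.1)
  have hQT : Q ≤ T := by
    obtain ⟨φ, hφ, hr⟩ := hPQ
    rw [← hr]
    rintro _ ⟨x, rfl⟩
    exact hT.2 P hP φ hφ x
  have hTn : T ≤ Subgroup.normalizer (Y : Set Ω) := le_normalizer_of_comm' hc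
  have hAut : R.autGroup Q = F.autGroup Q := by
    unfold autGroup
    congr 1
    ext α
    simp only [Set.mem_ofPred_eq, hR Q hQT]
  have hInd : autInducedBy T Q = autInducedBy S Q := by
    ext α
    rw [mem_autInducedBy_iff, mem_autInducedBy_iff]
    constructor
    · rintro ⟨g, hg, hv⟩
      exact ⟨g, hT.1 hg, hv⟩
    · rintro ⟨g, hg, hv⟩
      rw [← hsup] at hg
      obtain ⟨t, ht, y, hy, rfl⟩ := exists_mul_of_mem_sup hTn hg
      refine ⟨t, ht, fun x => ?_⟩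
      rw [hv x]
      have h1 := hc x (hQT x.2) y hy
      calc t * y * x * (t * y)⁻¹ = t * (y * x) * y⁻¹ * t⁻¹ := by group
        _ = t * (x * y) * y⁻¹ * t⁻¹ := by rw [h1]
        _ = _ := by group
  refine ⟨Q, ?_, ?_, ?_⟩
  · obtain ⟨φ, hφ, hr⟩ := hPQ
    refine ⟨φ, ?_, hr⟩
    rw [hR P hP]
    exact hφ
  · obtain ⟨-, W, hW⟩ := (fullyNormalized_spec hS hF hQn).2
    refine ⟨hQT, ?_⟩
    rw [hAut, hInd]
    exact ⟨W, hW⟩
  · refine ⟨hQT, fun P' φ hφ hr => ?_⟩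
    have hP'T : P' ≤ T := le_of_hom hφ
    rw [hR P' hP'T] at hφ
    obtain ⟨ψ, hψ, hag⟩ := (receptive_of_fullyNormalized hS hF hQn).2 P' φ hφ hr
    have hle : extender T P' φ ≤ extender S P' φ := by
      apply Subgroup.closure_mono
      rintro g ⟨hgT, hgn, h, hhT, hv⟩
      exact ⟨hT.1 hgT, hgn, h, hT.1 hhT, hv⟩
    refine ⟨ψ.comp (Subgroup.inclusion hle), ?_, fun x hP hN => hag x hP (hle hN)⟩
    rw [hR _ ((extender_le_normalizerIn P' φ).trans (normalizerIn_le P'))]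
    exact restrict_mem hψ hle

/-- The setting of a direct product of two strongly closed subgroups. -/
structure DF (p : ℕ) (F : FusionSystem S) (T Y : Subgroup Ω) : Prop where
  hS : IsPGroup p S
  hF : F.IsSaturated p
  hT : F.StronglyClosed T
  hY : F.StronglyClosed Y
  hc : ∀ t ∈ T, ∀ y ∈ Y, t * y = y * t
  hsup : T ⊔ Y = S

theorem DF.swap {Y : Subgroup Ω} (d : DF p F T Y) : DF p F Y T :=
  ⟨d.hS, d.hF, d.hY, d.hT, fun y hy t ht => (d.hc t ht y hy).symm, by rw [sup_comm]; exact d.hsup⟩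

/-- Maps on `T` with image `T` extend to `S`. -/
theorem DF.exists_ext {Y : Subgroup Ω} (d : DF p F T Y) {f : Ω → Ω} (hf : IsMapOn F T f) (hi : IsImage f T T) :
    ∃ g, IsMapOn F S g ∧ IsImage g S S ∧ IsImage g T T ∧ IsImage g Y Y ∧ ∀ x ∈ T, g x = f x := by
  have hrec : F.IsReceptive T := receptive_of_fullyCentralized d.hS d.hF (isFullyCentralized_of_stronglyClosed d.hT)
  obtain ⟨g, hg, hv⟩ := exists_ext_sup_of_central hrec hf hi d.hY.1 (fun y hy x hx => (d.hc x hx y hy).symm)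
  rw [d.hsup] at hg
  have hSS : F.StronglyClosed S := ⟨le_rfl, fun R _ φ hφ x => val_mem hφ x⟩
  exact ⟨g, hg, isImage_self_of_stronglyClosed' hSS hg le_rfl, isImage_self_of_stronglyClosed' d.hT hg d.hT.1,
    isImage_self_of_stronglyClosed' d.hY hg d.hY.1, hv⟩

/-- Maps on `X ≤ T` which extend to `X Y`, fixing `Y` elementwise. -/
def Cen (F : FusionSystem S) (Y X : Subgroup Ω) (f : Ω → Ω) : Prop :=
  ∃ f', IsMapOn F (X ⊔ Y) f' ∧ (∀ x ∈ X, f' x = f x) ∧ ∀ y ∈ Y, f' y = y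

/-- Factorization of a map with fully centralized image. -/
theorem DF.exists_factor {Y : Subgroup Ω} (d : DF p F T Y) {X W : Subgroup Ω} (hX : X ≤ T) {h : Ω → Ω} (hh : IsMapOn F X h)
    (hi : IsImage h X W) (hW : F.IsFullyCentralized W) :
    ∃ a ∈ F.autGroup T, ∃ h₀, Cen F Y X h₀ ∧ ∀ x ∈ X, h x = fn a (h₀ x) := by
  have hrec : F.IsReceptive W := receptive_of_fullyCentralized d.hS d.hF hW
  obtain ⟨h', hh', hv⟩ := exists_ext_sup_of_central hrec hh hi d.hY.1 (fun y hy x hx => (d.hc x (hX hx) y hy).symm)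
  have hYi := isImage_self_of_stronglyClosed' d.hY hh' (le_sup_right : Y ≤ X ⊔ Y)
  obtain ⟨g, hg, hgS, hgY, hgT, hgv⟩ := d.swap.exists_ext (hh'.mono (le_sup_right : Y ≤ X ⊔ Y)) hYi
  obtain ⟨g', hg', hg'i, hg'l, hg'r⟩ := hg.exists_inv hgS
  have hg'T := isImage_self_of_stronglyClosed' d.hT hg' d.hT.1
  obtain ⟨a, ha, hav⟩ := exists_aut_of_map (hg.mono d.hT.1) hgT
  refine ⟨a, ha, fun x => g' (h' x), ⟨fun x => g' (h' x), hh'.comp hg' (fun x hx => hh'.mem_S hx), fun _ _ => rfl, fun y hy => ?_⟩, fun x hx => ?_⟩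
  · show g' (h' y) = y
    rw [← hgv y hy]
    exact hg'l y (d.hY.1 hy)
  · have hhT : h' x ∈ T := by
      rw [hv x hx]
      obtain ⟨φ, hφ, hφv⟩ := hh
      rw [← hφv ⟨x, hx⟩]
      exact d.hT.2 X hX φ hφ _
    rw [hav _ (hg'T.mem hhT), hg'r _ (d.hT.1 hhT), hv x hx]

/-- Invariance of `Cen` under `Aut_F(T)`. -/
theorem DF.cen_conj {Y : Subgroup Ω} (d : DF p F T Y) {P P' : Subgroup Ω} (hP : P ≤ T) {f : Ω → Ω} (hf : Cen F Y P f)
    {α : MulAut T} (hα : α ∈ F.autGroup T) (hP' : IsImage (fn α) P P') :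
    Cen F Y P' (fun y => fn α (f (fn α⁻¹ y))) := by
  obtain ⟨f', hf', hag, hfix⟩ := hf
  obtain ⟨g, hg, hgS, hgT, hgY, hgv⟩ := d.exists_ext (isMapOn_fn d.hT.1 hα) (isImage_fn α)
  obtain ⟨g', hg', hg'i, hg'l, hg'r⟩ := hg.exists_inv hgS
  have hP'T : P' ≤ T := by
    intro y hy
    obtain ⟨x, hx, rfl⟩ := hP'.exists_of_mem hy
    exact fn_mem α (hP hx)
  have hg'Y := isImage_self_of_stronglyClosed' d.hY hg' d.hY.1
  have hg'P : ∀ x ∈ P, g' (fn α x) = x := by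
    intro x hx
    rw [← hgv x (hP hx)]
    exact hg'l x (d.hT.1 (hP hx))
  have hn : P' ≤ Subgroup.normalizer (Y : Set Ω) := le_normalizer_of_comm' (fun t ht y hy => d.hc t (hP'T ht) y hy)
  have hmaps : ∀ z ∈ P' ⊔ Y, g' z ∈ P ⊔ Y := by
    intro z hz
    obtain ⟨u, hu, q, hq, rfl⟩ := exists_mul_of_mem_sup hn hz
    have hu' := hu
    obtain ⟨x, hx, rfl⟩ := hP'.exists_of_mem hu'
    rw [hg'.map_mul (d.hT.1 (hP'T hu)) (d.hY.1 hq), hg'P x hx]
    exact Subgroup.mul_mem _ ((le_sup_left : P ≤ P ⊔ Y) hx) ((le_sup_right : Y ≤ P ⊔ Y) (hg'Y.mem hq))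
  have hsubS : P' ⊔ Y ≤ S := sup_le (hP'T.trans d.hT.1) d.hY.1
  have hmap : IsMapOn F (P' ⊔ Y) (fun z => g (f' (g' z))) :=
    ((hg'.mono hsubS).comp hf' hmaps).comp hg (fun z hz => hf'.mem_S (hmaps z hz))
  refine ⟨_, hmap, fun y hy => ?_, fun y hy => ?_⟩
  · obtain ⟨x, hx, rfl⟩ := hP'.exists_of_mem hy
    show g (f' (g' (fn α x))) = fn α (f (fn α⁻¹ (fn α x)))
    rw [hg'P x hx, fn_inv_fn α (hP hx), hag x hx]
    have hfT : f x ∈ T := by
      rw [← hag x hx]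
      obtain ⟨φ, hφ, hφv⟩ := hf'
      rw [← hφv ⟨x, (le_sup_left : P ≤ P ⊔ Y) hx⟩]
      exact hom_mem_of_stronglyClosed d.hT hφ _ (hP hx)
    exact hgv _ hfT
  · show g (f' (g' y)) = y
    rw [hfix _ (hg'Y.mem hy)]
    exact hg'r y (d.hY.1 hy)

section R

variable {Y : Subgroup Ω} {R' : FusionSystem T}

theorem DF.mapOn_of_cen (d : DF p F T Y) (hR' : ∀ P : Subgroup Ω, P ≤ T → R'.Hom P = F.centralizerHom Y P) {X : Subgroup Ω}
    (hX : X ≤ T) {f : Ω → Ω} (h : Cen F Y X f) : IsMapOn R' X f := by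
  obtain ⟨f', hf', hag, hfix⟩ := h
  obtain ⟨ψ, hψ, hv⟩ := hf'
  have hT' : T ≤ centralizerIn S Y := by
    intro t ht
    refine ⟨d.hT.1 ht, Subgroup.mem_centralizer_iff.2 ?_⟩
    intro y hy
    exact (d.hc t ht y hy).symm
  refine ⟨ψ.comp (Subgroup.inclusion le_sup_left), ?_, fun x => ?_⟩
  · rw [hR' X hX]
    refine ⟨restrict_mem hψ le_sup_left, hX.trans hT', fun x => hT' ?_, ψ, hψ, fun x => rfl, fun y => ?_⟩
    · exact hom_mem_of_stronglyClosed d.hT hψ _ (hX x.2)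
    · rw [hv]
      exact hfix y y.2
  · show ψ _ = f x
    rw [hv]
    exact hag x x.2

theorem DF.cen_of_mapOn (hR' : ∀ P : Subgroup Ω, P ≤ T → R'.Hom P = F.centralizerHom Y P) {X : Subgroup Ω}
    {f : Ω → Ω} (h : IsMapOn R' X f) : X ≤ T ∧ Cen F Y X f := by
  obtain ⟨φ, hφ, hv⟩ := h
  have hX : X ≤ T := le_of_hom hφ
  refine ⟨hX, ?_⟩
  rw [hR' X hX] at hφ
  obtain ⟨-, -, -, ψ, hψ, hag, hfix⟩ := hφ
  refine ⟨toFun ψ, isMapOn_toFun hψ, fun x hx => ?_, fun y hy => ?_⟩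
  · rw [toFun_of_mem ψ ((le_sup_left : X ≤ X ⊔ Y) hx), ← hv ⟨x, hx⟩, ← hag ⟨x, hx⟩]
    rfl
  · rw [toFun_of_mem ψ ((le_sup_right : Y ≤ X ⊔ Y) hy)]
    exact hfix ⟨y, hy⟩

theorem DF.autInv (d : DF p F T Y) (hR' : ∀ P : Subgroup Ω, P ≤ T → R'.Hom P = F.centralizerHom Y P) : AutInv R' F := by
  intro P f hPT hf α hα P' hP'
  have hP'T : P' ≤ T := by
    intro y hy
    obtain ⟨x, hx, rfl⟩ := hP'.exists_of_mem hy
    exact fn_mem α (hPT hx)
  exact d.mapOn_of_cen hR' hP'T (d.cen_conj hPT (DF.cen_of_mapOn hR' hf).2 hα hP')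

theorem DF.fr (d : DF p F T Y) (hR' : ∀ P : Subgroup Ω, P ≤ T → R'.Hom P = F.centralizerHom Y P) {P : Subgroup Ω} (hP : P ≤ T)
    {f : Ω → Ω} (hf : IsMapOn F P f) : Fr R' F P f := by
  have hinv := d.autInv hR'
  have step : ∀ {X W : Subgroup Ω} {h : Ω → Ω}, X ≤ T → IsMapOn F X h → IsImage h X W → F.IsFullyCentralized W → Fr R' F X h := by
    intro X W h hX hh hi hW
    obtain ⟨a, ha, h₀, hc, hv⟩ := d.exists_factor hX hh hi hW
    exact ⟨a, ha, h₀, d.mapOn_of_cen hR' hX hc, hv⟩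
  obtain ⟨W, hW⟩ := hf.exists_image le_rfl
  have hWS : W ≤ S := IsImage.le_S hf le_rfl hW
  have hWT : W ≤ T := by
    intro y hy
    obtain ⟨x, hx, rfl⟩ := hW.exists_of_mem hy
    obtain ⟨φ, hφ, hφv⟩ := hf
    rw [← hφv ⟨x, hx⟩]
    exact d.hT.2 P hP φ hφ _
  obtain ⟨Q, ⟨ι, hι, hr⟩, hQ⟩ := exists_fullyCentralized_conj (F := F) hWS
  have hιm : IsMapOn F W (toFun ι) := isMapOn_toFun hι
  have hιi : IsImage (toFun ι) W Q := by
    intro y
    rw [← hr]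
    constructor
    · rintro ⟨x, rfl⟩
      exact ⟨x, x.2, toFun_coe ι x⟩
    · rintro ⟨x, hx, rfl⟩
      exact ⟨⟨x, hx⟩, (toFun_of_mem ι hx).symm⟩
  have h₁ : Fr R' F P (fun x => toFun ι (f x)) :=
    step hP (hf.comp hιm (fun x hx => hW.mem hx)) (hW.comp hιi) hQ
  have h₂ : Fr R' F W (toFun ι) := step hWT hιm hιi hQ
  obtain ⟨ι', hι', hι'i, hι'l, hι'r⟩ := hιm.exists_inv hιi
  have h₃ : Fr R' F Q ι' := Fr.inv d.hT.1 hinv h₂ hιi hι'l
  refine (Fr.comp d.hT.1 hinv h₁ h₃ (fun x hx => hιi.mem (hW.mem hx))).congr (fun x hx => ?_)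
  exact hι'l _ (hW.mem hx)

theorem fn_mem_center {α : MulAut T} {c : Ω} (hc : c ∈ T ⊓ Subgroup.centralizer (T : Set Ω)) :
    fn α c ∈ T ⊓ Subgroup.centralizer (T : Set Ω) := by
  refine ⟨fn_mem α hc.1, Subgroup.mem_centralizer_iff.2 ?_⟩
  intro x hx
  have hx' : x = fn α (fn α⁻¹ x) := (fn_fn_inv α hx).symm
  have h1 : c ∈ Subgroup.centralizer (T : Set Ω) := hc.2
  rw [Subgroup.mem_centralizer_iff] at h1
  have h2 := h1 _ (fn_mem α⁻¹ hx)
  rw [hx', ← fn_map_mul α (fn_mem α⁻¹ hx) hc.1, ← fn_map_mul α hc.1 (fn_mem α⁻¹ hx), h2]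

theorem DF.extN (d : DF p F T Y) (hR' : ∀ P : Subgroup Ω, P ≤ T → R'.Hom P = F.centralizerHom Y P) {α : MulAut T}
    (hα : α ∈ R'.autGroup T) : ExtN F T α := by
  have hn : T ≤ Subgroup.normalizer (Y : Set Ω) := le_normalizer_of_comm' d.hc
  obtain ⟨-, f', hf', hag, hfix⟩ := DF.cen_of_mapOn hR' (isMapOn_fn le_rfl hα)
  have hXS : T ⊔ centralizerIn S T = S := by
    apply le_antisymm (sup_le d.hT.1 inf_le_left)
    have h1 : T ⊔ Y ≤ T ⊔ centralizerIn S T := by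
      refine sup_le_sup_left ?_ T
      intro y hy
      refine ⟨d.hY.1 hy, Subgroup.mem_centralizer_iff.2 ?_⟩
      intro t ht
      exact d.hc t ht y hy
    rwa [d.hsup] at h1
  rw [d.hsup] at hf'
  have hSS : F.StronglyClosed S := ⟨le_rfl, fun R _ φ hφ x => val_mem hφ x⟩
  have him := isImage_self_of_stronglyClosed' hSS hf' le_rfl
  have hf'X : IsMapOn F (T ⊔ centralizerIn S T) f' := hf'.mono (by rw [hXS])
  have himX : IsImage f' (T ⊔ centralizerIn S T) (T ⊔ centralizerIn S T) := by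
    rw [hXS]
    exact him
  obtain ⟨β, hβ, hβv⟩ := exists_aut_of_map hf'X himX
  refine ⟨β, hβ, fun x hx => ?_, fun c hc => ?_⟩
  · rw [hβv x ((le_sup_left : T ≤ _) hx), hag x hx]
  · rw [hβv c ((le_sup_right : centralizerIn S T ≤ _) hc)]
    have hcS : c ∈ T ⊔ Y := by
      rw [d.hsup]
      exact hc.1
    obtain ⟨t, ht, y, hy, rfl⟩ := exists_mul_of_mem_sup hn hcS
    have hyc : y ∈ Subgroup.centralizer (T : Set Ω) := Subgroup.mem_centralizer_iff.2 (fun x hx => d.hc x hx y hy)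
    have htc : t ∈ T ⊓ Subgroup.centralizer (T : Set Ω) := by
      refine ⟨ht, ?_⟩
      have h1 : t * y ∈ Subgroup.centralizer (T : Set Ω) := hc.2
      have h2 := Subgroup.mul_mem _ h1 (Subgroup.inv_mem _ hyc)
      simpa using h2
    have hf'm := hf'.map_mul (d.hT.1 ht) (d.hY.1 hy)
    rw [hf'm, hag t ht, hfix y hy]
    have hcomm : y⁻¹ * (t⁻¹ * fn α t) * y = t⁻¹ * fn α t := by
      have h3 := d.hc (t⁻¹ * fn α t) (T.mul_mem (T.inv_mem ht) (fn_mem α ht)) y hy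
      rw [mul_assoc, h3, inv_mul_cancel_left]
    have e : (t * y)⁻¹ * (fn α t * y) = t⁻¹ * fn α t := by
      rw [← hcomm]
      group
    rw [e]
    exact Subgroup.mul_mem _ (Subgroup.inv_mem _ htc) (fn_mem_center htc)

end R

section Main

/-- **Direct products of strongly closed subgroups.** -/
theorem main_directFactor (hS : IsPGroup p S) (hF : F.IsSaturated p) (S₁ S₂ : Subgroup Ω) (hprod : IsInternalDirectProduct S₁ S₂ S)
    (h₁ : F.StronglyClosed S₁) (h₂ : F.StronglyClosed S₂) (R R' : FusionSystem S₁)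
    (hR : ∀ P : Subgroup Ω, P ≤ S₁ → R.Hom P = F.Hom P) (hR' : ∀ P : Subgroup Ω, P ≤ S₁ → R'.Hom P = F.centralizerHom S₂ P) :
    R.IsSaturated p ∧ R'.IsSaturated p ∧ R'.IsNormalIn F p ∧ R'.IsNormalIn R p ∧ R.IsWeaklyNormalIn F p := by
  obtain ⟨hS₁, hS₂, hcomm, hbot, hsup⟩ := hprod
  have d : DF p F S₁ S₂ := ⟨hS, hF, h₁, h₂, hcomm, hsup⟩
  haveI : Finite S₁ := finite_of_le hS₁
  have hpS₁ : IsPGroup p S₁ := hS.to_le hS₁
  have hRsat : R.IsSaturated p := isSaturated_full_of_factor hS hF h₁ hS₂ hcomm hsup R hR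
  -- the centralizer system
  have hR'sat : R'.IsSaturated p := by
    obtain ⟨D, hD⟩ := kSystem_centralizer F hS₂
    have hfc := isFullyCentralized_of_stronglyClosed h₂
    have hDsat := isSaturated_centralizerSystem hS hF hfc hD
    haveI : Finite (centralizerIn S S₂) := finite_of_le (inf_le_left : centralizerIn S S₂ ≤ S)
    have hpC : IsPGroup p (centralizerIn S S₂) := hS.to_le inf_le_left
    have hS₁C : S₁ ≤ centralizerIn S S₂ := fun t ht => ⟨hS₁ ht, Subgroup.mem_centralizer_iff.2 (fun y hy => (hcomm t ht y hy).symm)⟩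
    have hDc : D.StronglyClosed S₁ := by
      refine ⟨hS₁C, fun X hX φ hφ x => ?_⟩
      rw [hD X] at hφ
      exact h₁.2 X hX φ hφ.1 x
    have hn : S₁ ≤ Subgroup.normalizer (S₂ : Set Ω) := le_normalizer_of_comm' hcomm
    refine isSaturated_full_of_factor hpC hDsat hDc (Y := centralizerIn S₂ S₂) ?_ ?_ ?_ R' (fun P hP => ?_)
    · intro y hy
      exact ⟨hS₂ hy.1, hy.2⟩
    · intro t ht y hy
      exact hcomm t ht y hy.1
    · apply le_antisymm
      · exact sup_le hS₁C (fun y hy => ⟨hS₂ hy.1, hy.2⟩)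
      · intro c hc
        have hcS : c ∈ S₁ ⊔ S₂ := by
          rw [hsup]
          exact hc.1
        obtain ⟨t, ht, y, hy, rfl⟩ := exists_mul_of_mem_sup hn hcS
        refine Subgroup.mul_mem _ ((le_sup_left : S₁ ≤ _) ht) ((le_sup_right : centralizerIn S₂ S₂ ≤ _) ⟨hy, ?_⟩)
        have h1 : t * y ∈ Subgroup.centralizer (S₂ : Set Ω) := hc.2
        have h2 : t ∈ Subgroup.centralizer (S₂ : Set Ω) := Subgroup.mem_centralizer_iff.2 (fun z hz => (hcomm t ht z hz).symm)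
        have h3 := Subgroup.mul_mem _ (Subgroup.inv_mem _ h2) h1
        simpa using h3
    · rw [hR' P hP, hD P]
  have hsubF : R'.IsSubsystemOf F := by
    intro P φ hφ
    have hP : P ≤ S₁ := le_of_hom hφ
    rw [hR' P hP] at hφ
    exact hφ.1
  have hsubRF : R.IsSubsystemOf F := by
    intro P φ hφ
    have hP : P ≤ S₁ := le_of_hom hφ
    rw [hR P hP] at hφ
    exact hφ
  have hinv : AutInv R' F := d.autInv hR'
  have hfr : ∀ P : Subgroup Ω, P ≤ S₁ → ∀ f : Ω → Ω, IsMapOn F P f → Fr R' F P f := fun P hP f hf => d.fr hR' hP hf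
  have hAut : R.autGroup S₁ = F.autGroup S₁ := by
    unfold autGroup
    congr 1
    ext α
    simp only [Set.mem_ofPred_eq, hR S₁ le_rfl]
  have hmapR : ∀ {X : Subgroup Ω} {f : Ω → Ω}, X ≤ S₁ → IsMapOn F X f → IsMapOn R X f := by
    intro X f hX hf
    obtain ⟨φ, hφ, hv⟩ := hf
    exact ⟨φ, by rw [hR X hX]; exact hφ, hv⟩
  have hmapR' : ∀ {X : Subgroup Ω} {f : Ω → Ω}, IsMapOn R X f → IsMapOn F X f := by
    intro X f hf
    obtain ⟨φ, hφ, hv⟩ := hf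
    exact ⟨φ, hsubRF X hφ, hv⟩
  refine ⟨hRsat, hR'sat, ?_, ?_, ?_⟩
  · -- normal in `F`
    refine ⟨⟨hR'sat, hF, isInvariantIn_of_data hsubF h₁ hinv hfr⟩, fun α hα => ?_⟩
    exact extension_of_extN (d.extN hR' hα)
  · -- normal in `R`
    have hstrong : R.StronglyClosed S₁ := ⟨le_rfl, fun X _ φ hφ x => val_mem hφ x⟩
    have hsub' : R'.IsSubsystemOf R := by
      intro P φ hφ
      have hP : P ≤ S₁ := le_of_hom hφ
      rw [hR P hP]
      exact hsubF P hφ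
    have hinv' : AutInv R' R := by
      intro P f hPT hf α hα P' hP'
      exact hinv P f hPT hf α (hAut ▸ hα) P' hP'
    have hfr' : ∀ P : Subgroup Ω, P ≤ S₁ → ∀ f : Ω → Ω, IsMapOn R P f → Fr R' R P f := by
      intro P hP f hf
      obtain ⟨α, hα, f₀, hf₀, hv⟩ := hfr P hP f (hmapR' hf)
      exact ⟨α, hAut.symm ▸ hα, f₀, hf₀, hv⟩
    refine ⟨⟨hR'sat, hRsat, isInvariantIn_of_data hsub' hstrong hinv' hfr'⟩, fun α hα => ?_⟩
    refine extension_of_extN ?_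
    have hX : S₁ ⊔ centralizerIn S₁ S₁ = S₁ := sup_eq_left.2 inf_le_left
    have hαR : IsMapOn R S₁ (fn α) := by
      obtain ⟨φ, hφ, hv⟩ := isMapOn_fn le_rfl hα
      exact ⟨φ, hsub' _ hφ, hv⟩
    have h1 : IsMapOn R (S₁ ⊔ centralizerIn S₁ S₁) (fn α) := hαR.mono (by rw [hX])
    have h2 : IsImage (fn α) (S₁ ⊔ centralizerIn S₁ S₁) (S₁ ⊔ centralizerIn S₁ S₁) := by
      rw [hX]
      exact isImage_fn α
    obtain ⟨β, hβ, hβv⟩ := exists_aut_of_map h1 h2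
    refine ⟨β, hβ, fun x hx => hβv x ((le_sup_left : S₁ ≤ _) hx), fun c hc => ?_⟩
    rw [hβv c ((le_sup_right : centralizerIn S₁ S₁ ≤ _) hc)]
    exact Subgroup.mul_mem _ (Subgroup.inv_mem _ hc) (fn_mem_center hc)
  · -- `R` weakly normal in `F`
    refine ⟨hRsat, hF, isInvariantIn_of_data hsubRF h₁ ?_ (fun P hP f hf => fr_of_map (hmapR hP hf))⟩
    intro P f hPT hf α hα P' hP'
    have hP'T : P' ≤ S₁ := by
      intro y hy
      obtain ⟨x, hx, rfl⟩ := hP'.exists_of_mem hy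
      exact fn_mem α (hPT hx)
    refine hmapR hP'T ?_
    have h1 : IsMapOn F P' (fn α⁻¹) := (isMapOn_fn hS₁ (F.autGroup S₁ |>.inv_mem hα)).mono hP'T
    have hmem : ∀ y ∈ P', fn α⁻¹ y ∈ P := by
      intro y hy
      obtain ⟨x, hx, rfl⟩ := hP'.exists_of_mem hy
      rw [fn_inv_fn α (hPT hx)]
      exact hx
    have h2 := h1.comp (hmapR' hf) hmem
    refine h2.comp (isMapOn_fn hS₁ hα) (fun y hy => ?_)
    obtain ⟨φ, hφ, hv⟩ := hf
    rw [← hv ⟨_, hmem y hy⟩]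
    exact val_mem hφ _

end Main

end Cfsg.Agent.Lib.Fusion
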