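/-
A saturated fusion system with trivial largest normal subgroup on a `p`-group, `p` odd, with an extraspecial subgroup of
index `p`: the centre of the `p`-group is the centre of the extraspecial subgroup.
-/
import Cfsg.Agent.Lib.Fusion2.CenterIdx
import Cfsg.Agent.Lib.Fusion2.StrongRes
import Cfsg.Agent.Lib.Fusion2.Theta

set_option autoImplicit false
set_option linter.unusedSectionVars false
set_option linter.unusedVariables false
set_option linter.unusedSimpArgs false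

namespace Cfsg.Agent.Lib.Fusion.ExtraIdx

open Cfsg Cfsg.FusionSystem Cfsg.Agent.Lib.Fusion Cfsg.Agent.Lib.Fusion2 Cfsg.Agent.Lib.Fusion2.AbelIdx

section Abs

variable {U : Type*} [Group U] {p : ℕ} [hp : Fact p.Prime]

theorem pow_pow_eq_of_ne {a : U} (ha : a ^ p = 1) {k : ℕ} (hk : a ^ k ≠ 1) : ∃ m : ℕ, (a ^ k) ^ m = a := by
  have hpp := hp.out
  have hnd : ¬ p ∣ k := by
    rintro ⟨q, rfl⟩
    apply hk
    rw [pow_mul, ha, one_pow]
  have hc : Nat.Coprime k p := ((Nat.Prime.coprime_iff_not_dvd hpp).2 hnd).symm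
  obtain ⟨m, -, hm⟩ := Nat.exists_mul_mod_eq_one_of_coprime hc hpp.one_lt
  refine ⟨m, ?_⟩
  rw [← pow_mul, pow_eq_pow_mod (k * m) ha, hm, pow_one]

/-- Transvections with centre `a`. -/
def TvSub (a : U) (ha : a ^ p = 1) : Subgroup (MulAut U) where
  carrier := {β | β a = a ∧ ∀ u, ∃ k : ℕ, β u = u * a ^ k}
  one_mem' := ⟨rfl, fun u => ⟨0, by simp⟩⟩
  mul_mem' := by
    rintro α β ⟨h1, h2⟩ ⟨h3, h4⟩
    refine ⟨by rw [MulAut.mul_apply, h3, h1], fun u => ?_⟩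
    obtain ⟨k, hk⟩ := h4 u
    obtain ⟨l, hl⟩ := h2 u
    refine ⟨l + k, ?_⟩
    rw [MulAut.mul_apply, hk, map_mul, map_pow, h1, hl, pow_add, mul_assoc]
  inv_mem' := by
    rintro β ⟨h1, h2⟩
    have h3 : β⁻¹ a = a := by
      conv_lhs => rw [← h1]
      exact MulAut.inv_apply_self _ _ _
    refine ⟨h3, fun u => ?_⟩
    obtain ⟨k, hk⟩ := h2 (β⁻¹ u)
    rw [MulAut.apply_inv_self] at hk
    refine ⟨(p - 1) * k, ?_⟩
    have hp1 : a ^ k * a ^ ((p - 1) * k) = 1 := by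
      rw [← pow_add]
      have : k + (p - 1) * k = p * k := by
        have := hp.out.one_lt
        obtain ⟨q, rfl⟩ : ∃ q, p = q + 1 := ⟨p - 1, by omega⟩
        simp only [Nat.add_sub_cancel]
        ring
      rw [this, pow_mul, ha, one_pow]
    calc β⁻¹ u = β⁻¹ u * (a ^ k * a ^ ((p - 1) * k)) := by rw [hp1, mul_one]
      _ = _ := by rw [← mul_assoc, ← hk]

theorem mem_TvSub {a : U} {ha : a ^ p = 1} {β : MulAut U} : β ∈ TvSub a ha ↔ β a = a ∧ ∀ u, ∃ k : ℕ, β u = u * a ^ k := Iff.rfl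

theorem TvSub_isP (a : U) (ha : a ^ p = 1) : IsPGroup p (TvSub a ha) := by
  rintro ⟨β, h1, h2⟩
  refine ⟨1, Subtype.ext ?_⟩
  ext u
  obtain ⟨k, hk⟩ := h2 u
  have hpw : ∀ n : ℕ, (β ^ n) u = u * a ^ (k * n) := by
    intro n
    induction n with
    | zero => simp
    | succ n ih =>
      have hf : ∀ m : ℕ, β (a ^ m) = a ^ m := fun m => by rw [map_pow, h1]
      rw [pow_succ', MulAut.mul_apply, ih, map_mul, hf, hk, mul_add, pow_add, mul_one, mul_assoc]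
      rw [← pow_add, ← pow_add, add_comm]
  have : ((⟨β, h1, h2⟩ : TvSub a ha) ^ p ^ 1 : TvSub a ha).1 = β ^ p := by
    simp
  rw [this, hpw, mul_comm k, pow_mul, ha, one_pow, mul_one]
  rfl

theorem conj_TvSub (x : MulAut U) {a : U} {ha : a ^ p = 1} (ha' : (x a) ^ p = 1) {β : MulAut U} (hβ : β ∈ TvSub a ha) :
    x * β * x⁻¹ ∈ TvSub (x a) ha' := by
  obtain ⟨h1, h2⟩ := hβ
  refine ⟨?_, fun u => ?_⟩
  · simp only [MulAut.mul_apply, MulAut.inv_apply_self, h1]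
  · obtain ⟨k, hk⟩ := h2 (x⁻¹ u)
    refine ⟨k, ?_⟩
    simp only [MulAut.mul_apply, hk, map_mul, map_pow, MulAut.apply_inv_self]

/-- Trivial intersection. -/
theorem TvSub_inter {a a' : U} {ha : a ^ p = 1} {ha' : a' ^ p = 1} (hne : ∀ k : ℕ, a' ≠ a ^ k) {β : MulAut U}
    (h1 : β ∈ TvSub a ha) (h2 : β ∈ TvSub a' ha') : β = 1 := by
  ext u
  obtain ⟨k, hk⟩ := h1.2 u
  obtain ⟨l, hl⟩ := h2.2 u
  have e : a ^ k = a' ^ l := by
    have := hk.symm.trans hl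
    exact mul_left_cancel this
  by_cases hl1 : a' ^ l = 1
  · rw [hl, hl1, mul_one]
    rfl
  · exfalso
    obtain ⟨m, hm⟩ := pow_pow_eq_of_ne ha' hl1
    apply hne (k * m)
    rw [← hm, ← e, pow_mul]

/-- A common power. -/
theorem mem_pow_symm {a b : U} (ha : a ^ p = 1) (hb : b ^ p = 1) (hb1 : b ≠ 1) {k : ℕ} (h : b = a ^ k) : ∃ m : ℕ, a = b ^ m := by
  have h1 : a ^ k ≠ 1 := by
    rw [← h]
    exact hb1
  obtain ⟨m, hm⟩ := pow_pow_eq_of_ne ha h1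
  exact ⟨m, by rw [h, hm]⟩

end Abs

section Main

variable {Ω : Type*} [Group Ω] {S : Subgroup Ω} {F : FusionSystem S} {p : ℕ} [hp : Fact p.Prime] [Finite S]

/-- The group data. -/
structure Data (S : Subgroup Ω) (p : ℕ) (v z₀ : Ω) : Prop where
  hvS : v ∈ S
  hvc : ∀ s ∈ S, s * v = v * s
  hv1 : v ≠ 1
  hvp : v ^ p = 1
  hcomm : ∀ a ∈ S, ∀ b ∈ S, ∃ k : ℕ, a * b * a⁻¹ * b⁻¹ = v ^ k
  hpow : ∀ a ∈ S, ∃ k : ℕ, a ^ p = v ^ k
  hzS : z₀ ∈ S
  hzc : ∀ s ∈ S, s * z₀ = z₀ * s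
  hzv : ∀ k : ℕ, z₀ ≠ v ^ k
  hZ : ∀ z ∈ S, (∀ s ∈ S, s * z = z * s) → ∃ i j : ℕ, z = z₀ ^ i * v ^ j
  hnc : ∃ a ∈ S, ∃ b ∈ S, a * b * a⁻¹ * b⁻¹ ≠ 1

variable {v z₀ : Ω}

theorem Data.vpow_comm (D : Data S p v z₀) (k : ℕ) {s : Ω} (hs : s ∈ S) : s * v ^ k = v ^ k * s :=
  ((Commute.pow_right (show Commute s v from D.hvc s hs) k))

theorem Data.conj_eq (D : Data S p v z₀) {s u : Ω} (hs : s ∈ S) (hu : u ∈ S) : ∃ k : ℕ, s * u * s⁻¹ = u * v ^ k := by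
  obtain ⟨k, hk⟩ := D.hcomm s hs u hu
  refine ⟨k, ?_⟩
  rw [D.vpow_comm k hu, ← hk]
  group

theorem Data.central_mem (D : Data S p v z₀) {E : Subgroup Ω} (hES : E ≤ S) (hc : centralizerIn S E ≤ E) {z : Ω} (hz : z ∈ S)
    (hzc : ∀ s ∈ S, s * z = z * s) : z ∈ E := by
  apply hc
  refine ⟨hz, ?_⟩
  show z ∈ Subgroup.centralizer (E : Set Ω)
  rw [Subgroup.mem_centralizer_iff]
  intro u hu
  exact hzc u (hES hu)

/-- Basic facts on an essential subgroup. -/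
theorem ess_facts (hS : IsPGroup p S) (hF : F.IsSaturated p) (D : Data S p v z₀) {E : Subgroup Ω} (hE : F.IsEssential p E) :
    E ≤ S ∧ centralizerIn S E ≤ E ∧ v ∈ E ∧ z₀ ∈ E ∧ (∀ s ∈ S, s ∈ normalizerIn S E) ∧ ∃ y ∈ S, y ∉ E := by
  have hES := hE.1.1
  have hc := hE.1.2 E (isConj_refl hES)
  have hvE := D.central_mem hES hc D.hvS D.hvc
  refine ⟨hES, hc, hvE, D.central_mem hES hc D.hzS D.hzc, fun s hs => ⟨hs, ?_⟩, ?_⟩
  · refine mem_normalizer_of_conj_mem hES (fun u hu => ?_)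
    obtain ⟨k, hk⟩ := D.conj_eq hs (hES hu)
    rw [hk]
    exact E.mul_mem hu (E.pow_mem hvE k)
  · have hlt : E < S := lt_of_le_of_ne hES (essential_ne hS hF hE)
    exact SetLike.exists_of_lt hlt

theorem not_frattini (hS : IsPGroup p S) (hF : F.IsSaturated p) (D : Data S p v z₀) {E : Subgroup Ω} (hE : F.IsEssential p E) (hv : v ∈ E) :
    (⟨v, hv⟩ : E) ∉ frattini E := by
  intro hmem
  obtain ⟨hES, hc, hvE, -, hN, y, hy, hyE⟩ := ess_facts hS hF D hE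
  haveI : Finite E := finite_of_le hES
  have hEp : IsPGroup p E := hS.to_le hES
  have hpp := hp.out
  have hchar : ∀ (α : MulAut E) {x : E}, x ∈ frattini E → α x ∈ frattini E := by
    intro α x hx
    have := (inferInstance : (frattini E).Characteristic)
    rw [Subgroup.characteristic_iff_map_eq] at this
    rw [← this α]
    exact ⟨x, hx, rfl⟩
  have hnf : (frattini E).Normal := inferInstance
  have hKp : IsPGroup p (stabComm (frattini E)) := by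
    rintro ⟨β, hβ⟩
    obtain ⟨e, n', hn', hn⟩ := Nat.exists_eq_pow_mul_and_not_dvd (orderOf_pos β).ne' p hpp.one_lt.ne'
    have hγ : (β ^ p ^ e) ^ n' = 1 := by
      rw [← pow_mul, ← hn, pow_orderOf_eq_one]
    have hγK : β ^ p ^ e ∈ stabComm (frattini E) := Subgroup.pow_mem _ hβ _
    have hco : (orderOf (β ^ p ^ e)).Coprime p := by
      have h1 : orderOf (β ^ p ^ e) ∣ n' := orderOf_dvd_of_pow_eq_one hγ
      exact Nat.Coprime.coprime_dvd_left h1 ((Nat.Prime.coprime_iff_not_dvd hpp).2 hn').symm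
    have h1 := aut_eq_one_of_frattini hEp hco (fun x => by
      have h2 := hγK x
      have h3 := hnf.conj_mem _ h2 x
      have e1 : x * (x⁻¹ * (β ^ p ^ e) x) * x⁻¹ = (β ^ p ^ e) x * x⁻¹ := by group
      rwa [e1] at h3)
    exact ⟨e, Subtype.ext h1⟩
  have hnK : ((stabComm (frattini E)).subgroupOf (F.autGroup E)).Normal := by
    constructor
    rintro ⟨b, hb⟩ hb' ⟨g, hg⟩
    show g * b * g⁻¹ ∈ stabComm (frattini E)
    intro u
    have h1 := hchar g (hb' (g⁻¹ u))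
    simp only [map_mul, map_inv, MulAut.apply_inv_self] at h1
    simpa [MulAut.mul_apply] using h1
  have hτΓ : autOfNormalizer (hN y hy).2 ∈ F.autGroup E := autOfNormalizer_mem_autGroup hES (hN y hy)
  have hτK : autOfNormalizer (hN y hy).2 ∈ stabComm (frattini E) := by
    intro u
    obtain ⟨k, hk⟩ := D.conj_eq hy (hES u.2)
    have e : (u⁻¹ * autOfNormalizer (hN y hy).2 u : E) = (⟨v, hv⟩ : E) ^ k := by
      apply Subtype.ext
      show (u : Ω)⁻¹ * (y * u * y⁻¹) = v ^ k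
      rw [hk]
      group
    rw [e]
    exact Subgroup.pow_mem _ hmem k
  have hpc : autOfNormalizer (hN y hy).2 ∈ (pCore p (F.autGroup E)).map (F.autGroup E).subtype :=
    ⟨⟨_, hτΓ⟩, Cfsg.Agent.Lib.Basic.le_pCore hnK hKp.comap_subtype hτK, rfl⟩
  rw [(isRadical_of_essential hS hE).2] at hpc
  exact hyE (mem_of_autOfNormalizer_mem_inn hES hc (hN y hy) hpc)

/-- An essential subgroup is elementary abelian. -/
theorem ess_ab (hS : IsPGroup p S) (hF : F.IsSaturated p) (D : Data S p v z₀) {E : Subgroup Ω} (hE : F.IsEssential p E) :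
    (∀ a : E, ∀ b : E, a * b = b * a) ∧ ∀ a : E, a ^ p = 1 := by
  obtain ⟨hES, hc, hvE, -, hN, y, hy, hyE⟩ := ess_facts hS hF D hE
  haveI : Finite E := finite_of_le hES
  have hEp : IsPGroup p E := hS.to_le hES
  have hnot := not_frattini hS hF D hE hvE
  have hvE' : (⟨v, hvE⟩ : E) ^ p = 1 := Subtype.ext D.hvp
  have key : ∀ (w : E) (k : ℕ), (w : Ω) = v ^ k → w ∈ frattini E → w = 1 := by
    intro w k hw hf
    by_contra hne
    have e : w = (⟨v, hvE⟩ : E) ^ k := Subtype.ext hw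
    have e1 : (⟨v, hvE⟩ : E) ^ k ≠ 1 := by rw [← e]; exact hne
    obtain ⟨m, hm⟩ := pow_pow_eq_of_ne hvE' e1
    apply hnot
    rw [← hm, ← e]
    exact Subgroup.pow_mem _ hf m
  constructor
  · intro a b
    obtain ⟨k, hk⟩ := D.hcomm a (hES a.2) b (hES b.2)
    have h1 := key (a * b * a⁻¹ * b⁻¹) k hk (by
      have := Cfsg.Agent.Lib.Transfer.commutator_mem_frattini hEp a b
      simpa [commutatorElement_def] using this)
    have e : a * b * a⁻¹ * b⁻¹ * (b * a) = a * b := by group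
    rw [← e, h1, one_mul]
  · intro a
    obtain ⟨k, hk⟩ := D.hpow a (hES a.2)
    exact key (a ^ p) k hk (Cfsg.Agent.Lib.Transfer.pow_mem_frattini hEp a)

theorem a0_pow (D : Data S p v z₀) {E : Subgroup Ω} (hv : v ∈ E) : (⟨v, hv⟩ : E) ^ p = 1 := Subtype.ext D.hvp

theorem autS_le_Tv (D : Data S p v z₀) {E : Subgroup Ω} (hES : E ≤ S) (hv : v ∈ E) {w : MulAut E} (hw : w ∈ autInducedBy S E) :
    w ∈ TvSub (⟨v, hv⟩ : E) (a0_pow D hv) := by
  obtain ⟨s, hs, hsv⟩ := mem_autInducedBy_iff.1 hw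
  refine ⟨Subtype.ext ?_, fun u => ?_⟩
  · show ((w ⟨v, hv⟩ : E) : Ω) = v
    rw [hsv]
    show s * v * s⁻¹ = v
    rw [D.hvc s hs]
    group
  · obtain ⟨k, hk⟩ := D.conj_eq hs (hES u.2)
    refine ⟨k, Subtype.ext ?_⟩
    rw [hsv, hk]
    rfl

theorem Tv_le_autS (hS : IsPGroup p S) (hF : F.IsSaturated p) (D : Data S p v z₀) {E : Subgroup Ω} (hE : F.IsEssential p E) (hv : v ∈ E) {β : MulAut E}
    (hβΓ : β ∈ F.autGroup E) (hβ : β ∈ TvSub (⟨v, hv⟩ : E) (a0_pow D hv)) : β ∈ autInducedBy S E := by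
  have hES := hE.1.1
  haveI : Finite E := finite_of_le hES
  obtain ⟨R, hR⟩ := (fullyNormalized_spec hS hF hE.2.1).2.2
  have hle : (R : Subgroup (F.autGroup E)) ≤ (TvSub (⟨v, hv⟩ : E) (a0_pow D hv)).subgroupOf (F.autGroup E) := by
    rw [hR]
    intro x hx
    exact autS_le_Tv D hES hv hx
  have hQ : IsPGroup p ((TvSub (⟨v, hv⟩ : E) (a0_pow D hv)).subgroupOf (F.autGroup E)) := (TvSub_isP _ _).comap_subtype
  have heq := R.is_maximal' hQ hle
  have h1 : (⟨β, hβΓ⟩ : F.autGroup E) ∈ (R : Subgroup (F.autGroup E)) := by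
    rw [← heq]
    exact hβ
  rw [hR] at h1
  exact h1

/-- Two transvections with different centres are in no common `p`-subgroup. -/
theorem no_common (hS : IsPGroup p S) (hF : F.IsSaturated p) (D : Data S p v z₀) {E : Subgroup Ω} (hE : F.IsEssential p E) (hv : v ∈ E)
    {x : MulAut E} (hxv : ∀ k : ℕ, x ⟨v, hv⟩ ≠ (⟨v, hv⟩ : E) ^ k) (hex : ∀ a : E, a ^ p = 1) {β₁ β₂ : MulAut E}
    (hβ₁ : β₁ ∈ TvSub (⟨v, hv⟩ : E) (a0_pow D hv)) (h1 : β₁ ≠ 1) (hβ₂ : β₂ ∈ TvSub (x ⟨v, hv⟩) (hex _)) (h2 : β₂ ≠ 1) {W : Subgroup (MulAut E)}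
    (hWΓ : W ≤ F.autGroup E) (hWp : IsPGroup p W) (hm1 : β₁ ∈ W) (hm2 : β₂ ∈ W) : False := by
  have hES := hE.1.1
  haveI : Finite E := finite_of_le hES
  obtain ⟨R, hR⟩ := (fullyNormalized_spec hS hF hE.2.1).2.2
  have hW' : IsPGroup p (W.subgroupOf (F.autGroup E)) := hWp.comap_subtype
  obtain ⟨Q, hQ⟩ := hW'.exists_le_sylow
  obtain ⟨c, hc⟩ := MulAction.exists_smul_eq (F.autGroup E) Q R
  set a₀ : E := ⟨v, hv⟩ with ha₀
  have ha₀1 : a₀ ≠ 1 := fun h => D.hv1 (congrArg Subtype.val h)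
  have hconj : ∀ b ∈ W, b ∈ TvSub ((c⁻¹ : MulAut E) a₀) (hex _) := by
    intro b hb
    have hbΓ := hWΓ hb
    have h3 : (⟨b, hbΓ⟩ : F.autGroup E) ∈ (Q : Subgroup (F.autGroup E)) := hQ hb
    have h4 : c * ⟨b, hbΓ⟩ * c⁻¹ ∈ (R : Subgroup (F.autGroup E)) := by
      rw [← hc, Sylow.coe_subgroup_smul]
      exact ⟨_, h3, rfl⟩
    rw [hR] at h4
    have h5 : (c : MulAut E) * b * (c : MulAut E)⁻¹ ∈ TvSub a₀ (a0_pow D hv) := autS_le_Tv D hES hv h4
    have h6 := conj_TvSub (c⁻¹ : MulAut E) (hex _) h5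
    have e : (c⁻¹ : MulAut E) * ((c : MulAut E) * b * (c : MulAut E)⁻¹) * (c⁻¹ : MulAut E)⁻¹ = b := by group
    rwa [e] at h6
  obtain ⟨a'', ha''⟩ : ∃ a'', a'' = (c⁻¹ : MulAut E) a₀ := ⟨_, rfl⟩
  have hm1' := hconj _ hm1
  have hm2' := hconj _ hm2
  rw [← ha''] at hm1' hm2'
  have ha''1 : a'' ≠ 1 := by
    rw [ha'']
    intro h
    apply ha₀1
    have := congrArg (c : MulAut E) h
    simpa using this
  have hk1 : ∃ k : ℕ, a'' = a₀ ^ k := by
    by_contra hcon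
    push Not at hcon
    exact h1 (TvSub_inter hcon hβ₁ hm1')
  have hk2 : ∃ k : ℕ, a'' = (x a₀) ^ k := by
    by_contra hcon
    push Not at hcon
    exact h2 (TvSub_inter hcon hβ₂ hm2')
  obtain ⟨k₁, hk₁⟩ := hk1
  obtain ⟨k₂, hk₂⟩ := hk2
  obtain ⟨m, hm⟩ := mem_pow_symm (hex a₀) (hex a'') ha''1 hk₁
  have e : a₀ = (x a₀) ^ (k₂ * m) := by
    rw [pow_mul, ← hk₂, ← hm]
  obtain ⟨m', hm'⟩ := mem_pow_symm (hex (x a₀)) (hex a₀) ha₀1 e
  exact hxv m' hm'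

/-- A chain of length three has a `p`-group stabilizer. -/
theorem chain3 {U : Type*} [Group U] [Finite U] (hU : IsPGroup p U) (U₁ U₂ : Subgroup U) (hU12 : U₁ ≤ U₂) :
    ∃ W : Subgroup (MulAut U), IsPGroup p W ∧ ∀ τ : MulAut U, (∀ u ∈ U₁, τ u = u) → (∀ u ∈ U₂, u⁻¹ * τ u ∈ U₁) → (∀ u, u⁻¹ * τ u ∈ U₂) → τ ∈ W := by
  obtain ⟨W, hW⟩ : ∃ W : ℕ → Subgroup U, W = fun i => match i with
    | 0 => ⊥
    | 1 => U₁
    | 2 => U₂
    | _ => ⊤ := ⟨_, rfl⟩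
  have hW0 : W 0 = ⊥ := by rw [hW]; rfl
  have hW1 : W 1 = U₁ := by rw [hW]; rfl
  have hW2 : W 2 = U₂ := by rw [hW]; rfl
  have hW3 : W 3 = ⊤ := by rw [hW]; rfl
  have hmono : ∀ i < 3, W i ≤ W (i + 1) := by
    intro i hi
    interval_cases i
    · rw [hW0]
      exact bot_le
    · rw [hW1, hW2]
      exact hU12
    · rw [hW2, hW3]
      exact le_top
  refine ⟨stabChain W 3 hmono, stabChain_isPGroup hU W 3 hW0 hmono hW3, ?_⟩
  intro τ h1 h2 h3 i hi x hx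
  interval_cases i
  · rw [hW0, Subgroup.mem_bot]
    have : x ∈ U₁ := by
      have e := hx
      rw [show (0 + 1 : ℕ) = 1 from rfl, hW1] at e
      exact e
    rw [h1 x this, inv_mul_cancel]
  · rw [hW1]
    have : x ∈ U₂ := by
      have e := hx
      rw [show (1 + 1 : ℕ) = 2 from rfl, hW2] at e
      exact e
    exact h2 x this
  · rw [hW2]
    exact h3 x

/-- Two transvections, the first fixing the centre of the second, are in a common `p`-subgroup. -/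
theorem common_of_fix {U : Type*} [Group U] [Finite U] (hU : IsPGroup p U) {a a' : U} {ha : a ^ p = 1} {ha' : a' ^ p = 1} {t t' : MulAut U}
    (ht : t ∈ TvSub a ha) (ht' : t' ∈ TvSub a' ha') (h : t a' = a') : ∃ W : Subgroup (MulAut U), IsPGroup p W ∧ t ∈ W ∧ t' ∈ W := by
  obtain ⟨W, hW, hmem⟩ := chain3 hU (Subgroup.zpowers a') (Subgroup.zpowers a ⊔ Subgroup.zpowers a') le_sup_right
  have hfix : ∀ u ∈ Subgroup.zpowers a ⊔ Subgroup.zpowers a', t u = u := by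
    have hle : Subgroup.zpowers a ⊔ Subgroup.zpowers a' ≤ MonoidHom.eqLocus t.toMonoidHom (MonoidHom.id U) :=
      sup_le ((Subgroup.zpowers_le).2 ht.1) ((Subgroup.zpowers_le).2 h)
    intro u hu
    exact hle hu
  refine ⟨W, hW, hmem t ?_ ?_ ?_, hmem t' ?_ ?_ ?_⟩
  · intro u hu
    exact hfix u (Subgroup.mem_sup_right hu)
  · intro u hu
    rw [hfix u hu, inv_mul_cancel]
    exact Subgroup.one_mem _
  · intro u
    obtain ⟨k, hk⟩ := ht.2 u
    rw [hk, inv_mul_cancel_left]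
    exact Subgroup.mem_sup_left (Subgroup.pow_mem _ (Subgroup.mem_zpowers a) k)
  · intro u hu
    obtain ⟨k, rfl⟩ := hu
    show t' (a' ^ k) = a' ^ k
    rw [map_zpow, ht'.1]
  · intro u _
    obtain ⟨k, hk⟩ := ht'.2 u
    rw [hk, inv_mul_cancel_left]
    exact Subgroup.pow_mem _ (Subgroup.mem_zpowers a') k
  · intro u
    obtain ⟨k, hk⟩ := ht'.2 u
    rw [hk, inv_mul_cancel_left]
    exact Subgroup.mem_sup_right (Subgroup.pow_mem _ (Subgroup.mem_zpowers a') k)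

/-- Extension to `S` of an automorphism normalizing `Aut_S(E)`. -/
theorem ext_aut_of_all (hS : IsPGroup p S) (hF : F.IsSaturated p) {E : Subgroup Ω} (hfn : F.IsFullyNormalized E) {n : MulAut E} (hn : n ∈ F.autGroup E)
    (hN : ∀ s ∈ S, s ∈ normalizerIn S E) (hconj : ∀ s (hs : s ∈ S), n * autOfNormalizer (hN s hs).2 * n⁻¹ ∈ autInducedBy S E) :
    ∃ h ∈ F.autGroup S, ∀ u : E, fn h u = (n u : Ω) := by
  have h1S : (1 : Ω) ∈ S := S.one_mem
  obtain ⟨ψ, hψ, hψv, -⟩ := exists_ext_over hS hF hfn hn h1S (hN 1 h1S).2 (hconj 1 h1S)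
  have hle := le_extender (F := F) (autGroup_hom hfn.1 hn)
  have hext : extender S E (E.subtype.comp n.toMonoidHom) = S := by
    apply le_antisymm ((extender_le_normalizerIn E _).trans inf_le_left)
    intro s hs
    obtain ⟨-, -, -, hs'⟩ := exists_ext_over hS hF hfn hn hs (hN s hs).2 (hconj s hs)
    exact hs'
  have key : ∀ (R : Subgroup Ω) (_ : R = S) (ψ' : R →* Ω) (_ : ψ' ∈ F.Hom R) (hle' : E ≤ R) (_ : ∀ x : E, ψ' ⟨x, hle' x.2⟩ = n x),
      ∃ h ∈ F.autGroup S, ∀ u : E, fn h u = (n u : Ω) := by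
    rintro R rfl ψ' hψ' hle' hv
    refine ⟨isoOfHom hψ' (range_eq_of_top hψ'), mem_autGroup_of_isIso (isoOfHom_isIso _ _), fun u => ?_⟩
    exact (fn_of_mem (isoOfHom hψ' (range_eq_of_top hψ')) (hle' u.2)).trans (hv u)
  exact key _ hext ψ hψ hle hψv

theorem tv_inv {U : Type*} [Group U] {a : U} {ha : a ^ p = 1} (hb : a⁻¹ ^ p = 1) {β : MulAut U} (h : β ∈ TvSub a⁻¹ hb) : β ∈ TvSub a ha := by
  refine ⟨?_, fun u => ?_⟩
  · have := h.1
    rw [map_inv] at this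
    exact inv_injective this
  · obtain ⟨k, hk⟩ := h.2 u
    refine ⟨(p - 1) * k, ?_⟩
    rw [hk]
    congr 1
    have hp1 : a ^ k * a ^ ((p - 1) * k) = 1 := by
      rw [← pow_add]
      have : k + (p - 1) * k = p * k := by
        have := hp.out.one_lt
        obtain ⟨q, rfl⟩ : ∃ q, p = q + 1 := ⟨p - 1, by omega⟩
        simp only [Nat.add_sub_cancel]
        ring
      rw [this, pow_mul, ha, one_pow]
    rw [inv_pow]
    exact inv_eq_of_mul_eq_one_right hp1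

/-- The element moved. -/
theorem t_moves (hS : IsPGroup p S) (hF : F.IsSaturated p) (D : Data S p v z₀) {E : Subgroup Ω} (hE : F.IsEssential p E) (hv : v ∈ E)
    {x : MulAut E} (hx : x ∈ F.autGroup E) (hxv : ∀ k : ℕ, x ⟨v, hv⟩ ≠ (⟨v, hv⟩ : E) ^ k) {y : Ω} (hy : y ∈ S) (hyE : y ∉ E) (hyN : y ∈ normalizerIn S E) :
    autOfNormalizer hyN.2 (x ⟨v, hv⟩) ≠ x ⟨v, hv⟩ ∧ (x * autOfNormalizer hyN.2 * x⁻¹) ⟨v, hv⟩ ≠ ⟨v, hv⟩ := by
  obtain ⟨hcm, hex⟩ := ess_ab hS hF D hE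
  have hES := hE.1.1
  have hc := hE.1.2 E (isConj_refl hES)
  haveI : Finite E := finite_of_le hES
  have hEp : IsPGroup p E := hS.to_le hES
  have hτT := autS_le_Tv D hES hv (autOfNormalizer_mem_autInducedBy hyN.2 hyN.1)
  have hτ1 : autOfNormalizer hyN.2 ≠ 1 := by
    intro h
    apply hyE
    refine mem_of_autOfNormalizer_mem_inn hES hc hyN ?_
    rw [h]
    exact Subgroup.one_mem _
  have ht'T := conj_TvSub x (hex _) hτT
  have ht'1 : x * autOfNormalizer hyN.2 * x⁻¹ ≠ 1 := by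
    intro h
    apply hτ1
    have : autOfNormalizer hyN.2 = x⁻¹ * (x * autOfNormalizer hyN.2 * x⁻¹) * x := by group
    rw [this, h]
    group
  have hτΓ : autOfNormalizer hyN.2 ∈ F.autGroup E := autOfNormalizer_mem_autGroup hES hyN
  have ht'Γ : x * autOfNormalizer hyN.2 * x⁻¹ ∈ F.autGroup E :=
    Subgroup.mul_mem _ (Subgroup.mul_mem _ hx hτΓ) (Subgroup.inv_mem _ hx)
  constructor
  · intro h
    obtain ⟨W, hW, h1, h2⟩ := common_of_fix hEp hτT ht'T h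
    exact no_common hS hF D hE hv hxv hex hτT hτ1 ht'T ht'1 (W := W ⊓ F.autGroup E) inf_le_right (hW.to_le inf_le_left) ⟨h1, hτΓ⟩ ⟨h2, ht'Γ⟩
  · intro h
    obtain ⟨W, hW, h1, h2⟩ := common_of_fix hEp ht'T hτT h
    exact no_common hS hF D hE hv hxv hex hτT hτ1 ht'T ht'1 (W := W ⊓ F.autGroup E) inf_le_right (hW.to_le inf_le_left) ⟨h2, hτΓ⟩ ⟨h1, ht'Γ⟩

/-- **The reflection.** -/
theorem exists_reflection (hS : IsPGroup p S) (hF : F.IsSaturated p) (D : Data S p v z₀) {E : Subgroup Ω} (hE : F.IsEssential p E) (hv : v ∈ E)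
    {x : MulAut E} (hx : x ∈ F.autGroup E) (hxv : ∀ k : ℕ, x ⟨v, hv⟩ ≠ (⟨v, hv⟩ : E) ^ k) {y : Ω} (hy : y ∈ S) (hyE : y ∉ E) (hyN : y ∈ normalizerIn S E) :
    ∃ (c : Ω) (h : MulAut S), c ∈ Zc S ∧ (∀ k : ℕ, c ≠ v ^ k) ∧ h ∈ F.autGroup S ∧ fn h v = v⁻¹ ∧ fn h c = c ∧
      fn (x * autOfNormalizer hyN.2 * x⁻¹) c = c := by
  obtain ⟨hcm, hex⟩ := ess_ab hS hF D hE
  obtain ⟨hES, hc, hvE, hzE, hN, -⟩ := ess_facts hS hF D hE
  haveI : Finite E := finite_of_le hES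
  have hpp := hp.out
  obtain ⟨h3, h4⟩ := t_moves hS hF D hE hv hx hxv hy hyE hyN
  have hτT := autS_le_Tv D hES hv (autOfNormalizer_mem_autInducedBy hyN.2 hyN.1)
  have ht'T := conj_TvSub x (hex _) hτT
  obtain ⟨a₀, ha₀⟩ : ∃ a₀ : E, a₀ = ⟨v, hv⟩ := ⟨_, rfl⟩
  obtain ⟨τ, hτ⟩ : ∃ τ, τ = autOfNormalizer hyN.2 := ⟨_, rfl⟩
  obtain ⟨t', ht'⟩ : ∃ t', t' = x * τ * x⁻¹ := ⟨_, rfl⟩
  rw [← ha₀, ← hτ] at h3
  rw [← ha₀, ← hτ, ← ht'] at h4
  have hτT' : τ ∈ TvSub a₀ (hex a₀) := by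
    subst ha₀ hτ
    exact hτT
  have ht'T' : t' ∈ TvSub (x a₀) (hex (x a₀)) := by
    subst ha₀ hτ ht'
    exact ht'T
  have ha₀1 : a₀ ≠ 1 := by
    rw [ha₀]
    exact fun h => D.hv1 (congrArg Subtype.val h)
  have hcomm : ∀ u w : E, u * w = w * u := hcm
  obtain ⟨b, j, ⟨k₁, hk₁⟩, ⟨k₂, hk₂⟩, hta, hd, hsb, hsa⟩ := transvection_pair' hcomm (hex a₀) (hex (x a₀)) hτT'.2 hτT'.1 ht'T'.2 ht'T'.1 h3 h4
  obtain ⟨s, hs⟩ : ∃ s, s = τ * t' ^ j * τ := ⟨_, rfl⟩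
  rw [← hs] at hsb hsa
  have hτb : τ b = b := by
    rw [hk₁, map_pow, hτT'.1]
  have hb1 : b ≠ 1 := by
    rintro rfl
    apply ha₀1
    rw [hk₂, one_pow]
  have hbord : orderOf b = p := orderOf_eq_prime (hex b) hb1
  have hτ'pow : ∀ (n : ℕ) (c : E), t' c = c → (t' ^ n) c = c := by
    intro n c hc
    induction n with
    | zero => rfl
    | succ n ih => rw [pow_succ', MulAut.mul_apply, ih, hc]
  have hsc : ∀ c : E, τ c = c → t' c = c → s c = c := by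
    intro c h5 h6
    rw [hs, MulAut.mul_apply, MulAut.mul_apply, h5, hτ'pow j c h6, h5]
  obtain ⟨ν, hν⟩ : ∃ ν, ν = s * s := ⟨_, rfl⟩
  have hνv : ∀ y, ν y = s (s y) := fun y => by rw [hν]; rfl
  have hνc : ∀ c : E, τ c = c → t' c = c → ν c = c := fun c h5 h6 => by rw [hνv, hsc c h5 h6, hsc c h5 h6]
  have hνb : ν b = b⁻¹ := by rw [hνv, hsb, map_inv, hsa]
  have hνa₀ : ν a₀ = a₀⁻¹ := by
    rw [hk₂, map_pow, hνb, inv_pow]
  have hτΓ : τ ∈ F.autGroup E := by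
    rw [hτ]
    exact autOfNormalizer_mem_autGroup hES hyN
  have ht'Γ : t' ∈ F.autGroup E := by
    rw [ht']
    exact Subgroup.mul_mem _ (Subgroup.mul_mem _ hx hτΓ) (Subgroup.inv_mem _ hx)
  have hsΓ : s ∈ F.autGroup E := by
    rw [hs]
    exact Subgroup.mul_mem _ (Subgroup.mul_mem _ hτΓ (Subgroup.pow_mem _ ht'Γ j)) hτΓ
  have hνΓ : ν ∈ F.autGroup E := by
    rw [hν]
    exact Subgroup.mul_mem _ hsΓ hsΓ
  have hconj : ∀ s' (hs' : s' ∈ S), ν * autOfNormalizer (hN s' hs').2 * ν⁻¹ ∈ autInducedBy S E := by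
    intro s' hs'
    have h1 := autS_le_Tv D hES hv (autOfNormalizer_mem_autInducedBy (hN s' hs').2 hs')
    have h2 : (a₀⁻¹) ^ p = 1 := hex _
    have h3' : ν * autOfNormalizer (hN s' hs').2 * ν⁻¹ ∈ TvSub a₀⁻¹ h2 := by
      have h5 : autOfNormalizer (hN s' hs').2 ∈ TvSub a₀ (hex a₀) := by
        subst ha₀
        exact h1
      have h6 := conj_TvSub ν (hex _) h5
      obtain ⟨h7, h8⟩ := h6
      rw [hνa₀] at h7
      refine ⟨h7, fun u => ?_⟩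
      obtain ⟨k, hk⟩ := h8 u
      rw [hνa₀] at hk
      exact ⟨k, hk⟩
    have h4' : ν * autOfNormalizer (hN s' hs').2 * ν⁻¹ ∈ TvSub a₀ (hex a₀) := tv_inv h2 h3'
    have hΓ : ν * autOfNormalizer (hN s' hs').2 * ν⁻¹ ∈ F.autGroup E :=
      Subgroup.mul_mem _ (Subgroup.mul_mem _ hνΓ (autOfNormalizer_mem_autGroup hES (hN s' hs'))) (Subgroup.inv_mem _ hνΓ)
    refine Tv_le_autS hS hF D hE hv hΓ ?_
    subst ha₀
    exact h4'
  obtain ⟨h, hh, hhv⟩ := ext_aut_of_all hS hF hE.2.1 hνΓ hN hconj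
  -- the decomposition of `z₀`
  obtain ⟨c, u, w, h5, h6, he⟩ := hd ⟨z₀, hzE⟩
  have hτz : τ ⟨z₀, hzE⟩ = ⟨z₀, hzE⟩ := by
    apply Subtype.ext
    rw [hτ]
    show y * z₀ * y⁻¹ = z₀
    rw [D.hzc y hy]
    group
  have hbw : b ^ w = 1 := by
    have h7 := hτz
    rw [he] at h7
    simp only [map_mul, map_pow, h5, hτb, hta] at h7
    have hcab : Commute (x a₀) b := hcomm _ b
    rw [hcab.mul_pow, ← mul_assoc] at h7
    exact mul_eq_left.1 h7
  have hpw : p ∣ w := by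
    rw [← hbord]
    exact orderOf_dvd_of_pow_eq_one hbw
  obtain ⟨m, rfl⟩ := hpw
  have haw : (x a₀) ^ (p * m) = 1 := by
    rw [pow_mul, hex, one_pow]
  rw [haw, mul_one] at he
  have hbv : (b : Ω) = v ^ k₁ := by
    rw [hk₁, ha₀]
    rfl
  have hcv : (c : Ω) = z₀ * (v ^ (k₁ * u))⁻¹ := by
    have h7 := congrArg Subtype.val he
    have h8 : z₀ = (c : Ω) * (b : Ω) ^ u := h7
    rw [hbv, ← pow_mul] at h8
    rw [h8]
    group
  have hvinv : ∀ t ∈ S, t * (v ^ (k₁ * u))⁻¹ = (v ^ (k₁ * u))⁻¹ * t := by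
    intro t ht
    have := D.vpow_comm (k₁ * u) ht
    exact (Commute.inv_right this)
  refine ⟨c, h, ?_, ?_, hh, ?_, ?_, ?_⟩
  · rw [mem_Zc]
    refine ⟨hES c.2, fun t ht => ?_⟩
    rw [hcv, ← mul_assoc, D.hzc t ht, mul_assoc, hvinv t ht, mul_assoc]
  · intro k hk
    apply D.hzv (k + k₁ * u)
    rw [pow_add, ← hk, hcv]
    group
  · have h7 := hhv a₀
    rw [hνa₀] at h7
    have h8 : (a₀ : Ω) = v := by rw [ha₀]
    rw [h8] at h7
    rw [h7, Subgroup.coe_inv, h8]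
  · have h7 := hhv c
    rw [hνc c h5 h6] at h7
    exact h7
  · have e : x * autOfNormalizer hyN.2 * x⁻¹ = t' := by rw [ht', hτ]
    rw [e, fn_coe, h6]

end Main

end Cfsg.Agent.Lib.Fusion.ExtraIdx
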