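/-
A saturated fusion system with trivial largest normal subgroup on a `p`-group, `p` odd, with an extraspecial subgroup of
index `p`: the final arguments.
-/
import Cfsg.Agent.Lib.Fusion.ExtraIdx
import Cfsg.Agent.Lib.Fusion.DirectFactor
import Cfsg.Agent.Lib.Fusion.Generation

set_option autoImplicit false
set_option linter.unusedSectionVars false
set_option linter.unusedVariables false
set_option linter.unusedSimpArgs false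

namespace Cfsg.Agent.Lib.Fusion.ExtraIdx

open Cfsg Cfsg.FusionSystem Cfsg.Agent.Lib.Fusion Cfsg.Agent.Lib.Fusion2 Cfsg.Agent.Lib.Fusion2.AbelIdx

section Main

variable {Ω : Type*} [Group Ω] {S : Subgroup Ω} {F : FusionSystem S} {p : ℕ} [hp : Fact p.Prime] [Finite S]

variable {v z₀ : Ω}

theorem inv_vpow {U : Type*} [Group U] {a : U} (ha : a ^ p = 1) (k : ℕ) : (a ^ k)⁻¹ = a ^ ((p - 1) * k) := by
  apply inv_eq_of_mul_eq_one_right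
  rw [← pow_add]
  have : k + (p - 1) * k = p * k := by
    have := hp.out.one_lt
    obtain ⟨q, rfl⟩ : ∃ q, p = q + 1 := ⟨p - 1, by omega⟩
    simp only [Nat.add_sub_cancel]
    ring
  rw [this, pow_mul, ha, one_pow]

theorem decomp_of (D : Data S p v z₀) (hzp : z₀ ^ p = 1) {c : Ω} (hc : c ∈ Zc S) (hcv : ∀ k : ℕ, c ≠ v ^ k) {z : Ω} (hz : z ∈ Zc S) :
    ∃ i j : ℕ, z = c ^ i * v ^ j := by
  have hpp := hp.out
  obtain ⟨hcS, hcc⟩ := mem_Zc.1 hc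
  obtain ⟨a, b, hab⟩ := D.hZ c hcS hcc
  obtain ⟨i, j, hij⟩ := D.hZ z (mem_Zc.1 hz).1 (mem_Zc.1 hz).2
  have hzv : Commute z₀ v := D.hvc z₀ D.hzS
  have hcv' : Commute c v := D.hvc c hcS
  have hna : ¬ p ∣ a := by
    rintro ⟨t, rfl⟩
    apply hcv b
    rw [hab, pow_mul, hzp, one_pow, one_mul]
  have hco : Nat.Coprime a p := ((Nat.Prime.coprime_iff_not_dvd hpp).2 hna).symm
  obtain ⟨a', -, ha'⟩ := Nat.exists_mul_mod_eq_one_of_coprime hco hpp.one_lt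
  have h1 : c ^ a' = z₀ * v ^ (b * a') := by
    rw [hab, (hzv.pow_pow a b).mul_pow, ← pow_mul, ← pow_mul, pow_eq_pow_mod (a * a') hzp, ha', pow_one]
  have h2 : z₀ = c ^ a' * v ^ ((p - 1) * (b * a')) := by
    rw [h1, ← inv_vpow D.hvp]
    group
  refine ⟨a' * i, (p - 1) * (b * a') * i + j, ?_⟩
  rw [hij]
  conv_lhs => rw [h2]
  rw [((hcv'.pow_pow a' ((p - 1) * (b * a')))).mul_pow, ← pow_mul, ← pow_mul, pow_add, mul_assoc]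

/-- The form of a reflection on the centre. -/
theorem refl_form (D : Data S p v z₀) (hzp : z₀ ^ p = 1) {c : Ω} {h : MulAut S} (hc : c ∈ Zc S) (hcv : ∀ k : ℕ, c ≠ v ^ k) (e : fn h v = v⁻¹) (f : fn h c = c)
    {z : Ω} (hz : z ∈ Zc S) : ∃ l : ℕ, fn h z = z * v ^ l := by
  obtain ⟨i, j, rfl⟩ := decomp_of D hzp hc hcv hz
  have hcS := (mem_Zc.1 hc).1
  refine ⟨(p - 1) * (2 * j), ?_⟩
  rw [fn_map_mul h (S.pow_mem hcS i) (S.pow_mem D.hvS j), fn_map_pow' h hcS, fn_map_pow' h D.hvS, e, f, ← inv_vpow D.hvp, inv_pow, two_mul, pow_add]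
  group

theorem kappa_fix (hS : IsPGroup p S) (hF : F.IsSaturated p) (D : Data S p v z₀) {h₁ h₂ : MulAut S} (hh₁ : h₁ ∈ F.autGroup S) (hh₂ : h₂ ∈ F.autGroup S)
    (e₁ : fn h₁ v = v⁻¹) (e₂ : fn h₂ v = v⁻¹) (f₁ : ∀ z ∈ Zc S, ∃ l : ℕ, fn h₁ z = z * v ^ l) (f₂ : ∀ z ∈ Zc S, ∃ l : ℕ, fn h₂ z = z * v ^ l)
    {z : Ω} (hz : z ∈ Zc S) : fn h₁ (fn h₂ z) = z := by
  have hpp := hp.out
  have hzS := (mem_Zc.1 hz).1
  have hvS := D.hvS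
  obtain ⟨κ, hκ⟩ : ∃ κ, κ = h₁ * h₂ := ⟨_, rfl⟩
  have hκΓ : κ ∈ F.autGroup S := by
    rw [hκ]
    exact Subgroup.mul_mem _ hh₁ hh₂
  have hκe : ∀ w ∈ S, fn κ w = fn h₁ (fn h₂ w) := fun w hw => by rw [hκ, fn_mul _ _ hw]
  have hκv : fn κ v = v := by
    rw [hκe v hvS, e₂, fn_map_inv h₁ hvS, e₁, inv_inv]
  obtain ⟨l₂, hl₂⟩ := f₂ z hz
  obtain ⟨l₁, hl₁⟩ := f₁ z hz
  have hκz : fn κ z = z * v ^ (l₁ + (p - 1) * l₂) := by
    rw [hκe z hzS, hl₂, fn_map_mul h₁ hzS (S.pow_mem hvS l₂), hl₁, fn_map_pow' h₁ hvS, e₁, inv_pow, inv_vpow D.hvp, pow_add, mul_assoc]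
  obtain ⟨l, hl⟩ : ∃ l, l = l₁ + (p - 1) * l₂ := ⟨_, rfl⟩
  rw [← hl] at hκz
  have hpow : ∀ n : ℕ, fn (κ ^ n) z = z * v ^ (l * n) := by
    intro n
    induction n with
    | zero => rw [pow_zero, fn_one hzS]; simp
    | succ n ih =>
      rw [pow_succ', fn_mul _ _ hzS, ih, fn_map_mul κ hzS (S.pow_mem hvS _), hκz, fn_map_pow' κ hvS, hκv, mul_add, pow_add, mul_one, mul_assoc]
      congr 1
      rw [← pow_add, ← pow_add, add_comm]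
  obtain ⟨R, hR⟩ := (fullyNormalized_spec hS hF (fullyNormalized_self (F := F))).2.2
  haveI hnT : ((autInducedBy S S).subgroupOf (F.autGroup S)).Normal := by
    constructor
    rintro ⟨n, hn⟩ hn' ⟨g, hg⟩
    obtain ⟨s, hs, hsv⟩ := mem_autInducedBy_iff.1 hn'
    show g * n * g⁻¹ ∈ autInducedBy S S
    refine mem_autInducedBy_iff.2 ⟨((g ⟨s, hs⟩ : S) : Ω), (g ⟨s, hs⟩).2, fun x => ?_⟩
    have h1 : n (g⁻¹ x) = ⟨s, hs⟩ * (g⁻¹ x) * ⟨s, hs⟩⁻¹ := Subtype.ext (hsv _)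
    show ((g (n (g⁻¹ x)) : S) : Ω) = _
    rw [h1, map_mul, map_mul, map_inv, MulAut.apply_inv_self]
    rfl
  have hnd : ¬ p ∣ ((autInducedBy S S).subgroupOf (F.autGroup S)).index := by
    have := R.not_dvd_index
    rwa [hR] at this
  have hmem : (⟨κ, hκΓ⟩ : F.autGroup S) ^ ((autInducedBy S S).subgroupOf (F.autGroup S)).index ∈ (autInducedBy S S).subgroupOf (F.autGroup S) :=
    Subgroup.pow_index_mem _ _
  obtain ⟨m, hm⟩ : ∃ m, m = ((autInducedBy S S).subgroupOf (F.autGroup S)).index := ⟨_, rfl⟩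
  rw [← hm] at hnd hmem
  have hmem' : κ ^ m ∈ autInducedBy S S := hmem
  obtain ⟨s, hs, hsv⟩ := mem_autInducedBy_iff.1 hmem'
  have h1 : fn (κ ^ m) z = z := by
    rw [fn_of_mem _ hzS, hsv, (mem_Zc.1 hz).2 s hs]
    group
  have h2 : v ^ (l * m) = 1 := by
    have := hpow m
    rw [h1] at this
    exact (mul_eq_left.1 this.symm)
  have hord : orderOf v = p := orderOf_eq_prime D.hvp D.hv1
  have h3 : p ∣ l * m := by
    rw [← hord]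
    exact orderOf_dvd_of_pow_eq_one h2
  have h4 : p ∣ l := ((Nat.Prime.dvd_mul hpp).1 h3).resolve_right hnd
  obtain ⟨t, rfl⟩ := h4
  rw [← hκe z hzS, hκz, pow_mul, D.hvp, one_pow, mul_one]

/-- **Uniqueness of the reflection line.** -/
theorem refl_uniq (hp2 : p ≠ 2) (hS : IsPGroup p S) (hF : F.IsSaturated p) (D : Data S p v z₀) (hzp : z₀ ^ p = 1) {c₁ c₂ : Ω} {h₁ h₂ : MulAut S}
    (hc₁ : c₁ ∈ Zc S) (hc₂ : c₂ ∈ Zc S) (hv₁ : ∀ k : ℕ, c₁ ≠ v ^ k) (hv₂ : ∀ k : ℕ, c₂ ≠ v ^ k) (hh₁ : h₁ ∈ F.autGroup S) (hh₂ : h₂ ∈ F.autGroup S)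
    (e₁ : fn h₁ v = v⁻¹) (e₂ : fn h₂ v = v⁻¹) (f₁ : fn h₁ c₁ = c₁) (f₂ : fn h₂ c₂ = c₂) : ∃ k : ℕ, c₂ = c₁ ^ k := by
  have hpp := hp.out
  have h1 := kappa_fix hS hF D hh₁ hh₂ e₁ e₂ (fun z hz => refl_form D hzp hc₁ hv₁ e₁ f₁ hz) (fun z hz => refl_form D hzp hc₂ hv₂ e₂ f₂ hz) hc₂
  rw [f₂] at h1
  obtain ⟨i, j, hij⟩ := decomp_of D hzp hc₁ hv₁ hc₂
  have hcS := (mem_Zc.1 hc₁).1
  rw [hij, fn_map_mul h₁ (S.pow_mem hcS i) (S.pow_mem D.hvS j), fn_map_pow' h₁ hcS, fn_map_pow' h₁ D.hvS, e₁, f₁] at h1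
  have h2 : (v⁻¹) ^ j = v ^ j := mul_left_cancel h1
  have h3 : v ^ (2 * j) = 1 := by
    rw [two_mul, pow_add]
    nth_rewrite 1 [← h2]
    rw [inv_pow, inv_mul_cancel]
  have hord : orderOf v = p := orderOf_eq_prime D.hvp D.hv1
  have h4 : p ∣ 2 * j := by
    rw [← hord]
    exact orderOf_dvd_of_pow_eq_one h3
  have h5 : p ∣ j := by
    rcases (Nat.Prime.dvd_mul hpp).1 h4 with h | h
    · exact absurd ((Nat.prime_dvd_prime_iff_eq hpp Nat.prime_two).1 h) hp2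
    · exact h
  obtain ⟨t, rfl⟩ := h5
  refine ⟨i, ?_⟩
  rw [hij, pow_mul, D.hvp, one_pow, mul_one]

theorem tv_of_pow {U : Type*} [Group U] {a a' : U} {ha : a ^ p = 1} {ha' : a' ^ p = 1} (h1 : a' ≠ 1) {k : ℕ} (hk : a' = a ^ k) {β : MulAut U} (hβ : β ∈ TvSub a' ha') :
    β ∈ TvSub a ha := by
  obtain ⟨m, hm⟩ := mem_pow_symm ha ha' h1 hk
  refine ⟨?_, fun u => ?_⟩
  · rw [hm, map_pow, hβ.1]
  · obtain ⟨l, hl⟩ := hβ.2 u
    refine ⟨k * l, ?_⟩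
    rw [hl, hk, pow_mul]

theorem exists_move (hS : IsPGroup p S) (hF : F.IsSaturated p) (D : Data S p v z₀) {E : Subgroup Ω} (hE : F.IsEssential p E) (hv : v ∈ E)
    {y : Ω} (hy : y ∈ S) (hyE : y ∉ E) (hyN : y ∈ normalizerIn S E) : ∃ x ∈ F.autGroup E, ∀ k : ℕ, x ⟨v, hv⟩ ≠ (⟨v, hv⟩ : E) ^ k := by
  by_contra hcon
  push Not at hcon
  have hES := hE.1.1
  have hc := hE.1.2 E (isConj_refl hES)
  haveI : Finite E := finite_of_le hES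
  obtain ⟨hcm, hex⟩ := ess_ab hS hF D hE
  have ha₀1 : (⟨v, hv⟩ : E) ≠ 1 := fun h => D.hv1 (congrArg Subtype.val h)
  have hn : ((TvSub (⟨v, hv⟩ : E) (a0_pow D hv)).subgroupOf (F.autGroup E)).Normal := by
    constructor
    rintro ⟨b, hb⟩ hb' ⟨g, hg⟩
    show g * b * g⁻¹ ∈ TvSub (⟨v, hv⟩ : E) (a0_pow D hv)
    obtain ⟨k, hk⟩ := hcon g hg
    have hg1 : g ⟨v, hv⟩ ≠ 1 := by
      intro h
      apply ha₀1
      simpa using h
    have hb'' : b ∈ TvSub (⟨v, hv⟩ : E) (a0_pow D hv) := hb'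
    exact tv_of_pow (ha' := hex _) hg1 hk (conj_TvSub g (hex _) hb'')
  have hτΓ : autOfNormalizer hyN.2 ∈ F.autGroup E := autOfNormalizer_mem_autGroup hES hyN
  have hτT := autS_le_Tv D hES hv (autOfNormalizer_mem_autInducedBy hyN.2 hyN.1)
  have hpc : autOfNormalizer hyN.2 ∈ (pCore p (F.autGroup E)).map (F.autGroup E).subtype :=
    ⟨⟨_, hτΓ⟩, Cfsg.Agent.Lib.Basic.le_pCore hn (TvSub_isP _ _).comap_subtype hτT, rfl⟩
  rw [(isRadical_of_essential hS hE).2] at hpc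
  exact hyE (mem_of_autOfNormalizer_mem_inn hES hc hyN hpc)

/-- All conjugates of `Aut_S(E)` fix the reflection line. -/
theorem fix_star (hp2 : p ≠ 2) (hS : IsPGroup p S) (hF : F.IsSaturated p) (D : Data S p v z₀) {E : Subgroup Ω} (hE : F.IsEssential p E) (hv : v ∈ E) (hzp : z₀ ^ p = 1)
    {c₀ : Ω} {h₀ : MulAut S} (hc₀ : c₀ ∈ Zc S) (hc₀v : ∀ k : ℕ, c₀ ≠ v ^ k) (hh₀ : h₀ ∈ F.autGroup S) (e₀ : fn h₀ v = v⁻¹) (f₀ : fn h₀ c₀ = c₀)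
    {x : MulAut E} (hx : x ∈ F.autGroup E) {y : Ω} (hy : y ∈ S) (hyN : y ∈ normalizerIn S E) : fn (x * autOfNormalizer hyN.2 * x⁻¹) c₀ = c₀ := by
  obtain ⟨hES, hc, hvE, hzE, hN, -⟩ := ess_facts hS hF D hE
  obtain ⟨hcm, hex⟩ := ess_ab hS hF D hE
  haveI : Finite E := finite_of_le hES
  have hc₀E : c₀ ∈ E := D.central_mem hES hc (mem_Zc.1 hc₀).1 (mem_Zc.1 hc₀).2
  have ha₀1 : (⟨v, hv⟩ : E) ≠ 1 := fun h => D.hv1 (congrArg Subtype.val h)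
  by_cases hyE : y ∈ E
  · have h1 : autOfNormalizer hyN.2 = 1 := by
      ext u
      show y * u * y⁻¹ = u
      have := hcm ⟨y, hyE⟩ u
      have h2 : y * u = u * y := congrArg Subtype.val this
      rw [h2]
      group
    rw [h1, mul_one, mul_inv_cancel, fn_one hc₀E]
  by_cases hxv : ∀ k : ℕ, x ⟨v, hv⟩ ≠ (⟨v, hv⟩ : E) ^ k
  · obtain ⟨c, h, hcZ, hcv, hh, e, f, g⟩ := exists_reflection hS hF D hE hv hx hxv hy hyE hyN
    obtain ⟨k, hk⟩ := refl_uniq hp2 hS hF D hzp hcZ hc₀ hcv hc₀v hh hh₀ e e₀ f f₀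
    have hcE : c ∈ E := D.central_mem hES hc (mem_Zc.1 hcZ).1 (mem_Zc.1 hcZ).2
    rw [hk, fn_map_pow' _ hcE, g]
  · push Not at hxv
    obtain ⟨k, hk⟩ := hxv
    have hτT := autS_le_Tv D hES hv (autOfNormalizer_mem_autInducedBy hyN.2 hyN.1)
    have hg1 : x ⟨v, hv⟩ ≠ 1 := by
      intro h
      apply ha₀1
      simpa using h
    have h1 : x * autOfNormalizer hyN.2 * x⁻¹ ∈ TvSub (⟨v, hv⟩ : E) (a0_pow D hv) :=
      tv_of_pow (ha' := hex _) hg1 hk (conj_TvSub x (hex _) hτT)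
    have hτΓ : autOfNormalizer hyN.2 ∈ F.autGroup E := autOfNormalizer_mem_autGroup hES hyN
    have hΓ : x * autOfNormalizer hyN.2 * x⁻¹ ∈ F.autGroup E := Subgroup.mul_mem _ (Subgroup.mul_mem _ hx hτΓ) (Subgroup.inv_mem _ hx)
    have h2 := Tv_le_autS hS hF D hE hv hΓ h1
    obtain ⟨s, hs, hsv⟩ := mem_autInducedBy_iff.1 h2
    rw [fn_of_mem _ hc₀E, hsv]
    show s * c₀ * s⁻¹ = c₀
    rw [(mem_Zc.1 hc₀).2 s hs]
    group

/-- Invariance on an essential subgroup. -/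
theorem inv_ess (hp2 : p ≠ 2) (hS : IsPGroup p S) (hF : F.IsSaturated p) (D : Data S p v z₀) {E : Subgroup Ω} (hE : F.IsEssential p E) (hzp : z₀ ^ p = 1)
    {c₀ : Ω} {h₀ : MulAut S} (hc₀ : c₀ ∈ Zc S) (hc₀v : ∀ k : ℕ, c₀ ≠ v ^ k) (hh₀ : h₀ ∈ F.autGroup S) (e₀ : fn h₀ v = v⁻¹) (f₀ : fn h₀ c₀ = c₀)
    {α : MulAut E} (hα : α ∈ F.autGroup E) : ∃ k : ℕ, fn α c₀ = c₀ ^ k := by
  obtain ⟨hES, hc, hv, hzE, hN, y₀, hy₀, hy₀E⟩ := ess_facts hS hF D hE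
  obtain ⟨hcm, hex⟩ := ess_ab hS hF D hE
  haveI : Finite E := finite_of_le hES
  have hc₀E : c₀ ∈ E := D.central_mem hES hc (mem_Zc.1 hc₀).1 (mem_Zc.1 hc₀).2
  have hstar := fun {x : MulAut E} (hx : x ∈ F.autGroup E) {y : Ω} (hy : y ∈ S) (hyN : y ∈ normalizerIn S E) =>
    fix_star hp2 hS hF D hE hv hzp hc₀ hc₀v hh₀ e₀ f₀ hx hy hyN
  have hmove : ∀ (t : MulAut E), fn (α⁻¹ * t * α⁻¹⁻¹) c₀ = c₀ → fn t (fn α c₀) = fn α c₀ := by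
    intro t ht
    have h1 := congrArg (fn α) ht
    rw [← fn_mul _ _ hc₀E] at h1
    have e1 : α * (α⁻¹ * t * α⁻¹⁻¹) = t * α := by group
    rw [e1, fn_mul _ _ hc₀E] at h1
    exact h1
  have heE : fn α c₀ ∈ E := fn_mem α hc₀E
  have heZ : fn α c₀ ∈ Zc S := by
    rw [mem_Zc]
    refine ⟨hES heE, fun s hs => ?_⟩
    have h1 := hmove (autOfNormalizer (hN s hs).2) (hstar (Subgroup.inv_mem _ hα) hs (hN s hs))
    rw [fn_of_mem _ heE] at h1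
    have h2 : s * fn α c₀ * s⁻¹ = fn α c₀ := h1
    calc s * fn α c₀ = (s * fn α c₀ * s⁻¹) * s := by group
      _ = fn α c₀ * s := by rw [h2]
  obtain ⟨x₀, hx₀, hx₀v⟩ := exists_move hS hF D hE hv hy₀ hy₀E (hN y₀ hy₀)
  obtain ⟨-, h4⟩ := t_moves hS hF D hE hv hx₀ hx₀v hy₀ hy₀E (hN y₀ hy₀)
  obtain ⟨t', ht'⟩ : ∃ t', t' = x₀ * autOfNormalizer (hN y₀ hy₀).2 * x₀⁻¹ := ⟨_, rfl⟩
  rw [← ht'] at h4
  have htc : fn t' c₀ = c₀ := by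
    rw [ht']
    exact hstar hx₀ hy₀ (hN y₀ hy₀)
  have hte : fn t' (fn α c₀) = fn α c₀ := by
    apply hmove
    have e1 : α⁻¹ * t' * α⁻¹⁻¹ = (α⁻¹ * x₀) * autOfNormalizer (hN y₀ hy₀).2 * (α⁻¹ * x₀)⁻¹ := by
      rw [ht']
      group
    rw [e1]
    exact hstar (Subgroup.mul_mem _ (Subgroup.inv_mem _ hα) hx₀) hy₀ (hN y₀ hy₀)
  obtain ⟨i, j, hij⟩ := decomp_of D hzp hc₀ hc₀v heZ
  rw [hij, fn_map_mul t' (E.pow_mem hc₀E i) (E.pow_mem hv j), fn_map_pow' t' hc₀E, htc] at hte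
  have h5 : fn t' (v ^ j) = v ^ j := mul_left_cancel hte
  refine ⟨i, ?_⟩
  rw [hij]
  have h6 : p ∣ j := by
    by_contra hnd
    apply h4
    have h7 : (⟨v, hv⟩ : E) ^ j ≠ 1 := by
      intro h8
      apply hnd
      have hord : orderOf (⟨v, hv⟩ : E) = p := orderOf_eq_prime (hex _) (fun h => D.hv1 (congrArg Subtype.val h))
      rw [← hord]
      exact orderOf_dvd_of_pow_eq_one h8
    obtain ⟨m, hm⟩ := pow_pow_eq_of_ne (hex _) h7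
    rw [← hm, map_pow]
    congr 1
    have h8 : t' ((⟨v, hv⟩ : E) ^ j) = (⟨v, hv⟩ : E) ^ j := by
      apply Subtype.ext
      have h9 : fn t' (((⟨v, hv⟩ : E) ^ j : E) : Ω) = ((t' ((⟨v, hv⟩ : E) ^ j) : E) : Ω) := fn_coe _ _
      rw [← h9]
      exact h5
    exact h8
  obtain ⟨t, rfl⟩ := h6
  rw [pow_mul, D.hvp, one_pow, mul_one]

/-- Automorphisms of `S` preserve `⟨v⟩`. -/
theorem fn_v (D : Data S p v z₀) (α : MulAut S) : ∃ r : ℕ, fn α v = v ^ r := by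
  obtain ⟨a, ha, b, hb, hne⟩ := D.hnc
  obtain ⟨k, hk⟩ := D.hcomm a ha b hb
  rw [hk] at hne
  obtain ⟨m, hm⟩ := pow_pow_eq_of_ne D.hvp hne
  have h1 : fn α (v ^ k) = fn α a * fn α b * (fn α a)⁻¹ * (fn α b)⁻¹ := by
    rw [← hk, fn_map_mul α (S.mul_mem (S.mul_mem ha hb) (S.inv_mem ha)) (S.inv_mem hb), fn_map_mul α (S.mul_mem ha hb) (S.inv_mem ha), fn_map_mul α ha hb,
      fn_map_inv α ha, fn_map_inv α hb]
  obtain ⟨l, hl⟩ := D.hcomm _ (fn_mem α ha) _ (fn_mem α hb)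
  refine ⟨l * m, ?_⟩
  conv_lhs => rw [← hm]
  rw [fn_map_pow' α (S.pow_mem D.hvS k), h1, hl, pow_mul]

/-- Invariance on `S`. -/
theorem inv_S (hp2 : p ≠ 2) (hS : IsPGroup p S) (hF : F.IsSaturated p) (D : Data S p v z₀) (hzp : z₀ ^ p = 1)
    {c₀ : Ω} {h₀ : MulAut S} (hc₀ : c₀ ∈ Zc S) (hc₀v : ∀ k : ℕ, c₀ ≠ v ^ k) (hh₀ : h₀ ∈ F.autGroup S) (e₀ : fn h₀ v = v⁻¹) (f₀ : fn h₀ c₀ = c₀)
    {α : MulAut S} (hα : α ∈ F.autGroup S) : ∃ k : ℕ, fn α c₀ = c₀ ^ k := by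
  have hcS := (mem_Zc.1 hc₀).1
  have hvS := D.hvS
  have hc' : fn α c₀ ∈ Zc S := fn_mem_center hc₀
  have hcv' : ∀ k : ℕ, fn α c₀ ≠ v ^ k := by
    intro k hk
    obtain ⟨r, hr⟩ := fn_v D α⁻¹
    apply hc₀v (r * k)
    have h1 := fn_inv_fn α hcS
    rw [hk, fn_map_pow' α⁻¹ hvS, hr] at h1
    rw [← h1, pow_mul]
  have hh' : α * h₀ * α⁻¹ ∈ F.autGroup S := Subgroup.mul_mem _ (Subgroup.mul_mem _ hα hh₀) (Subgroup.inv_mem _ hα)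
  have hcomp : ∀ w ∈ S, fn (α * h₀ * α⁻¹) w = fn α (fn h₀ (fn α⁻¹ w)) := by
    intro w hw
    rw [fn_mul _ _ hw, fn_mul _ _ (fn_mem _ hw)]
  have e' : fn (α * h₀ * α⁻¹) v = v⁻¹ := by
    obtain ⟨r, hr⟩ := fn_v D α⁻¹
    rw [hcomp v hvS, hr, fn_map_pow' h₀ hvS, e₀, inv_pow, fn_map_inv α (S.pow_mem hvS r), ← hr, fn_fn_inv α hvS]
  have f' : fn (α * h₀ * α⁻¹) (fn α c₀) = fn α c₀ := by
    rw [hcomp _ (fn_mem α hcS), fn_inv_fn α hcS, f₀]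
  exact refl_uniq hp2 hS hF D hzp hc₀ hc' hc₀v hcv' hh₀ hh' e₀ e' f₀ f'

theorem map_eq_of_fn {P : Subgroup Ω} {c : Ω} (hc : c ∈ P) {α : MulAut P} (h1 : ∃ k : ℕ, fn α c = c ^ k) (h2 : ∃ k : ℕ, fn α⁻¹ c = c ^ k) :
    ((Subgroup.zpowers c).subgroupOf P).map (P.subtype.comp α.toMonoidHom) = Subgroup.zpowers c := by
  obtain ⟨k, hk⟩ := h1
  obtain ⟨l, hl⟩ := h2
  have hform : ∀ u (hu : u ∈ P), u ∈ Subgroup.zpowers c → ∃ n : ℤ, ((α ⟨u, hu⟩ : P) : Ω) = (fn α c) ^ n := by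
    rintro u hu ⟨n, rfl⟩
    refine ⟨n, ?_⟩
    have e : (⟨c ^ n, hu⟩ : P) = (⟨c, hc⟩ : P) ^ n := Subtype.ext rfl
    rw [e, map_zpow, Subgroup.coe_zpow, fn_of_mem α hc]
  apply le_antisymm
  · rintro _ ⟨⟨u, hu⟩, hu', rfl⟩
    obtain ⟨n, hn⟩ := hform u hu hu'
    show ((α ⟨u, hu⟩ : P) : Ω) ∈ _
    rw [hn, hk]
    exact Subgroup.zpow_mem _ (Subgroup.pow_mem _ (Subgroup.mem_zpowers c) k) n
  · rw [Subgroup.zpowers_le]
    refine ⟨⟨c ^ l, P.pow_mem hc l⟩, ?_, ?_⟩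
    · show c ^ l ∈ Subgroup.zpowers c
      exact Subgroup.pow_mem _ (Subgroup.mem_zpowers c) l
    · show ((α ⟨c ^ l, P.pow_mem hc l⟩ : P) : Ω) = c
      rw [← fn_of_mem, ← hl, fn_fn_inv α hc]

/-- **A normal subgroup exists.** -/
theorem core_ne_bot (hp2 : p ≠ 2) (hS : IsPGroup p S) (hF : F.IsSaturated p) (D : Data S p v z₀) : F.core ≠ ⊥ := by
  intro hcore
  by_cases hess : ∃ E : Subgroup Ω, F.IsEssential p E
  · obtain ⟨E₀, hE₀⟩ := hess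
    obtain ⟨hES, hc, hv, hzE, hN, y₀, hy₀, hy₀E⟩ := ess_facts hS hF D hE₀
    obtain ⟨hcm, hex⟩ := ess_ab hS hF D hE₀
    have hzp : z₀ ^ p = 1 := congrArg Subtype.val (hex ⟨z₀, hzE⟩)
    obtain ⟨x₀, hx₀, hx₀v⟩ := exists_move hS hF D hE₀ hv hy₀ hy₀E (hN y₀ hy₀)
    obtain ⟨c₀, h₀, hc₀, hc₀v, hh₀, e₀, f₀, -⟩ := exists_reflection hS hF D hE₀ hv hx₀ hx₀v hy₀ hy₀E (hN y₀ hy₀)
    have hcS := (mem_Zc.1 hc₀).1
    have hn : F.IsNormal (Subgroup.zpowers c₀) := by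
      refine isNormal_of_forall_aut hS hF ((Subgroup.zpowers_le).2 hcS) ?_ ?_
      · intro s hs
        refine mem_normalizer_of_conj_mem ((Subgroup.zpowers_le).2 hcS) ?_
        rintro _ ⟨n, rfl⟩
        refine ⟨n, ?_⟩
        show c₀ ^ n = s * c₀ ^ n * s⁻¹
        have h1 : s * c₀ ^ n = c₀ ^ n * s := ((show Commute s c₀ from (mem_Zc.1 hc₀).2 s hs).zpow_right n)
        rw [h1]
        group
      · rintro P (rfl | hP)
        · refine ⟨(Subgroup.zpowers_le).2 hcS, fun α hα => ?_⟩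
          exact map_eq_of_fn hcS (inv_S hp2 hS hF D hzp hc₀ hc₀v hh₀ e₀ f₀ hα) (inv_S hp2 hS hF D hzp hc₀ hc₀v hh₀ e₀ f₀ (Subgroup.inv_mem _ hα))
        · have hPS := hP.1.1
          have hcP : c₀ ∈ P := D.central_mem hPS (hP.1.2 P (isConj_refl hPS)) hcS (mem_Zc.1 hc₀).2
          refine ⟨(Subgroup.zpowers_le).2 hcP, fun α hα => ?_⟩
          exact map_eq_of_fn hcP (inv_ess hp2 hS hF D hP hzp hc₀ hc₀v hh₀ e₀ f₀ hα) (inv_ess hp2 hS hF D hP hzp hc₀ hc₀v hh₀ e₀ f₀ (Subgroup.inv_mem _ hα))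
    have h1 : c₀ ∈ F.core := (le_sSup hn : Subgroup.zpowers c₀ ≤ F.core) (Subgroup.mem_zpowers c₀)
    rw [hcore, Subgroup.mem_bot] at h1
    apply hc₀v 0
    rw [h1, pow_zero]
  · have hn : F.IsNormal S := by
      refine isNormal_of_forall_aut hS hF le_rfl ?_ ?_
      · intro s hs
        exact Subgroup.le_normalizer hs
      · rintro P (rfl | hP)
        · refine ⟨le_rfl, fun α hα => ?_⟩
          apply le_antisymm
          · rintro _ ⟨x, -, rfl⟩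
            exact (α x).2
          · intro y hy
            refine ⟨α⁻¹ ⟨y, hy⟩, by simp [Subgroup.mem_subgroupOf], ?_⟩
            show ((α (α⁻¹ ⟨y, hy⟩) : P) : Ω) = y
            rw [MulAut.apply_inv_self]
        · exact absurd ⟨P, hP⟩ hess
    have h1 : v ∈ F.core := (le_sSup hn : S ≤ F.core) D.hvS
    rw [hcore, Subgroup.mem_bot] at h1
    exact D.hv1 h1

end Main

end Cfsg.Agent.Lib.Fusion.ExtraIdx
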