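/-
A saturated fusion system with trivial largest normal subgroup on a `p`-group, `p` odd, with an extraspecial subgroup of
index `p`: the centre of the `p`-group is the centre of the extraspecial subgroup.
-/
import Cfsg.Agent.Lib.Fusion.ExtraIdx2

set_option autoImplicit false
set_option linter.unusedSectionVars false
set_option linter.unusedVariables false
set_option linter.unusedSimpArgs false

open scoped commutatorElement

namespace Cfsg.Agent.Lib.Fusion.ExtraIdx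

open Cfsg Cfsg.FusionSystem Cfsg.Agent.Lib.Fusion Cfsg.Agent.Lib.Fusion2 Cfsg.Agent.Lib.Fusion2.AbelIdx

variable {Ω : Type*} [Group Ω] {S : Subgroup Ω} {p : ℕ} [hp : Fact p.Prime] [Finite S]

theorem index_data (hS : IsPGroup p S) {A : Subgroup Ω} (hAi : (A.subgroupOf S).index = p) :
    (∀ s ∈ S, ∀ a ∈ A, a ∈ S → s * a * s⁻¹ ∈ A) ∧ (∀ x ∈ S, x ∉ A → ∀ s ∈ S, ∃ i : ℕ, ∃ a ∈ A, s = x ^ i * a) ∧ ∀ x ∈ S, x ^ p ∈ A := by
  have hne : Nat.card S ≠ 1 := by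
    intro h1
    have h2 : (A.subgroupOf S).index ∣ Nat.card S := Subgroup.index_dvd_card _
    rw [h1, hAi] at h2
    exact hp.out.one_lt.ne' (Nat.dvd_one.1 h2)
  obtain ⟨k, hk⟩ := IsPGroup.iff_card.1 hS
  have hk0 : k ≠ 0 := by
    rintro rfl
    exact hne (by simpa using hk)
  have hmin : (A.subgroupOf S).index = (Nat.card S).minFac := by
    rw [hk, hp.out.pow_minFac hk0, hAi]
  haveI hnorm : (A.subgroupOf S).Normal := Subgroup.normal_of_index_eq_minFac_card hmin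
  have hcardQ : Nat.card (S ⧸ A.subgroupOf S) = p := by
    rw [← Subgroup.index_eq_card, hAi]
  refine ⟨?_, ?_, ?_⟩
  · intro s hs a ha haS
    have := hnorm.conj_mem ⟨a, haS⟩ (by simpa [Subgroup.mem_subgroupOf] using ha) ⟨s, hs⟩
    simpa [Subgroup.mem_subgroupOf] using this
  · intro x hx hxA s hs
    have hne : QuotientGroup.mk' (A.subgroupOf S) ⟨x, hx⟩ ≠ 1 := by
      intro h
      rw [← MonoidHom.mem_ker, QuotientGroup.ker_mk'] at h
      exact hxA (by simpa [Subgroup.mem_subgroupOf] using h)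
    have h1 := mem_zpowers_of_prime_card (p := p) hcardQ (g' := QuotientGroup.mk' (A.subgroupOf S) ⟨s, hs⟩) hne
    have hfin : IsOfFinOrder (QuotientGroup.mk' (A.subgroupOf S) ⟨x, hx⟩) := isOfFinOrder_of_finite _
    obtain ⟨i, hi⟩ := (hfin.mem_powers_iff_mem_zpowers).2 h1
    refine ⟨i, (x ^ i)⁻¹ * s, ?_, by group⟩
    have h2 : QuotientGroup.mk' (A.subgroupOf S) ((⟨x, hx⟩ : S) ^ i) = QuotientGroup.mk' (A.subgroupOf S) ⟨s, hs⟩ := by
      rw [map_pow]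
      exact hi
    have h3 : ((⟨x, hx⟩ : S) ^ i)⁻¹ * ⟨s, hs⟩ ∈ A.subgroupOf S := QuotientGroup.eq.1 h2
    simpa [Subgroup.mem_subgroupOf] using h3
  · intro x hx
    have h1 : QuotientGroup.mk' (A.subgroupOf S) ((⟨x, hx⟩ : S) ^ p) = 1 := by
      rw [map_pow, ← hcardQ]
      exact pow_card_eq_one'
    rw [← MonoidHom.mem_ker, QuotientGroup.ker_mk'] at h1
    simpa [Subgroup.mem_subgroupOf] using h1

/-- **The theorem.** -/
theorem main_extra (hodd : p ≠ 2) (hS : IsPGroup p S) (Q : Subgroup Ω) (hQS : Q ≤ S) (hQ : Cfsg.IsExtraspecial p ↥Q) (hQi : (Q.subgroupOf S).index = p)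
    (F : FusionSystem S) (hF : F.IsSaturated p) (hO : F.core = ⊥) :
    S ⊓ Subgroup.centralizer (S : Set Ω) = Q ⊓ Subgroup.centralizer (Q : Set Ω) := by
  classical
  obtain ⟨⟨hQp, hfr, hcm⟩, hcard⟩ := hQ
  haveI : Finite Q := finite_of_le hQS
  have hpp := hp.out
  obtain ⟨hconj, hgen, hpowQ⟩ := index_data hS hQi
  haveI : Nontrivial (Subgroup.center ↥Q) := Finite.one_lt_card_iff_nontrivial.1 (by rw [hcard]; exact hpp.one_lt)
  obtain ⟨v₀, hv₀⟩ := exists_ne (1 : ↥(Subgroup.center ↥Q))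
  have hgenv : ∀ w : ↥(Subgroup.center ↥Q), ∃ k : ℕ, v₀ ^ k = w := by
    intro w
    have h1 := mem_zpowers_of_prime_card (p := p) hcard (g' := w) hv₀
    have hfin : IsOfFinOrder v₀ := isOfFinOrder_of_finite _
    exact (hfin.mem_powers_iff_mem_zpowers).2 h1
  obtain ⟨v, hv⟩ : ∃ v : Ω, v = ((v₀ : ↥Q) : Ω) := ⟨_, rfl⟩
  have hvQ : v ∈ Q := by
    rw [hv]
    exact (v₀ : ↥Q).2
  have hcen : ∀ w ∈ Q, (∀ q ∈ Q, q * w = w * q) → ∃ k : ℕ, w = v ^ k := by
    intro w hw hc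
    have hmem : (⟨w, hw⟩ : ↥Q) ∈ Subgroup.center ↥Q := by
      rw [Subgroup.mem_center_iff]
      intro g
      exact Subtype.ext (hc g g.2)
    obtain ⟨k, hk⟩ := hgenv ⟨_, hmem⟩
    refine ⟨k, ?_⟩
    have h1 := congrArg (fun x : ↥(Subgroup.center ↥Q) => ((x : ↥Q) : Ω)) hk
    simp only [Subgroup.coe_pow] at h1
    rw [hv]
    exact h1.symm
  have hcen' : ∀ w : ↥Q, w ∈ Subgroup.center ↥Q → ∃ k : ℕ, (w : Ω) = v ^ k := by
    intro w hw
    obtain ⟨k, hk⟩ := hgenv ⟨w, hw⟩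
    refine ⟨k, ?_⟩
    have h1 := congrArg (fun x : ↥(Subgroup.center ↥Q) => ((x : ↥Q) : Ω)) hk
    simp only [Subgroup.coe_pow] at h1
    rw [hv]
    exact h1.symm
  have hvcQ : ∀ q ∈ Q, q * v = v * q := by
    intro q hq
    have := Subgroup.mem_center_iff.1 v₀.2 ⟨q, hq⟩
    rw [hv]
    exact congrArg Subtype.val this
  have hvp : v ^ p = 1 := by
    have h1 : v₀ ^ p = 1 := by
      rw [← hcard]
      exact pow_card_eq_one'
    have h2 := congrArg (fun x : ↥(Subgroup.center ↥Q) => ((x : ↥Q) : Ω)) h1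
    simp only [Subgroup.coe_pow] at h2
    rw [hv]
    exact h2
  have hv1 : v ≠ 1 := by
    rw [hv]
    intro h
    exact hv₀ (Subtype.ext (Subtype.ext h))
  -- `v` is central in `S`
  have hvc : ∀ s ∈ S, s * v = v * s := by
    have hmemN : ∀ w : ↥S, (w : Ω) ∈ Q ∧ (∀ q ∈ Q, q * w = w * q) → ∀ g : ↥S, ((g * w * g⁻¹ : ↥S) : Ω) ∈ Q ∧ ∀ q ∈ Q, q * ((g * w * g⁻¹ : ↥S) : Ω) = ((g * w * g⁻¹ : ↥S) : Ω) * q := by
      rintro ⟨w, hwS⟩ ⟨hw, hwc⟩ ⟨g, hg⟩
      refine ⟨hconj g hg w hw hwS, fun q hq => ?_⟩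
      show q * (g * w * g⁻¹) = (g * w * g⁻¹) * q
      have h1 := hwc _ (hconj g⁻¹ (S.inv_mem hg) q hq (hQS hq))
      rw [inv_inv] at h1
      calc q * (g * w * g⁻¹) = g * ((g⁻¹ * q * g) * w) * g⁻¹ := by group
        _ = g * (w * (g⁻¹ * q * g)) * g⁻¹ := by rw [h1]
        _ = _ := by group
    let N : Subgroup ↥S :=
      { carrier := {w | (w : Ω) ∈ Q ∧ ∀ q ∈ Q, q * w = w * q}
        one_mem' := ⟨Q.one_mem, fun q _ => by simp⟩
        mul_mem' := by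
          rintro a b ⟨ha, ha'⟩ ⟨hb, hb'⟩
          refine ⟨Q.mul_mem ha hb, fun q hq => ?_⟩
          show q * ((a : Ω) * b) = (a : Ω) * b * q
          rw [← mul_assoc, ha' q hq, mul_assoc, hb' q hq, mul_assoc]
        inv_mem' := by
          rintro a ⟨ha, ha'⟩
          refine ⟨Q.inv_mem ha, fun q hq => ?_⟩
          show q * (a : Ω)⁻¹ = (a : Ω)⁻¹ * q
          have := ha' q hq
          exact (Commute.inv_right this) }
    haveI hNn : N.Normal := ⟨fun n hn g => hmemN n hn g⟩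
    have hne : N ≠ ⊥ := by
      intro h
      have h1 : (⟨v, hQS hvQ⟩ : ↥S) ∈ N := ⟨hvQ, hvcQ⟩
      rw [h, Subgroup.mem_bot] at h1
      exact hv1 (congrArg Subtype.val h1)
    obtain ⟨z, hzN, hz1, hzc, -⟩ := Cfsg.Agent.Lib.Transfer.exists_central_of_normal hS hne
    obtain ⟨k, hk⟩ := hcen _ hzN.1 hzN.2
    have hne' : v ^ k ≠ 1 := by
      rw [← hk]
      exact fun h => hz1 (Subtype.ext h)
    obtain ⟨m, hm⟩ := pow_pow_eq_of_ne hvp hne'
    intro s hs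
    have h2 : s * (z : Ω) = (z : Ω) * s := congrArg Subtype.val (hzc ⟨s, hs⟩)
    rw [← hm, ← hk]
    exact (Commute.pow_right (show Commute s (z : Ω) from h2) m)
  have hle : Q ⊓ Subgroup.centralizer (Q : Set Ω) ≤ S ⊓ Subgroup.centralizer (S : Set Ω) := by
    rintro w ⟨hw, hwc⟩
    have hwc' := Subgroup.mem_centralizer_iff.1 hwc
    obtain ⟨k, hk⟩ := hcen w hw hwc'
    refine ⟨hQS hw, Subgroup.mem_centralizer_iff.2 ?_⟩
    intro s hs
    rw [hk]
    exact (Commute.pow_right (show Commute s v from hvc s hs) k)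
  by_contra hne
  have hnle : ¬ S ⊓ Subgroup.centralizer (S : Set Ω) ≤ Q ⊓ Subgroup.centralizer (Q : Set Ω) := fun h => hne (le_antisymm h hle)
  obtain ⟨z, hz, hzQ'⟩ := SetLike.not_le_iff_exists.1 hnle
  obtain ⟨hzS, hzc'⟩ := mem_Zc.1 hz
  have hzQ : z ∉ Q := by
    intro h
    apply hzQ'
    refine ⟨h, Subgroup.mem_centralizer_iff.2 ?_⟩
    intro q hq
    exact hzc' q (hQS hq)
  have hzcQ : ∀ s ∈ S, ∀ i : ℕ, s * z ^ i = z ^ i * s := fun s hs i => (Commute.pow_right (show Commute s z from hzc' s hs) i)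
  have D : Data S p v z := by
    refine ⟨hQS hvQ, hvc, hv1, hvp, ?_, ?_, hzS, hzc', ?_, ?_, ?_⟩
    · intro a ha b hb
      obtain ⟨i, q₁, hq₁, rfl⟩ := hgen z hzS hzQ a ha
      obtain ⟨j, q₂, hq₂, rfl⟩ := hgen z hzS hzQ b hb
      have hmem : (⁅(⟨q₁, hq₁⟩ : ↥Q), (⟨q₂, hq₂⟩ : ↥Q)⁆ : ↥Q) ∈ Subgroup.center ↥Q := by
        rw [← hcm, commutator_def]
        exact Subgroup.commutator_mem_commutator (Subgroup.mem_top _) (Subgroup.mem_top _)
      obtain ⟨k, hk⟩ := hcen' _ hmem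
      refine ⟨k, ?_⟩
      rw [← hk]
      show z ^ i * q₁ * (z ^ j * q₂) * (z ^ i * q₁)⁻¹ * (z ^ j * q₂)⁻¹ = q₁ * q₂ * q₁⁻¹ * q₂⁻¹
      have h1 := hzcQ q₁ (hQS hq₁) j
      have h2 := hzcQ q₂ (hQS hq₂) i
      have e1 : z ^ i * q₁ * (z ^ j * q₂) = z ^ i * z ^ j * (q₁ * q₂) := by
        calc z ^ i * q₁ * (z ^ j * q₂) = z ^ i * (q₁ * z ^ j) * q₂ := by simp only [mul_assoc]
          _ = z ^ i * (z ^ j * q₁) * q₂ := by rw [h1]
          _ = _ := by simp only [mul_assoc]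
      have e2 : (z ^ i * q₁)⁻¹ * (z ^ j * q₂)⁻¹ = (z ^ j * q₂ * (z ^ i * q₁))⁻¹ := by group
      have e3 : z ^ j * q₂ * (z ^ i * q₁) = z ^ i * z ^ j * (q₂ * q₁) := by
        have hzz : z ^ j * z ^ i = z ^ i * z ^ j := (Commute.pow_pow (Commute.refl z) j i).eq
        calc z ^ j * q₂ * (z ^ i * q₁) = z ^ j * (q₂ * z ^ i) * q₁ := by simp only [mul_assoc]
          _ = z ^ j * (z ^ i * q₂) * q₁ := by rw [h2]
          _ = (z ^ j * z ^ i) * (q₂ * q₁) := by simp only [mul_assoc]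
          _ = _ := by rw [hzz]
      rw [mul_assoc (z ^ i * q₁ * (z ^ j * q₂)), e2, e1, e3]
      have hc : q₁ * q₂ * q₁⁻¹ * q₂⁻¹ ∈ S :=
        S.mul_mem (S.mul_mem (S.mul_mem (hQS hq₁) (hQS hq₂)) (S.inv_mem (hQS hq₁))) (S.inv_mem (hQS hq₂))
      have hw : (q₁ * q₂ * q₁⁻¹ * q₂⁻¹) * (z ^ i * z ^ j) = (z ^ i * z ^ j) * (q₁ * q₂ * q₁⁻¹ * q₂⁻¹) := by
        rw [← mul_assoc, hzcQ _ hc i, mul_assoc, hzcQ _ hc j]
        simp only [mul_assoc]
      have e4 : z ^ i * z ^ j * (q₁ * q₂) * (z ^ i * z ^ j * (q₂ * q₁))⁻¹ = (z ^ i * z ^ j) * (q₁ * q₂ * q₁⁻¹ * q₂⁻¹) * (z ^ i * z ^ j)⁻¹ := by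
        simp only [mul_inv_rev, mul_assoc]
      rw [e4, ← hw]
      group
    · intro a ha
      obtain ⟨i, q, hq, rfl⟩ := hgen z hzS hzQ a ha
      have hc : Commute (z ^ i) q := (hzcQ q (hQS hq) i).symm
      obtain ⟨m, hm⟩ := hcen (z ^ p) (hpowQ z hzS) (fun q' hq' => hzcQ q' (hQS hq') p)
      have hqp : (⟨q, hq⟩ : ↥Q) ^ p ∈ Subgroup.center ↥Q := by
        rw [← hfr]
        exact Cfsg.Agent.Lib.Transfer.pow_mem_frattini hQp _
      obtain ⟨n, hn⟩ := hcen' _ hqp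
      have hn' : q ^ p = v ^ n := hn
      refine ⟨m * i + n, ?_⟩
      rw [hc.mul_pow, ← pow_mul, mul_comm i, pow_mul, hm, hn', pow_add, ← pow_mul]
    · intro k hk
      apply hzQ
      rw [hk]
      exact Q.pow_mem hvQ k
    · intro u hu huc
      obtain ⟨i, q, hq, rfl⟩ := hgen z hzS hzQ u hu
      obtain ⟨j, hj⟩ := hcen q hq (fun q' hq' => by
        have h1 := huc q' (hQS hq')
        have h2 := hzcQ q' (hQS hq') i
        rw [← mul_assoc, h2, mul_assoc, mul_assoc] at h1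
        exact mul_left_cancel h1)
      exact ⟨i, j, by rw [hj]⟩
    · by_contra hcon
      push Not at hcon
      apply hv₀
      have hle2 : commutator ↥Q ≤ ⊥ := by
        rw [commutator_def, Subgroup.commutator_le]
        rintro a - b -
        rw [Subgroup.mem_bot]
        exact Subtype.ext (hcon a (hQS a.2) b (hQS b.2))
      have h3 : (v₀ : ↥Q) ∈ commutator ↥Q := by
        rw [hcm]
        exact v₀.2
      have h4 := hle2 h3
      rw [Subgroup.mem_bot] at h4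
      exact Subtype.ext h4
  exact core_ne_bot hodd hS hF D hO

end Cfsg.Agent.Lib.Fusion.ExtraIdx
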