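import Cfsg.Agent.Lib.Fusion.Placement
import Cfsg.Agent.Lib.Fusion.PIndex

/-!
# Invariant subsystems: the Frattini condition and strong invariance
-/

set_option autoImplicit false
set_option linter.unusedSectionVars false
set_option linter.style.haveILetI false

namespace Cfsg.Agent.Lib.Fusion

open Cfsg Cfsg.FusionSystem

section abstract_frattini

variable {A : Type*} [Group A] [Finite A] {p : ℕ} [hp : Fact p.Prime]

/-- The Frattini argument in the form `a = κ μ`. -/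
theorem exists_mul_normalizer_inf (K : Subgroup A) [hK : K.Normal] (B : Sylow p A) (a : A) :
    ∃ κ ∈ K, ∃ μ ∈ Subgroup.normalizer (((B : Subgroup A) ⊓ K : Subgroup A) : Set A), a = κ * μ := by
  obtain ⟨Q, hQ⟩ := Cfsg.Agent.Lib.Basic.sylow_inf_of_isSubnormal p K hK.isSubnormal B
  have h1 := Sylow.normalizer_sup_eq_top Q
  have h2 : (Q : Subgroup K).map K.subtype = (B : Subgroup A) ⊓ K := by
    rw [hQ, Subgroup.subgroupOf_map_subtype]
  have h3 : a ∈ Subgroup.normalizer (((Q : Subgroup K).map K.subtype : Subgroup A) : Set A) ⊔ K := by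
    rw [h1]
    trivial
  rw [sup_comm, Subgroup.mem_sup_of_normal_left, h2] at h3
  obtain ⟨κ, hκ, μ, hμ, rfl⟩ := h3
  exact ⟨κ, hκ, μ, hμ, rfl⟩

end abstract_frattini

variable {Ω : Type*} [Group Ω] {S T : Subgroup Ω} {F : FusionSystem S} {E : FusionSystem T}

/-- Invariance under `Aut_F(T)`, unbundled. -/
def AutInv (E : FusionSystem T) (F : FusionSystem S) : Prop :=
  ∀ (P : Subgroup Ω) (f : Ω → Ω), P ≤ T → IsMapOn E P f → ∀ α ∈ F.autGroup T, ∀ P' : Subgroup Ω, IsImage (fn α) P P' →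
    IsMapOn E P' (fun y => fn α (f (fn α⁻¹ y)))

/-- The Frattini condition on a map, unbundled. -/
def Fr (E : FusionSystem T) (F : FusionSystem S) (P : Subgroup Ω) (f : Ω → Ω) : Prop :=
  ∃ α ∈ F.autGroup T, ∃ f₀, IsMapOn E P f₀ ∧ ∀ x ∈ P, f x = fn α (f₀ x)

theorem Fr.mono {P X : Subgroup Ω} {f : Ω → Ω} (h : Fr E F X f) (hP : P ≤ X) : Fr E F P f := by
  obtain ⟨α, hα, f₀, hf₀, hv⟩ := h
  exact ⟨α, hα, f₀, hf₀.mono hP, fun x hx => hv x (hP hx)⟩

theorem Fr.congr {P : Subgroup Ω} {f g : Ω → Ω} (h : Fr E F P f) (he : ∀ x ∈ P, f x = g x) : Fr E F P g := by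
  obtain ⟨α, hα, f₀, hf₀, hv⟩ := h
  exact ⟨α, hα, f₀, hf₀, fun x hx => by rw [← he x hx, hv x hx]⟩

theorem fr_of_map {P : Subgroup Ω} {f : Ω → Ω} (h : IsMapOn E P f) : Fr E F P f :=
  ⟨1, Subgroup.one_mem _, f, h, fun x hx => (fn_one (h.mem_S hx)).symm⟩

theorem fr_of_aut {P : Subgroup Ω} (hPT : P ≤ T) {α : MulAut T} (hα : α ∈ F.autGroup T) : Fr E F P (fn α) :=
  ⟨α, hα, id, isMapOn_id hPT, fun _ _ => rfl⟩

theorem Fr.comp (hTS : T ≤ S) (hi : AutInv E F) {P Y : Subgroup Ω} {f g : Ω → Ω} (hf : Fr E F P f) (hg : Fr E F Y g)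
    (hPY : ∀ x ∈ P, f x ∈ Y) : Fr E F P (fun x => g (f x)) := by
  obtain ⟨a, ha, f₀, hf₀, hfv⟩ := hf
  obtain ⟨b, hb, g₀, hg₀, hgv⟩ := hg
  have hYT : Y ≤ T := hg₀.le
  have hainv := Subgroup.inv_mem _ ha
  obtain ⟨Y₀, hY₀⟩ := (isMapOn_fn hTS hainv).exists_image hYT
  have hg₁ := hi Y g₀ hYT hg₀ a⁻¹ hainv Y₀ hY₀
  rw [inv_inv] at hg₁
  have hf₀Y : ∀ x ∈ P, f₀ x ∈ Y₀ := by
    intro x hx
    have h1 := hY₀.mem (hPY x hx)
    rw [hfv x hx, fn_inv_fn a (hf₀.mem_S hx)] at h1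
    exact h1
  refine ⟨b * a, Subgroup.mul_mem _ hb ha, _, hf₀.comp hg₁ hf₀Y, fun x hx => ?_⟩
  have h2 : f₀ x ∈ T := hf₀.mem_S hx
  have h3 := hPY x hx
  have h4 : g₀ (f x) ∈ T := hg₀.mem_S h3
  have h5 : fn a (f₀ x) = f x := (hfv x hx).symm
  show g (f x) = fn (b * a) (fn a⁻¹ (g₀ (fn a (f₀ x))))
  rw [h5, fn_mul _ _ (fn_mem _ h4), fn_fn_inv a h4]
  exact hgv _ h3

theorem Fr.inv (hTS : T ≤ S) (hi : AutInv E F) {P R : Subgroup Ω} {f f' : Ω → Ω} (hf : Fr E F P f) (hR : IsImage f P R)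
    (hf' : ∀ x ∈ P, f' (f x) = x) : Fr E F R f' := by
  obtain ⟨a, ha, f₀, hf₀, hfv⟩ := hf
  obtain ⟨P₀, hP₀⟩ := hf₀.exists_image le_rfl
  obtain ⟨g₀, hg₀, -, hg₀l, -⟩ := hf₀.exists_inv hP₀
  have hP₀T : P₀ ≤ T := IsImage.le_S hf₀ le_rfl hP₀
  have hPT : P ≤ T := hf₀.le
  have him : IsImage (fn a) P₀ R := by
    intro y
    constructor
    · intro hy
      obtain ⟨x, hx, rfl⟩ := hR.exists_of_mem hy
      exact ⟨f₀ x, hP₀.mem hx, (hfv x hx).symm⟩
    · rintro ⟨z, hz, rfl⟩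
      obtain ⟨x, hx, rfl⟩ := hP₀.exists_of_mem hz
      rw [← hfv x hx]
      exact hR.mem hx
  have hm := hi P₀ g₀ hP₀T hg₀ a ha R him
  refine ⟨a⁻¹, Subgroup.inv_mem _ ha, _, hm, fun y hy => ?_⟩
  obtain ⟨x, hx, rfl⟩ := hR.exists_of_mem hy
  rw [hf' x hx, hfv x hx, fn_inv_fn a (hf₀.mem_S hx), hg₀l x hx, fn_inv_fn a (hPT hx)]

/-- Strong invariance, unbundled. -/
def StrongInv (E : FusionSystem T) (F : FusionSystem S) : Prop :=
  ∀ (P Q : Subgroup Ω) (f g g' : Ω → Ω), P ≤ Q → Q ≤ T → IsMapOn E P f → (∀ x ∈ P, f x ∈ Q) → IsMapOn F Q g →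
    ∀ P' : Subgroup Ω, IsImage g P P' → (∀ x ∈ P, g' (g x) = x) → IsMapOn E P' (fun y => g (f (g' y)))

theorem StrongInv.autInv (hTS : T ≤ S) (h : StrongInv E F) : AutInv E F := by
  intro P f hPT hf α hα P' hP'
  exact h P T f (fn α) (fn α⁻¹) hPT le_rfl hf (fun x hx => hf.mem_S hx) (isMapOn_fn hTS hα) P' hP'
    (fun x hx => fn_inv_fn α (hPT hx))

variable [Finite S] {p : ℕ} [hp : Fact p.Prime]

/-- `Aut_E(R)` is normal in `Aut_F(R)` under strong invariance. -/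
theorem normal_of_strongInv (h : StrongInv E F) {R : Subgroup Ω} (hRT : R ≤ T) (hRS : R ≤ S) :
    ((E.autGroup R).subgroupOf (F.autGroup R)).Normal := by
  constructor
  rintro ⟨κ, hκF⟩ hκ ⟨β, hβ⟩
  have hκE : κ ∈ E.autGroup R := hκ
  have h1 := h R R (fn κ) (fn β) (fn β⁻¹) le_rfl hRT (isMapOn_fn hRT hκE) (fun x hx => fn_mem κ hx) (isMapOn_fn hRS hβ) R
    (isImage_fn β) (fun x hx => fn_inv_fn β hx)
  have him : IsImage (fun y => fn β (fn κ (fn β⁻¹ y))) R R :=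
    ((isImage_fn β⁻¹).comp (isImage_fn κ)).comp (isImage_fn β)
  obtain ⟨c, hc, hcv⟩ := exists_aut_of_map h1 him
  have e : β * κ * β⁻¹ = c := by
    apply fn_ext
    intro x hx
    rw [hcv x hx, fn_mul _ _ hx, fn_mul _ _ (fn_mem _ hx)]
  show β * κ * β⁻¹ ∈ E.autGroup R
  rw [e]
  exact hc

/-- **The Frattini condition follows from strong invariance.** -/
theorem fr_of_strong (hS : IsPGroup p S) (hF : F.IsSaturated p) (hEF : E.IsSubsystemOf F) (hT : F.StronglyClosed T)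
    (h : StrongInv E F) : ∀ P : Subgroup Ω, P ≤ T → ∀ f : Ω → Ω, IsMapOn F P f → Fr E F P f := by
  have hTS : T ≤ S := hT.1
  have hinv := h.autInv hTS
  haveI : Finite T := finite_of_le hTS
  have hpT : IsPGroup p T := hS.to_le hTS
  intro P
  induction' hn : Nat.card T - Nat.card P using Nat.strong_induction_on with n ih generalizing P
  intro hPT
  have hcardT : ∀ X : Subgroup Ω, X ≤ T → Nat.card X ≤ Nat.card T := fun X hX => card_le_card_S (S := T) hX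
  have ih' : ∀ X : Subgroup Ω, X ≤ T → Nat.card P < Nat.card X → ∀ f : Ω → Ω, IsMapOn F X f → Fr E F X f := by
    intro X hXT hlt
    have h1 := hcardT X hXT
    have h2 := hcardT P hPT
    exact ih _ (by omega) X rfl hXT
  have hE_in_F : ∀ {X : Subgroup Ω} {f : Ω → Ω}, IsMapOn E X f → IsMapOn F X f := by
    rintro X f ⟨φ, hφ, hv⟩
    exact ⟨φ, hEF X hφ, hv⟩
  -- automorphisms of a fully normalized subgroup of the same order
  have hstep1 : ∀ R : Subgroup Ω, R ≤ T → Nat.card R = Nat.card P → F.IsFullyNormalized R →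
      ∀ ν ∈ F.autGroup R, Fr E F R (fn ν) := by
    intro R hRT hcard hRn ν hν
    have hRS := hRT.trans hTS
    by_cases hRe : R = T
    · subst hRe
      exact fr_of_aut le_rfl hν
    have hlt : R < T := lt_of_le_of_ne hRT hRe
    obtain ⟨haut, hrec⟩ : F.IsFullyAutomized p R ∧ F.IsReceptive R :=
      ⟨(fullyNormalized_spec hS hF hRn).2, receptive_of_fullyNormalized hS hF hRn⟩
    obtain ⟨-, B, hB⟩ := haut
    haveI hK := normal_of_strongInv h hRT hRS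
    obtain ⟨κ, hκ, μ, hμ, hνe⟩ := exists_mul_normalizer_inf ((E.autGroup R).subgroupOf (F.autGroup R)) B ⟨ν, hν⟩
    have hκE : (κ : MulAut R) ∈ E.autGroup R := hκ
    -- `μ` extends to `N_T(R)`
    have hN : ∀ g ∈ normalizerIn T R, g ∈ S ∧ g ∈ Subgroup.normalizer (R : Set Ω) ∧
        ∃ k ∈ S, ∀ x ∈ R, fn (μ : MulAut R) (g * x * g⁻¹) = k * fn (μ : MulAut R) x * k⁻¹ := by
      intro g hg
      have hgS : g ∈ S := hTS hg.1
      have hgn := hg.2
      refine ⟨hgS, hgn, ?_⟩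
      have hc₁ : autOfNormalizer hgn ∈ F.autGroup R := autOfNormalizer_mem_autGroup hRS ⟨hgS, hgn⟩
      have hc₂ : autOfNormalizer hgn ∈ E.autGroup R := autOfNormalizer_mem_autGroup hRT ⟨hg.1, hgn⟩
      have hmem : (⟨autOfNormalizer hgn, hc₁⟩ : F.autGroup R) ∈
          ((B : Subgroup (F.autGroup R)) ⊓ (E.autGroup R).subgroupOf (F.autGroup R)) := by
        refine ⟨?_, hc₂⟩
        rw [hB]
        exact autOfNormalizer_mem_autInducedBy hgn hgS
      have h1 := (Subgroup.mem_normalizer_iff.1 hμ _).1 hmem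
      have h2 := h1.1
      rw [hB] at h2
      obtain ⟨k, hk, hkv⟩ := mem_autInducedBy_iff.1 h2
      refine ⟨k, hk, fun x hx => ?_⟩
      have h3 := hkv ((μ : MulAut R) ⟨x, hx⟩)
      have h4 : ((((μ : F.autGroup R) * ⟨autOfNormalizer hgn, hc₁⟩ * (μ : F.autGroup R)⁻¹ : F.autGroup R) : MulAut R) ((μ : MulAut R) ⟨x, hx⟩) : R) =
          (μ : MulAut R) (autOfNormalizer hgn ⟨x, hx⟩) := by
        show (μ : MulAut R) (autOfNormalizer hgn ((μ : MulAut R)⁻¹ ((μ : MulAut R) ⟨x, hx⟩))) = _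
        simp
      have h3' : (((μ : MulAut R) (autOfNormalizer hgn ⟨x, hx⟩) : R) : Ω) = k * (((μ : MulAut R) ⟨x, hx⟩ : R) : Ω) * k⁻¹ := by
        rw [← h4]
        exact h3
      rw [fn_of_mem _ hx, fn_of_mem _ (conj_mem_of_normalizer hgn hx)]
      exact h3'
    have hRN : R ≤ normalizerIn T R := fun x hx => ⟨hRT hx, Subgroup.le_normalizer hx⟩
    obtain ⟨f', hf', hf'v⟩ := (isMapOn_fn hRS μ.2).exists_ext hrec (isImage_fn (μ : MulAut R)) hRN hN
    have hXT : normalizerIn T R ≤ T := inf_le_left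
    have hRlt : R < normalizerIn T R := by
      obtain ⟨g, hg, hgR⟩ := exists_mem_normalizerIn_not_mem hpT hlt
      refine lt_of_le_of_ne hRN (fun he => hgR ?_)
      rw [he]
      exact hg
    have hcl := card_lt_of_lt hRlt hXT
    have hfr₁ : Fr E F R (fn (μ : MulAut R)) :=
      ((ih' _ hXT (by omega) f' hf').mono hRN).congr hf'v
    have hfr₂ : Fr E F R (fn (κ : MulAut R)) := fr_of_map (isMapOn_fn hRT hκE)
    have hcomp := Fr.comp hTS hinv hfr₁ hfr₂ (fun x hx => fn_mem _ hx)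
    refine hcomp.congr (fun x hx => ?_)
    have e : ν = (κ : MulAut R) * (μ : MulAut R) := congrArg Subtype.val hνe
    rw [e, fn_mul _ _ hx]
  -- maps into a fully normalized subgroup
  have hup : ∀ Z : Subgroup Ω, Z ≤ T → Nat.card Z = Nat.card P → ∀ R₁ : Subgroup Ω, F.IsFullyNormalized R₁ → F.IsConj Z R₁ →
      ∃ u, IsMapOn F Z u ∧ IsImage u Z R₁ ∧ Fr E F Z u := by
    intro Z hZT hcard R₁ hR₁ hconj
    obtain ⟨φ, hφ, -, hmap⟩ := exists_ext_of_fullyNormalized hS hF hR₁ hconj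
    have hZN : Z ≤ normalizerIn S Z := fun x hx => ⟨hZT.trans hTS hx, Subgroup.le_normalizer hx⟩
    have hm := isMapOn_toFun hφ
    have him : IsImage (toFun φ) Z R₁ := by
      intro y
      rw [← hmap]
      constructor
      · rintro ⟨x, hx, rfl⟩
        exact ⟨x, hx, toFun_coe φ x⟩
      · rintro ⟨x, hx, rfl⟩
        exact ⟨⟨x, hZN hx⟩, hx, (toFun_of_mem φ (hZN hx)).symm⟩
    refine ⟨toFun φ, hm.mono hZN, him, ?_⟩
    by_cases hZe : Z = T
    · subst hZe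
      have hR₁T : R₁ = Z := by
        apply eq_of_le_of_card_le (S := S)
        · intro y hy
          obtain ⟨x, hx, rfl⟩ := him.exists_of_mem hy
          obtain ⟨φ₁, hφ₁, hv₁⟩ := hm.mono hZN
          rw [← hv₁ ⟨x, hx⟩]
          exact hT.2 _ le_rfl φ₁ hφ₁ ⟨x, hx⟩
        · exact hTS
        · exact (IsImage.card_eq hm hZN him).le
      subst hR₁T
      obtain ⟨c, hc, hcv⟩ := exists_aut_of_map (hm.mono hZN) him
      exact (fr_of_aut le_rfl hc).congr hcv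
    · have hlt : Z < T := lt_of_le_of_ne hZT hZe
      have hZX : Z ≤ normalizerIn T Z := fun x hx => ⟨hZT hx, Subgroup.le_normalizer hx⟩
      have hXN : normalizerIn T Z ≤ normalizerIn S Z := fun x hx => ⟨hTS hx.1, hx.2⟩
      have hXT : normalizerIn T Z ≤ T := inf_le_left
      have hZlt : Z < normalizerIn T Z := by
        obtain ⟨g, hg, hgR⟩ := exists_mem_normalizerIn_not_mem hpT hlt
        refine lt_of_le_of_ne hZX (fun he => hgR ?_)
        rw [he]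
        exact hg
      have hcl := card_lt_of_lt hZlt hXT
      exact (ih' _ hXT (by omega) _ (hm.mono hXN)).mono hZX
  -- the general map
  intro f hf
  obtain ⟨R, hR⟩ := hf.exists_image le_rfl
  have hPc := hf.isConj hR
  have hRT : R ≤ T := by
    intro y hy
    obtain ⟨x, hx, rfl⟩ := hR.exists_of_mem hy
    obtain ⟨φ₁, hφ₁, hv₁⟩ := hf
    rw [← hv₁ ⟨x, hx⟩]
    exact hT.2 _ hPT φ₁ hφ₁ ⟨x, hx⟩
  have hRcard : Nat.card R = Nat.card P := (IsImage.card_eq hf le_rfl hR).symm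
  obtain ⟨R₁, hRR₁, hR₁⟩ := exists_fullyNormalized_conj (F := F) (hRT.trans hTS)
  have hPR₁ : F.IsConj P R₁ := isConj_trans hPc hRR₁
  obtain ⟨u, hu, huR, hfu⟩ := hup P hPT rfl R₁ hR₁ hPR₁
  obtain ⟨u', hu', hu'R, hfu'⟩ := hup R hRT hRcard R₁ hR₁ hRR₁
  obtain ⟨uinv, huinv, huinvi, huinvl, huinvr⟩ := hu.exists_inv huR
  obtain ⟨uinv', huinv', huinvi', huinvl', huinvr'⟩ := hu'.exists_inv hu'R
  -- `w = u' f u⁻¹ ∈ Aut_F(R₁)`
  have hw : IsMapOn F R₁ (fun y => u' (f (uinv y))) :=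
    (huinv.comp hf (fun y hy => huinvi.mem hy)).comp hu' (fun y hy => hR.mem (huinvi.mem hy))
  have hwi : IsImage (fun y => u' (f (uinv y))) R₁ R₁ := (huinvi.comp hR).comp hu'R
  obtain ⟨c, hc, hcv⟩ := exists_aut_of_map hw hwi
  have hR₁T : R₁ ≤ T := by
    intro y hy
    obtain ⟨x, hx, rfl⟩ := huR.exists_of_mem hy
    obtain ⟨φ₁, hφ₁, hv₁⟩ := hu
    rw [← hv₁ ⟨x, hx⟩]
    exact hT.2 _ hPT φ₁ hφ₁ ⟨x, hx⟩
  have hR₁card : Nat.card R₁ = Nat.card P := (IsImage.card_eq hu le_rfl huR).symm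
  have hf1 := hstep1 R₁ hR₁T hR₁card hR₁ c hc
  have hf2 : Fr E F R₁ uinv' := hfu'.inv hTS hinv hu'R huinvl'
  have hf3 := Fr.comp hTS hinv hfu hf1 (fun x hx => huR.mem hx)
  have hf4 := Fr.comp hTS hinv hf3 hf2 (fun x hx => fn_mem _ (huR.mem hx))
  refine hf4.congr (fun x hx => ?_)
  show uinv' (fn c (u x)) = f x
  rw [hcv _ (huR.mem hx), huinvl x hx, huinvl' _ (hR.mem hx)]

end Cfsg.Agent.Lib.Fusion
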