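import Cfsg.Agent.Lib.Fusion.QdStr
import Cfsg.Agent.Lib.PGroups.Coset

/-!
# Recognising `Qd(p)` as a section
-/

set_option autoImplicit false
set_option linter.unusedSectionVars false
set_option linter.style.haveILetI false

namespace Cfsg.Agent.Lib.Fusion.Qd

open Cfsg Cfsg.FusionSystem Cfsg.Agent.Lib.Fusion

theorem involves_of_surj {Y D : Type*} [Group Y] [Group D] (W : Subgroup Y) (ψ : W →* D) (hψ : Function.Surjective ψ) : Involves D Y := by
  let L : Subgroup Y := ψ.ker.map W.subtype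
  have hLe : L.subgroupOf W = ψ.ker := by
    rw [Subgroup.subgroupOf]
    exact Subgroup.comap_map_eq_self_of_injective W.subtype_injective _
  have hLn : (L.subgroupOf W).Normal := by
    rw [hLe]
    infer_instance
  exact ⟨W, L, hLn, ⟨(QuotientGroup.quotientMulEquivOfEq hLe).trans (QuotientGroup.quotientKerEquivOfSurjective ψ hψ)⟩⟩

variable {p : ℕ} [hpf : Fact p.Prime]

/-- A group acting on a normal `p`-section as `Qd(p)` does on its translations involves `Qd(p)`, for odd `p`. -/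
theorem recog (hp : p ≠ 2) {D A Y : Type*} [Group D] [Group A] [Group Y] [Finite Y] (st : QdStr p D A)
    (R : Subgroup Y) [hRn : R.Normal] (hRp : IsPGroup p R) (f : Y →* A) (hf : Function.Surjective f)
    (e : R →* D) (he1 : ∀ r, st.q (e r) = 1) (he2 : ∀ d, st.q d = 1 → ∃ r, e r = d)
    (hc : ∀ (y : Y) (r : R), e ⟨y * r * y⁻¹, hRn.conj_mem _ r.2 y⟩ = st.s (f y) * e r * (st.s (f y))⁻¹) :
    Involves D Y := by
  classical
  have hpp : p.Prime := hpf.out
  -- `f` kills `R`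
  have hfR : ∀ r : R, f r = 1 := by
    intro r
    have h1 : st.s (f r) ∈ st.q.ker := st.cent _ (fun v hv => by
      obtain ⟨u, rfl⟩ := he2 v hv
      have h1 := hc r u
      have h2 : (⟨(r : Y) * u * (r : Y)⁻¹, hRn.conj_mem _ u.2 r⟩ : R) = r * u * r⁻¹ := rfl
      rw [h2, map_mul, map_mul, map_inv] at h1
      have h3 := st.comm _ (he1 r) _ (he1 u)
      rw [h3, mul_inv_cancel_right] at h1
      rw [eq_mul_inv_iff_mul_eq] at h1
      exact h1.symm)
    have h2 := st.qs (f r)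
    rw [MonoidHom.mem_ker.1 h1] at h2
    exact h2.symm
  -- the preimage of `⟨z⟩`
  have hzn : (Subgroup.zpowers st.z).Normal := by
    constructor
    intro n hn g
    obtain ⟨k, rfl⟩ := Subgroup.mem_zpowers_iff.1 hn
    have hcomm : Commute g st.z := st.z_central g
    have : g * st.z ^ k * g⁻¹ = st.z ^ k := by
      rw [(hcomm.zpow_right k).eq, mul_inv_cancel_right]
    rw [this]
    exact Subgroup.zpow_mem_zpowers _ _
  let M₁ : Subgroup Y := (Subgroup.zpowers st.z).comap f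
  haveI hM₁ : M₁.Normal := hzn.comap f
  have hzo : ∃ k : ℕ, orderOf st.z = 2 ^ k := by
    have h1 : orderOf st.z ∣ 2 ^ 1 := orderOf_dvd_of_pow_eq_one (by rw [pow_one, pow_two, st.z_two])
    obtain ⟨k, -, hk⟩ := (Nat.dvd_prime_pow Nat.prime_two).1 h1
    exact ⟨k, hk⟩
  haveI : Fact (Nat.Prime 2) := ⟨Nat.prime_two⟩
  obtain ⟨t, htz, k, htk⟩ := Cfsg.Agent.Lib.PGroups.exists_pElement_lift f hf hzo
  have htM : t ∈ M₁ := by
    show f t ∈ Subgroup.zpowers st.z
    rw [htz]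
    exact Subgroup.mem_zpowers _
  let τ : M₁ := ⟨t, htM⟩
  have hτ : IsPGroup 2 (Subgroup.zpowers τ) := by
    rw [IsPGroup.iff_card, Nat.card_zpowers]
    refine ⟨k, ?_⟩
    rw [Subgroup.orderOf_mk]
    exact htk
  obtain ⟨P₂, hP₂⟩ := hτ.exists_le_sylow
  let S₂ : Subgroup Y := (P₂ : Subgroup M₁).map M₁.subtype
  have hS₂p : IsPGroup 2 S₂ := P₂.isPGroup'.map _
  have htS : t ∈ S₂ := ⟨τ, hP₂ (Subgroup.mem_zpowers _), rfl⟩
  let L₁ : Subgroup Y := Subgroup.normalizer (S₂ : Set Y)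
  have hS₂L : S₂ ≤ L₁ := Subgroup.le_normalizer
  have htop : L₁ ⊔ M₁ = ⊤ := Sylow.normalizer_sup_eq_top P₂
  -- `f` maps `L₁` onto `A`
  have hfL : ∀ a : A, ∃ l ∈ L₁, f l = a := by
    intro a
    obtain ⟨y, rfl⟩ := hf a
    have hy : y ∈ L₁ ⊔ M₁ := by
      rw [htop]
      trivial
    obtain ⟨l, hl, m, hm, rfl⟩ := exists_mul_of_mem_sup (G := M₁) (U := L₁) (by
      rw [Subgroup.normalizer_eq_top M₁]
      exact le_top) hy
    obtain ⟨j, hj⟩ := Subgroup.mem_zpowers_iff.1 (show f m ∈ _ from hm)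
    refine ⟨l * t ^ j, L₁.mul_mem hl (L₁.zpow_mem (hS₂L htS) j), ?_⟩
    rw [map_mul, map_mul, map_zpow, htz, hj]
  -- `e` kills `R ∩ L₁`
  have heR : ∀ u : R, (u : Y) ∈ L₁ → e u = 1 := by
    intro u hu
    have h1 : (u : Y) * t * (u : Y)⁻¹ * t⁻¹ ∈ S₂ := S₂.mul_mem ((Subgroup.mem_normalizer_iff.1 hu t).1 htS) (S₂.inv_mem htS)
    have h2 : (u : Y) * t * (u : Y)⁻¹ * t⁻¹ ∈ R := by
      have : (u : Y) * t * (u : Y)⁻¹ * t⁻¹ = u * (t * (u : Y)⁻¹ * t⁻¹) := by group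
      rw [this]
      exact R.mul_mem u.2 (hRn.conj_mem _ (R.inv_mem u.2) t)
    have hd : Disjoint S₂ R := IsPGroup.disjoint_of_ne 2 p (Ne.symm hp) S₂ R hS₂p hRp
    have h3 : (u : Y) * t * (u : Y)⁻¹ * t⁻¹ = 1 := by
      have := (Subgroup.disjoint_def.1 hd) h1 h2
      exact this
    have hcomm : t * u * t⁻¹ = u := by
      have h4 : (u : Y) * t * (u : Y)⁻¹ = t := by
        rwa [mul_inv_eq_one] at h3
      calc t * u * t⁻¹ = ((u : Y) * t * (u : Y)⁻¹) * u * t⁻¹ := by rw [h4]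
        _ = u := by group
    have h5 := hc t u
    rw [htz] at h5
    have h6 : (⟨t * u * t⁻¹, hRn.conj_mem _ u.2 t⟩ : R) = u := Subtype.ext hcomm
    rw [h6, st.inv _ (he1 u)] at h5
    -- `e u` has order dividing two and is a `p`-element
    obtain ⟨m, hm⟩ := st.pgroup ⟨e u, he1 u⟩
    have h7 : e u ^ p ^ m = 1 := congrArg Subtype.val hm
    have h8 : e u ^ 2 = 1 := by
      rw [pow_two]
      nth_rewrite 1 [h5]
      exact inv_mul_cancel _
    have h9 : orderOf (e u) ∣ Nat.gcd (p ^ m) 2 := Nat.dvd_gcd (orderOf_dvd_of_pow_eq_one h7) (orderOf_dvd_of_pow_eq_one h8)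
    have h10 : Nat.gcd (p ^ m) 2 = 1 := by
      apply Nat.Coprime.pow_left
      exact (Nat.coprime_primes hpp Nat.prime_two).2 hp
    rw [h10] at h9
    exact orderOf_eq_one_iff.1 (Nat.dvd_one.1 h9)
  -- the map on `L₁ R`
  let W : Subgroup Y := L₁ ⊔ R
  have hdec : ∀ w : W, ∃ (l : Y) (r : R), l ∈ L₁ ∧ l * r = w := by
    rintro ⟨w, hw⟩
    obtain ⟨l, hl, r, hr, rfl⟩ := exists_mul_of_mem_sup (G := R) (U := L₁) (by
      rw [Subgroup.normalizer_eq_top R]
      exact le_top) hw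
    exact ⟨l, ⟨r, hr⟩, hl, rfl⟩
  choose ll rr hll hllr using hdec
  let ψf : W → D := fun w => st.s (f (ll w)) * e (rr w)
  have hψf : ∀ (w : W) (l : Y) (r : R), l ∈ L₁ → l * r = w → ψf w = st.s (f l) * e r := by
    intro w l r hl hlr
    have h1 : (l)⁻¹ * ll w = r * ((rr w : R) : Y)⁻¹ := by
      have h2 := hllr w
      rw [← hlr] at h2
      have h3 : ll w = l * r * ((rr w : R) : Y)⁻¹ := by
        rw [← h2]
        group
      rw [h3]
      group
    have h4 : ((r * (rr w)⁻¹ : R) : Y) ∈ L₁ := by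
      show (r : Y) * ((rr w : R) : Y)⁻¹ ∈ L₁
      rw [← h1]
      exact L₁.mul_mem (L₁.inv_mem hl) (hll w)
    have h5 := heR _ h4
    rw [map_mul, map_inv, mul_inv_eq_one] at h5
    have h6 : f (l⁻¹ * ll w) = 1 := by
      rw [h1]
      have := hfR (r * (rr w)⁻¹)
      exact this
    rw [map_mul, map_inv, inv_mul_eq_one] at h6
    show st.s (f (ll w)) * e (rr w) = _
    rw [← h6, ← h5]
  have hmul : ∀ a b : W, ψf (a * b) = ψf a * ψf b := by
    intro a b
    have h1 := hllr a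
    have h2 := hllr b
    have hmemr : ((ll b)⁻¹ * ((rr a : R) : Y) * ll b) ∈ R := by
      have := hRn.conj_mem _ (rr a).2 (ll b)⁻¹
      simpa using this
    let r' : R := ⟨(ll b)⁻¹ * ((rr a : R) : Y) * ll b, hmemr⟩
    have h3 : ψf (a * b) = st.s (f (ll a * ll b)) * e (r' * rr b) := by
      apply hψf _ _ _ (L₁.mul_mem (hll a) (hll b))
      show ll a * ll b * (((ll b)⁻¹ * ((rr a : R) : Y) * ll b) * (rr b : R)) = ((a * b : W) : Y)
      rw [Subgroup.coe_mul, ← h1, ← h2]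
      group
    have h4 : e r' = (st.s (f (ll b)))⁻¹ * e (rr a) * st.s (f (ll b)) := by
      have h5 := hc (ll b)⁻¹ (rr a)
      have h6 : (⟨(ll b)⁻¹ * ((rr a : R) : Y) * ((ll b)⁻¹)⁻¹, hRn.conj_mem _ (rr a).2 (ll b)⁻¹⟩ : R) = r' := Subtype.ext (by
        show (ll b)⁻¹ * ((rr a : R) : Y) * ((ll b)⁻¹)⁻¹ = (ll b)⁻¹ * ((rr a : R) : Y) * ll b
        rw [inv_inv])
      rw [h6] at h5
      rw [h5, map_inv, map_inv, inv_inv]
    rw [h3, map_mul, map_mul, map_mul, h4]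
    show _ = (st.s (f (ll a)) * e (rr a)) * (st.s (f (ll b)) * e (rr b))
    group
  let ψ : W →* D := MonoidHom.mk' ψf hmul
  refine involves_of_surj W ψ (fun d => ?_)
  obtain ⟨l, hl, hla⟩ := hfL (st.q d)
  have hq : st.q ((st.s (st.q d))⁻¹ * d) = 1 := by
    rw [map_mul, map_inv, st.qs, inv_mul_cancel]
  obtain ⟨r, hr⟩ := he2 _ hq
  refine ⟨⟨l * r, W.mul_mem (Subgroup.mem_sup_left hl) (Subgroup.mem_sup_right r.2)⟩, ?_⟩
  show ψf _ = d
  rw [hψf _ l r hl rfl, hla, hr]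
  group

end Cfsg.Agent.Lib.Fusion.Qd
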