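import Cfsg.Agent.Lib.Fusion.QdGroup
import Cfsg.Agent.Lib.Fusion.QdFactor2
import Cfsg.Agent.Lib.Fusion.NormalGroup

/-!
# Sections and normalizers of `p`-subgroups: a maximal `p`-subgroup whose normalizer has a given section
-/

set_option autoImplicit false
set_option linter.unusedSectionVars false
set_option linter.style.haveILetI false

namespace Cfsg.Agent.Lib.Fusion.Qd

open Cfsg Cfsg.FusionSystem Cfsg.Agent.Lib.Fusion

universe v

variable {G : Type*} [Group G] {D A : Type v} [Group D] [Group A]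

/-- The section condition inside a subgroup. -/
def SecIn (D : Type*) [Group D] (K : Subgroup G) : Prop :=
  ∃ (H : Subgroup G) (π : H →* D), H ≤ K ∧ Function.Surjective π

omit [Group A] in
theorem secIn_of_involves {K : Subgroup G} (h : Involves D K) : SecIn D K := by
  obtain ⟨K₁, R₁, hn, ⟨e⟩⟩ := h
  let eH : K₁ ≃* ↥(K₁.map K.subtype) := K₁.equivMapOfInjective K.subtype K.subtype_injective
  refine ⟨K₁.map K.subtype, e.toMonoidHom.comp ((QuotientGroup.mk' _).comp eH.symm.toMonoidHom), Subgroup.map_subtype_le _, ?_⟩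
  exact e.surjective.comp ((QuotientGroup.mk'_surjective _).comp eH.symm.surjective)

omit [Group A] in
theorem involves_of_secIn {K : Subgroup G} (h : SecIn D K) : Involves D K := by
  obtain ⟨H, π, hH, hπ⟩ := h
  let e := Subgroup.subgroupOfEquivOfLe hH
  exact involves_of_surj (H.subgroupOf K) (π.comp e.toMonoidHom) (hπ.comp e.surjective)

omit [Group A] in
theorem SecIn.mono {K K' : Subgroup G} (hKK' : K ≤ K') (h : SecIn D K) : SecIn D K' := by
  obtain ⟨H, π, hH, hπ⟩ := h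
  exact ⟨H, π, hH.trans hKK', hπ⟩

omit [Group A] in
theorem secIn_cj {K : Subgroup G} (g : G) (h : SecIn D K) : SecIn D (cj g K) := by
  obtain ⟨H, π, hH, hπ⟩ := h
  let e : H ≃* ↥(cj g H) := H.equivMapOfInjective _ (MulAut.conj g).injective
  exact ⟨cj g H, π.comp e.symm.toMonoidHom, Subgroup.map_mono hH, hπ.comp e.symm.surjective⟩

section finite

variable [Finite G] {p : ℕ} [hpf : Fact p.Prime]

omit hpf in
theorem mem_normalizer_of_conj {A : Subgroup G} {g : G} (h : ∀ x ∈ A, g * x * g⁻¹ ∈ A) : g ∈ Subgroup.normalizer (A : Set G) :=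
  mem_normalizer_of_finite h

omit hpf in
theorem normalizer_le_normalizer_centralizer (X : Subgroup G) :
    Subgroup.normalizer (X : Set G) ≤ Subgroup.normalizer ((Subgroup.centralizer (X : Set G) : Subgroup G) : Set G) := by
  intro n hn
  apply mem_normalizer_of_conj
  intro c hc
  rw [Subgroup.mem_centralizer_iff]
  intro x hx
  have h1 := Subgroup.mem_centralizer_iff.1 hc (n⁻¹ * x * n) (by
    have := (Subgroup.mem_normalizer_iff.1 (Subgroup.inv_mem _ hn)) x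
    simp only [inv_inv] at this
    exact this.1 hx)
  have e1 : x * (n * c * n⁻¹) = n * ((n⁻¹ * x * n) * c) * n⁻¹ := by group
  have e2 : n * c * n⁻¹ * x = n * (c * (n⁻¹ * x * n)) * n⁻¹ := by group
  rw [e1, e2, h1]

omit hpf in
theorem sup_le_normalizer {A B : Subgroup G} {g : G} (h₁ : g ∈ Subgroup.normalizer (A : Set G)) (h₂ : g ∈ Subgroup.normalizer (B : Set G)) :
    g ∈ Subgroup.normalizer ((A ⊔ B : Subgroup G) : Set G) := by
  apply mem_normalizer_of_conj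
  have : A ⊔ B ≤ (A ⊔ B).comap (MulAut.conj g).toMonoidHom := by
    refine sup_le (fun x hx => ?_) (fun x hx => ?_)
    · exact Subgroup.mem_sup_left ((Subgroup.mem_normalizer_iff.1 h₁ x).1 hx)
    · exact Subgroup.mem_sup_right ((Subgroup.mem_normalizer_iff.1 h₂ x).1 hx)
  exact fun x hx => this hx

omit hpf [Finite G] in
/-- A homomorphism on `H` killing `H ∩ C` extends to `HC`. -/
theorem exists_lift_sup {H C : Subgroup G} {B : Type*} [Group B] (hHC : H ≤ Subgroup.normalizer (C : Set G)) (g : H →* B)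
    (hg : ∀ h : H, (h : G) ∈ C → g h = 1) :
    ∃ θ : ↥(H ⊔ C) →* B, (∀ h : H, θ ⟨h, Subgroup.mem_sup_left h.2⟩ = g h) ∧ (∀ c (hc : c ∈ C), θ ⟨c, Subgroup.mem_sup_right hc⟩ = 1) := by
  haveI hn : (C.subgroupOf (H ⊔ C)).Normal :=
    Subgroup.normal_subgroupOf_of_le_normalizer (sup_le hHC Subgroup.le_normalizer)
  let j : H →* ↥(H ⊔ C) ⧸ C.subgroupOf (H ⊔ C) := (QuotientGroup.mk' _).comp (Subgroup.inclusion le_sup_left)
  have hj : Function.Surjective j := by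
    intro y
    obtain ⟨⟨γ, hγ⟩, rfl⟩ := QuotientGroup.mk'_surjective _ y
    obtain ⟨h, hh, c, hc, rfl⟩ := exists_mul_of_mem_sup hHC hγ
    refine ⟨⟨h, hh⟩, ?_⟩
    show ((⟨h, _⟩ : ↥(H ⊔ C)) : ↥(H ⊔ C) ⧸ C.subgroupOf (H ⊔ C)) = _
    apply QuotientGroup.eq.2
    show _ ∈ C
    simpa using hc
  have hk : j.ker ≤ g.ker := by
    intro h hh
    rw [MonoidHom.mem_ker] at hh ⊢
    have h1 : (Subgroup.inclusion le_sup_left h : ↥(H ⊔ C)) ∈ C.subgroupOf (H ⊔ C) := (QuotientGroup.eq_one_iff _).1 hh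
    exact hg h h1
  obtain ⟨g', hg'⟩ := Cfsg.Agent.Lib.Fusion.Qd.exists_lift_hom j hj g hk
  refine ⟨g'.comp (QuotientGroup.mk' _), fun h => hg' h, fun c hc => ?_⟩
  show g' (QuotientGroup.mk' _ ⟨c, _⟩) = 1
  have : QuotientGroup.mk' (C.subgroupOf (H ⊔ C)) ⟨c, Subgroup.mem_sup_right hc⟩ = 1 := (QuotientGroup.eq_one_iff _).2 hc
  rw [this, map_one]

/-- Conjugation on `V` by `d` is conjugation by the `A`-part of `d`. -/
theorem QdStr.conj_eq (st : QdStr p D A) (d : D) {u : D} (hu : st.q u = 1) :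
    d * u * d⁻¹ = st.s (st.q d) * u * (st.s (st.q d))⁻¹ := by
  have hv : st.q ((st.s (st.q d))⁻¹ * d) = 1 := by
    rw [map_mul, map_inv, st.qs, inv_mul_cancel]
  have h1 := st.comm _ hv _ hu
  generalize st.s (st.q d) = s at h1
  have e1 : d * u * d⁻¹ = s * (s⁻¹ * d * u * (s⁻¹ * d)⁻¹) * s⁻¹ := by group
  have e2 : s⁻¹ * d * u * (s⁻¹ * d)⁻¹ = u := by
    rw [h1, mul_inv_cancel_right]
  rw [e1, e2]

/-- The existence of a section on a minimal subgroup. -/
theorem exists_minimal_section {K : Subgroup G} (h : SecIn D K) :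
    ∃ (H : Subgroup G) (π : H →* D), H ≤ K ∧ Function.Surjective π ∧
      ∀ H' : Subgroup H, (∀ d, ∃ h ∈ H', π h = d) → H' = ⊤ := by
  classical
  let 𝓗 := {H : Subgroup G // H ≤ K ∧ ∃ π : H →* D, Function.Surjective π}
  obtain ⟨H₀, π₀, hH₀, hπ₀⟩ := h
  haveI : Nonempty 𝓗 := ⟨⟨H₀, hH₀, π₀, hπ₀⟩⟩
  obtain ⟨⟨H, hHK, π, hπ⟩, hm⟩ := Finite.exists_min (fun H : 𝓗 => Nat.card (H.1 : Subgroup G))
  refine ⟨H, π, hHK, hπ, fun H' hH' => ?_⟩
  apply Subgroup.eq_top_of_card_eq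
  let e : H' ≃* ↥(H'.map H.subtype) := H'.equivMapOfInjective _ H.subtype_injective
  have hs : Function.Surjective (π.comp (H'.subtype.comp e.symm.toMonoidHom)) := by
    intro d
    obtain ⟨h, hh, he⟩ := hH' d
    refine ⟨e ⟨h, hh⟩, ?_⟩
    simp [he]
  have h1 := hm ⟨H'.map H.subtype, (Subgroup.map_subtype_le _).trans hHK, _, hs⟩
  have h2 : Nat.card H' ≤ Nat.card H := Subgroup.card_le_card_group _
  have h3 : Nat.card (H'.map H.subtype) = Nat.card H' := Subgroup.card_map_of_injective H.subtype_injective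
  simp only at h1
  omega

/-- **The main step**: if `X` is a maximal `p`-subgroup whose normalizer has a section `Qd(p)`, then `X` contains its
centralizer in a Sylow `p`-subgroup of its normalizer. -/
theorem centric_step (hp : p ≠ 2) (st : QdStr p D A) {X T : Subgroup G} (hXp : IsPGroup p X) (hXT : X ≤ T)
    (hTN : T ≤ Subgroup.normalizer (X : Set G)) (hTp : IsPGroup p T) (hT : SylowIn p T (Subgroup.normalizer (X : Set G)))
    (hsec : SecIn D (Subgroup.normalizer (X : Set G)))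
    (hmax : ∀ X' : Subgroup G, IsPGroup p X' → SecIn D (Subgroup.normalizer (X' : Set G)) → Nat.card X' ≤ Nat.card X) :
    T ⊓ Subgroup.centralizer (X : Set G) ≤ X := by
  classical
  obtain ⟨H, π, hHN, hπ, hmin⟩ := exists_minimal_section hsec
  set N := Subgroup.normalizer (X : Set G) with hN
  set C := Subgroup.centralizer (X : Set G) with hC
  have hCN : C ≤ N := Subgroup.centralizer_le_normalizer _
  have hNC : N ≤ Subgroup.normalizer (C : Set G) := normalizer_le_normalizer_centralizer X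
  have hXN : X ≤ N := Subgroup.le_normalizer
  set C₁ := X ⊔ C with hC₁
  have hC₁N : C₁ ≤ N := sup_le hXN hCN
  have hNC₁ : N ≤ Subgroup.normalizer (C₁ : Set G) := fun n hn => sup_le_normalizer hn (hNC hn)
  set Z := T ⊓ C₁ with hZ
  have hZC₁ : Z ≤ C₁ := inf_le_right
  have hXZ : X ≤ Z := le_inf hXT le_sup_left
  have hZp : IsPGroup p Z := hTp.to_le inf_le_left
  have hTCZ : T ⊓ C ≤ Z := inf_le_inf_left _ le_sup_right
  have hZN : X ≤ Subgroup.normalizer (Z : Set G) := hXZ.trans Subgroup.le_normalizer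
  -- `Z` is Sylow in `C₁`
  have hZS : SylowIn p Z C₁ := by
    refine sylowIn_of_forall_le hZC₁ hZp (fun U hZU hUC hU => ?_)
    obtain ⟨c, hc, hcU⟩ := hT.exists_conj hU (hUC.trans hC₁N)
    have h1 : cj c U ≤ C₁ := cj_le_iff.2 fun x hx => (Subgroup.mem_normalizer_iff.1 (hNC₁ hc) x).1 (hUC hx)
    have h2 : cj c U ≤ Z := le_inf hcU h1
    have h3 : Nat.card U ≤ Nat.card Z := by
      rw [← card_cj c U]
      exact Subgroup.card_le_of_le h2
    rw [Subgroup.eq_of_le_of_card_ge hZU h3]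
  -- Frattini
  have hF : ∀ n ∈ N, ∃ c ∈ C, ∃ n₁ ∈ N, n₁ ∈ Subgroup.normalizer (Z : Set G) ∧ c * n₁ = n := by
    intro n hn
    have h1 : cj n Z ≤ C₁ := cj_le_iff.2 fun x hx => (Subgroup.mem_normalizer_iff.1 (hNC₁ hn) x).1 (hZC₁ hx)
    obtain ⟨c₀, hc₀, hle⟩ := hZS.exists_conj (isPGroup_cj hZp n) h1
    have h2 : cj (c₀ * n) Z ≤ Z := by
      rw [cj_mul]
      exact hle
    have h3 : c₀ * n ∈ Subgroup.normalizer (Z : Set G) := mem_normalizer_of_conj (cj_le_iff.1 h2)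
    have h4 : c₀⁻¹ ∈ X ⊔ C := C₁.inv_mem hc₀
    obtain ⟨c, hc, x, hx, hcx⟩ := exists_mul_of_mem_sup (U := C) (G := X) hCN (by rwa [sup_comm] at h4)
    refine ⟨c, hc, x * (c₀ * n), N.mul_mem (hXN hx) (N.mul_mem (hC₁N hc₀) hn), Subgroup.mul_mem _ (hZN hx) h3, ?_⟩
    rw [← mul_assoc, ← mul_assoc, hcx]
    group
  -- the conclusion
  have hconcl : SecIn D (Subgroup.normalizer (Z : Set G)) → T ⊓ C ≤ X := by
    intro h
    have h1 := hmax Z hZp h
    rw [← Subgroup.eq_of_le_of_card_ge hXZ h1] at hTCZ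
    exact hTCZ
  -- the descended maps
  have hHC : H ≤ Subgroup.normalizer (C : Set G) := hHN.trans hNC
  have hdesc : ∀ {B : Type v} [Group B] (g : H →* B) (_ : Function.Surjective g) (θ : ↥(H ⊔ C) →* B)
      (_ : ∀ h : H, θ ⟨h, Subgroup.mem_sup_left h.2⟩ = g h) (_ : ∀ c (hc : c ∈ C), θ ⟨c, Subgroup.mem_sup_right hc⟩ = 1),
      Function.Surjective (θ.comp (Subgroup.inclusion (inf_le_left : (H ⊔ C) ⊓ Subgroup.normalizer (Z : Set G) ≤ H ⊔ C))) := by
    intro B _ g hg θ h1 h2 b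
    obtain ⟨h, rfl⟩ := hg b
    obtain ⟨c, hc, n₁, hn₁, hn₁Z, he⟩ := hF h (hHN h.2)
    have hn₁' : n₁ = c⁻¹ * h := by
      rw [← he]
      group
    have hmem : n₁ ∈ H ⊔ C := by
      rw [hn₁']
      exact Subgroup.mul_mem _ (Subgroup.mem_sup_right (C.inv_mem hc)) (Subgroup.mem_sup_left h.2)
    refine ⟨⟨n₁, hmem, hn₁Z⟩, ?_⟩
    show θ ⟨n₁, hmem⟩ = g h
    have e1 : (⟨n₁, hmem⟩ : ↥(H ⊔ C)) = ⟨c⁻¹, Subgroup.mem_sup_right (C.inv_mem hc)⟩ * ⟨h, Subgroup.mem_sup_left h.2⟩ := Subtype.ext hn₁'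
    rw [e1, map_mul, h2 _ (C.inv_mem hc), one_mul]
    exact h1 h
  by_cases hcase : ∀ h : H, (h : G) ∈ C → π h = 1
  · -- the section lives on `N / C`
    obtain ⟨θ, h1, h2⟩ := exists_lift_sup hHC π hcase
    exact hconcl ⟨_, _, inf_le_right, hdesc π hπ θ h1 h2⟩
  -- otherwise the centralizer covers `V`
  haveI hCH : (C.subgroupOf H).Normal := Subgroup.normal_subgroupOf_of_le_normalizer hHC
  have hJn : ((C.subgroupOf H).map π).Normal := Subgroup.Normal.map hCH π hπ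
  have hJ : (C.subgroupOf H).map π ≠ ⊥ := by
    intro h
    apply hcase
    intro h₀ hh₀
    have : π h₀ ∈ (C.subgroupOf H).map π := ⟨h₀, hh₀, rfl⟩
    rw [h] at this
    exact this
  have hV := st.minimal _ hJn hJ
  let V := st.q.ker
  let H₃ : Subgroup H := C.subgroupOf H ⊓ V.comap π
  haveI hH₃ : H₃.Normal := by
    haveI : (V.comap π).Normal := (MonoidHom.normal_ker st.q).comap π
    exact Subgroup.normal_inf_normal _ _
  let R' : Sylow p H₃ := (inferInstance : Nonempty (Sylow p H₃)).some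
  let ρ : H₃ →* V := (π.comp H₃.subtype).codRestrict V (fun h => h.2.2)
  have hρ : Function.Surjective ρ := by
    rintro ⟨v, hv⟩
    obtain ⟨h, hh, he⟩ := hV hv
    refine ⟨⟨h, hh, ?_⟩, Subtype.ext he⟩
    show π h ∈ V
    rw [he]
    exact hv
  have hRV : ∀ v ∈ V, ∃ r ∈ (R' : Subgroup H₃), π r = v := by
    intro v hv
    have hV' : IsPGroup p (⊤ : Subgroup V) := fun g => by
      obtain ⟨k, hk⟩ := st.pgroup g.1
      exact ⟨k, Subtype.ext hk⟩
    have h1 := (R'.mapSurjective hρ).3 hV' le_top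
    have h2 : (⟨v, hv⟩ : V) ∈ ((R'.mapSurjective hρ : Sylow p V) : Subgroup V) := by
      rw [← h1]
      trivial
    rw [Sylow.coe_mapSurjective] at h2
    obtain ⟨r, hr, he⟩ := h2
    exact ⟨r, hr, congrArg Subtype.val he⟩
  let R₃ : Subgroup H := (R' : Subgroup H₃).map H₃.subtype
  have hR₃top : Subgroup.normalizer (R₃ : Set H) ⊔ H₃ = ⊤ := Sylow.normalizer_sup_eq_top R'
  have hsurjN : ∀ d, ∃ h ∈ Subgroup.normalizer (R₃ : Set H), π h = d := by
    intro d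
    obtain ⟨h₀, rfl⟩ := hπ d
    have h1 : h₀ ∈ Subgroup.normalizer (R₃ : Set H) ⊔ H₃ := by
      rw [hR₃top]
      trivial
    obtain ⟨n, hn, m, hm, rfl⟩ := exists_mul_of_mem_sup (G := H₃) (U := Subgroup.normalizer (R₃ : Set H)) (by
      rw [Subgroup.normalizer_eq_top H₃]
      exact le_top) h1
    obtain ⟨r, hr, he⟩ := hRV (π m) hm.2
    refine ⟨n * (r : H), Subgroup.mul_mem _ hn (Subgroup.le_normalizer ⟨r, hr, rfl⟩), ?_⟩
    rw [map_mul, map_mul, he]
  have hR₃n : R₃.Normal := Subgroup.normalizer_eq_top_iff.1 (hmin _ hsurjN)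
  let R₄ : Subgroup G := R₃.map H.subtype
  have hR₄H : R₄ ≤ H := Subgroup.map_subtype_le _
  have hR₄C : R₄ ≤ C := by
    rintro _ ⟨_, ⟨r, -, rfl⟩, rfl⟩
    exact r.2.1
  have hR₄p : IsPGroup p R₄ := (R'.isPGroup'.map _).map _
  have hHR₄ : H ≤ Subgroup.normalizer (R₄ : Set G) := by
    intro h hh
    apply mem_normalizer_of_conj
    rintro _ ⟨r, hr, rfl⟩
    exact ⟨_, hR₃n.conj_mem _ hr ⟨h, hh⟩, rfl⟩
  have hXR₄p : IsPGroup p (X ⊔ R₄ : Subgroup G) := hXp.to_sup_of_normal_left' hR₄p (hR₄C.trans hCN)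
  have hHXR₄ : H ≤ Subgroup.normalizer ((X ⊔ R₄ : Subgroup G) : Set G) := fun h hh => sup_le_normalizer (hHN hh) (hHR₄ hh)
  have hR₄X : R₄ ≤ X := by
    have h1 := hmax _ hXR₄p ⟨H, π, hHXR₄, hπ⟩
    have h2 := Subgroup.eq_of_le_of_card_ge (le_sup_left : X ≤ X ⊔ R₄) h1
    rw [h2]
    exact le_sup_right
  -- the map to `A`
  let g : H →* A := st.q.comp π
  have hgs : Function.Surjective g := by
    intro a
    obtain ⟨h, hh⟩ := hπ (st.s a)
    exact ⟨h, by simp [g, hh, st.qs]⟩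
  have hgk : ∀ h : H, (h : G) ∈ C → g h = 1 := by
    intro h hh
    refine MonoidHom.mem_ker.1 (st.cent (π h) fun v hv => ?_)
    obtain ⟨r, hr, he⟩ := hRV v hv
    have hrX : ((r : H) : G) ∈ X := hR₄X ⟨_, ⟨r, hr, rfl⟩, rfl⟩
    have h1 := Subgroup.mem_centralizer_iff.1 hh _ hrX
    have h2 : (r : H) * h = h * (r : H) := Subtype.ext h1
    rw [← he, ← map_mul, ← map_mul, h2]
  obtain ⟨θ, hθ1, hθ2⟩ := exists_lift_sup hHC g hgk
  have hsurj := hdesc g hgs θ hθ1 hθ2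
  set H₀ := (H ⊔ C) ⊓ Subgroup.normalizer (Z : Set G) with hH₀
  have hR₄H₀ : R₄ ≤ H₀ := le_inf (hR₄H.trans le_sup_left) (hR₄X.trans hZN)
  have hH₀R₄ : H₀ ≤ Subgroup.normalizer (R₄ : Set G) := by
    refine inf_le_left.trans (sup_le hHR₄ ?_)
    intro c hc
    apply mem_normalizer_of_conj
    intro x hx
    have h1 := Subgroup.mem_centralizer_iff.1 hc x (hR₄X hx)
    have : c * x * c⁻¹ = x := by
      rw [← h1]
      group
    rwa [this]
  haveI hRn : (R₄.subgroupOf H₀).Normal := Subgroup.normal_subgroupOf_of_le_normalizer hH₀R₄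
  have hRp : IsPGroup p (R₄.subgroupOf H₀) := hR₄p.comap_subtype
  let j : (R₄.subgroupOf H₀) →* H :=
    { toFun := fun r => ⟨((r : H₀) : G), hR₄H r.2⟩
      map_one' := rfl
      map_mul' := fun _ _ => rfl }
  have hinv : Involves D H₀ := by
    refine recog hp st (R₄.subgroupOf H₀) hRp _ hsurj (π.comp j) ?_ ?_ ?_
    · rintro ⟨⟨r, hr₁⟩, hr₂⟩
      have hr₂' := hr₂
      obtain ⟨x, ⟨r', hr', hx⟩, hxr⟩ := hr₂
      have e1 : j ⟨⟨r, hr₁⟩, hr₂'⟩ = r' := Subtype.ext (by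
        show r = (((r' : H₃) : H) : G)
        have h1 : ((x : H) : G) = r := hxr
        rw [← h1, ← hx]
        rfl)
      show st.q (π (j ⟨⟨r, hr₁⟩, hr₂'⟩)) = 1
      rw [e1]
      exact r'.2.2
    · intro d hd
      obtain ⟨r, hr, he⟩ := hRV d hd
      have hr₄ : ((r : H) : G) ∈ R₄ := ⟨_, ⟨r, hr, rfl⟩, rfl⟩
      exact ⟨⟨⟨_, hR₄H₀ hr₄⟩, hr₄⟩, he⟩
    · rintro ⟨y, hy₁, hy₂⟩ ⟨⟨r, hr₁⟩, hr₂⟩
      obtain ⟨h, hh, c, hc, rfl⟩ := exists_mul_of_mem_sup hHC hy₁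
      have hrX : r ∈ X := hR₄X hr₂
      have hcr : c * r = r * c := (Subgroup.mem_centralizer_iff.1 hc r hrX).symm
      have hrH : r ∈ H := hR₄H hr₂
      have e1 : j ⟨(⟨h * c, hy₁, hy₂⟩ : H₀) * ⟨r, hr₁⟩ * (⟨h * c, hy₁, hy₂⟩ : H₀)⁻¹, hRn.conj_mem _ hr₂ _⟩
          = (⟨h, hh⟩ : H) * ⟨r, hrH⟩ * (⟨h, hh⟩ : H)⁻¹ := by
        apply Subtype.ext
        show h * c * r * (h * c)⁻¹ = h * r * h⁻¹
        rw [mul_assoc h c r, hcr]
        group
      have e2 : θ ⟨h * c, hy₁⟩ = g ⟨h, hh⟩ := by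
        have e3 : (⟨h * c, hy₁⟩ : ↥(H ⊔ C)) = ⟨h, Subgroup.mem_sup_left hh⟩ * ⟨c, Subgroup.mem_sup_right hc⟩ := rfl
        rw [e3, map_mul, hθ2 c hc, mul_one]
        exact hθ1 ⟨h, hh⟩
      show π (j _) = st.s (θ ⟨h * c, hy₁⟩) * π (j ⟨⟨r, hr₁⟩, hr₂⟩) * (st.s (θ ⟨h * c, hy₁⟩))⁻¹
      rw [e1, e2]
      have e4 : j ⟨⟨r, hr₁⟩, hr₂⟩ = ⟨r, hrH⟩ := rfl
      rw [e4, map_mul, map_mul, map_inv]
      have hu : st.q (π ⟨r, hrH⟩) = 1 := by
        obtain ⟨_, ⟨r', hr', rfl⟩, hrr⟩ := hr₂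
        have : (⟨r, hrH⟩ : H) = (r' : H) := Subtype.ext hrr.symm
        rw [this]
        exact r'.2.2
      exact st.conj_eq _ hu
  exact hconcl ((secIn_of_involves hinv).mono inf_le_right)

end finite

end Cfsg.Agent.Lib.Fusion.Qd
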