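import Cfsg.Agent.Lib.Fusion.QdGroup2
import Cfsg.Agent.Lib.Fusion.ZJ5

/-!
# `F_P(G)` is `Qd(p)`-free iff `G` does not involve `Qd(p)`, for odd `p`
-/

set_option autoImplicit false
set_option linter.unusedSectionVars false
set_option linter.style.haveILetI false

namespace Cfsg.Agent.Lib.Fusion.Qd

open Cfsg Cfsg.FusionSystem Cfsg.Agent.Lib.Fusion

universe u v

variable {G : Type u} [Group G] [Finite G] {D A : Type v} [Group D] [Group A] {p : ℕ} [hpf : Fact p.Prime]

omit [Finite G] hpf in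
theorem normalizerIn_le_normalizer (S Q : Subgroup G) : normalizerIn S Q ≤ Subgroup.normalizer (Q : Set G) := inf_le_right

omit [Finite G] hpf in
/-- The normalizer system in a group is realized by the normalizer. -/
theorem isRealizedBy_normalizer {S Q : Subgroup G} (hQ : Q ≤ S) {E : FusionSystem (normalizerIn S Q)}
    (hE : (groupFusionSystem S).IsNormalizerSystem Q E) :
    E.IsRealizedBy (Subgroup.inclusion (normalizerIn_le_normalizer S Q)) := by
  refine ⟨Subgroup.inclusion_injective _, fun R hR φ hφ => ?_⟩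
  rw [hE R]
  constructor
  · rintro ⟨-, -, -, ψ, ⟨-, -, g, hg⟩, hag, hmap⟩
    have hgn : g ∈ Subgroup.normalizer (Q : Set G) := by
      rw [Subgroup.mem_normalizer_iff]
      intro x
      constructor
      · intro hx
        have h1 : ψ ⟨x, Subgroup.mem_sup_right hx⟩ ∈ (Q.subgroupOf (R ⊔ Q)).map ψ := ⟨_, hx, rfl⟩
        rw [hmap, hg] at h1
        exact h1
      · intro hx
        rw [← hmap] at hx
        obtain ⟨⟨y, hy⟩, hy', he⟩ := hx
        rw [hg] at he
        have : y = x := by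
          have e2 : g * y * g⁻¹ = g * x * g⁻¹ := he
          simpa using e2
        rw [← this]
        exact hy'
    refine ⟨⟨g, hgn⟩, fun x => Subtype.ext ?_⟩
    show φ x = g * x * g⁻¹
    rw [← hag x, hg]
    rfl
  · rintro ⟨⟨g, hgn⟩, hg⟩
    have hφg : ∀ x : R, φ x = g * x * g⁻¹ := fun x => congrArg Subtype.val (hg x)
    have hRS : R ≤ S := hR.trans inf_le_left
    have hRQ : R ⊔ Q ≤ S := sup_le hRS hQ
    refine ⟨⟨hRS, fun x => (hφ x).1, g, hφg⟩, hR, hφ, conjHom (R ⊔ Q) g, ⟨hRQ, ?_, g, fun _ => rfl⟩, fun x => ?_, ?_⟩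
    · rintro ⟨x, hx⟩
      have hle : R ⊔ Q ≤ S.comap (MulAut.conj g).toMonoidHom := by
        refine sup_le (fun y hy => ?_) (fun y hy => ?_)
        · have := (hφ ⟨y, hy⟩).1
          rwa [hφg] at this
        · exact hQ ((Subgroup.mem_normalizer_iff.1 hgn y).1 hy)
      exact hle hx
    · exact (hφg x).symm
    · ext y
      constructor
      · rintro ⟨⟨x, hx⟩, hx', rfl⟩
        exact (Subgroup.mem_normalizer_iff.1 hgn x).1 hx'
      · intro hy
        have h1 : g⁻¹ * y * g ∈ Q := by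
          have := (Subgroup.mem_normalizer_iff.1 (Subgroup.inv_mem _ hgn)) y
          simp only [inv_inv] at this
          exact this.1 hy
        refine ⟨⟨_, Subgroup.mem_sup_right h1⟩, h1, ?_⟩
        show g * (g⁻¹ * y * g) * g⁻¹ = y
        group

omit hpf in
/-- Setting up a model from the normalizer. -/
theorem exists_model_normalizer (P : Sylow p G) [hpf : Fact p.Prime] {Q : Subgroup G} (hQ : Q ≤ P)
    (hS : SylowIn p (normalizerIn (P : Subgroup G) Q) (Subgroup.normalizer (Q : Set G)))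
    (hC : centralizerIn (P : Subgroup G) Q ≤ Q) {E : FusionSystem (normalizerIn (P : Subgroup G) Q)}
    (hE : (groupFusionSystem (P : Subgroup G)).IsNormalizerSystem Q E) :
    ∃ (N₂ : Subgroup (Subgroup.normalizer (Q : Set G))) (_ : N₂.Normal),
      E.IsModel p (↥(Subgroup.normalizer (Q : Set G)) ⧸ N₂)
        ((QuotientGroup.mk' N₂).comp (Subgroup.inclusion (normalizerIn_le_normalizer (P : Subgroup G) Q))) := by
  have hreal := isRealizedBy_normalizer hQ hE
  obtain ⟨R, hR⟩ := hS
  have hQT : Q ≤ normalizerIn (P : Subgroup G) Q := le_inf hQ Subgroup.le_normalizer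
  refine exists_model_quotient ((isPGroup_sylow P).to_le inf_le_left) hreal R ?_ hQT ?_ ?_
  · rw [hR]
    ext ⟨x, hx⟩
    constructor
    · intro h
      exact ⟨⟨x, h⟩, rfl⟩
    · rintro ⟨⟨y, hy⟩, he⟩
      have : y = x := congrArg Subtype.val he
      subst this
      exact hy
  · have : ((Q.subgroupOf (normalizerIn (P : Subgroup G) Q)).map (Subgroup.inclusion (normalizerIn_le_normalizer (P : Subgroup G) Q)))
        = Q.subgroupOf (Subgroup.normalizer (Q : Set G)) := by
      ext ⟨x, hx⟩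
      constructor
      · rintro ⟨⟨y, hy⟩, hy', he⟩
        have : y = x := congrArg Subtype.val he
        subst this
        exact hy'
      · intro h
        exact ⟨⟨x, hQT h⟩, h, rfl⟩
    rw [this]
    exact Subgroup.normal_in_normalizer
  · exact fun x hx => hC ⟨hx.1.1, hx.2⟩

/-- In the quotient by a normal subgroup without elements of order `p`. -/
theorem involves_quotient_of_coprime (st : QdStr p D A) {Y : Type*} [Group Y] [Finite Y] (N₂ : Subgroup Y) [hN : N₂.Normal]
    (hN₂ : ∀ y ∈ N₂, (orderOf y).Coprime p) (h : SecIn D (⊤ : Subgroup Y)) : Involves D (Y ⧸ N₂) := by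
  classical
  have hpp : p.Prime := hpf.out
  obtain ⟨H, π, -, hπ⟩ := h
  let ν : H →* ↥(H.map (QuotientGroup.mk' N₂)) := (QuotientGroup.mk' N₂).subgroupMap H
  have hν : Function.Surjective ν := (QuotientGroup.mk' N₂).subgroupMap_surjective H
  have hk : ν.ker ≤ π.ker := by
    intro h hh
    have hhN : (h : Y) ∈ N₂ := by
      rw [MonoidHom.mem_ker] at hh
      have : QuotientGroup.mk' N₂ (h : Y) = 1 := congrArg Subtype.val hh
      exact (QuotientGroup.eq_one_iff _).1 this
    haveI hn : (N₂.subgroupOf H).Normal := inferInstance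
    have hJn : ((N₂.subgroupOf H).map π).Normal := Subgroup.Normal.map hn π hπ
    by_contra hne
    have hJ : (N₂.subgroupOf H).map π ≠ ⊥ := by
      intro he
      apply hne
      have : π h ∈ (N₂.subgroupOf H).map π := ⟨h, hhN, rfl⟩
      rw [he] at this
      exact this
    have hV := st.minimal _ hJn hJ
    obtain ⟨⟨v, hv⟩, hv1⟩ := Subgroup.ne_bot_iff_exists_ne_one.1 st.ne_bot
    obtain ⟨h', hh', he⟩ := hV hv
    have h1 : (orderOf (h' : Y)).Coprime p := hN₂ _ hh'
    have h2 : orderOf v ∣ orderOf h' := by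
      rw [← he]
      exact orderOf_map_dvd _ _
    have h3 : orderOf h' = orderOf (h' : Y) := (Subgroup.orderOf_coe h').symm
    obtain ⟨k, hk⟩ := st.pgroup ⟨v, hv⟩
    have h4 : v ^ p ^ k = 1 := congrArg Subtype.val hk
    have h5 : orderOf v ∣ p ^ k := orderOf_dvd_of_pow_eq_one h4
    have h6 : orderOf v ∣ Nat.gcd (orderOf h') (p ^ k) := Nat.dvd_gcd h2 h5
    have h7 : Nat.gcd (orderOf h') (p ^ k) = 1 := by
      apply Nat.Coprime.pow_right
      rw [h3]
      exact h1
    rw [h7] at h6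
    apply hv1
    apply Subtype.ext
    exact orderOf_eq_one_iff.1 (Nat.dvd_one.1 h6)
  obtain ⟨π', hπ'⟩ := exists_lift_hom ν hν π hk
  refine involves_of_surj _ π' (fun d => ?_)
  obtain ⟨h, rfl⟩ := hπ d
  exact ⟨ν h, hπ' h⟩

omit [Finite G] hpf in
theorem secIn_top_of_involves (h : Involves D G) : SecIn D (⊤ : Subgroup G) := by
  obtain ⟨K, R, hn, ⟨e⟩⟩ := h
  exact ⟨K, e.toMonoidHom.comp (QuotientGroup.mk' _), le_top, e.surjective.comp (QuotientGroup.mk'_surjective _)⟩

/-- **`Qd(p)`-free fusion system implies `Qd(p)`-free group.** -/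
theorem not_involves_of_free (hp : p ≠ 2) (st : QdStr p D A) (P : Sylow p G)
    (hfree : (groupFusionSystem (P : Subgroup G)).IsSectionFree p D) : ¬ Involves D G := by
  classical
  intro hinv
  let 𝒳 := {X : Subgroup G // IsPGroup p X ∧ SecIn D (Subgroup.normalizer (X : Set G))}
  have h0 : SecIn D (Subgroup.normalizer ((⊥ : Subgroup G) : Set G)) := by
    rw [Subgroup.normalizer_eq_top (⊥ : Subgroup G)]
    exact secIn_top_of_involves hinv
  haveI : Nonempty 𝒳 := ⟨⟨⊥, IsPGroup.of_bot, h0⟩⟩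
  obtain ⟨⟨X₀, hX₀p, hX₀s⟩, hm⟩ := Finite.exists_max (fun X : 𝒳 => Nat.card (X.1 : Subgroup G))
  obtain ⟨g, hg⟩ := exists_cj_le_sylow P hX₀p
  obtain ⟨g', hg'le, hg'syl⟩ := exists_cj_sylowIn P hg
  obtain ⟨X, hX⟩ : ∃ X, X = cj g' (cj g X₀) := ⟨_, rfl⟩
  rw [← hX] at hg'le hg'syl
  have hcj : ∀ (g : G) (K : Subgroup G), SecIn D (Subgroup.normalizer (K : Set G)) → SecIn D (Subgroup.normalizer ((cj g K : Subgroup G) : Set G)) := by
    intro g K h
    exact (secIn_cj g h).mono (cj_le_iff.2 fun x hx => mem_normalizer_cj hx)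
  have hXp : IsPGroup p X := hX ▸ isPGroup_cj (isPGroup_cj hX₀p g) g'
  have hXs : SecIn D (Subgroup.normalizer (X : Set G)) := hX ▸ hcj _ _ (hcj _ _ hX₀s)
  have hcard : Nat.card X = Nat.card X₀ := by
    rw [hX, card_cj, card_cj]
  have hmax : ∀ X' : Subgroup G, IsPGroup p X' → SecIn D (Subgroup.normalizer (X' : Set G)) → Nat.card X' ≤ Nat.card X := by
    intro X' h1 h2
    rw [hcard]
    exact hm ⟨X', h1, h2⟩
  have hXT : X ≤ normalizerIn (P : Subgroup G) X := le_inf hg'le Subgroup.le_normalizer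
  have hcs := centric_step hp st hXp hXT inf_le_right ((isPGroup_sylow P).to_le inf_le_left) hg'syl hXs hmax
  have hfn := fullyNormalized_of_sylowIn_normalizer P hg'le hg'syl
  have hcent : centralizerIn (P : Subgroup G) X ≤ X := fun x hx =>
    hcs ⟨⟨hx.1, Subgroup.centralizer_le_normalizer _ hx.2⟩, hx.2⟩
  have hsat := isSaturated_gfs P
  have hC := ZJ.isCentric_of_centralizer_le (isPGroup_sylow P) hsat hfn hcent
  obtain ⟨E, hE⟩ := kSystem_normalizer (groupFusionSystem (P : Subgroup G)) hg'le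
  obtain ⟨N₂, hN₂, hmodel⟩ := exists_model_normalizer P hg'le hg'syl hcent hE
  apply hfree X hfn hC E hE _ _ hmodel
  have hinj := hmodel.2.1.1
  obtain ⟨R, hR⟩ := hg'syl
  refine involves_quotient_of_coprime st N₂ ?_ (by
    obtain ⟨H, π, hH, hπ⟩ := hXs
    exact ⟨_, π.comp (Subgroup.subgroupOfEquivOfLe hH).toMonoidHom, le_top, hπ.comp (MulEquiv.surjective _)⟩)
  -- `N₂` has no elements of order `p`
  intro y hy
  by_contra hnc
  have hpdvd : p ∣ orderOf y := by
    by_contra hnd
    exact hnc ((Nat.Coprime.symm ((Nat.Prime.coprime_iff_not_dvd hpf.out).2 hnd)))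
  have hz : orderOf (y ^ (orderOf y / p)) = p := orderOf_pow_orderOf_div (orderOf_pos y).ne' hpdvd
  set z := y ^ (orderOf y / p) with hzdef
  have hzN : z ∈ N₂ := N₂.pow_mem hy _
  have hzP : IsPGroup p (Subgroup.zpowers z) := by
    rw [IsPGroup.iff_card, Nat.card_zpowers, hz]
    exact ⟨1, (pow_one p).symm⟩
  obtain ⟨Q, hQ⟩ := hzP.exists_le_sylow
  obtain ⟨c, hc⟩ := MulAction.exists_smul_eq (↥(Subgroup.normalizer (X : Set G))) Q R
  have hmem : c * z * c⁻¹ ∈ (R : Subgroup _) := by
    rw [← hc, Sylow.coe_subgroup_smul]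
    exact Subgroup.mem_map_of_mem _ (hQ (Subgroup.mem_zpowers z))
  rw [hR] at hmem
  have hcz : c * z * c⁻¹ ∈ N₂ := hN₂.conj_mem _ hzN c
  let t : normalizerIn (P : Subgroup G) X := ⟨((c * z * c⁻¹ : _) : G), hmem⟩
  have ht : (QuotientGroup.mk' N₂).comp (Subgroup.inclusion (normalizerIn_le_normalizer (P : Subgroup G) X)) t = 1 := by
    show QuotientGroup.mk' N₂ (c * z * c⁻¹) = 1
    exact (QuotientGroup.eq_one_iff _).2 hcz
  have h1 : t = 1 := hinj (by rw [ht, map_one])
  have h2 : c * z * c⁻¹ = 1 := by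
    have h20 : ((t : normalizerIn (P : Subgroup G) X) : G) = 1 := by
      rw [h1]
      rfl
    exact Subtype.ext h20
  have h3 : z = 1 := by
    have : z = c⁻¹ * (c * z * c⁻¹) * c := by group
    rw [this, h2]
    group
  rw [h3, orderOf_one] at hz
  exact hpf.out.one_lt.ne hz

/-- **`Qd(p)`-free group implies `Qd(p)`-free fusion system.** -/
theorem free_of_not_involves (P : Sylow p G) (h : ¬ Involves D G) :
    (groupFusionSystem (P : Subgroup G)).IsSectionFree p D := by
  intro Q hQ hc E hE L _ ι hmodel hinv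
  have hS := isPGroup_sylow P
  have hF := isSaturated_gfs P
  have hsyl := sylowIn_normalizer_of_fullyNormalized P hQ.1 hQ
  have hcent : centralizerIn (P : Subgroup G) Q ≤ Q := hc.2 Q (isConj_refl hQ.1)
  obtain ⟨N₂, hN₂, hM⟩ := exists_model_normalizer P hQ.1 hsyl hcent hE
  haveI : Finite (normalizerIn (P : Subgroup G) Q) := inferInstance
  have hcons : E.IsConstrained p := ⟨isSaturated_normalizerSystem hS hF hQ hE, Q, isNormal_normalizerSystem hQ.1 hE, isCentric_normalizerSystem hc hE⟩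
  obtain ⟨φ, -⟩ := exists_iso_of_models (hS.to_le inf_le_left) hcons hmodel hM
  exact h (involves_of_subgroup _ (involves_of_quotient N₂ (involves_of_equiv φ hinv)))

end Cfsg.Agent.Lib.Fusion.Qd
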