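import Cfsg.Agent.Lib.Fusion.QdBasic
import Cfsg.Agent.Lib.KnownSimple.QdLocal

/-!
# The structure of `Qd(p)`
-/

set_option autoImplicit false
set_option linter.unusedSectionVars false
set_option linter.style.haveILetI false

namespace Cfsg.Agent.Lib.Fusion.Qd

open Cfsg Cfsg.FusionSystem Cfsg.Agent.Lib.Fusion

/-- The features of `Qd(p)` that are used: the split extension `V.A`, the central involution of `A`
inverting `V`, and the fact that `V` is self-centralizing and the unique minimal normal subgroup. -/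
structure QdStr (p : ℕ) (D A : Type*) [Group D] [Group A] where
  q : D →* A
  s : A →* D
  qs : ∀ a, q (s a) = a
  z : A
  z_central : ∀ a, a * z = z * a
  z_two : z * z = 1
  inv : ∀ v ∈ q.ker, s z * v * (s z)⁻¹ = v⁻¹
  comm : ∀ v ∈ q.ker, ∀ w ∈ q.ker, v * w = w * v
  pgroup : IsPGroup p q.ker
  cent : ∀ d, (∀ v ∈ q.ker, d * v = v * d) → d ∈ q.ker
  minimal : ∀ J : Subgroup D, J.Normal → J ≠ ⊥ → q.ker ≤ J
  ne_bot : q.ker ≠ ⊥

section concrete

variable {p : ℕ} [hpf : Fact p.Prime]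

local notation "M3" => Matrix (Fin 3) (Fin 3) (ZMod p)
local notation "M2" => Matrix (Fin 2) (Fin 2) (ZMod p)
local notation "SL2" => Matrix.SpecialLinearGroup (Fin 2) (ZMod p)
local notation "SL3" => Matrix.SpecialLinearGroup (Fin 3) (ZMod p)

theorem mem_qd_iff {M : SL3} : M ∈ qd p ↔ (M : M3) 2 0 = 0 ∧ (M : M3) 2 1 = 0 ∧ (M : M3) 2 2 = 1 :=
  ⟨Cfsg.Agent.Lib.KnownSimple.qd_lastRow M, fun h => Subgroup.subset_closure h⟩

theorem qd_mul_apply (M N : qd p) (i j : Fin 3) :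
    (((M * N : qd p) : SL3) : M3) i j = ((M : SL3) : M3) i 0 * ((N : SL3) : M3) 0 j + ((M : SL3) : M3) i 1 * ((N : SL3) : M3) 1 j
      + ((M : SL3) : M3) i 2 * ((N : SL3) : M3) 2 j := by
  show (((M : SL3) : M3) * ((N : SL3) : M3)) i j = _
  rw [Matrix.mul_apply, Fin.sum_univ_three]

theorem sl2_mul_apply (a b : SL2) (i j : Fin 2) :
    ((a * b : SL2) : M2) i j = (a : M2) i 0 * (b : M2) 0 j + (a : M2) i 1 * (b : M2) 1 j := by
  show ((a : M2) * (b : M2)) i j = _
  rw [Matrix.mul_apply, Fin.sum_univ_two]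

/-- The linear part of an element of `Qd(p)`. -/
noncomputable def qdQ : qd p →* SL2 where
  toFun M := ⟨!![((M : SL3) : M3) 0 0, ((M : SL3) : M3) 0 1; ((M : SL3) : M3) 1 0, ((M : SL3) : M3) 1 1], by
    obtain ⟨h20, h21, h22⟩ := mem_qd_iff.1 M.2
    have h := (M : SL3).2
    rw [Matrix.det_fin_three, h20, h21, h22] at h
    rw [Matrix.det_fin_two_of]
    linear_combination h⟩
  map_one' := by
    apply Subtype.ext
    ext i j
    fin_cases i <;> fin_cases j <;> simp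
  map_mul' M N := by
    obtain ⟨h20, h21, h22⟩ := mem_qd_iff.1 N.2
    apply Subtype.ext
    ext i j
    refine Eq.trans ?_ (sl2_mul_apply _ _ i j).symm
    fin_cases i <;> fin_cases j
    · show ((M * N : qd p) : SL3).1 0 0 = ((M : SL3) : M3) 0 0 * ((N : SL3) : M3) 0 0 + ((M : SL3) : M3) 0 1 * ((N : SL3) : M3) 1 0
      rw [qd_mul_apply, h20]
      ring
    · show ((M * N : qd p) : SL3).1 0 1 = ((M : SL3) : M3) 0 0 * ((N : SL3) : M3) 0 1 + ((M : SL3) : M3) 0 1 * ((N : SL3) : M3) 1 1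
      rw [qd_mul_apply, h21]
      ring
    · show ((M * N : qd p) : SL3).1 1 0 = ((M : SL3) : M3) 1 0 * ((N : SL3) : M3) 0 0 + ((M : SL3) : M3) 1 1 * ((N : SL3) : M3) 1 0
      rw [qd_mul_apply, h20]
      ring
    · show ((M * N : qd p) : SL3).1 1 1 = ((M : SL3) : M3) 1 0 * ((N : SL3) : M3) 0 1 + ((M : SL3) : M3) 1 1 * ((N : SL3) : M3) 1 1
      rw [qd_mul_apply, h21]
      ring

theorem qdQ_apply (M : qd p) (i j : Fin 2) : ((qdQ M : SL2) : M2) i j = ((M : SL3) : M3) (Fin.castLE (by omega) i) (Fin.castLE (by omega) j) := by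
  fin_cases i <;> fin_cases j <;> rfl

theorem qd_ext {M N : qd p} (h : ∀ i j, ((M : SL3) : M3) i j = ((N : SL3) : M3) i j) : M = N := by
  apply Subtype.ext
  apply Subtype.ext
  ext i j
  exact h i j

/-- The section. -/
noncomputable def qdSf (A : SL2) : qd p :=
  ⟨⟨!![(A : M2) 0 0, (A : M2) 0 1, 0; (A : M2) 1 0, (A : M2) 1 1, 0; 0, 0, 1], by
      have h := A.2
      rw [Matrix.det_fin_two] at h
      rw [Matrix.det_fin_three]
      simp only [Matrix.of_apply, Matrix.cons_val', Matrix.cons_val_zero, Matrix.cons_val_one,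
        Matrix.cons_val, Matrix.cons_val_fin_one]
      linear_combination h⟩, by
    apply mem_qd_iff.2
    refine ⟨?_, ?_, ?_⟩ <;> simp⟩

theorem qdSf_apply (A : SL2) : ((qdSf A : SL3) : M3) = !![(A : M2) 0 0, (A : M2) 0 1, 0; (A : M2) 1 0, (A : M2) 1 1, 0; 0, 0, 1] := rfl

/-- The section. -/
noncomputable def qdS : SL2 →* qd p where
  toFun := qdSf
  map_one' := by
    apply qd_ext
    intro i j
    rw [qdSf_apply]
    fin_cases i <;> fin_cases j <;> simp
  map_mul' A B := by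
    apply qd_ext
    intro i j
    rw [qd_mul_apply, qdSf_apply, qdSf_apply, qdSf_apply, sl2_mul_apply, sl2_mul_apply, sl2_mul_apply, sl2_mul_apply]
    fin_cases i <;> fin_cases j <;> simp

theorem qdS_apply (A : SL2) : ((qdS A : SL3) : M3) = !![(A : M2) 0 0, (A : M2) 0 1, 0; (A : M2) 1 0, (A : M2) 1 1, 0; 0, 0, 1] := rfl

theorem qdQ_qdS (A : SL2) : qdQ (qdS A) = A := by
  apply Subtype.ext
  ext i j
  rw [qdQ_apply, qdS_apply]
  fin_cases i <;> fin_cases j <;> simp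

/-- Translations. -/
noncomputable def qdT (a b : ZMod p) : qd p :=
  ⟨⟨!![1, 0, a; 0, 1, b; 0, 0, 1], by
    rw [Matrix.det_fin_three]
    simp⟩, by
    apply mem_qd_iff.2
    refine ⟨?_, ?_, ?_⟩ <;> simp⟩

theorem qdT_apply (a b : ZMod p) : ((qdT a b : SL3) : M3) = !![1, 0, a; 0, 1, b; 0, 0, 1] := rfl

theorem qdT_mul (a b c d : ZMod p) : qdT a b * qdT c d = qdT (a + c) (b + d) := by
  apply qd_ext
  intro i j
  rw [qd_mul_apply]
  simp only [qdT_apply]
  fin_cases i <;> fin_cases j <;> simp [add_comm]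

theorem qdT_zero : qdT (0 : ZMod p) 0 = 1 := by
  apply qd_ext
  intro i j
  simp only [qdT_apply]
  fin_cases i <;> fin_cases j <;> simp

theorem qdT_inv (a b : ZMod p) : (qdT a b)⁻¹ = qdT (-a) (-b) := by
  rw [inv_eq_iff_mul_eq_one, qdT_mul, add_neg_cancel, add_neg_cancel, qdT_zero]

theorem mem_ker_qdQ {M : qd p} : M ∈ (qdQ (p := p)).ker ↔ ∃ a b, M = qdT a b := by
  rw [MonoidHom.mem_ker]
  constructor
  · intro h
    refine ⟨((M : SL3) : M3) 0 2, ((M : SL3) : M3) 1 2, ?_⟩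
    have h00 : ((M : SL3) : M3) 0 0 = 1 := by
      have h' : ((qdQ M : SL2) : M2) 0 0 = ((M : SL3) : M3) 0 0 := rfl
      rw [h] at h'
      simpa using h'.symm
    have h01 : ((M : SL3) : M3) 0 1 = 0 := by
      have h' : ((qdQ M : SL2) : M2) 0 1 = ((M : SL3) : M3) 0 1 := rfl
      rw [h] at h'
      simpa using h'.symm
    have h10 : ((M : SL3) : M3) 1 0 = 0 := by
      have h' : ((qdQ M : SL2) : M2) 1 0 = ((M : SL3) : M3) 1 0 := rfl
      rw [h] at h'
      simpa using h'.symm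
    have h11 : ((M : SL3) : M3) 1 1 = 1 := by
      have h' : ((qdQ M : SL2) : M2) 1 1 = ((M : SL3) : M3) 1 1 := rfl
      rw [h] at h'
      simpa using h'.symm
    obtain ⟨h20, h21, h22⟩ := mem_qd_iff.1 M.2
    apply qd_ext
    intro i j
    simp only [qdT_apply]
    fin_cases i <;> fin_cases j <;> simp [h00, h01, h10, h11, h20, h21, h22]
  · rintro ⟨a, b, rfl⟩
    apply Subtype.ext
    ext i j
    rw [qdQ_apply, qdT_apply]
    fin_cases i <;> fin_cases j <;> simp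

/-- Conjugation of a translation by a general element. -/
theorem conj_qdT (M : qd p) (a b : ZMod p) :
    M * qdT a b * M⁻¹ = qdT (((M : SL3) : M3) 0 0 * a + ((M : SL3) : M3) 0 1 * b) (((M : SL3) : M3) 1 0 * a + ((M : SL3) : M3) 1 1 * b) := by
  rw [mul_inv_eq_iff_eq_mul]
  obtain ⟨h20, h21, h22⟩ := mem_qd_iff.1 M.2
  apply qd_ext
  intro i j
  rw [qd_mul_apply, qd_mul_apply]
  simp only [qdT_apply]
  fin_cases i <;> fin_cases j <;> simp [h20, h21, h22] <;> ring

theorem qdT_inj {a b c d : ZMod p} (h : qdT a b = qdT c d) : a = c ∧ b = d := by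
  have h1 := congrArg (fun M : qd p => ((M : SL3) : M3) 0 2) h
  have h2 := congrArg (fun M : qd p => ((M : SL3) : M3) 1 2) h
  simp only [qdT_apply] at h1 h2
  simpa using And.intro h1 h2

theorem qdT_pow (a b : ZMod p) (n : ℕ) : qdT a b ^ n = qdT ((n : ZMod p) * a) ((n : ZMod p) * b) := by
  induction n with
  | zero => simp [qdT_zero]
  | succ n ih =>
    rw [pow_succ, ih, qdT_mul]
    congr 1 <;> push_cast <;> ring

/-- The central involution of `SL₂`. -/
noncomputable def qdZ : SL2 :=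
  ⟨!![-1, 0; 0, -1], by
    rw [Matrix.det_fin_two_of]
    ring⟩

theorem qdZ_apply : (qdZ : SL2).1 = !![-1, 0; 0, -1] := rfl

theorem conj_qdS_qdZ (a b : ZMod p) : qdS (qdZ (p := p)) * qdT a b * (qdS (qdZ (p := p)))⁻¹ = (qdT a b)⁻¹ := by
  rw [conj_qdT, qdT_inv]
  have e : ∀ i j, ((qdS (qdZ (p := p)) : SL3) : M3) i j = (!![(-1 : ZMod p), 0, 0; 0, -1, 0; 0, 0, 1] : M3) i j := by
    intro i j
    show ((qdSf (qdZ (p := p)) : SL3) : M3) i j = _
    rw [qdSf_apply, qdZ_apply]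
    fin_cases i <;> fin_cases j <;> simp
  simp only [e]
  simp

/-- A non-zero vector of `F_p²` is the first column of an element of `SL₂`. -/
theorem exists_sl2_col {a b : ZMod p} (h : ¬ (a = 0 ∧ b = 0)) : ∃ A : SL2, (A : M2) 0 0 = a ∧ (A : M2) 1 0 = b := by
  by_cases ha : a = 0
  · have hb : b ≠ 0 := fun hb => h ⟨ha, hb⟩
    refine ⟨⟨!![a, -b⁻¹; b, 0], ?_⟩, rfl, rfl⟩
    rw [Matrix.det_fin_two_of]
    field_simp
    ring
  · refine ⟨⟨!![a, 0; b, a⁻¹], ?_⟩, rfl, rfl⟩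
    rw [Matrix.det_fin_two_of]
    field_simp
    ring

theorem qdS_entries (A : SL2) (a b : ZMod p) :
    qdS A * qdT a b * (qdS A)⁻¹ = qdT ((A : M2) 0 0 * a + (A : M2) 0 1 * b) ((A : M2) 1 0 * a + (A : M2) 1 1 * b) := by
  rw [conj_qdT]
  show qdT (((qdSf A : SL3) : M3) 0 0 * a + ((qdSf A : SL3) : M3) 0 1 * b) (((qdSf A : SL3) : M3) 1 0 * a + ((qdSf A : SL3) : M3) 1 1 * b) = _
  rw [qdSf_apply]
  simp

/-- Transitivity on translations. -/
theorem qdT_one_of_mem {J : Subgroup (qd p)} (hJ : J.Normal) {a b : ZMod p} (hab : ¬ (a = 0 ∧ b = 0)) (h : qdT a b ∈ J) :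
    qdT 1 0 ∈ J := by
  obtain ⟨A, h1, h2⟩ := exists_sl2_col hab
  have h3 := hJ.conj_mem _ h (qdS A⁻¹)
  rw [qdS_entries] at h3
  have h4 : ((A⁻¹ : SL2) : M2) * (A : M2) = 1 := congrArg Subtype.val (inv_mul_cancel A)
  have h5 := congrFun (congrFun h4 0) 0
  have h6 := congrFun (congrFun h4 1) 0
  rw [Matrix.mul_apply, Fin.sum_univ_two, h1, h2] at h5 h6
  simp only [Matrix.one_apply_eq] at h5
  rw [Matrix.one_apply_ne (by decide)] at h6
  rwa [h5, h6] at h3

theorem qdT_mem_of_one {J : Subgroup (qd p)} (hJ : J.Normal) (h : qdT 1 0 ∈ J) (a b : ZMod p) : qdT a b ∈ J := by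
  by_cases hab : a = 0 ∧ b = 0
  · rw [hab.1, hab.2, qdT_zero]
    exact J.one_mem
  obtain ⟨A, h1, h2⟩ := exists_sl2_col hab
  have h3 := hJ.conj_mem _ h (qdS A)
  rw [qdS_entries] at h3
  simpa [h1, h2] using h3

/-- `Qd(p)`, `p` odd. -/
noncomputable def qdStr (hp : p ≠ 2) : QdStr p (qd p) SL2 where
  q := qdQ
  s := qdS
  qs := qdQ_qdS
  z := qdZ
  z_central := by
    intro a
    apply Subtype.ext
    ext i j
    refine Eq.trans (sl2_mul_apply _ _ i j) (Eq.trans ?_ (sl2_mul_apply _ _ i j).symm)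
    rw [qdZ_apply]
    fin_cases i <;> fin_cases j <;> simp
  z_two := by
    apply Subtype.ext
    ext i j
    refine Eq.trans (sl2_mul_apply _ _ i j) ?_
    rw [qdZ_apply]
    fin_cases i <;> fin_cases j <;> simp
  inv := by
    intro v hv
    obtain ⟨a, b, rfl⟩ := mem_ker_qdQ.1 hv
    exact conj_qdS_qdZ a b
  comm := by
    intro v hv w hw
    obtain ⟨a, b, rfl⟩ := mem_ker_qdQ.1 hv
    obtain ⟨c, d, rfl⟩ := mem_ker_qdQ.1 hw
    rw [qdT_mul, qdT_mul, add_comm a, add_comm b]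
  pgroup := by
    rintro ⟨v, hv⟩
    obtain ⟨a, b, rfl⟩ := mem_ker_qdQ.1 hv
    refine ⟨1, Subtype.ext ?_⟩
    show qdT a b ^ p ^ 1 = 1
    rw [pow_one, qdT_pow]
    simp [qdT_zero]
  cent := by
    intro d hd
    have h1 := hd (qdT 1 0) (mem_ker_qdQ.2 ⟨1, 0, rfl⟩)
    have h2 := hd (qdT 0 1) (mem_ker_qdQ.2 ⟨0, 1, rfl⟩)
    rw [← mul_inv_eq_iff_eq_mul, conj_qdT] at h1 h2
    obtain ⟨h3, h4⟩ := qdT_inj h1
    obtain ⟨h5, h6⟩ := qdT_inj h2
    simp only [mul_one, mul_zero, add_zero, zero_add] at h3 h4 h5 h6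
    rw [MonoidHom.mem_ker]
    apply Subtype.ext
    ext i j
    show ((qdQ d : SL2) : M2) i j = _
    rw [qdQ_apply]
    fin_cases i <;> fin_cases j <;> simp [h3, h4, h5, h6]
  minimal := by
    intro J hJ hne
    have hkey : ∃ a b : ZMod p, ¬ (a = 0 ∧ b = 0) ∧ qdT a b ∈ J := by
      obtain ⟨j, hj, hj1⟩ : ∃ j ∈ J, j ≠ 1 := by
        obtain ⟨x, hx⟩ := Subgroup.ne_bot_iff_exists_ne_one.1 hne
        exact ⟨(x : qd p), x.2, fun h => hx (Subtype.ext h)⟩
      by_cases hq : j ∈ (qdQ (p := p)).ker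
      · obtain ⟨a, b, rfl⟩ := mem_ker_qdQ.1 hq
        refine ⟨a, b, ?_, hj⟩
        rintro ⟨rfl, rfl⟩
        exact hj1 qdT_zero
      · -- `j` moves a vector
        have : ∃ a b : ZMod p, qdT (((j : SL3) : M3) 0 0 * a + ((j : SL3) : M3) 0 1 * b) (((j : SL3) : M3) 1 0 * a + ((j : SL3) : M3) 1 1 * b) ≠ qdT a b := by
          by_contra hcon
          push Not at hcon
          apply hq
          have h1 := hcon 1 0
          have h2 := hcon 0 1
          obtain ⟨h3, h4⟩ := qdT_inj h1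
          obtain ⟨h5, h6⟩ := qdT_inj h2
          simp only [mul_one, mul_zero, add_zero, zero_add] at h3 h4 h5 h6
          rw [MonoidHom.mem_ker]
          apply Subtype.ext
          ext i j
          show ((qdQ _ : SL2) : M2) i j = _
          rw [qdQ_apply]
          fin_cases i <;> fin_cases j <;> simp [h3, h4, h5, h6]
        obtain ⟨a, b, hne⟩ := this
        rw [← conj_qdT] at hne
        have h1 : j * qdT a b * j⁻¹ * (qdT a b)⁻¹ ∈ J := by
          have : j * qdT a b * j⁻¹ * (qdT a b)⁻¹ = j * (qdT a b * j⁻¹ * (qdT a b)⁻¹) := by group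
          rw [this]
          exact J.mul_mem hj (hJ.conj_mem _ (J.inv_mem hj) _)
        rw [conj_qdT, qdT_inv, qdT_mul] at h1
        refine ⟨_, _, ?_, h1⟩
        rintro ⟨h2, h3⟩
        apply hne
        rw [conj_qdT]
        congr 1
        · linear_combination h2
        · linear_combination h3
    obtain ⟨a, b, hab, hmem⟩ := hkey
    have h1 := qdT_one_of_mem hJ hab hmem
    intro v hv
    obtain ⟨c, d, rfl⟩ := mem_ker_qdQ.1 hv
    exact qdT_mem_of_one hJ h1 c d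
  ne_bot := by
    intro h
    have h1 : qdT (1 : ZMod p) 0 ∈ (qdQ (p := p)).ker := mem_ker_qdQ.2 ⟨1, 0, rfl⟩
    rw [h, Subgroup.mem_bot, ← qdT_zero] at h1
    have := (qdT_inj h1).1
    exact one_ne_zero this

end concrete

end Cfsg.Agent.Lib.Fusion.Qd
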