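/-
Residual limits: uniqueness, and limits of subsystems of `p`-power index.
-/
import Cfsg.Agent.Lib.Fusion.PIndexNormal
import Cfsg.Prelude.Def_FusionReduction

set_option autoImplicit false
set_option linter.unusedSectionVars false
set_option linter.style.haveILetI false

namespace Cfsg.Agent.Lib.Fusion

open Cfsg Cfsg.FusionSystem

variable {Ω : Type*} [Group Ω] {p : ℕ} [hp : Fact p.Prime]

omit hp in
theorem pprime_eq_of_hom_eq {T₁ T₂ : Subgroup Ω} (hT : T₁ = T₂) {A : FusionSystem T₁} {B : FusionSystem T₂} (hAB : ∀ P, A.Hom P = B.Hom P)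
    {A' : FusionSystem T₁} {B' : FusionSystem T₂} (hA' : A.IsPPrimeResidual p A') (hB' : B.IsPPrimeResidual p B') : ∀ P, A'.Hom P = B'.Hom P := by
  subst hT
  obtain rfl : A = B := fusionSystem_ext hAB
  intro P
  exact Set.Subset.antisymm (hA'.2.2 B' hB'.1 hB'.2.1 P) (hB'.2.2 A' hA'.1 hA'.2.1 P)

omit hp in
/-- The `p'`-residual of a system which is its own `p'`-residual. -/
theorem pprime_eq_self {T S : Subgroup Ω} (hT : T = S) {D D' : FusionSystem T} {F : FusionSystem S} (hDF : ∀ P, D.Hom P = F.Hom P)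
    (hD' : D.IsPPrimeResidual p D') (hF' : F.IsPPrimeResidual p F) : ∀ P, D'.Hom P = F.Hom P := by
  subst hT
  obtain rfl : D = F := fusionSystem_ext hDF
  intro P
  exact Set.Subset.antisymm (hD'.2.2 _ hF'.1 hF'.2.1 P) (hF'.2.2 D' hD'.1 hD'.2.1 P)

theorem self_hasPPowerIndex {S : Subgroup Ω} (F : FusionSystem S) (hF : F.IsSaturated p) [Finite S] : F.HasPPowerIndexIn F p := by
  refine ⟨fun P => le_rfl, hyp_le_S, ?_⟩
  rintro P hP _ ⟨α, -, rfl⟩
  exact α.2

omit hp in
theorem stable_limit {T₂ : Subgroup Ω} {Y : FusionSystem T₂} {S₂ : Subgroup Ω} {G : FusionSystem S₂} (hY : Y.IsResidualLimitOf G p) :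
    p.Prime → ∀ {S₁ : Subgroup Ω} {F : FusionSystem S₁} [Finite S₁], IsPGroup p S₁ → F.hyperfocalSubgroup p = S₁ → F.IsPPrimeResidual p F → S₁ = S₂ →
      (∀ P, F.Hom P = G.Hom P) → T₂ = S₁ ∧ ∀ P, Y.Hom P = F.Hom P := by
  induction hY with
  | stable G p' hG1 hG2 =>
    intro _ S₁ F _ hS hst hF' h12 hFG
    exact ⟨h12.symm, fun P => (hFG P).symm⟩
  | step G p' D D' hD hD' hlim ih =>
    intro hpp S₁ F _ hS hst hF' h12 hFG
    haveI : Fact p'.Prime := ⟨hpp⟩
    subst h12
    obtain rfl : F = G := fusionSystem_ext hFG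
    have hDF : ∀ P, D.Hom P = F.Hom P := hom_eq_of_pPowerIndex hS hst hD.1 hF'.1 hD.2 (self_hasPPowerIndex F hF'.1)
    have hD'F := pprime_eq_self hst hDF hD' hF'
    exact ih hpp hS hst hF' hst.symm (fun P => (hD'F P).symm)

omit hp in
theorem limit_unique {T₁ : Subgroup Ω} {X : FusionSystem T₁} {S : Subgroup Ω} {F : FusionSystem S} (hX : X.IsResidualLimitOf F p) :
    p.Prime → ∀ [Finite S], IsPGroup p S → ∀ {T₂ : Subgroup Ω} {Y : FusionSystem T₂}, Y.IsResidualLimitOf F p → T₁ = T₂ ∧ ∀ P, X.Hom P = Y.Hom P := by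
  induction hX with
  | stable F p' hF1 hF2 =>
    intro hpp _ hS T₂ Y hY
    obtain ⟨h1, h2⟩ := stable_limit hY hpp hS hF1 hF2 rfl (fun _ => rfl)
    exact ⟨h1.symm, fun P => (h2 P).symm⟩
  | step F p' D D' hD hD' hlim ih =>
    intro hpp _ hS T₂ Y hY
    haveI : Fact p'.Prime := ⟨hpp⟩
    cases hY with
    | stable _ _ hF1 hF2 =>
      exact stable_limit (IsResidualLimitOf.step F _ D D' hD hD' hlim) hpp hS hF1 hF2 rfl (fun _ => rfl)
    | step _ _ D₂ D₂' hD₂ hD₂' hlim₂ =>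
      have hDD : ∀ P, D.Hom P = D₂.Hom P := hom_eq_of_pPowerIndex hS rfl hD.1 hD₂.1 hD.2 hD₂.2
      obtain rfl : D = D₂ := fusionSystem_ext hDD
      have hDD' := pprime_eq_of_hom_eq rfl (fun _ => rfl) hD' hD₂'
      obtain rfl : D' = D₂' := fusionSystem_ext hDD'
      have hle := hyp_le_S (F := F) (p := p')
      haveI : Finite ↥(F.hyperfocalSubgroup p') := finite_of_le hle
      exact ih hpp (hS.to_le hle) hlim₂

/-- Limits depend only on the maps. -/
theorem limit_eq {S₁ S₂ T₁ T₂ : Subgroup Ω} [Finite S₁] (hS : IsPGroup p S₁) (h12 : S₁ = S₂) {A : FusionSystem S₁} {B : FusionSystem S₂}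
    (hAB : ∀ P, A.Hom P = B.Hom P) {X : FusionSystem T₁} {Y : FusionSystem T₂} (hX : X.IsResidualLimitOf A p) (hY : Y.IsResidualLimitOf B p) :
    ∀ P, X.Hom P = Y.Hom P := by
  subst h12
  obtain rfl : A = B := fusionSystem_ext hAB
  exact (limit_unique hX Fact.out hS hY).2

/-! ### The hyperfocal subgroup of a subsystem of `p`-power index -/

/-- The coprime commutator identity: for `α` of order prime to `p` acting on `P`, stabilizing `R` with `[P, α] ≤ R`,
the commutators `[x, α]`, `x ∈ P`, lie in the group generated by the `[w, α]`, `w ∈ R`. -/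
theorem comm_mem_of_coprime {P R W : Subgroup Ω} [Finite P] (hRP : R ≤ P) (hP : IsPGroup p P) (α : MulAut P) (hc : (orderOf α).Coprime p)
    (hst : ∀ x ∈ R, fn α x ∈ R) (hPR : ∀ x ∈ P, x⁻¹ * fn α x ∈ R) (hW : ∀ w ∈ R, w⁻¹ * fn α w ∈ W) {x : Ω} (hx : x ∈ P) : x⁻¹ * fn α x ∈ W := by
  obtain ⟨y, hy⟩ : ∃ y, y = x⁻¹ * fn α x := ⟨_, rfl⟩
  rw [← hy]
  have hyR : y ∈ R := hy ▸ hPR x hx
  have hxy : fn α x = x * y := by
    rw [hy]
    group
  have hnorm : ∀ k : ℕ, ∃ z ∈ R, fn (α ^ k) x = x * z ∧ (y ^ k)⁻¹ * z ∈ W := by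
    intro k
    induction k with
    | zero =>
      refine ⟨1, R.one_mem, ?_, by simp [W.one_mem]⟩
      rw [pow_zero, fn_one hx, mul_one]
    | succ k ih =>
      obtain ⟨z, hz, h1, h2⟩ := ih
      refine ⟨y * fn α z, R.mul_mem hyR (hst z hz), ?_, ?_⟩
      · rw [pow_succ', fn_mul _ _ hx, h1]
        have hm : fn α (x * z) = fn α x * fn α z := fn_map_mul α hx (hRP hz)
        rw [hm, hxy]
        group
      · have h3 := W.mul_mem h2 (hW z hz)
        have e : (y ^ (k + 1))⁻¹ * (y * fn α z) = (y ^ k)⁻¹ * z * (z⁻¹ * fn α z) := by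
          rw [pow_succ']
          group
        rw [e]
        exact h3
  obtain ⟨z, hz, h1, h2⟩ := hnorm (orderOf α)
  rw [pow_orderOf_eq_one, fn_one hx] at h1
  have hz1 : z = 1 := by
    have : x * 1 = x * z := by rw [mul_one]; exact h1
    exact (mul_left_cancel this).symm
  rw [hz1, mul_one] at h2
  have h3 : y ^ orderOf α ∈ W := by
    have := W.inv_mem h2
    rwa [inv_inv] at this
  have hyP : y ∈ P := hRP hyR
  obtain ⟨m, hm⟩ := hP ⟨y, hyP⟩
  have hm' : y ^ p ^ m = 1 := congrArg Subtype.val hm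
  have hcop : Nat.Coprime (orderOf α) (p ^ m) := hc.pow_right m
  have hb := Nat.gcd_eq_gcd_ab (orderOf α) (p ^ m)
  rw [hcop, Nat.cast_one] at hb
  have e : y = (y ^ orderOf α) ^ Nat.gcdA (orderOf α) (p ^ m) := by
    have e1 : y ^ ((orderOf α : ℤ) * Nat.gcdA (orderOf α) (p ^ m) + (p ^ m : ℕ) * Nat.gcdB (orderOf α) (p ^ m)) = y := by
      rw [← hb, zpow_one]
    rw [zpow_add, zpow_mul, zpow_mul, zpow_natCast, zpow_natCast, hm', one_zpow, mul_one] at e1
    exact e1.symm
  rw [e]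
  exact W.zpow_mem h3 _

/-- The hyperfocal subgroup of a subsystem lies in that of the system. -/
theorem hyp_le_of_subsystem' {S T : Subgroup Ω} {F : FusionSystem S} {E : FusionSystem T} (hEF : E.IsSubsystemOf F) (hTS : T ≤ S) [Finite S] :
    E.hyperfocalSubgroup p ≤ F.hyperfocalSubgroup p := by
  rw [hyperfocalSubgroup, Subgroup.closure_le]
  rintro _ ⟨P, α, x, hP, hα, rfl⟩
  obtain ⟨v, hv, hve⟩ := pResidual_map_le_of_subsystem hEF hP (p := p) ⟨α, hα, rfl⟩
  have h := mem_hyp_of (hP.trans hTS) hv x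
  have hve' : (v : MulAut P) = (α : MulAut P) := hve
  rwa [hve'] at h

/-- **The hyperfocal subgroup of `F` lies in that of a subsystem of `p`-power index.** -/
theorem hyp_le_hyp_of_pPowerIndex {S T : Subgroup Ω} {F : FusionSystem S} {E : FusionSystem T} [Finite S] (hS : IsPGroup p S) (hF : F.IsSaturated p)
    (hTn : S ≤ Subgroup.normalizer (T : Set Ω)) (hidx : E.HasPPowerIndexIn F p) (hTS : T ≤ S) :
    F.hyperfocalSubgroup p ≤ E.hyperfocalSubgroup p := by
  have hT := hidx.2.1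
  have hmemT : ∀ {R : Subgroup Ω} {ψ : R →* Ω}, ψ ∈ F.Hom R → ∀ x : R, ψ x ∈ T ↔ (x : Ω) ∈ T :=
    fun hψ x => mem_T_iff hS hF hTS hTn hT hψ x
  rw [hyperfocalSubgroup, Subgroup.closure_le]
  rintro _ ⟨P, α, x, hP, hα, rfl⟩
  haveI : Finite P := finite_of_le hP
  have key : ∀ α : ↥(F.autGroup P), α ∈ pResidual p (F.autGroup P) → ∀ x ∈ P, x⁻¹ * fn (α : MulAut P) x ∈ E.hyperfocalSubgroup p := by
    intro α hα
    induction hα using Subgroup.closure_induction with
    | mem α hα =>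
      intro x hx
      have hαr : α ∈ pResidual p (F.autGroup P) := Subgroup.subset_closure hα
      have hαo : (orderOf (α : MulAut P)).Coprime p := by
        rw [Subgroup.orderOf_coe]
        exact hα
      have hRP : P ⊓ T ≤ P := inf_le_left
      have hst : ∀ w ∈ F.autGroup P, ∀ x ∈ P ⊓ T, fn w x ∈ P ⊓ T := by
        intro w hw x hx
        obtain ⟨φ, hφ, hφv⟩ := isMapOn_fn hP hw
        refine ⟨fn_mem w hx.1, ?_⟩
        have := (hmemT hφ ⟨x, hx.1⟩).2 hx.2
        rwa [hφv] at this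
      obtain ⟨v', hv', hv'e⟩ := pResidual_restrict (F := F) hRP hP hst hαr
      have hv'E : (v' : MulAut ↥(P ⊓ T)) ∈ E.autGroup (P ⊓ T) := hidx.2.2 _ inf_le_right ⟨_, hv', rfl⟩
      have hord : orderOf (v' : MulAut ↥(P ⊓ T)) ∣ orderOf (α : MulAut P) := by
        refine orderOf_dvd_of_pow_eq_one (fn_ext (fun y hy => ?_))
        have hpow : ∀ n : ℕ, ∀ y ∈ P ⊓ T, fn ((v' : MulAut ↥(P ⊓ T)) ^ n) y = fn ((α : MulAut P) ^ n) y := by
          intro n
          induction n with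
          | zero =>
            intro y hy
            rw [pow_zero, pow_zero, fn_one hy, fn_one hy.1]
          | succ n ih =>
            intro y hy
            rw [pow_succ, pow_succ, fn_mul _ _ hy, fn_mul _ _ hy.1, hv'e y hy, ih _ (hst _ α.2 y hy)]
        rw [hpow _ y hy, pow_orderOf_eq_one, fn_one hy, fn_one hy.1]
      have hcv : (orderOf (⟨v', hv'E⟩ : ↥(E.autGroup (P ⊓ T)))).Coprime p := by
        rw [← Subgroup.orderOf_coe]
        exact Nat.Coprime.coprime_dvd_left hord hαo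
      have hres : (⟨v', hv'E⟩ : ↥(E.autGroup (P ⊓ T))) ∈ pResidual p (E.autGroup (P ⊓ T)) := Subgroup.subset_closure hcv
      refine comm_mem_of_coprime (p := p) (R := P ⊓ T) hRP (hS.to_le hP) (α : MulAut P) hαo (hst _ α.2) (fun x hx => ?_) (fun w hw => ?_) hx
      · refine ⟨P.mul_mem (P.inv_mem hx) (fn_mem _ hx), ?_⟩
        have h1 := hT (mem_hyp_of hP hαr ⟨x, hx⟩)
        rw [← fn_of_mem _ hx] at h1
        exact h1
      · have h1 := mem_hyp_of (F := E) (p := p) inf_le_right hres ⟨w, hw⟩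
        rw [← fn_of_mem _ hw] at h1
        have h2 : fn (v' : MulAut ↥(P ⊓ T)) w = fn (α : MulAut P) w := hv'e w hw
        rwa [h2] at h1
    | one =>
      intro x hx
      show x⁻¹ * fn (1 : MulAut P) x ∈ _
      rw [fn_one hx, inv_mul_cancel]
      exact Subgroup.one_mem _
    | mul a b _ _ ha hb =>
      intro x hx
      show x⁻¹ * fn ((a : MulAut P) * (b : MulAut P)) x ∈ _
      rw [fn_mul _ _ hx]
      have e : x⁻¹ * fn (a : MulAut P) (fn (b : MulAut P) x) = (x⁻¹ * fn (b : MulAut P) x) * ((fn (b : MulAut P) x)⁻¹ * fn (a : MulAut P) (fn (b : MulAut P) x)) := by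
        group
      rw [e]
      exact Subgroup.mul_mem _ (hb x hx) (ha _ (fn_mem _ hx))
    | inv a _ ha =>
      intro x hx
      show x⁻¹ * fn ((a : MulAut P)⁻¹) x ∈ _
      have h1 := ha _ (fn_mem ((a : MulAut P)⁻¹) hx)
      rw [fn_fn_inv _ hx] at h1
      have h2 := Subgroup.inv_mem _ h1
      have e : x⁻¹ * fn ((a : MulAut P)⁻¹) x = ((fn ((a : MulAut P)⁻¹) x)⁻¹ * x)⁻¹ := by group
      rw [e]
      exact h2
  have h := key α hα x x.2
  rw [fn_coe] at h
  exact h

/-- **Residual limits of a normal subsystem of `p`-power index.** -/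
theorem limit_eq_of_pPowerIndex {S T U V : Subgroup Ω} {F : FusionSystem S} {E : FusionSystem T} [Finite S] (hS : IsPGroup p S) (hF : F.IsSaturated p)
    (hE : E.IsSaturated p) (hTn : S ≤ Subgroup.normalizer (T : Set Ω)) (hidx : E.HasPPowerIndexIn F p) (hTS : T ≤ S)
    {Finf : FusionSystem U} (hFinf : Finf.IsResidualLimitOf F p) {Einf : FusionSystem V} (hEinf : Einf.IsResidualLimitOf E p) :
    ∀ P, Finf.Hom P = Einf.Hom P := by
  haveI : Finite T := finite_of_le hTS
  have hpT : IsPGroup p T := hS.to_le hTS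
  have hyle : F.hyperfocalSubgroup p ≤ E.hyperfocalSubgroup p := hyp_le_hyp_of_pPowerIndex hS hF hTn hidx hTS
  have hyge : E.hyperfocalSubgroup p ≤ F.hyperfocalSubgroup p := hyp_le_of_subsystem' hidx.1 hTS
  have hyeq := le_antisymm hyge hyle
  cases hFinf with
  | stable _ _ h1 h2 =>
    have hTeq : T = S := le_antisymm hTS (h1 ▸ hidx.2.1)
    have hEF : ∀ P, E.Hom P = F.Hom P := hom_eq_of_pPowerIndex hS hTeq hE hF hidx (self_hasPPowerIndex F hF)
    obtain ⟨-, h3⟩ := stable_limit hEinf Fact.out hS h1 h2 hTeq.symm (fun P => (hEF P).symm)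
    exact fun P => (h3 P).symm
  | step _ _ D D' hD hD' hlim =>
    have hle := hyp_le_S (F := F) (p := p)
    haveI : Finite ↥(F.hyperfocalSubgroup p) := finite_of_le hle
    have hpH : IsPGroup p ↥(F.hyperfocalSubgroup p) := hS.to_le hle
    cases hEinf with
    | stable _ _ h1 h2 =>
      have hTeq : F.hyperfocalSubgroup p = T := hyeq.symm.trans h1
      have hDE : ∀ P, D.Hom P = E.Hom P := hom_eq_of_pPowerIndex hS hTeq hD.1 hE hD.2 hidx
      have hD'E := pprime_eq_self hTeq hDE hD' h2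
      exact (stable_limit hlim Fact.out hpT h1 h2 hTeq.symm (fun P => (hD'E P).symm)).2
    | step _ _ D₂ D₂' hD₂ hD₂' hlim₂ =>
      have hD₂F : D₂.HasPPowerIndexIn F p := by
        refine ⟨fun P => (hD₂.2.1 P).trans (hidx.1 P), hyle, fun P hP => ?_⟩
        have hPT : P ≤ T := hP.trans hyp_le_S
        rw [Subgroup.map_le_iff_le_comap]
        refine (Subgroup.closure_le _).2 (fun α hα => ?_)
        have hαr : α ∈ pResidual p (F.autGroup P) := Subgroup.subset_closure hα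
        have hαE : (α : MulAut P) ∈ E.autGroup P := hidx.2.2 P hPT ⟨α, hαr, rfl⟩
        have hαo : (orderOf (⟨α, hαE⟩ : ↥(E.autGroup P))).Coprime p := by
          rw [← Subgroup.orderOf_coe]
          show (orderOf (α : MulAut P)).Coprime p
          rw [Subgroup.orderOf_coe]
          exact hα
        exact hD₂.2.2.2 P hP ⟨⟨α, hαE⟩, Subgroup.subset_closure hαo, rfl⟩
      have hDD : ∀ P, D.Hom P = D₂.Hom P := hom_eq_of_pPowerIndex hS hyeq.symm hD.1 hD₂.1 hD.2 hD₂F
      have hDD' := pprime_eq_of_hom_eq hyeq.symm hDD hD' hD₂'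
      exact limit_eq hpH hyeq.symm hDD' hlim hlim₂

end Cfsg.Agent.Lib.Fusion
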