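/-
A simplicity criterion when the odd elements of the normalizer of a Sylow `p`-subgroup centralize it, and the
abstract analysis of a `2`-group inside a centralizer of dihedral type.
-/
import Cfsg.Agent.Lib.Fusion.AltF7
import Cfsg.Agent.Lib.Fusion.FixElt
import Cfsg.Agent.Lib.Transfer.Frattini

set_option autoImplicit false
set_option linter.unusedSectionVars false
set_option linter.unusedVariables false
set_option linter.unusedSimpArgs false
set_option linter.style.haveILetI false

namespace Cfsg.Agent.Lib.Fusion.TwoF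

open Cfsg Cfsg.FusionSystem Cfsg.Agent.Lib.Fusion

section Crit

variable {G : Type*} [Group G] [Finite G] {p : ℕ} [hp : Fact p.Prime]

/-- The decomposition of an element into its `p`-part and its `p'`-part. -/
theorem exists_split (x : G) : ∃ a b : G, x = a * b ∧ a ∈ Subgroup.zpowers x ∧ b ∈ Subgroup.zpowers x ∧
    (∃ k : ℕ, orderOf a = p ^ k) ∧ ¬ p ∣ orderOf b := by
  have hpp := hp.out
  have hord : orderOf x ≠ 0 := (orderOf_pos x).ne'
  obtain ⟨k, m, hm, he⟩ := Nat.exists_eq_pow_mul_and_not_dvd hord p hpp.ne_one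
  have hcop : Nat.Coprime (p ^ k) m := Nat.Coprime.pow_left k ((Nat.Prime.coprime_iff_not_dvd hpp).2 hm)
  have hbez : ((p ^ k : ℕ) : ℤ) * (Nat.gcdA (p ^ k) m) + (m : ℤ) * (Nat.gcdB (p ^ k) m) = 1 := by
    have := Nat.gcd_eq_gcd_ab (p ^ k) m
    rw [hcop.gcd_eq_one] at this
    simpa using this.symm
  set u := Nat.gcdA (p ^ k) m
  set v := Nat.gcdB (p ^ k) m
  have hxo : x ^ (p ^ k * m) = 1 := by
    rw [← he]
    exact pow_orderOf_eq_one x
  refine ⟨x ^ ((m : ℤ) * v), x ^ (((p ^ k : ℕ) : ℤ) * u), ?_, ⟨_, rfl⟩, ⟨_, rfl⟩, ?_, ?_⟩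
  · rw [← zpow_add, add_comm, hbez, zpow_one]
  · have h1 : (x ^ ((m : ℤ) * v)) ^ p ^ k = 1 := by
      rw [← zpow_natCast, ← zpow_mul]
      have e : (m : ℤ) * v * ((p ^ k : ℕ) : ℤ) = ((p ^ k * m : ℕ) : ℤ) * v := by
        push_cast
        ring
      rw [e, zpow_mul, zpow_natCast, hxo, one_zpow]
    obtain ⟨j, -, hj⟩ := (Nat.dvd_prime_pow hpp).1 (orderOf_dvd_of_pow_eq_one h1)
    exact ⟨j, hj⟩
  · have h1 : (x ^ (((p ^ k : ℕ) : ℤ) * u)) ^ m = 1 := by
      rw [← zpow_natCast, ← zpow_mul]
      have e : ((p ^ k : ℕ) : ℤ) * u * (m : ℤ) = ((p ^ k * m : ℕ) : ℤ) * u := by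
        push_cast
        ring
      rw [e, zpow_mul, zpow_natCast, hxo, one_zpow]
    exact fun hd => hm (hd.trans (orderOf_dvd_of_pow_eq_one h1))

/-- **Criterion.** If the strongly closed subgroups are trivial and the elements of `p'`-order of the normalizer
centralize the Sylow subgroup, the fusion system is simple. -/
theorem isSimple_of_cent (S : Sylow p G) (hS1 : (S : Subgroup G) ≠ ⊥)
    (hcl : ∀ T : Subgroup G, T ≤ (S : Subgroup G) → T ≠ ⊥ →
      (∀ t ∈ T, ∀ h, h * t * h⁻¹ ∈ (S : Subgroup G) → h * t * h⁻¹ ∈ T) → (S : Subgroup G) ≤ T)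
    (hN : ∀ y ∈ Subgroup.normalizer ((S : Subgroup G) : Set G), ¬ p ∣ orderOf y → ∀ u ∈ (S : Subgroup G), y * u = u * y) :
    (groupFusionSystem (S : Subgroup G)).IsSimple p := by
  refine isSimple_gfs_of_gen S hS1 ?_ ?_
  · intro T hT
    by_cases hne : T = ⊥
    · exact Or.inl hne
    right
    refine le_antisymm hT.1 (hcl T hT.1 hne ?_)
    intro t ht h hh
    exact PSLF.mem_of_stronglyClosed hT ht hh
  · intro α hα
    obtain ⟨x, hx⟩ := (mem_autGroup_gfs le_rfl).1 hα
    have hxS : ∀ y ∈ (S : Subgroup G), x * y * x⁻¹ ∈ (S : Subgroup G) := by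
      intro y hy
      rw [← hx ⟨y, hy⟩]
      exact (α ⟨y, hy⟩).2
    have hxS' : ∀ h, x * h * x⁻¹ ∈ (S : Subgroup G) → h ∈ (S : Subgroup G) := by
      intro h hh'
      have h1 := hx (α⁻¹ ⟨_, hh'⟩)
      rw [MulAut.apply_inv_self] at h1
      have h2 : x * h * x⁻¹ = x * ((α⁻¹ ⟨_, hh'⟩ : (S : Subgroup G)) : G) * x⁻¹ := h1
      have h3 : h = ((α⁻¹ ⟨_, hh'⟩ : (S : Subgroup G)) : G) := by
        have := congrArg (fun t => x⁻¹ * t * x) h2
        simpa [mul_assoc] using this
      rw [h3]
      exact (α⁻¹ ⟨_, hh'⟩).2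
    have hxN : x ∈ Subgroup.normalizer ((S : Subgroup G) : Set G) :=
      Subgroup.mem_normalizer_iff.2 (fun h => ⟨hxS h, hxS' h⟩)
    obtain ⟨a, b, rfl, ha, hb, ⟨k, hk⟩, hb2⟩ := exists_split (p := p) x
    have hzp : Subgroup.zpowers (a * b) ≤ Subgroup.normalizer ((S : Subgroup G) : Set G) :=
      (Subgroup.zpowers_le).2 hxN
    have hbc := hN b (hzp hb) hb2
    apply Subgroup.subset_closure
    refine ⟨S, isCentric_self, a, Subgroup.subset_closure ⟨hzp ha, k, hk⟩, ?_⟩
    intro y
    rw [hx y]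
    have e : a * b * (y : G) * (a * b)⁻¹ = a * (b * (y : G)) * b⁻¹ * a⁻¹ := by group
    rw [e, hbc _ y.2]
    group

end Crit

section DL

variable {G : Type*} [Group G] [Finite G]

/-- A `2`-element normalizing a Sylow `2`-subgroup lies in it. -/
theorem mem_sylow_of_normalizes {p : ℕ} [Fact p.Prime] (U : Sylow p G) {x : G} (hx : ∃ k : ℕ, x ^ p ^ k = 1)
    (hN : x ∈ Subgroup.normalizer ((U : Subgroup G) : Set G)) : x ∈ (U : Subgroup G) := by
  obtain ⟨k, hk⟩ := hx
  have h1 : IsPGroup p (Subgroup.zpowers x) := by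
    rintro ⟨y, n, rfl⟩
    refine ⟨k, Subtype.ext ?_⟩
    show (x ^ n) ^ p ^ k = 1
    rw [← zpow_natCast, ← zpow_mul, mul_comm, zpow_mul, zpow_natCast, hk, one_zpow]
  have h2 : IsPGroup p ((Subgroup.zpowers x ⊔ (U : Subgroup G) : Subgroup G)) :=
    h1.to_sup_of_normal_right' U.isPGroup' ((Subgroup.zpowers_le).2 hN)
  have h3 := U.is_maximal' h2 le_sup_right
  rw [← h3]
  exact (le_sup_left : Subgroup.zpowers x ≤ _) (Subgroup.mem_zpowers x)

/-- The data of a centralizer of dihedral type. -/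
structure DL (U A : Subgroup G) (z : G) : Prop where
  z_mem : z ∈ A
  z_sq : z * z = 1
  z_ne : z ≠ 1
  comm : ∀ a ∈ A, ∀ b ∈ A, a * b = b * a
  sq : ∀ a ∈ A, a * a = 1 → a = 1 ∨ a = z
  out : ∀ x, x * z = z * x → x ∉ A → x * x = 1
  mul_out : ∀ x x', x * z = z * x → x' * z = z * x' → x ∉ A → x' ∉ A → x * x' ∈ A
  ex : ∃ x, x * z = z * x ∧ x ∉ A
  Uz : ∀ u ∈ U, u * z = z * u

variable {U : Sylow 2 G} {A : Subgroup G} {z : G}

theorem DL.not_le (h : DL (U : Subgroup G) A z) : ¬ ((U : Subgroup G) ≤ A) := by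
  intro hle
  obtain ⟨x, hxz, hxA⟩ := h.ex
  have hx2 := h.out x hxz hxA
  have hxx : x⁻¹ = x := by
    rw [inv_eq_iff_mul_eq_one]
    exact hx2
  -- the two-elements of `A` lie in `U`
  have hA2 : ∀ a ∈ A, (∃ k : ℕ, a ^ 2 ^ k = 1) → a ∈ (U : Subgroup G) := by
    intro a ha hk
    refine mem_sylow_of_normalizes U hk ?_
    rw [Subgroup.mem_normalizer_iff]
    have key : ∀ a ∈ A, ∀ u ∈ (U : Subgroup G), a * u * a⁻¹ = u := by
      intro a ha u hu
      rw [h.comm a ha u (hle hu)]
      group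
    intro u
    constructor
    · intro hu
      rw [key a ha u hu]
      exact hu
    · intro hu
      have h1 := key a⁻¹ (A.inv_mem ha) _ hu
      have e : a⁻¹ * (a * u * a⁻¹) * a⁻¹⁻¹ = u := by group
      rw [e] at h1
      rw [h1]
      exact hu
  -- `x` normalizes `A`
  have hxA' : ∀ a ∈ A, x * a * x⁻¹ ∈ A := by
    intro a ha
    by_contra hc
    have hzc : x * a * x⁻¹ * z = z * (x * a * x⁻¹) := by
      have h1 : a * z = z * a := h.comm a ha z h.z_mem
      have h2 : x⁻¹ * z = z * x⁻¹ := by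
        rw [hxx]
        exact hxz
      calc x * a * x⁻¹ * z = x * a * (x⁻¹ * z) := by group
        _ = x * (a * z) * x⁻¹ := by rw [h2]; group
        _ = (x * z) * a * x⁻¹ := by rw [h1]; group
        _ = _ := by rw [hxz]; group
    have h1 := h.out _ hzc hc
    have h2 : a * a = 1 := by
      have e : x * a * x⁻¹ * (x * a * x⁻¹) = x * (a * a) * x⁻¹ := by group
      rw [e] at h1
      have := congrArg (fun t => x⁻¹ * t * x) h1
      simpa [mul_assoc] using this
    rcases h.sq a ha h2 with h3 | h3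
    · apply hc
      rw [h3]
      simp only [mul_one, mul_inv_cancel]
      exact A.one_mem
    · apply hc
      rw [h3, hxz]
      have e : z * x * x⁻¹ = z := by group
      rw [e]
      exact h.z_mem
  have hxN : x ∈ Subgroup.normalizer ((U : Subgroup G) : Set G) := by
    have hfw : ∀ u ∈ (U : Subgroup G), x * u * x⁻¹ ∈ (U : Subgroup G) := by
      intro u hu
      refine hA2 _ (hxA' u (hle hu)) ?_
      obtain ⟨k, hk⟩ := U.isPGroup' ⟨u, hu⟩
      refine ⟨k, ?_⟩
      have h2 : u ^ 2 ^ k = 1 := congrArg Subtype.val hk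
      rw [conj_pow, h2]
      group
    rw [Subgroup.mem_normalizer_iff]
    intro u
    refine ⟨hfw u, fun hu => ?_⟩
    have h1 := hfw _ hu
    have e : x * (x * u * x⁻¹) * x⁻¹ = u := by
      have e2 : x * (x * u * x⁻¹) * x⁻¹ = (x * x) * u * (x⁻¹ * x⁻¹) := by group
      rw [e2, hxx, hx2]
      group
    rwa [e] at h1
  have hxU := mem_sylow_of_normalizes U ⟨1, by rw [pow_one, pow_two]; exact hx2⟩ hxN
  exact hxA (hle hxU)

/-- The Sylow subgroup is generated by its involutions. -/
theorem DL.mem_closure (h : DL (U : Subgroup G) A z) {u : G} (hu : u ∈ (U : Subgroup G)) :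
    u ∈ Subgroup.closure {v | v ∈ (U : Subgroup G) ∧ v * v = 1} := by
  obtain ⟨v, hv, hvA⟩ : ∃ v ∈ (U : Subgroup G), v ∉ A := by
    by_contra hc
    push Not at hc
    exact h.not_le hc
  have hout : ∀ w ∈ (U : Subgroup G), w ∉ A → w ∈ Subgroup.closure {v | v ∈ (U : Subgroup G) ∧ v * v = 1} := by
    intro w hw hwA
    exact Subgroup.subset_closure ⟨hw, h.out w (h.Uz w hw) hwA⟩
  by_cases huA : u ∈ A
  · have h1 : u * v ∉ A := fun hc => hvA (by
      have := A.mul_mem (A.inv_mem huA) hc
      simpa using this)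
    have e : u = (u * v) * v⁻¹ := by group
    rw [e]
    refine Subgroup.mul_mem _ (hout _ (Subgroup.mul_mem _ hu hv) h1) (Subgroup.inv_mem _ (hout v hv hvA))
  · exact hout u hu huA

/-- The odd elements of the normalizer centralize the Sylow subgroup, if it has an element which is not an involution. -/
theorem DL.cent' (h : DL (U : Subgroup G) A z) {b : G} (hbU : b ∈ (U : Subgroup G)) (hbb : b * b ≠ 1) {y : G}
    (hy : y ∈ Subgroup.normalizer ((U : Subgroup G) : Set G)) (hyo : ¬ 2 ∣ orderOf y) {u : G} (hu : u ∈ (U : Subgroup G)) :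
    y * u = u * y := by
  classical
  have hyU : ∀ u, u ∈ (U : Subgroup G) → y * u * y⁻¹ ∈ (U : Subgroup G) := fun u hu =>
    (Subgroup.mem_normalizer_iff.1 hy u).1 hu
  have hyU' : ∀ u, y * u * y⁻¹ ∈ (U : Subgroup G) → u ∈ (U : Subgroup G) := fun u hu =>
    (Subgroup.mem_normalizer_iff.1 hy u).2 hu
  set A₁ : Subgroup G := (U : Subgroup G) ⊓ A with hA₁
  have hA₁U : A₁ ≤ (U : Subgroup G) := inf_le_left
  have hA₁A : A₁ ≤ A := inf_le_right
  have hoo : ∀ v ∈ (U : Subgroup G), ∀ v' ∈ (U : Subgroup G), v ∉ A → v' ∉ A → v * v' ∈ A₁ := fun v hv v' hv' hvA hvA' =>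
    ⟨Subgroup.mul_mem _ hv hv', h.mul_out v v' (h.Uz v hv) (h.Uz v' hv') hvA hvA'⟩
  have hinvol : ∀ v ∈ (U : Subgroup G), v ∉ A → v * v = 1 := fun v hv hvA => h.out v (h.Uz v hv) hvA
  have hb : b ∈ A₁ := by
    refine ⟨hbU, ?_⟩
    by_contra hc
    exact hbb (hinvol b hbU hc)
  have hzA₁ : z ∈ A₁ := by
    by_contra hc
    have h1 : z * b ∉ A₁ ∨ z * b ∈ A₁ := by tauto
    have hzU : b ∈ (U : Subgroup G) := hA₁U hb
    exact hc ⟨by
      by_contra hzU'
      -- `z ∉ U`: use that `z` commutes with `U`, is a `2`-element, and `U` is Sylow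
      have hN : z ∈ Subgroup.normalizer ((U : Subgroup G) : Set G) := by
        rw [Subgroup.mem_normalizer_iff]
        intro u
        have hzz : z⁻¹ = z := by
          rw [inv_eq_iff_mul_eq_one]
          exact h.z_sq
        constructor
        · intro hu
          have e : z * u * z⁻¹ = u := by
            rw [← h.Uz u hu]
            group
          rw [e]
          exact hu
        · intro hu
          have h2 : z * u * z⁻¹ * z = z * (z * u * z⁻¹) := h.Uz _ hu
          have e : u = z * (z * u * z⁻¹) * z⁻¹ := by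
            have e2 : z * (z * u * z⁻¹) * z⁻¹ = (z * z) * u * (z⁻¹ * z⁻¹) := by group
            rw [e2, hzz, h.z_sq]
            group
          rw [e, ← h2]
          have e3 : z * u * z⁻¹ * z * z⁻¹ = z * u * z⁻¹ := by group
          rw [e3]
          exact hu
      exact hzU' (mem_sylow_of_normalizes U ⟨1, by rw [pow_one, pow_two]; exact h.z_sq⟩ hN), h.z_mem⟩
  -- the normalizer preserves `A₁`
  have hnorm : ∀ y ∈ Subgroup.normalizer ((U : Subgroup G) : Set G), ∀ a ∈ A₁, y * a * y⁻¹ ∈ A₁ := by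
    intro y hy
    have hyU : ∀ u, u ∈ (U : Subgroup G) → y * u * y⁻¹ ∈ (U : Subgroup G) := fun u hu =>
      (Subgroup.mem_normalizer_iff.1 hy u).1 hu
    have big : ∀ a ∈ A₁, a * a ≠ 1 → y * a * y⁻¹ ∈ A₁ := by
      intro a ha ha2
      refine ⟨hyU a (hA₁U ha), ?_⟩
      by_contra hc
      have h1 := hinvol _ (hyU a (hA₁U ha)) hc
      apply ha2
      have e : y * a * y⁻¹ * (y * a * y⁻¹) = y * (a * a) * y⁻¹ := by group
      rw [e] at h1
      have := congrArg (fun t => y⁻¹ * t * y) h1
      simpa [mul_assoc] using this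
    intro a ha
    by_cases ha2 : a * a = 1
    · rcases h.sq a (hA₁A ha) ha2 with h3 | h3
      · rw [h3]
        simp only [mul_one, mul_inv_cancel]
        exact A₁.one_mem
      · have h1 := big b hb hbb
        have hzb : a * b ∈ A₁ := A₁.mul_mem ha hb
        have hzb2 : a * b * (a * b) ≠ 1 := by
          intro hc
          apply hbb
          have hcomm : a * b = b * a := h.comm a (hA₁A ha) b (hA₁A hb)
          have e : a * b * (a * b) = (a * a) * (b * b) := by
            calc a * b * (a * b) = a * (b * a) * b := by group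
              _ = a * (a * b) * b := by rw [hcomm]
              _ = _ := by group
          rw [e, ha2, one_mul] at hc
          exact hc
        have h2 := big _ hzb hzb2
        have e : y * a * y⁻¹ = y * (a * b) * y⁻¹ * (y * b * y⁻¹)⁻¹ := by group
        rw [e]
        exact A₁.mul_mem h2 (A₁.inv_mem h1)
    · exact big a ha ha2
  have hyA := hnorm y hy
  have hyA' := hnorm y⁻¹ (Subgroup.inv_mem _ hy)
  -- `y` fixes `z`
  have hyz : y * z * y⁻¹ = z := by
    have h1 := hyA z hzA₁
    have h2 : y * z * y⁻¹ * (y * z * y⁻¹) = 1 := by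
      have e : y * z * y⁻¹ * (y * z * y⁻¹) = y * (z * z) * y⁻¹ := by group
      rw [e, h.z_sq]
      group
    rcases h.sq _ (hA₁A h1) h2 with h3 | h3
    · exfalso
      apply h.z_ne
      have := congrArg (fun t => y⁻¹ * t * y) h3
      simpa [mul_assoc] using this
    · exact h3
  -- odd order: commuting with `y²` implies commuting with `y`
  have hodd : ∀ a : G, y * y * a = a * (y * y) → y * a = a * y := by
    intro a ha
    have hm : Odd (orderOf y) := Nat.not_even_iff_odd.1 (fun he => hyo he.two_dvd)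
    obtain ⟨m, hm⟩ := hm
    have hp : y ^ (2 * (m + 1)) = y := by
      have e : 2 * (m + 1) = orderOf y + 1 := by omega
      rw [e, pow_succ, pow_orderOf_eq_one, one_mul]
    have hc : Commute (y * y) a := ha
    rw [← hp, pow_mul, pow_two]
    have := (hc.pow_left (m + 1))
    exact this
  -- `y` centralizes `A₁`
  have hcA : ∀ k : ℕ, ∀ a ∈ A₁, a ^ 2 ^ k = 1 → y * a * y⁻¹ = a := by
    intro k
    induction k with
    | zero =>
      intro a _ ha
      have : a = 1 := by simpa using ha
      rw [this]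
      group
    | succ k ih =>
      intro a ha hak
      have ha2 : (a * a) ^ 2 ^ k = 1 := by
        rw [← pow_two, ← pow_mul, ← pow_succ']
        exact hak
      have h1 := ih (a * a) (A₁.mul_mem ha ha) ha2
      have hb1 := hyA a ha
      have hcomm : y * a * y⁻¹ * a⁻¹ = a⁻¹ * (y * a * y⁻¹) := h.comm _ (hA₁A hb1) _ (A.inv_mem (hA₁A ha))
      have hbsq : (y * a * y⁻¹ * a⁻¹) * (y * a * y⁻¹ * a⁻¹) = 1 := by
        have e : (y * a * y⁻¹ * a⁻¹) * (y * a * y⁻¹ * a⁻¹) = y * a * y⁻¹ * (a⁻¹ * (y * a * y⁻¹)) * a⁻¹ := by group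
        rw [e, ← hcomm]
        have e2 : y * a * y⁻¹ * (y * a * y⁻¹ * a⁻¹) * a⁻¹ = (y * (a * a) * y⁻¹) * (a⁻¹ * a⁻¹) := by group
        rw [e2, h1]
        group
      rcases h.sq _ (A.mul_mem (hA₁A hb1) (A.inv_mem (hA₁A ha))) hbsq with h3 | h3
      · have := congrArg (fun t => t * a) h3
        simpa [mul_assoc] using this
      · have hya : y * a * y⁻¹ = z * a := by
          have := congrArg (fun t => t * a) h3
          simpa [mul_assoc] using this
        have hyy : y * y * a = a * (y * y) := by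
          have e1 : y * y * a * (y * y)⁻¹ = a := by
            have e2 : y * y * a * (y * y)⁻¹ = y * (y * a * y⁻¹) * y⁻¹ := by group
            rw [e2, hya]
            have e3 : y * (z * a) * y⁻¹ = (y * z * y⁻¹) * (y * a * y⁻¹) := by group
            rw [e3, hyz, hya, ← mul_assoc, h.z_sq, one_mul]
          calc y * y * a = (y * y * a * (y * y)⁻¹) * (y * y) := by group
            _ = _ := by rw [e1]
        have := hodd a hyy
        rw [this]
        group
  have hcA' : ∀ a ∈ A₁, y * a = a * y := by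
    intro a ha
    obtain ⟨k, hk⟩ := U.isPGroup' ⟨a, hA₁U ha⟩
    have h2 : a ^ 2 ^ k = 1 := congrArg Subtype.val hk
    have h3 := hcA k a ha h2
    calc y * a = (y * a * y⁻¹) * y := by group
      _ = _ := by rw [h3]
  -- the general element
  by_cases huA : u ∈ A
  · exact hcA' u ⟨hu, huA⟩
  · have hyuU := hyU u hu
    have hyuA : y * u * y⁻¹ ∉ A := by
      intro hc
      apply huA
      have h1 := hyA' _ ⟨hyuU, hc⟩
      have e : y⁻¹ * (y * u * y⁻¹) * y⁻¹⁻¹ = u := by group
      rw [e] at h1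
      exact h1.2
    have huinv : u⁻¹ ∉ A := fun hc => huA (by simpa using A.inv_mem hc)
    have ha := hoo _ hyuU _ (Subgroup.inv_mem _ hu) hyuA huinv
    set a := y * u * y⁻¹ * u⁻¹ with hadef
    have hyua : y * u * y⁻¹ = a * u := by
      rw [hadef]
      group
    have hpow : ∀ k : ℕ, y ^ k * u * (y ^ k)⁻¹ = a ^ k * u := by
      intro k
      induction k with
      | zero => simp
      | succ k ih =>
        have e : y ^ (k + 1) * u * (y ^ (k + 1))⁻¹ = y * (y ^ k * u * (y ^ k)⁻¹) * y⁻¹ := by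
          rw [pow_succ']
          group
        rw [e, ih]
        have hya : y * a ^ k = a ^ k * y := ((show Commute y a from hcA' a ha).pow_right k)
        have e2 : y * (a ^ k * u) * y⁻¹ = (y * a ^ k) * u * y⁻¹ := by group
        rw [e2, hya]
        have e3 : a ^ k * y * u * y⁻¹ = a ^ k * (y * u * y⁻¹) := by group
        rw [e3, hyua, pow_succ]
        group
    have h1 := hpow (orderOf y)
    rw [pow_orderOf_eq_one] at h1
    have h2 : a ^ orderOf y = 1 := by
      have h3 : 1 * u * (1 : G)⁻¹ = u := by group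
      rw [h3] at h1
      have := congrArg (fun t => t * u⁻¹) h1
      simpa using this.symm
    obtain ⟨k, hk⟩ := U.isPGroup' ⟨a, hA₁U ha⟩
    have h3 : a ^ 2 ^ k = 1 := congrArg Subtype.val hk
    have hcop : Nat.Coprime (2 ^ k) (orderOf y) := Nat.Coprime.pow_left k ((Nat.Prime.coprime_iff_not_dvd Nat.prime_two).2 hyo)
    have h4 : a = 1 := by
      have := pow_gcd_eq_one.2 ⟨h3, h2⟩
      rwa [hcop.gcd_eq_one, pow_one] at this
    rw [h4, one_mul] at hyua
    calc y * u = (y * u * y⁻¹) * y := by group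
      _ = _ := by rw [hyua]

/-- The odd elements of the normalizer centralize the Sylow subgroup, if it has order at least `8`. -/
theorem DL.cent (h : DL (U : Subgroup G) A z) (h8 : 8 ≤ Nat.card (U : Subgroup G)) {y : G}
    (hy : y ∈ Subgroup.normalizer ((U : Subgroup G) : Set G)) (hyo : ¬ 2 ∣ orderOf y) {u : G} (hu : u ∈ (U : Subgroup G)) :
    y * u = u * y := by
  classical
  obtain ⟨b, hbU, hbb⟩ : ∃ b ∈ (U : Subgroup G), b * b ≠ 1 := by
    by_contra hc
    push Not at hc
    set A₁ : Subgroup G := (U : Subgroup G) ⊓ A with hA₁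
    have hA₁A : A₁ ≤ A := inf_le_right
    have hnot := h.not_le
    obtain ⟨v₀, hv₀, hv₀A⟩ : ∃ v ∈ (U : Subgroup G), v ∉ A := by
      by_contra hc
      push Not at hc
      exact hnot hc
    have hoo : ∀ v ∈ (U : Subgroup G), ∀ v' ∈ (U : Subgroup G), v ∉ A → v' ∉ A → v * v' ∈ A₁ := fun v hv v' hv' hvA hvA' =>
      ⟨Subgroup.mul_mem _ hv hv', h.mul_out v v' (h.Uz v hv) (h.Uz v' hv') hvA hvA'⟩
    have hcardA₁ : 4 ≤ Nat.card A₁ := by
      have hidx : Nat.card (U : Subgroup G) ≤ 2 * Nat.card A₁ := by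
        let f : ↥(U : Subgroup G) → Bool × A₁ := fun u =>
          if hu : u.1 ∈ A then (true, ⟨u.1, u.2, hu⟩) else (false, ⟨u.1 * v₀, hoo u.1 u.2 v₀ hv₀ hu hv₀A⟩)
        have hf : Function.Injective f := by
          intro a b hab
          by_cases ha : a.1 ∈ A <;> by_cases hb : b.1 ∈ A
          · simp only [f, dif_pos ha, dif_pos hb, Prod.mk.injEq, true_and] at hab
            exact Subtype.ext (congrArg (fun w : A₁ => (w : G)) hab)
          · simp only [f, dif_pos ha, dif_neg hb, Prod.mk.injEq] at hab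
            simp at hab
          · simp only [f, dif_neg ha, dif_pos hb, Prod.mk.injEq] at hab
            simp at hab
          · simp only [f, dif_neg ha, dif_neg hb, Prod.mk.injEq, true_and] at hab
            have h1 : a.1 * v₀ = b.1 * v₀ := congrArg Subtype.val hab
            exact Subtype.ext (mul_right_cancel h1)
        have := Nat.card_le_card_of_injective f hf
        simpa [Nat.card_prod, Nat.card_eq_fintype_card] using this
      omega
    have hfin : Nat.card A₁ ≤ 2 := by
      let g : A₁ → Bool := fun x => decide ((x : G) = 1)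
      have hg : Function.Injective g := by
        intro x x' hxx
        have h1 := h.sq x (hA₁A x.2) (hc x x.2.1)
        have h2 := h.sq x' (hA₁A x'.2) (hc x' x'.2.1)
        simp only [g, decide_eq_decide] at hxx
        apply Subtype.ext
        rcases h1 with h1 | h1 <;> rcases h2 with h2 | h2
        · rw [h1, h2]
        · exact absurd (hxx.1 h1) (by rw [h2]; exact h.z_ne)
        · exact absurd (hxx.2 h2) (by rw [h1]; exact h.z_ne)
        · rw [h1, h2]
      have := Nat.card_le_card_of_injective g hg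
      simpa using this
    omega
  exact h.cent' hbU hbb hy hyo hu

end DL

end Cfsg.Agent.Lib.Fusion.TwoF
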