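/-
Subgroups of `GL₂(K)` containing a trace-zero element: the structure of the centralizer of the involution
of the quotient by the centre, and the simplicity of the `2`-fusion system.
-/
import Cfsg.Agent.Lib.Fusion.TwoF1

set_option autoImplicit false
set_option linter.unusedSectionVars false
set_option linter.unusedVariables false
set_option linter.unusedSimpArgs false
set_option linter.style.haveILetI false

namespace Cfsg.Agent.Lib.Fusion.TwoF

open Cfsg Cfsg.FusionSystem Cfsg.Agent.Lib.Fusion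

section Mat

variable {K : Type*} [Field K]

/-- The matrix `w`. -/
def w2 : Matrix (Fin 2) (Fin 2) K := !![0, 1; -1, 0]

theorem w2_mul_w2 : (w2 : Matrix (Fin 2) (Fin 2) K) * w2 = -1 := by
  ext i j
  fin_cases i <;> fin_cases j <;> simp [w2, Matrix.mul_apply, Fin.sum_univ_two]

theorem mul_w2_00 (y : Matrix (Fin 2) (Fin 2) K) : (y * w2 : Matrix (Fin 2) (Fin 2) K) 0 0 = - y 0 1 := by
  simp [w2, Matrix.mul_apply, Fin.sum_univ_two]

theorem mul_w2_01 (y : Matrix (Fin 2) (Fin 2) K) : (y * w2 : Matrix (Fin 2) (Fin 2) K) 0 1 = y 0 0 := by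
  simp [w2, Matrix.mul_apply, Fin.sum_univ_two]

theorem w2_mul_00 (y : Matrix (Fin 2) (Fin 2) K) : (w2 * y : Matrix (Fin 2) (Fin 2) K) 0 0 = y 1 0 := by
  simp [w2, Matrix.mul_apply, Fin.sum_univ_two]

theorem w2_mul_01 (y : Matrix (Fin 2) (Fin 2) K) : (w2 * y : Matrix (Fin 2) (Fin 2) K) 0 1 = y 1 1 := by
  simp [w2, Matrix.mul_apply, Fin.sum_univ_two]

theorem comm_w2 {y : Matrix (Fin 2) (Fin 2) K} (h : y * w2 = w2 * y) : y 1 0 = - y 0 1 ∧ y 1 1 = y 0 0 := by
  have h00 := congrFun (congrFun h 0) 0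
  have h01 := congrFun (congrFun h 0) 1
  rw [mul_w2_00, w2_mul_00] at h00
  rw [mul_w2_01, w2_mul_01] at h01
  exact ⟨h00.symm, h01.symm⟩

theorem acomm_w2 {y : Matrix (Fin 2) (Fin 2) K} (h : y * w2 = -(w2 * y)) : y 1 0 = y 0 1 ∧ y 1 1 = - y 0 0 := by
  have h00 := congrFun (congrFun h 0) 0
  have h01 := congrFun (congrFun h 0) 1
  rw [Matrix.neg_apply, mul_w2_00, w2_mul_00] at h00
  rw [Matrix.neg_apply, mul_w2_01, w2_mul_01] at h01
  constructor
  · linear_combination h00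
  · linear_combination h01

theorem comm_of_comm_w2 {y y' : Matrix (Fin 2) (Fin 2) K} (h : y * w2 = w2 * y) (h' : y' * w2 = w2 * y') : y * y' = y' * y := by
  obtain ⟨h1, h2⟩ := comm_w2 h
  obtain ⟨h3, h4⟩ := comm_w2 h'
  ext i j
  fin_cases i <;> fin_cases j <;> simp [Matrix.mul_apply, Fin.sum_univ_two, h1, h2, h3, h4] <;> ring

theorem scalar_or_of_sq {y : Matrix (Fin 2) (Fin 2) K} (h2 : (2 : K) ≠ 0) (h : y * w2 = w2 * y) {μ : K} (hy : y * y = μ • 1) :
    (∃ l : K, y = l • 1) ∨ (∃ b : K, y = b • w2) := by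
  obtain ⟨h1, h3⟩ := comm_w2 h
  have h01 := congrFun (congrFun hy 0) 1
  simp [Matrix.mul_apply, Fin.sum_univ_two, h1, h3] at h01
  have h4 : 2 * (y 0 0 * y 0 1) = 0 := by linear_combination h01
  have h5 : y 0 0 = 0 ∨ y 0 1 = 0 := by
    rcases mul_eq_zero.1 h4 with h | h
    · exact absurd h h2
    · exact mul_eq_zero.1 h
  rcases h5 with h5 | h5
  · right
    refine ⟨y 0 1, ?_⟩
    ext i j
    fin_cases i <;> fin_cases j <;> simp [w2, h1, h3, h5]
  · left
    refine ⟨y 0 0, ?_⟩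
    ext i j
    fin_cases i <;> fin_cases j <;> simp [h1, h3, h5]

theorem sq_of_acomm {y : Matrix (Fin 2) (Fin 2) K} (h : y * w2 = -(w2 * y)) : ∃ μ : K, y * y = μ • 1 := by
  obtain ⟨h1, h3⟩ := acomm_w2 h
  refine ⟨y 0 0 * y 0 0 + y 0 1 * y 0 1, ?_⟩
  ext i j
  fin_cases i <;> fin_cases j <;> simp [Matrix.mul_apply, Fin.sum_univ_two, h1, h3] <;> ring

theorem comm_of_acomm_acomm {y y' : Matrix (Fin 2) (Fin 2) K} (h : y * w2 = -(w2 * y)) (h' : y' * w2 = -(w2 * y')) :
    (y * y') * w2 = w2 * (y * y') := by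
  calc (y * y') * w2 = y * (y' * w2) := by rw [Matrix.mul_assoc]
    _ = - ((y * w2) * y') := by rw [h', Matrix.mul_neg, Matrix.mul_assoc]
    _ = w2 * (y * y') := by rw [h, Matrix.neg_mul, neg_neg, Matrix.mul_assoc]

end Mat

section Rep

variable {K : Type*} [Field K] {Γ : Type*} [Group Γ] (ρ : Γ →* Matrix (Fin 2) (Fin 2) K)

/-- The projection onto the quotient by the centre. -/
abbrev piC : Γ →* Γ ⧸ Subgroup.center Γ := QuotientGroup.mk' _

theorem piC_surj : Function.Surjective (piC (Γ := Γ)) := QuotientGroup.mk'_surjective _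

theorem piC_eq {a b : Γ} : piC a = piC b ↔ a⁻¹ * b ∈ Subgroup.center Γ := QuotientGroup.eq

theorem piC_eq_one {a : Γ} : piC a = 1 ↔ a ∈ Subgroup.center Γ := QuotientGroup.eq_one_iff a

variable {ρ}

theorem rep_inv_mul (x : Γ) : ρ x⁻¹ * ρ x = 1 := by
  rw [← map_mul, inv_mul_cancel, map_one]

theorem rep_mul_inv (x : Γ) : ρ x * ρ x⁻¹ = 1 := by
  rw [← map_mul, mul_inv_cancel, map_one]

theorem rep_ne_zero [Nontrivial (Matrix (Fin 2) (Fin 2) K)] (x : Γ) : ρ x ≠ 0 := by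
  intro h
  have := rep_mul_inv (ρ := ρ) x
  rw [h, zero_mul] at this
  exact zero_ne_one this

theorem mem_center_of_scalar (hinj : Function.Injective ρ) {x : Γ} {l : K} (h : ρ x = l • 1) : x ∈ Subgroup.center Γ := by
  rw [Subgroup.mem_center_iff]
  intro y
  apply hinj
  rw [map_mul, map_mul, h]
  simp

theorem scalar_of_mem_center (h2 : (2 : K) ≠ 0) {g sh : Γ} (hg : ρ g = w2) (hsh : ρ sh * w2 = -(w2 * ρ sh)) {x : Γ}
    (hx : x ∈ Subgroup.center Γ) : ∃ l : K, ρ x = l • 1 := by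
  have h1 : ρ x * w2 = w2 * ρ x := by
    have := (Subgroup.mem_center_iff.1 hx g)
    rw [← hg, ← map_mul, ← map_mul, this]
  have h3 : ρ x * ρ sh = ρ sh * ρ x := by
    have := (Subgroup.mem_center_iff.1 hx sh)
    rw [← map_mul, ← map_mul, this]
  obtain ⟨a1, a2⟩ := comm_w2 h1
  obtain ⟨b1, b2⟩ := acomm_w2 hsh
  have h00 := congrFun (congrFun h3 0) 0
  have h01 := congrFun (congrFun h3 0) 1
  simp [Matrix.mul_apply, Fin.sum_univ_two, a1, a2, b1, b2] at h00 h01
  have h4 : 2 * (ρ x 0 1 * ρ sh 0 1) = 0 := by linear_combination h00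
  have h5 : 2 * (ρ x 0 1 * ρ sh 0 0) = 0 := by linear_combination -h01
  have h6 : ρ x 0 1 * ρ sh 0 1 = 0 := (mul_eq_zero.1 h4).resolve_left h2
  have h7 : ρ x 0 1 * ρ sh 0 0 = 0 := (mul_eq_zero.1 h5).resolve_left h2
  by_cases hb : ρ x 0 1 = 0
  · refine ⟨ρ x 0 0, ?_⟩
    ext i j
    fin_cases i <;> fin_cases j <;> simp [a1, a2, hb]
  · exfalso
    have h8 := (mul_eq_zero.1 h6).resolve_left hb
    have h9 := (mul_eq_zero.1 h7).resolve_left hb
    apply rep_ne_zero (ρ := ρ) sh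
    ext i j
    fin_cases i <;> fin_cases j <;> simp [b1, b2, h8, h9]

/-- A matrix commuting with `w` and with an anticommuting unit is scalar. -/
theorem scalar_of_comm' (h2 : (2 : K) ≠ 0) {sh : Γ} (hsh : ρ sh * w2 = -(w2 * ρ sh)) {X : Matrix (Fin 2) (Fin 2) K}
    (h1 : X * w2 = w2 * X) (h3 : X * ρ sh = ρ sh * X) : ∃ l : K, X = l • 1 := by
  obtain ⟨a1, a2⟩ := comm_w2 h1
  obtain ⟨b1, b2⟩ := acomm_w2 hsh
  have h00 := congrFun (congrFun h3 0) 0
  have h01 := congrFun (congrFun h3 0) 1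
  simp [Matrix.mul_apply, Fin.sum_univ_two, a1, a2, b1, b2] at h00 h01
  have h4 : 2 * (X 0 1 * ρ sh 0 1) = 0 := by linear_combination h00
  have h5 : 2 * (X 0 1 * ρ sh 0 0) = 0 := by linear_combination -h01
  have h6 : X 0 1 * ρ sh 0 1 = 0 := (mul_eq_zero.1 h4).resolve_left h2
  have h7 : X 0 1 * ρ sh 0 0 = 0 := (mul_eq_zero.1 h5).resolve_left h2
  by_cases hb : X 0 1 = 0
  · refine ⟨X 0 0, ?_⟩
    ext i j
    fin_cases i <;> fin_cases j <;> simp [a1, a2, hb]
  · exfalso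
    have h8 := (mul_eq_zero.1 h6).resolve_left hb
    have h9 := (mul_eq_zero.1 h7).resolve_left hb
    apply rep_ne_zero (ρ := ρ) sh
    ext i j
    fin_cases i <;> fin_cases j <;> simp [b1, b2, h8, h9]

/-- The elements whose image commutes with the image of `g`. -/
theorem lift_comm_cases (hinj : Function.Injective ρ) (h2 : (2 : K) ≠ 0) {g sh : Γ} (hg : ρ g = w2) (hsh : ρ sh * w2 = -(w2 * ρ sh))
    {x : Γ} (hx : piC x * piC g = piC g * piC x) : ρ x * w2 = w2 * ρ x ∨ ρ x * w2 = -(w2 * ρ x) := by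
  rw [← map_mul, ← map_mul, piC_eq] at hx
  obtain ⟨l, hl⟩ := scalar_of_mem_center h2 hg hsh hx
  have hl' : w2 * ρ x = l • (ρ x * w2) := by
    have e : g * x = (x * g) * ((x * g)⁻¹ * (g * x)) := by group
    rw [← hg, ← map_mul, e, map_mul, hl, map_mul, hg]
    simp
  set Y := ρ x with hY
  -- apply twice
  have h3 : (w2 * w2) * Y = (l * l) • (Y * (w2 * w2)) := by
    calc (w2 * w2) * Y = w2 * (w2 * Y) := by rw [Matrix.mul_assoc]
      _ = w2 * (l • (Y * w2)) := by rw [hl']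
      _ = l • ((w2 * Y) * w2) := by rw [Matrix.mul_smul, Matrix.mul_assoc]
      _ = l • ((l • (Y * w2)) * w2) := by rw [hl']
      _ = (l * l) • (Y * (w2 * w2)) := by
        rw [Matrix.smul_mul, smul_smul, Matrix.mul_assoc]
  rw [w2_mul_w2] at h3
  have h4 : Y = (l * l) • Y := by
    have h5 : (-1 : Matrix (Fin 2) (Fin 2) K) * Y = - Y := by simp
    have h6 : Y * (-1 : Matrix (Fin 2) (Fin 2) K) = - Y := by simp
    rw [h5, h6, smul_neg] at h3
    exact neg_injective h3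
  have hYne : Y ≠ 0 := rep_ne_zero x
  have hll : l * l = 1 := by
    obtain ⟨i, j, hij⟩ : ∃ i j, Y i j ≠ 0 := by
      by_contra hc
      push Not at hc
      exact hYne (by
        ext i j
        simpa using hc i j)
    have h5 := congrFun (congrFun h4 i) j
    simp only [Matrix.smul_apply, smul_eq_mul] at h5
    have h6 : (l * l - 1) * Y i j = 0 := by linear_combination -h5
    have h7 := (mul_eq_zero.1 h6).resolve_right hij
    linear_combination h7
  have hl2 : l = 1 ∨ l = -1 := mul_self_eq_one_iff.1 hll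
  rcases hl2 with rfl | rfl
  · left
    rw [hl', one_smul]
  · right
    rw [hl', neg_smul, one_smul, neg_neg]

/-- The structure of the centralizer. -/
theorem DL_of_rep [Finite Γ] (hinj : Function.Injective ρ) (h2 : (2 : K) ≠ 0) {g sh : Γ} (hg : ρ g = w2)
    (hsh : ρ sh * w2 = -(w2 * ρ sh)) (U : Subgroup (Γ ⧸ Subgroup.center Γ)) (hz : ∀ u ∈ U, u * piC g = piC g * u) :
    DL U ((Subgroup.centralizer {g}).map piC) (piC g) := by
  have hcent : ∀ x, x ∈ Subgroup.centralizer {g} ↔ ρ x * w2 = w2 * ρ x := by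
    intro x
    rw [Subgroup.mem_centralizer_singleton_iff]
    constructor
    · intro h
      rw [← hg, ← map_mul, ← map_mul, h]
    · intro h
      apply hinj
      rw [map_mul, map_mul, hg, h]
  have hnot : ∀ x, ρ x * w2 = -(w2 * ρ x) → piC x ∉ (Subgroup.centralizer {g}).map piC := by
    rintro x hx ⟨y, hy, e⟩
    have h1 : y⁻¹ * x ∈ Subgroup.center Γ := piC_eq.1 e
    obtain ⟨l, hl⟩ := scalar_of_mem_center h2 hg hsh h1
    have e2 : x = y * (y⁻¹ * x) := by group
    have hy' := (hcent y).1 hy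
    have h3 : ρ x * w2 = w2 * ρ x := by
      rw [e2, map_mul, hl]
      simp only [Matrix.mul_smul, Matrix.smul_mul, Matrix.mul_one]
      rw [hy']
    rw [h3] at hx
    have h4 : (2 : K) • (w2 * ρ x) = 0 := by
      rw [two_smul]
      nth_rw 1 [hx]
      simp
    have h5 : w2 * ρ x = 0 := by
      have := (smul_eq_zero.1 h4).resolve_left h2
      exact this
    have h6 : ρ x ≠ 0 := rep_ne_zero x
    apply h6
    have h7 : w2 * (w2 * ρ x) = 0 := by rw [h5, Matrix.mul_zero]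
    rw [← Matrix.mul_assoc, w2_mul_w2] at h7
    simpa using h7
  have hcases : ∀ x, piC x * piC g = piC g * piC x → x ∈ Subgroup.centralizer {g} ∨ ρ x * w2 = -(w2 * ρ x) := by
    intro x hx
    rcases lift_comm_cases hinj h2 hg hsh hx with h | h
    · exact Or.inl ((hcent x).2 h)
    · exact Or.inr h
  refine ⟨⟨g, ?_, rfl⟩, ?_, ?_, ?_, ?_, ?_, ?_, ?_, hz⟩
  · show g ∈ Subgroup.centralizer {g}
    rw [Subgroup.mem_centralizer_singleton_iff]
  · rw [← map_mul, piC_eq_one]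
    refine mem_center_of_scalar hinj (l := -1) ?_
    rw [map_mul, hg, w2_mul_w2]
    simp
  · intro h
    rw [piC_eq_one] at h
    obtain ⟨l, hl⟩ := scalar_of_mem_center h2 hg hsh h
    rw [hg] at hl
    have h01 := congrFun (congrFun hl 0) 1
    simp [w2] at h01
  · rintro _ ⟨x, hx, rfl⟩ _ ⟨y, hy, rfl⟩
    rw [← map_mul, ← map_mul]
    congr 1
    apply hinj
    rw [map_mul, map_mul]
    exact comm_of_comm_w2 ((hcent x).1 hx) ((hcent y).1 hy)
  · rintro _ ⟨x, hx, rfl⟩ h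
    rw [← map_mul, piC_eq_one] at h
    obtain ⟨μ, hμ⟩ := scalar_of_mem_center h2 hg hsh h
    rw [map_mul] at hμ
    rcases scalar_or_of_sq h2 ((hcent x).1 hx) hμ with ⟨l, hl⟩ | ⟨b, hb⟩
    · left
      rw [piC_eq_one]
      exact mem_center_of_scalar hinj hl
    · right
      rw [piC_eq]
      have hb0 : b ≠ 0 := by
        rintro rfl
        exact rep_ne_zero (ρ := ρ) x (by rw [hb, zero_smul])
      have hx1 : ρ x⁻¹ * (b • w2) = 1 := by
        rw [← hb]
        exact rep_inv_mul x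
      have e : ρ (x⁻¹ * g) = b⁻¹ • 1 := by
        rw [map_mul, hg]
        have : b • (ρ x⁻¹ * w2) = 1 := by
          rw [← Matrix.mul_smul]
          exact hx1
        have h3 := congrArg (fun t => b⁻¹ • t) this
        simpa [smul_smul, inv_mul_cancel₀ hb0] using h3
      exact mem_center_of_scalar hinj e
  · intro x' hx' hxA
    obtain ⟨x, rfl⟩ := piC_surj x'
    rcases hcases x hx' with h | h
    · exact absurd ⟨x, h, rfl⟩ hxA
    · rw [← map_mul, piC_eq_one]
      obtain ⟨μ, hμ⟩ := sq_of_acomm h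
      refine mem_center_of_scalar hinj (l := μ) ?_
      rw [map_mul, hμ]
  · intro x' y' hx' hy' hxA hyA
    obtain ⟨x, rfl⟩ := piC_surj x'
    obtain ⟨y, rfl⟩ := piC_surj y'
    rcases hcases x hx' with h | h
    · exact absurd ⟨x, h, rfl⟩ hxA
    rcases hcases y hy' with h' | h'
    · exact absurd ⟨y, h', rfl⟩ hyA
    refine ⟨x * y, ?_, map_mul _ _ _⟩
    show x * y ∈ Subgroup.centralizer {g}
    rw [hcent, map_mul]
    exact comm_of_acomm_acomm h h'
  · refine ⟨piC sh, ?_, hnot sh hsh⟩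
    rw [← map_mul, ← map_mul, piC_eq]
    refine mem_center_of_scalar hinj (l := -1) ?_
    have e : ρ ((sh * g)⁻¹ * (g * sh)) = -1 := by
      have h3 : ρ (g * sh) = - ρ (sh * g) := by
        rw [map_mul, map_mul, hg, hsh, neg_neg]
      rw [map_mul, h3, Matrix.mul_neg, rep_inv_mul]
    rw [e]
    simp

end Rep

section Main

variable {K : Type*} [Field K] {Γ : Type*} [Group Γ] [Finite Γ] {ρ : Γ →* Matrix (Fin 2) (Fin 2) K}

/-- A finite group represented in `M₂(K)`, with a normal subgroup containing the involutions we need. -/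
structure Setup (ρ : Γ →* Matrix (Fin 2) (Fin 2) K) (Γ₁ : Subgroup Γ) (wh sh : Γ) : Prop where
  inj : Function.Injective ρ
  two : (2 : K) ≠ 0
  norm : Γ₁.Normal
  wh_mem : wh ∈ Γ₁
  wh_eq : ρ wh = w2
  sh_anti : ρ sh * w2 = -(w2 * ρ sh)
  conj : ∀ g ∈ Γ₁, ρ g * ρ g = -1 → ∃ c, c * wh * c⁻¹ = g
  scal : ∀ x ∈ Γ₁, ∀ μ : K, ρ x * ρ x = μ • 1 → (∃ l : K, ρ x = l • 1) ∨ ρ x * ρ x = -1

/-- Conjugating a `p`-subgroup into a Sylow subgroup. -/
theorem exists_conj_into {G : Type*} [Group G] [Finite G] {p : ℕ} [Fact p.Prime] (U : Sylow p G) {Q : Subgroup G} (hQ : IsPGroup p Q) :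
    ∃ g : G, ∀ x ∈ Q, g * x * g⁻¹ ∈ (U : Subgroup G) := by
  obtain ⟨P, hP⟩ := hQ.exists_le_sylow
  obtain ⟨k, hk⟩ := MulAction.exists_smul_eq G P U
  refine ⟨k, fun x hx => ?_⟩
  rw [← hk, mem_smul_sylow]
  have e : k⁻¹ * (k * x * k⁻¹) * k = x := by group
  rw [e]
  exact hP hx

/-- A `p`-element can be conjugated into a Sylow subgroup. -/
theorem exists_conj_elt {G : Type*} [Group G] [Finite G] {p : ℕ} [Fact p.Prime] (U : Sylow p G) {x : G} {k : ℕ} (hx : x ^ p ^ k = 1) :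
    ∃ g : G, g * x * g⁻¹ ∈ (U : Subgroup G) := by
  have hQ : IsPGroup p (Subgroup.zpowers x) := by
    rintro ⟨y, n, rfl⟩
    refine ⟨k, Subtype.ext ?_⟩
    show (x ^ n) ^ p ^ k = 1
    rw [← zpow_natCast, ← zpow_mul, mul_comm, zpow_mul, zpow_natCast, hx, one_zpow]
  obtain ⟨g, hg⟩ := exists_conj_into U hQ
  exact ⟨g, hg x (Subgroup.mem_zpowers x)⟩

/-- A non-trivial element of a `p`-subgroup has a power of order `p`. -/
theorem exists_pow_involution {G : Type*} [Group G] {p : ℕ} [hp : Fact p.Prime] {t : G} {k : ℕ} (hk : t ^ p ^ k = 1) (ht : t ≠ 1) :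
    ∃ j : ℕ, t ^ p ^ j ≠ 1 ∧ (t ^ p ^ j) ^ p = 1 := by
  induction k with
  | zero =>
    exfalso
    apply ht
    simpa using hk
  | succ k ih =>
    by_cases h : t ^ p ^ k = 1
    · exact ih h
    · refine ⟨k, h, ?_⟩
      rw [← pow_mul, ← pow_succ]
      exact hk

variable {Γ₁ : Subgroup Γ} {wh sh : Γ}

theorem Setup.wh_sq (h : Setup ρ Γ₁ wh sh) : ρ wh * ρ wh = -1 := by
  rw [h.wh_eq, w2_mul_w2]

/-- An element of `Γ₁` whose image is an involution. -/
theorem Setup.lift_involution (h : Setup ρ Γ₁ wh sh) {g : Γ} (hg : g ∈ Γ₁) (h1 : piC g * piC g = 1) (hne : piC g ≠ 1) : ρ g * ρ g = -1 := by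
  rw [← map_mul, piC_eq_one] at h1
  obtain ⟨μ, hμ⟩ := scalar_of_mem_center h.two h.wh_eq h.sh_anti h1
  rw [map_mul] at hμ
  rcases h.scal g hg μ hμ with ⟨l, hl⟩ | h2
  · exact absurd (piC_eq_one.2 (mem_center_of_scalar h.inj hl)) hne
  · exact h2

/-- The structure of the centralizer of a central involution of a Sylow subgroup. -/
theorem Setup.exists_DL (h : Setup ρ Γ₁ wh sh) (U : Sylow 2 (Γ ⧸ Subgroup.center Γ)) :
    ∃ g ∈ Γ₁, ρ g * ρ g = -1 ∧ DL (U : Subgroup (Γ ⧸ Subgroup.center Γ)) ((Subgroup.centralizer {g}).map piC) (piC g) := by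
  classical
  haveI hnorm := h.norm
  -- a nontrivial element of `U` in the image of `Γ₁`
  have hwh1 : piC wh ≠ 1 := by
    intro h1
    rw [piC_eq_one] at h1
    obtain ⟨l, hl⟩ := scalar_of_mem_center h.two h.wh_eq h.sh_anti h1
    rw [h.wh_eq] at hl
    have h01 := congrFun (congrFun hl 0) 1
    simp [w2] at h01
  have hwh2 : piC wh * piC wh = 1 := by
    rw [← map_mul, piC_eq_one]
    refine mem_center_of_scalar h.inj (l := -1) ?_
    rw [map_mul, h.wh_eq, w2_mul_w2]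
    simp
  obtain ⟨c₀, hc₀⟩ := exists_conj_elt (k := 1) U (x := piC wh) (by rw [pow_one, pow_two]; exact hwh2)
  obtain ⟨c₁, rfl⟩ := piC_surj c₀
  let N₀ : Subgroup (Γ ⧸ Subgroup.center Γ) := Γ₁.map piC
  haveI hN₀ : N₀.Normal := Subgroup.Normal.map hnorm piC piC_surj
  let N : Subgroup (U : Subgroup (Γ ⧸ Subgroup.center Γ)) := N₀.subgroupOf (U : Subgroup (Γ ⧸ Subgroup.center Γ))
  haveI hNn : N.Normal := Subgroup.Normal.subgroupOf hN₀ _
  have hNne : N ≠ ⊥ := by
    intro hb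
    have h1 : (⟨_, hc₀⟩ : (U : Subgroup (Γ ⧸ Subgroup.center Γ))) ∈ N := by
      show piC c₁ * piC wh * (piC c₁)⁻¹ ∈ N₀
      refine ⟨c₁ * wh * c₁⁻¹, hnorm.conj_mem wh h.wh_mem c₁, ?_⟩
      simp only [map_mul, map_inv]
    rw [hb] at h1
    have h2 : piC c₁ * piC wh * (piC c₁)⁻¹ = 1 := congrArg Subtype.val (Subgroup.mem_bot.1 h1)
    apply hwh1
    have := congrArg (fun t => (piC c₁)⁻¹ * t * piC c₁) h2
    simpa [mul_assoc] using this
  obtain ⟨z, hzN, hz1, hzc, hz2⟩ := Transfer.exists_central_of_normal U.isPGroup' hNne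
  obtain ⟨g, hg, hgz⟩ : ∃ g ∈ Γ₁, piC g = (z : Γ ⧸ Subgroup.center Γ) := hzN
  have hg2 : piC g * piC g = 1 := by
    rw [hgz]
    have : (z : Γ ⧸ Subgroup.center Γ) ^ 2 = 1 := congrArg Subtype.val hz2
    rwa [pow_two] at this
  have hg1 : piC g ≠ 1 := by
    rw [hgz]
    exact fun hc => hz1 (Subtype.ext hc)
  have hgg := h.lift_involution hg hg2 hg1
  refine ⟨g, hg, hgg, ?_⟩
  obtain ⟨c, hc⟩ := h.conj g hg hgg
  let ρ' : Γ →* Matrix (Fin 2) (Fin 2) K := ρ.comp (MulAut.conj c⁻¹).toMonoidHom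
  have hρ' : ∀ x, ρ' x = ρ (c⁻¹ * x * c) := by
    intro x
    show ρ (c⁻¹ * x * c⁻¹⁻¹) = _
    rw [inv_inv]
  have hinj' : Function.Injective ρ' := by
    intro a b hab
    rw [hρ', hρ'] at hab
    have h1 := h.inj hab
    have := congrArg (fun t => c * t * c⁻¹) h1
    simpa [mul_assoc] using this
  have hg' : ρ' g = w2 := by
    rw [hρ', ← hc, ← h.wh_eq]
    congr 1
    group
  have hsh' : ρ' (c * sh * c⁻¹) * w2 = -(w2 * ρ' (c * sh * c⁻¹)) := by
    have e : ρ' (c * sh * c⁻¹) = ρ sh := by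
      rw [hρ']
      congr 1
      group
    rw [e]
    exact h.sh_anti
  refine DL_of_rep hinj' h.two hg' hsh' _ ?_
  intro u hu
  rw [hgz]
  exact congrArg Subtype.val (hzc ⟨u, hu⟩)

/-- Simplicity of the `2`-fusion system of the quotient by the centre. -/
theorem Setup.isSimple (h : Setup ρ ⊤ wh sh) (S : Sylow 2 (Γ ⧸ Subgroup.center Γ)) (h8 : 8 ≤ Nat.card (S : Subgroup (Γ ⧸ Subgroup.center Γ))) :
    (groupFusionSystem (S : Subgroup (Γ ⧸ Subgroup.center Γ))).IsSimple 2 := by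
  obtain ⟨g, -, hgg, hDL⟩ := h.exists_DL S
  refine isSimple_of_cent S ?_ ?_ ?_
  · intro hb
    rw [hb] at h8
    simp at h8
  · intro T hTS hT1 hcl
    -- `T` contains an involution
    obtain ⟨t, ht, ht1⟩ : ∃ t ∈ T, t ≠ 1 := by
      by_contra hc
      push Not at hc
      exact hT1 ((Subgroup.eq_bot_iff_forall T).2 hc)
    obtain ⟨k, hk⟩ := S.isPGroup' ⟨t, hTS ht⟩
    have hk' : t ^ 2 ^ k = 1 := congrArg Subtype.val hk
    obtain ⟨j, hj1, hj2⟩ := exists_pow_involution hk' ht1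
    set t' := t ^ 2 ^ j with ht'
    have ht'T : t' ∈ T := T.pow_mem ht _
    obtain ⟨x, hx⟩ := piC_surj t'
    have hx2 : piC x * piC x = 1 := by
      rw [hx, ← pow_two]
      exact hj2
    have hx1 : piC x ≠ 1 := by
      rw [hx]
      exact hj1
    have hxx := h.lift_involution (Subgroup.mem_top x) hx2 hx1
    obtain ⟨c, hc⟩ := h.conj x (Subgroup.mem_top x) hxx
    intro u hu
    have hcl2 : Subgroup.closure {v | v ∈ (S : Subgroup (Γ ⧸ Subgroup.center Γ)) ∧ v * v = 1} ≤ T := by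
      rw [Subgroup.closure_le]
      rintro v ⟨hv, hv2⟩
      by_cases hv1 : v = 1
      · rw [hv1]
        exact T.one_mem
      obtain ⟨y, rfl⟩ := piC_surj v
      have hyy := h.lift_involution (Subgroup.mem_top y) hv2 hv1
      obtain ⟨c', hc'⟩ := h.conj y (Subgroup.mem_top y) hyy
      have e : piC y = piC (c' * c⁻¹) * t' * (piC (c' * c⁻¹))⁻¹ := by
        rw [← hx, ← hc', ← hc]
        simp only [map_mul, map_inv]
        group
      have h3 := hcl t' ht'T (piC (c' * c⁻¹)) (by rw [← e]; exact hv)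
      rw [← e] at h3
      exact h3
    exact hcl2 (hDL.mem_closure hu)
  · intro y hy hyo u hu
    exact hDL.cent h8 hy hyo hu

/-- A matrix of determinant one whose square is scalar is scalar or has square `-1`. -/
theorem scal_of_det {A : Matrix (Fin 2) (Fin 2) K} (hdet : A.det = 1) (μ : K) (h : A * A = μ • 1) :
    (∃ l : K, A = l • 1) ∨ A * A = -1 := by
  rw [Matrix.det_fin_two] at hdet
  have h00 := congrFun (congrFun h 0) 0
  have h01 := congrFun (congrFun h 0) 1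
  have h10 := congrFun (congrFun h 1) 0
  have h11 := congrFun (congrFun h 1) 1
  simp [Matrix.mul_apply, Fin.sum_univ_two] at h00 h01 h10 h11
  by_cases ht : A 0 0 + A 1 1 = 0
  · right
    have hd : A 1 1 = - A 0 0 := by linear_combination ht
    ext i j
    fin_cases i <;> fin_cases j <;> simp [Matrix.mul_apply, Fin.sum_univ_two]
    · rw [hd] at hdet
      linear_combination -hdet
    · linear_combination A 0 1 * ht
    · linear_combination A 1 0 * ht
    · rw [hd] at hdet ⊢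
      linear_combination -hdet
  · left
    have hb : A 0 1 = 0 := by
      have : A 0 1 * (A 0 0 + A 1 1) = 0 := by linear_combination h01
      exact (mul_eq_zero.1 this).resolve_right ht
    have hc : A 1 0 = 0 := by
      have : A 1 0 * (A 0 0 + A 1 1) = 0 := by linear_combination h10
      exact (mul_eq_zero.1 this).resolve_right ht
    have hd : A 0 0 = A 1 1 := by
      have : (A 0 0 - A 1 1) * (A 0 0 + A 1 1) = 0 := by
        rw [hb] at h00
        rw [hb] at h11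
        linear_combination h00 - h11
      have := (mul_eq_zero.1 this).resolve_right ht
      linear_combination this
    refine ⟨A 0 0, ?_⟩
    ext i j
    fin_cases i <;> fin_cases j <;> simp [hb, hc, hd]

/-- Lifting the generation by involutions to the group itself, when all determinants are one. -/
theorem Setup.mem_closure_lift (h : Setup ρ ⊤ wh sh) (hdet : ∀ x, (ρ x).det = 1) (V : Sylow 2 Γ) {u : Γ} (hu : u ∈ (V : Subgroup Γ)) :
    u ∈ Subgroup.closure {e | e ∈ (V : Subgroup Γ) ∧ ρ e * ρ e = -1} := by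
  set E := Subgroup.closure {e | e ∈ (V : Subgroup Γ) ∧ ρ e * ρ e = -1} with hE
  have hEV : E ≤ (V : Subgroup Γ) := by
    rw [hE, Subgroup.closure_le]
    exact fun e he => he.1
  let Ub : Sylow 2 (Γ ⧸ Subgroup.center Γ) := V.mapSurjective piC_surj
  have hUb : (Ub : Subgroup (Γ ⧸ Subgroup.center Γ)) = (V : Subgroup Γ).map piC := Sylow.coe_mapSurjective _ _
  obtain ⟨g, -, hgg, hDL⟩ := h.exists_DL Ub
  have h1 : piC u ∈ (Ub : Subgroup (Γ ⧸ Subgroup.center Γ)) := by
    rw [hUb]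
    exact ⟨u, hu, rfl⟩
  have h2 := hDL.mem_closure h1
  have h3 : Subgroup.closure {v | v ∈ (Ub : Subgroup (Γ ⧸ Subgroup.center Γ)) ∧ v * v = 1} ≤ E.map piC := by
    rw [Subgroup.closure_le]
    rintro v ⟨hv, hv2⟩
    by_cases hv1 : v = 1
    · rw [hv1]
      exact Subgroup.one_mem _
    rw [hUb] at hv
    obtain ⟨e, he, rfl⟩ := hv
    exact ⟨e, Subgroup.subset_closure ⟨he, h.lift_involution (Subgroup.mem_top e) hv2 hv1⟩, rfl⟩
  obtain ⟨u', hu', e⟩ := h3 h2
  have hk : u'⁻¹ * u ∈ Subgroup.center Γ := piC_eq.1 e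
  obtain ⟨l, hl⟩ := scalar_of_mem_center h.two h.wh_eq h.sh_anti hk
  have hkdet := hdet (u'⁻¹ * u)
  rw [hl, Matrix.det_smul, Matrix.det_one, mul_one, Fintype.card_fin, pow_two] at hkdet
  have hl2 : l = 1 ∨ l = -1 := mul_self_eq_one_iff.1 hkdet
  have e2 : u = u' * (u'⁻¹ * u) := by group
  rw [e2]
  refine E.mul_mem hu' ?_
  rcases hl2 with rfl | rfl
  · have : u'⁻¹ * u = 1 := h.inj (by rw [hl, map_one, one_smul])
    rw [this]
    exact E.one_mem
  · -- an element of square `-1`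
    have hw4 : wh ^ 2 ^ 2 = 1 := by
      apply h.inj
      have e3 : wh ^ 2 ^ 2 = wh * wh * (wh * wh) := by
        norm_num [pow_succ, mul_assoc]
      rw [e3, map_mul, map_mul, h.wh_eq, w2_mul_w2, map_one]
      simp
    obtain ⟨c, hc⟩ := exists_conj_elt V hw4
    have hcc : ρ (c * wh * c⁻¹) * ρ (c * wh * c⁻¹) = -1 := by
      have e3 : c * wh * c⁻¹ * (c * wh * c⁻¹) = c * (wh * wh) * c⁻¹ := by group
      rw [← map_mul, e3, map_mul, map_mul, map_mul, h.wh_eq, w2_mul_w2, Matrix.mul_neg, Matrix.mul_one, Matrix.neg_mul, rep_mul_inv]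
    have h5 : (c * wh * c⁻¹) * (c * wh * c⁻¹) ∈ E :=
      E.mul_mem (Subgroup.subset_closure ⟨hc, hcc⟩) (Subgroup.subset_closure ⟨hc, hcc⟩)
    have h6 : u'⁻¹ * u = (c * wh * c⁻¹) * (c * wh * c⁻¹) := by
      apply h.inj
      rw [hl, map_mul, hcc, neg_smul, one_smul]
    rw [h6]
    exact h5

end Main

end Cfsg.Agent.Lib.Fusion.TwoF
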