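/-
The group `SL₂(F)`, `F` a finite field of odd order: all elements of square `-1` are conjugate, and the `2`-fusion
system of `PSL₂(F)` is simple.
-/
import Cfsg.Agent.Lib.Fusion.TwoF2
import Cfsg.Agent.Lib.Classical.Card2
import Cfsg.Agent.Lib.Classical.SylowSL2

set_option autoImplicit false
set_option linter.unusedSectionVars false
set_option linter.unusedVariables false
set_option linter.unusedSimpArgs false
set_option linter.style.haveILetI false

namespace Cfsg.Agent.Lib.Fusion.TwoF

open Cfsg Cfsg.FusionSystem Cfsg.Agent.Lib.Fusion Matrix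

section SL2

variable {F : Type*} [Field F] [Fintype F]

theorem two_ne_zero_of_odd (hodd : Fintype.card F % 2 = 1) : (2 : F) ≠ 0 := by
  apply Ring.two_ne_zero
  intro h
  have := FiniteField.even_card_iff_char_two.1 h
  omega

/-- Every element of a finite field of odd order is a sum of two squares. -/
theorem exists_sq_add_sq (hodd : Fintype.card F % 2 = 1) (t : F) : ∃ a b : F, a * a + b * b = t := by
  classical
  obtain ⟨a, b, h⟩ := FiniteField.exists_root_sum_quadratic (R := F) (f := Polynomial.X ^ 2 - Polynomial.C t) (g := Polynomial.X ^ 2)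
    (Polynomial.degree_X_pow_sub_C (by norm_num) t) (Polynomial.degree_X_pow 2) hodd
  refine ⟨a, b, ?_⟩
  simp at h
  linear_combination h

/-- The inclusion of `SL₂`. -/
def slRep : SpecialLinearGroup (Fin 2) F →* Matrix (Fin 2) (Fin 2) F where
  toFun x := x.1
  map_one' := rfl
  map_mul' _ _ := rfl

theorem slRep_apply (x : SpecialLinearGroup (Fin 2) F) : slRep x = x.1 := rfl

/-- The element `w`. -/
def wSL : SpecialLinearGroup (Fin 2) F := ⟨w2, by simp [w2, Matrix.det_fin_two]⟩

theorem slRep_inj : Function.Injective (slRep (F := F)) := fun _ _ h => Subtype.ext h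

theorem sl_scal (hodd : Fintype.card F % 2 = 1) (x : SpecialLinearGroup (Fin 2) F) (μ : F) (h : slRep x * slRep x = μ • 1) :
    (∃ l : F, slRep x = l • 1) ∨ slRep x * slRep x = -1 := by
  have hdet : x.1 0 0 * x.1 1 1 - x.1 0 1 * x.1 1 0 = 1 := by
    have := x.2
    rwa [Matrix.det_fin_two] at this
  rw [slRep_apply] at h ⊢
  have h00 := congrFun (congrFun h 0) 0
  have h01 := congrFun (congrFun h 0) 1
  have h10 := congrFun (congrFun h 1) 0
  have h11 := congrFun (congrFun h 1) 1
  simp [Matrix.mul_apply, Fin.sum_univ_two] at h00 h01 h10 h11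
  by_cases ht : x.1 0 0 + x.1 1 1 = 0
  · right
    have hd : x.1 1 1 = - x.1 0 0 := by linear_combination ht
    ext i j
    fin_cases i <;> fin_cases j <;> simp [Matrix.mul_apply, Fin.sum_univ_two]
    · rw [hd] at hdet
      linear_combination -hdet
    · linear_combination x.1 0 1 * ht
    · linear_combination x.1 1 0 * ht
    · rw [hd] at hdet ⊢
      linear_combination -hdet
  · left
    have hb : x.1 0 1 = 0 := by
      have : x.1 0 1 * (x.1 0 0 + x.1 1 1) = 0 := by linear_combination h01
      exact (mul_eq_zero.1 this).resolve_right ht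
    have hc : x.1 1 0 = 0 := by
      have : x.1 1 0 * (x.1 0 0 + x.1 1 1) = 0 := by linear_combination h10
      exact (mul_eq_zero.1 this).resolve_right ht
    have hd : x.1 0 0 = x.1 1 1 := by
      have : (x.1 0 0 - x.1 1 1) * (x.1 0 0 + x.1 1 1) = 0 := by
        rw [hb] at h00
        rw [hb] at h11
        linear_combination h00 - h11
      have := (mul_eq_zero.1 this).resolve_right ht
      linear_combination this
    refine ⟨x.1 0 0, ?_⟩
    ext i j
    fin_cases i <;> fin_cases j <;> simp [hb, hc, hd]

/-- All elements of square `-1` are conjugate to `w`. -/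
theorem sl_conj (hodd : Fintype.card F % 2 = 1) (g : SpecialLinearGroup (Fin 2) F) (h : slRep g * slRep g = -1) :
    ∃ c, c * wSL * c⁻¹ = g := by
  have h2 := two_ne_zero_of_odd hodd
  have hdet : g.1 0 0 * g.1 1 1 - g.1 0 1 * g.1 1 0 = 1 := by
    have := g.2
    rwa [Matrix.det_fin_two] at this
  rw [slRep_apply] at h
  have h00 := congrFun (congrFun h 0) 0
  have h01 := congrFun (congrFun h 0) 1
  have h10 := congrFun (congrFun h 1) 0
  have h11 := congrFun (congrFun h 1) 1
  simp [Matrix.mul_apply, Fin.sum_univ_two] at h00 h01 h10 h11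
  set a := g.1 0 0 with ha
  set b := g.1 0 1 with hb
  set c := g.1 1 0 with hc
  set d := g.1 1 1 with hd
  have ht : a + d = 0 := by
    by_contra ht
    have hb0 : b = 0 := by
      have : b * (a + d) = 0 := by linear_combination h01
      exact (mul_eq_zero.1 this).resolve_right ht
    have hc0 : c = 0 := by
      have : c * (a + d) = 0 := by linear_combination h10
      exact (mul_eq_zero.1 this).resolve_right ht
    rw [hb0] at h00 h11
    rw [hb0] at hdet
    have h3 : (a - d) * (a + d) = 0 := by linear_combination h00 - h11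
    have h4 := (mul_eq_zero.1 h3).resolve_right ht
    have h5 : a = d := by linear_combination h4
    rw [← h5] at hdet
    apply h2
    linear_combination h00 - hdet
  have hd' : d = - a := by linear_combination ht
  have hq : a * a + b * c = -1 := by
    rw [hd'] at hdet
    linear_combination -hdet
  -- the vector
  obtain ⟨p, r, hpr⟩ : ∃ p r : F, -c * p * p + 2 * a * p * r + b * r * r = 1 := by
    by_cases hc0 : c = 0
    · have ha0 : a ≠ 0 := by
        rintro ha0
        rw [hc0, ha0] at hq
        have : (1 : F) = 0 := by linear_combination hq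
        exact one_ne_zero this
      refine ⟨(1 - b) / (2 * a), 1, ?_⟩
      rw [hc0]
      field_simp
      ring
    · obtain ⟨s, r, hsr⟩ := exists_sq_add_sq hodd (-c)
      refine ⟨(s + a * r) / c, r, ?_⟩
      field_simp
      linear_combination (-1 : F) * hsr + r * r * hq
  let x : SpecialLinearGroup (Fin 2) F := ⟨!![p, -(a * p + b * r); r, -(c * p + d * r)], by
    rw [Matrix.det_fin_two]
    simp only [Matrix.of_apply, Matrix.cons_val', Matrix.cons_val_zero, Matrix.cons_val_one, Matrix.cons_val_fin_one]
    rw [hd']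
    linear_combination hpr⟩
  refine ⟨x, ?_⟩
  have key : x * wSL = g * x := by
    apply Subtype.ext
    show x.1 * w2 = g.1 * x.1
    ext i j
    fin_cases i <;> fin_cases j <;> simp [x, w2, Matrix.mul_apply, Fin.sum_univ_two, ← ha, ← hb, ← hc, ← hd]
    all_goals first | ring1 | linear_combination p * h00 + r * h01 | linear_combination p * h10 + r * h11
  rw [key]
  group

theorem sl_setup (hodd : Fintype.card F % 2 = 1) : ∃ sh, Setup (slRep (F := F)) ⊤ wSL sh := by
  have h2 := two_ne_zero_of_odd hodd
  obtain ⟨a, b, hab⟩ := exists_sq_add_sq hodd (-1 : F)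
  let sh : SpecialLinearGroup (Fin 2) F := ⟨!![a, b; b, -a], by
    rw [Matrix.det_fin_two]
    simp only [Matrix.of_apply, Matrix.cons_val', Matrix.cons_val_zero, Matrix.cons_val_one, Matrix.cons_val_fin_one]
    linear_combination -hab⟩
  refine ⟨sh, slRep_inj, h2, inferInstance, Subgroup.mem_top _, rfl, ?_, fun g _ hg => sl_conj hodd g hg, fun x _ μ h => sl_scal hodd x μ h⟩
  show sh.1 * w2 = -(w2 * sh.1)
  ext i j
  fin_cases i <;> fin_cases j <;> simp [sh, w2, Matrix.mul_apply, Fin.sum_univ_two]

/-- **The `2`-fusion system of `PSL₂(F)`.** -/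
theorem isSimple_PSL2 (hodd : Fintype.card F % 2 = 1) (h16 : 16 ∣ Fintype.card F ^ 2 - 1)
    (S : Sylow 2 (Matrix.ProjectiveSpecialLinearGroup (Fin 2) F)) :
    (groupFusionSystem (S : Subgroup (Matrix.ProjectiveSpecialLinearGroup (Fin 2) F))).IsSimple 2 := by
  obtain ⟨sh, hs⟩ := sl_setup (F := F) hodd
  refine hs.isSimple S ?_
  -- the order of the Sylow subgroup
  have hcard : 8 ∣ Nat.card (Matrix.ProjectiveSpecialLinearGroup (Fin 2) F) := by
    have h1 := Subgroup.card_eq_card_quotient_mul_card_subgroup (Subgroup.center (SpecialLinearGroup (Fin 2) F))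
    rw [Cfsg.Agent.Lib.Classical.card_center_SL 2 (by norm_num), Cfsg.Agent.Lib.Classical.card_SL2_eq] at h1
    have h6 : Nat.gcd 2 (Nat.card F - 1) = 2 := by
      apply Nat.gcd_eq_left
      rw [Nat.card_eq_fintype_card]
      have : 1 ≤ Fintype.card F := Fintype.card_pos
      omega
    rw [h6] at h1
    have h7 : 16 ∣ Fintype.card F * (Fintype.card F ^ 2 - 1) := h16.trans (dvd_mul_left _ _)
    rw [h1] at h7
    have h8 : 8 * 2 ∣ Nat.card (Matrix.ProjectiveSpecialLinearGroup (Fin 2) F) * 2 := by
      simpa using h7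
    exact Nat.dvd_of_mul_dvd_mul_right (by norm_num) h8
  have h5 : 2 ^ 3 ∣ Nat.card (S : Subgroup (Matrix.ProjectiveSpecialLinearGroup (Fin 2) F)) :=
    S.pow_dvd_card_of_pow_dvd_card (by simpa using hcard)
  have hpos : 0 < Nat.card (S : Subgroup (Matrix.ProjectiveSpecialLinearGroup (Fin 2) F)) := Nat.card_pos
  have := Nat.le_of_dvd hpos h5
  simpa using this

end SL2

end Cfsg.Agent.Lib.Fusion.TwoF
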