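/-
Passing from a Sylow subgroup to a conjugate and to the quotient by a central subgroup of odd order.
-/
import Cfsg.Agent.Lib.Fusion.TwoF3
import Cfsg.Agent.Lib.Coprime.Conj

set_option autoImplicit false
set_option linter.unusedSectionVars false
set_option linter.unusedVariables false
set_option linter.unusedSimpArgs false
set_option linter.style.haveILetI false

namespace Cfsg.Agent.Lib.Fusion.TwoF

open Cfsg Cfsg.FusionSystem Cfsg.Agent.Lib.Fusion

section

variable {G : Type*} [Group G] [Finite G] {p : ℕ} [hp : Fact p.Prime]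

/-- The criterion, checked on a single Sylow subgroup. -/
theorem isSimple_of_cent' (U S : Sylow p G) (hU1 : (U : Subgroup G) ≠ ⊥)
    (hcl : ∀ T : Subgroup G, T ≤ (U : Subgroup G) → T ≠ ⊥ →
      (∀ t ∈ T, ∀ h, h * t * h⁻¹ ∈ (U : Subgroup G) → h * t * h⁻¹ ∈ T) → (U : Subgroup G) ≤ T)
    (hN : ∀ y ∈ Subgroup.normalizer ((U : Subgroup G) : Set G), ¬ p ∣ orderOf y → ∀ u ∈ (U : Subgroup G), y * u = u * y) :
    (groupFusionSystem (S : Subgroup G)).IsSimple p := by
  obtain ⟨k, hk'⟩ := MulAction.exists_smul_eq G U S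
  have hk : ∀ x, x ∈ (S : Subgroup G) ↔ k⁻¹ * x * k ∈ (U : Subgroup G) := by
    intro x
    rw [← hk', mem_smul_sylow]
  have e1 : ∀ x : G, k⁻¹ * (k * x * k⁻¹) * k = x := fun x => by group
  have e2 : ∀ x : G, k * (k⁻¹ * x * k) * k⁻¹ = x := fun x => by group
  refine isSimple_of_cent S ?_ ?_ ?_
  · intro hb
    apply hU1
    rw [eq_bot_iff]
    intro x hx
    have h1 : k * x * k⁻¹ ∈ (S : Subgroup G) := by
      rw [hk, e1]
      exact hx
    rw [hb] at h1
    have h2 : k * x * k⁻¹ = 1 := h1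
    rw [← e1 x, h2]
    simp
  · intro T hTS hT1 hTc
    let T₀ : Subgroup G := T.comap (MulAut.conj k).toMonoidHom
    have hmem : ∀ x, x ∈ T₀ ↔ k * x * k⁻¹ ∈ T := fun x => Iff.rfl
    have hT₀U : T₀ ≤ (U : Subgroup G) := by
      intro x hx
      have h1 := (hk _).1 (hTS ((hmem x).1 hx))
      rwa [e1] at h1
    have hT₀1 : T₀ ≠ ⊥ := by
      intro h
      apply hT1
      rw [eq_bot_iff]
      intro x hx
      have h1 : k⁻¹ * x * k ∈ T₀ := by
        rw [hmem, e2]
        exact hx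
      rw [h] at h1
      have h2 : k⁻¹ * x * k = 1 := h1
      rw [← e2 x, h2]
      simp
    have hUT := hcl T₀ hT₀U hT₀1 (by
      intro t ht h hh
      rw [hmem]
      have e : k * (h * t * h⁻¹) * k⁻¹ = (k * h * k⁻¹) * (k * t * k⁻¹) * (k * h * k⁻¹)⁻¹ := by group
      rw [e]
      refine hTc _ ((hmem t).1 ht) _ ?_
      rw [← e, hk, e1]
      exact hh)
    intro x hx
    have h1 := hUT ((hk x).1 hx)
    have h2 := (hmem _).1 h1
    rwa [e2] at h2
  · intro y hy hyo u hu
    have hy' : k⁻¹ * y * k ∈ Subgroup.normalizer ((U : Subgroup G) : Set G) := by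
      rw [Subgroup.mem_normalizer_iff]
      intro x
      have e3 : x ∈ (U : Subgroup G) ↔ k * x * k⁻¹ ∈ (S : Subgroup G) := by
        rw [hk, e1]
      rw [e3, Subgroup.mem_normalizer_iff.1 hy, hk]
      have e4 : k⁻¹ * (y * (k * x * k⁻¹) * y⁻¹) * k = k⁻¹ * y * k * x * (k⁻¹ * y * k)⁻¹ := by group
      rw [e4]
    have hord : orderOf (k⁻¹ * y * k) = orderOf y := by
      have := orderOf_injective (MulAut.conj k⁻¹).toMonoidHom (MulAut.conj k⁻¹).injective y
      have e5 : (MulAut.conj k⁻¹).toMonoidHom y = k⁻¹ * y * k := by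
        show k⁻¹ * y * k⁻¹⁻¹ = _
        rw [inv_inv]
      rwa [e5] at this
    have h1 := hN _ hy' (by rwa [hord]) _ ((hk u).1 hu)
    have h2 : y * u = k * ((k⁻¹ * y * k) * (k⁻¹ * u * k)) * k⁻¹ := by group
    rw [h2, h1]
    group

/-- The criterion for the quotient by a centre of order prime to `p`. -/
theorem isSimple_of_cover_odd (hZ : ∀ z ∈ Subgroup.center G, ∀ k : ℕ, z ^ p ^ k = 1 → z = 1) (U : Sylow p G) (hU1 : (U : Subgroup G) ≠ ⊥)
    (hcl : ∀ T : Subgroup G, T ≤ (U : Subgroup G) → T ≠ ⊥ →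
      (∀ t ∈ T, ∀ h, h * t * h⁻¹ ∈ (U : Subgroup G) → h * t * h⁻¹ ∈ T) → (U : Subgroup G) ≤ T)
    (hN : ∀ y ∈ Subgroup.normalizer ((U : Subgroup G) : Set G), ¬ p ∣ orderOf y → ∀ u ∈ (U : Subgroup G), y * u = u * y)
    (S : Sylow p (G ⧸ Subgroup.center G)) :
    (groupFusionSystem (S : Subgroup (G ⧸ Subgroup.center G))).IsSimple p := by
  have hpp := hp.out
  let U' : Sylow p (G ⧸ Subgroup.center G) := U.mapSurjective piC_surj
  have hU' : (U' : Subgroup (G ⧸ Subgroup.center G)) = (U : Subgroup G).map piC := Sylow.coe_mapSurjective _ _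
  -- elements of `U` are `p`-elements
  have hUp : ∀ u ∈ (U : Subgroup G), ∃ k : ℕ, u ^ p ^ k = 1 := by
    intro u hu
    obtain ⟨k, hk⟩ := U.isPGroup' ⟨u, hu⟩
    exact ⟨k, congrArg Subtype.val hk⟩
  have hinj : ∀ u ∈ (U : Subgroup G), piC u = 1 → u = 1 := by
    intro u hu h1
    obtain ⟨k, hk⟩ := hUp u hu
    exact hZ u (piC_eq_one.1 h1) k hk
  refine isSimple_of_cent' U' S ?_ ?_ ?_
  · rw [hU']
    intro hb
    apply hU1
    rw [eq_bot_iff]
    intro u hu
    have h1 : piC u ∈ (U : Subgroup G).map piC := ⟨u, hu, rfl⟩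
    rw [hb] at h1
    exact hinj u hu h1
  · intro T hTU hT1 hTc
    rw [hU'] at hTU hTc ⊢
    let T₀ : Subgroup G := T.comap piC ⊓ (U : Subgroup G)
    have hT₀U : T₀ ≤ (U : Subgroup G) := inf_le_right
    have hT₀1 : T₀ ≠ ⊥ := by
      intro h
      apply hT1
      rw [eq_bot_iff]
      intro t ht
      obtain ⟨u, hu, rfl⟩ := hTU ht
      have h1 : u ∈ T₀ := ⟨ht, hu⟩
      rw [h] at h1
      have h2 : u = 1 := h1
      rw [h2, map_one]
      exact Subgroup.one_mem _
    have h1 := hcl T₀ hT₀U hT₀1 (by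
      rintro t ⟨ht, htU⟩ h hh
      refine ⟨?_, hh⟩
      show piC (h * t * h⁻¹) ∈ T
      have e : piC (h * t * h⁻¹) = piC h * piC t * (piC h)⁻¹ := by simp only [map_mul, map_inv]
      rw [e]
      refine hTc _ ht _ ?_
      rw [← e]
      exact ⟨_, hh, rfl⟩)
    rintro _ ⟨u, hu, rfl⟩
    exact (h1 hu).1
  · intro y' hy' hyo u' hu'
    rw [hU'] at hy' hu'
    obtain ⟨y₀, rfl⟩ := piC_surj y'
    obtain ⟨u, hu, rfl⟩ := hu'
    obtain ⟨a, b, hab, ha, hb, ⟨k, hk⟩, hb2⟩ := exists_split (p := p) y₀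
    -- the `p`-part is trivial
    have ha1 : a = 1 := by
      have h1 : piC a ∈ Subgroup.zpowers (piC y₀) := by
        obtain ⟨n, hn⟩ := ha
        exact ⟨n, by
          show piC y₀ ^ n = piC a
          rw [← map_zpow]
          congr 1⟩
      have h2 : (piC a) ^ p ^ k = 1 := by
        rw [← map_pow, ← hk, pow_orderOf_eq_one, map_one]
      have h3 : ¬ p ∣ orderOf (piC a) := by
        intro hd
        apply hyo
        exact hd.trans (orderOf_dvd_of_mem_zpowers h1)
      have h4 : piC a = 1 := by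
        obtain ⟨j, -, hj⟩ := (Nat.dvd_prime_pow hpp).1 (orderOf_dvd_of_pow_eq_one h2)
        by_cases hj0 : j = 0
        · rw [hj0, pow_zero] at hj
          exact orderOf_eq_one_iff.1 hj
        · exact absurd (by rw [hj]; exact dvd_pow_self p hj0) h3
      have h5 : a ^ p ^ k = 1 := by
        rw [← hk, pow_orderOf_eq_one]
      exact hZ a (piC_eq_one.1 h4) k h5
    rw [ha1, one_mul] at hab
    subst hab
    -- `b` normalizes `U`
    have hmem : ∀ y : G, piC y ∈ Subgroup.normalizer (((U : Subgroup G).map piC : Subgroup (G ⧸ Subgroup.center G)) : Set (G ⧸ Subgroup.center G)) →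
        ∀ u ∈ (U : Subgroup G), y * u * y⁻¹ ∈ (U : Subgroup G) := by
      intro y hy u hu
      have h1 : piC y * piC u * (piC y)⁻¹ ∈ (U : Subgroup G).map piC :=
        (Subgroup.mem_normalizer_iff.1 hy _).1 ⟨u, hu, rfl⟩
      obtain ⟨v, hv, e⟩ := h1
      have hv' : v⁻¹ * (y * u * y⁻¹) ∈ Subgroup.center G := by
        apply piC_eq.1
        rw [e]
        simp only [map_mul, map_inv]
      -- the central factor is a `p`-element
      obtain ⟨k₁, hk₁⟩ := hUp u hu
      obtain ⟨k₂, hk₂⟩ := hUp v hv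
      have hc : Commute v (v⁻¹ * (y * u * y⁻¹)) := (Subgroup.mem_center_iff.1 hv' v)
      have e3 : y * u * y⁻¹ = v * (v⁻¹ * (y * u * y⁻¹)) := by group
      have h5 : (v⁻¹ * (y * u * y⁻¹)) ^ p ^ (k₁ + k₂) = 1 := by
        have h6 : (y * u * y⁻¹) ^ p ^ (k₁ + k₂) = 1 := by
          rw [conj_pow, pow_add, pow_mul, hk₁]
          simp
        rw [e3, hc.mul_pow] at h6
        have h7 : v ^ p ^ (k₁ + k₂) = 1 := by
          rw [add_comm, pow_add, pow_mul, hk₂, one_pow]
        rw [h7, one_mul] at h6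
        exact h6
      have h8 := hZ _ hv' _ h5
      rw [e3, h8, mul_one]
      exact hv
    have hbN : y₀ ∈ Subgroup.normalizer ((U : Subgroup G) : Set G) := by
      rw [Subgroup.mem_normalizer_iff]
      intro u
      refine ⟨hmem y₀ hy' u, fun hu => ?_⟩
      have h1 := hmem y₀⁻¹ (by rw [map_inv]; exact Subgroup.inv_mem _ hy') _ hu
      have e : y₀⁻¹ * (y₀ * u * y₀⁻¹) * y₀⁻¹⁻¹ = u := by group
      rwa [e] at h1
    have h1 := hN y₀ hbN hb2 u hu
    rw [← map_mul, ← map_mul, h1]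

end

end Cfsg.Agent.Lib.Fusion.TwoF
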