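/-
A finite group of `3 × 3` matrices of determinant one with all involutions conjugate to `diag(-1,-1,1)`.
-/
import Cfsg.Agent.Lib.Fusion.TwoF4

set_option autoImplicit false
set_option linter.unusedSectionVars false
set_option linter.unusedVariables false
set_option linter.unusedSimpArgs false
set_option linter.style.haveILetI false

namespace Cfsg.Agent.Lib.Fusion.TwoF

open Cfsg Cfsg.FusionSystem Cfsg.Agent.Lib.Fusion

section Blocks

variable {K : Type*} [Field K]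

/-- The block matrix. -/
def bl (A : Matrix (Fin 2) (Fin 2) K) (e : K) : Matrix (Fin 3) (Fin 3) K :=
  !![A 0 0, A 0 1, 0; A 1 0, A 1 1, 0; 0, 0, e]

theorem bl_mul (A B : Matrix (Fin 2) (Fin 2) K) (e f : K) : bl A e * bl B f = bl (A * B) (e * f) := by
  ext i j
  fin_cases i <;> fin_cases j <;> simp [bl, Matrix.mul_apply, Fin.sum_univ_three, Fin.sum_univ_two]

theorem bl_one : bl (1 : Matrix (Fin 2) (Fin 2) K) (1 : K) = 1 := by
  ext i j
  fin_cases i <;> fin_cases j <;> simp [bl]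

theorem bl_det (A : Matrix (Fin 2) (Fin 2) K) (e : K) : (bl A e).det = A.det * e := by
  rw [Matrix.det_fin_three, Matrix.det_fin_two]
  simp [bl]
  ring

/-- The upper left block. -/
def tl (M : Matrix (Fin 3) (Fin 3) K) : Matrix (Fin 2) (Fin 2) K := !![M 0 0, M 0 1; M 1 0, M 1 1]

theorem tl_bl (A : Matrix (Fin 2) (Fin 2) K) (e : K) : tl (bl A e) = A := by
  ext i j
  fin_cases i <;> fin_cases j <;> simp [bl, tl]

theorem bl_22 (A : Matrix (Fin 2) (Fin 2) K) (e : K) : bl A e 2 2 = e := by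
  simp [bl]

theorem bl_inj {A B : Matrix (Fin 2) (Fin 2) K} {e f : K} (h : bl A e = bl B f) : A = B ∧ e = f := by
  constructor
  · rw [← tl_bl A e, h, tl_bl]
  · rw [← bl_22 A e, h, bl_22]

/-- The matrix `diag(1,-1)`. -/
def dm : Matrix (Fin 2) (Fin 2) K := !![1, 0; 0, -1]

theorem dm_anti : (dm : Matrix (Fin 2) (Fin 2) K) * w2 = -(w2 * dm) := by
  ext i j
  fin_cases i <;> fin_cases j <;> simp [dm, w2, Matrix.mul_apply, Fin.sum_univ_two]

theorem bl_dd_pow (a b c : K) (n : ℕ) : (bl !![a, 0; 0, b] c) ^ n = bl !![a ^ n, 0; 0, b ^ n] (c ^ n) := by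
  induction n with
  | zero =>
    rw [pow_zero, pow_zero, pow_zero, pow_zero, ← bl_one]
    congr 1
    ext i j
    fin_cases i <;> fin_cases j <;> simp
  | succ n ih =>
    rw [pow_succ, ih, bl_mul, pow_succ c]
    congr 1
    ext i j
    fin_cases i <;> fin_cases j <;> simp [Matrix.mul_apply, Fin.sum_univ_two, pow_succ]

end Blocks

section Groups

variable {G : Type*} [Group G] [Finite G]

/-- A pair generating a dihedral-like group can be conjugated simultaneously into a Sylow subgroup. -/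
theorem exists_conj_pair (U : Sylow 2 G) (a s : G) (ha : a ^ 2 ^ 2 = 1) (hs : s * s = 1) (has : s * a * s⁻¹ = a⁻¹) :
    ∃ c : G, c * a * c⁻¹ ∈ (U : Subgroup G) ∧ c * s * c⁻¹ ∈ (U : Subgroup G) := by
  have h1 : IsPGroup 2 (Subgroup.zpowers a) := by
    rintro ⟨y, n, rfl⟩
    refine ⟨2, Subtype.ext ?_⟩
    show (a ^ n) ^ 2 ^ 2 = 1
    rw [← zpow_natCast, ← zpow_mul, mul_comm, zpow_mul, zpow_natCast, ha, one_zpow]
  have h2 : IsPGroup 2 (Subgroup.zpowers s) := by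
    rintro ⟨y, n, rfl⟩
    refine ⟨1, Subtype.ext ?_⟩
    show (s ^ n) ^ 2 ^ 1 = 1
    rw [← zpow_natCast, ← zpow_mul, mul_comm, zpow_mul, zpow_natCast, pow_one, pow_two, hs, one_zpow]
  have hs' : s⁻¹ = s := inv_eq_of_mul_eq_one_left hs
  have hconj : ∀ n : ℤ, s * a ^ n * s⁻¹ = a⁻¹ ^ n := by
    intro n
    rw [← has, conj_zpow]
  have h3 : Subgroup.zpowers s ≤ Subgroup.normalizer ((Subgroup.zpowers a : Subgroup G) : Set G) := by
    rw [Subgroup.zpowers_le, Subgroup.mem_normalizer_iff]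
    intro x
    constructor
    · rintro ⟨n, rfl⟩
      refine ⟨-n, ?_⟩
      show a ^ (-n) = s * a ^ n * s⁻¹
      rw [hconj, inv_zpow, zpow_neg]
    · rintro ⟨n, hn⟩
      have hn' : a ^ n = s * x * s⁻¹ := hn
      have e : x = s * (a ^ n) * s⁻¹ := by
        rw [hn']
        have e2 : s * (s * x * s⁻¹) * s⁻¹ = (s * s) * x * (s⁻¹ * s⁻¹) := by group
        rw [e2, hs, hs', hs]
        group
      refine ⟨-n, ?_⟩
      show a ^ (-n) = x
      rw [e, hconj, inv_zpow, zpow_neg]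
  have h4 := h2.to_sup_of_normal_right' h1 h3
  obtain ⟨c, hc⟩ := exists_conj_into U h4
  exact ⟨c, hc a ((le_sup_right : Subgroup.zpowers a ≤ _) (Subgroup.mem_zpowers a)),
    hc s ((le_sup_left : Subgroup.zpowers s ≤ _) (Subgroup.mem_zpowers s))⟩

/-- If `u y = y u c` with `c` central of square one and `y` of odd order, then `c = 1`. -/
theorem eq_one_of_odd {y u c : G} (hc : ∀ g : G, g * c = c * g) (hc2 : c * c = 1) (h : u * y = y * u * c) (hy : ¬ 2 ∣ orderOf y) : c = 1 := by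
  have hk : ∀ k : ℕ, u * y ^ k = y ^ k * u * c ^ k := by
    intro k
    induction k with
    | zero => simp
    | succ k ih =>
      calc u * y ^ (k + 1) = (u * y ^ k) * y := by rw [pow_succ, mul_assoc]
        _ = y ^ k * u * c ^ k * y := by rw [ih]
        _ = y ^ k * (u * y) * c ^ k := by
          have : c ^ k * y = y * c ^ k := ((show Commute y c from hc y).pow_right k).symm.eq
          calc y ^ k * u * c ^ k * y = y ^ k * u * (c ^ k * y) := by group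
            _ = y ^ k * u * (y * c ^ k) := by rw [this]
            _ = _ := by group
        _ = y ^ k * (y * u * c) * c ^ k := by rw [h]
        _ = y ^ (k + 1) * u * c ^ (k + 1) := by
          rw [pow_succ y, pow_succ' c]
          group
  have h1 := hk (orderOf y)
  rw [pow_orderOf_eq_one, one_mul, mul_one] at h1
  have h2 : c ^ orderOf y = 1 := by
    have := mul_left_cancel (a := u) (b := 1) (c := c ^ orderOf y) (by rw [mul_one]; exact h1)
    exact this.symm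
  have hodd : Odd (orderOf y) := Nat.not_even_iff_odd.1 (fun he => hy he.two_dvd)
  obtain ⟨m, hm⟩ := hodd
  rw [hm, pow_succ, pow_mul, pow_two, hc2, one_pow, one_mul] at h2
  exact h2

end Groups

section Data

variable {K : Type*} [Field K] {X : Type*} [Group X] [Finite X]

/-- The data for the analysis of a finite group of `3 × 3` matrices. -/
structure Data3 (τ : X →* Matrix (Fin 3) (Fin 3) K) (d₀ s₀ wh sl hh : X) : Prop where
  inj : Function.Injective τ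
  det : ∀ x, (τ x).det = 1
  two : (2 : K) ≠ 0
  d₀_eq : τ d₀ = bl (-1) 1
  s₀_eq : τ s₀ = bl dm (-1)
  wh_eq : τ wh = bl w2 1
  sl_eq : ∃ S : Matrix (Fin 2) (Fin 2) K, τ sl = bl S 1 ∧ S * w2 = -(w2 * S)
  hh_eq : τ hh = !![1, 0, 0; 0, 0, 1; 0, -1, 0]
  invol : ∀ t : X, t ≠ 1 → t * t = 1 → ∃ c, c * d₀ * c⁻¹ = t
  conj : ∀ (g : X) (A : Matrix (Fin 2) (Fin 2) K), τ g = bl A 1 → A * A = -1 → ∃ (c : X) (B : Matrix (Fin 2) (Fin 2) K), τ c = bl B 1 ∧ c * wh * c⁻¹ = g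
  diag : ∀ (x : X) (A : Matrix (Fin 2) (Fin 2) K) (e : K), τ x = bl A e → ∃ D : X, τ D = bl !![e⁻¹, 0; 0, 1] e
  big : ∃ (x : X) (A : Matrix (Fin 2) (Fin 2) K) (e : K), τ x = bl A e ∧ A * w2 = w2 * A ∧ ∃ l : K, l ≠ 0 ∧ A * A = l • w2

variable {τ : X →* Matrix (Fin 3) (Fin 3) K} {d₀ s₀ wh sl hh : X}

/-- The centralizer of `d₀`. -/
abbrev CC (d₀ : X) : Subgroup X := Subgroup.centralizer {d₀}

theorem mem_CC {x : X} : x ∈ CC d₀ ↔ x * d₀ = d₀ * x := Subgroup.mem_centralizer_singleton_iff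

theorem Data3.mem_CC_iff (h : Data3 τ d₀ s₀ wh sl hh) {x : X} : x ∈ CC d₀ ↔ ∃ (A : Matrix (Fin 2) (Fin 2) K) (e : K), τ x = bl A e := by
  rw [mem_CC]
  constructor
  · intro hx
    have h1 : τ x * bl (-1) 1 = bl (-1) 1 * τ x := by
      rw [← h.d₀_eq, ← map_mul, ← map_mul, hx]
    have h02 := congrFun (congrFun h1 0) 2
    have h12 := congrFun (congrFun h1 1) 2
    have h20 := congrFun (congrFun h1 2) 0
    have h21 := congrFun (congrFun h1 2) 1
    simp [bl, Matrix.mul_apply, Fin.sum_univ_three] at h02 h12 h20 h21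
    have two := h.two
    have e1 : τ x 0 2 = 0 := by
      have : 2 * τ x 0 2 = 0 := by linear_combination h02
      exact (mul_eq_zero.1 this).resolve_left two
    have e2 : τ x 1 2 = 0 := by
      have : 2 * τ x 1 2 = 0 := by linear_combination h12
      exact (mul_eq_zero.1 this).resolve_left two
    have e3 : τ x 2 0 = 0 := by
      have : 2 * τ x 2 0 = 0 := by linear_combination -h20
      exact (mul_eq_zero.1 this).resolve_left two
    have e4 : τ x 2 1 = 0 := by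
      have : 2 * τ x 2 1 = 0 := by linear_combination -h21
      exact (mul_eq_zero.1 this).resolve_left two
    refine ⟨tl (τ x), τ x 2 2, ?_⟩
    ext i j
    fin_cases i <;> fin_cases j <;> simp [bl, tl, e1, e2, e3, e4]
  · rintro ⟨A, e, he⟩
    apply h.inj
    rw [map_mul, map_mul, he, h.d₀_eq, bl_mul, bl_mul]
    simp

theorem Data3.wh_mem (h : Data3 τ d₀ s₀ wh sl hh) : wh ∈ CC d₀ := h.mem_CC_iff.2 ⟨_, _, h.wh_eq⟩
theorem Data3.s₀_mem (h : Data3 τ d₀ s₀ wh sl hh) : s₀ ∈ CC d₀ := h.mem_CC_iff.2 ⟨_, _, h.s₀_eq⟩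
theorem Data3.sl_mem (h : Data3 τ d₀ s₀ wh sl hh) : sl ∈ CC d₀ := by
  obtain ⟨S, hS, -⟩ := h.sl_eq
  exact h.mem_CC_iff.2 ⟨_, _, hS⟩

theorem Data3.eq_bl (h : Data3 τ d₀ s₀ wh sl hh) (x : ↥(CC d₀)) : τ x.1 = bl (tl (τ x.1)) (τ x.1 2 2) := by
  obtain ⟨A, e, he⟩ := h.mem_CC_iff.1 x.2
  rw [he, tl_bl, bl_22]

/-- The representation of the centralizer on the upper left block. -/
def Data3.ρC (h : Data3 τ d₀ s₀ wh sl hh) : ↥(CC d₀) →* Matrix (Fin 2) (Fin 2) K where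
  toFun x := tl (τ x.1)
  map_one' := by
    show tl (τ 1) = 1
    rw [map_one, ← bl_one, tl_bl]
  map_mul' x y := by
    show tl (τ (x.1 * y.1)) = _
    rw [map_mul, h.eq_bl x, h.eq_bl y, bl_mul, tl_bl, tl_bl, tl_bl]

theorem Data3.ρC_apply (h : Data3 τ d₀ s₀ wh sl hh) (x : ↥(CC d₀)) : h.ρC x = tl (τ x.1) := rfl

theorem Data3.eq_bl' (h : Data3 τ d₀ s₀ wh sl hh) (x : ↥(CC d₀)) : τ x.1 = bl (h.ρC x) (τ x.1 2 2) := h.eq_bl x

theorem Data3.δ_mul (h : Data3 τ d₀ s₀ wh sl hh) (x y : ↥(CC d₀)) : τ (x.1 * y.1) 2 2 = τ x.1 2 2 * τ y.1 2 2 := by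
  rw [map_mul, h.eq_bl' x, h.eq_bl' y, bl_mul, bl_22, bl_22, bl_22]

theorem Data3.det_ρC (h : Data3 τ d₀ s₀ wh sl hh) (x : ↥(CC d₀)) : (h.ρC x).det * τ x.1 2 2 = 1 := by
  have h1 := h.det x.1
  rw [h.eq_bl' x, bl_det] at h1
  exact h1

theorem Data3.ρC_inj (h : Data3 τ d₀ s₀ wh sl hh) : Function.Injective h.ρC := by
  intro x y hxy
  apply Subtype.ext
  apply h.inj
  have h1 := h.det_ρC x
  have h2 := h.det_ρC y
  rw [hxy] at h1
  have h3 : τ x.1 2 2 = τ y.1 2 2 := by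
    have h4 : (h.ρC y).det ≠ 0 := fun hc => by
      rw [hc, zero_mul] at h2
      exact zero_ne_one h2
    exact mul_left_cancel₀ h4 (h1.trans h2.symm)
  rw [h.eq_bl' x, h.eq_bl' y, hxy, h3]

/-- The subgroup of the centralizer of the elements of determinant one on the block. -/
def Data3.L₂ (h : Data3 τ d₀ s₀ wh sl hh) : Subgroup ↥(CC d₀) where
  carrier := {x | τ x.1 2 2 = 1}
  one_mem' := by
    show τ 1 2 2 = 1
    rw [map_one]
    simp
  mul_mem' := by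
    intro a b ha hb
    show τ (a.1 * b.1) 2 2 = 1
    rw [h.δ_mul, ha, hb, one_mul]
  inv_mem' := by
    intro a ha
    have h1 : τ (a⁻¹.1 * a.1) 2 2 = 1 := by
      have : a⁻¹.1 * a.1 = 1 := by simp
      rw [this, map_one]
      simp
    rw [h.δ_mul] at h1
    have ha' : τ a.1 2 2 = 1 := ha
    rw [ha', mul_one] at h1
    exact h1

theorem Data3.mem_L₂ (h : Data3 τ d₀ s₀ wh sl hh) {x : ↥(CC d₀)} : x ∈ h.L₂ ↔ τ x.1 2 2 = 1 := Iff.rfl

instance Data3.L₂_normal (h : Data3 τ d₀ s₀ wh sl hh) : h.L₂.Normal := by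
  refine ⟨fun x hx g => ?_⟩
  rw [Data3.mem_L₂] at hx ⊢
  show τ ((g * x).1 * (g⁻¹).1) 2 2 = 1
  rw [h.δ_mul (g * x) g⁻¹]
  show τ (g.1 * x.1) 2 2 * _ = 1
  rw [h.δ_mul g x, hx, mul_one, ← h.δ_mul g g⁻¹]
  have : g.1 * (g⁻¹).1 = 1 := by
    show g.1 * (g.1)⁻¹ = 1
    group
  rw [this, map_one]
  simp

theorem Data3.det_L₂ (h : Data3 τ d₀ s₀ wh sl hh) {x : ↥(CC d₀)} (hx : x ∈ h.L₂) : (h.ρC x).det = 1 := by
  have h1 := h.det_ρC x
  rw [(h.mem_L₂).1 hx, mul_one] at h1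
  exact h1

/-- The setup on the centralizer. -/
theorem Data3.setupC (h : Data3 τ d₀ s₀ wh sl hh) : Setup h.ρC h.L₂ ⟨wh, h.wh_mem⟩ ⟨s₀, h.s₀_mem⟩ := by
  refine ⟨h.ρC_inj, h.two, h.L₂_normal, ?_, ?_, ?_, ?_, ?_⟩
  · show τ wh 2 2 = 1
    rw [h.wh_eq, bl_22]
  · show tl (τ wh) = w2
    rw [h.wh_eq, tl_bl]
  · show tl (τ s₀) * w2 = -(w2 * tl (τ s₀))
    rw [h.s₀_eq, tl_bl]
    exact dm_anti
  · intro g hg hgg
    have e : τ g.1 = bl (h.ρC g) 1 := by
      rw [h.eq_bl' g, (h.mem_L₂).1 hg]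
    obtain ⟨c, B, hc, hcg⟩ := h.conj g.1 _ e hgg
    exact ⟨⟨c, h.mem_CC_iff.2 ⟨_, _, hc⟩⟩, Subtype.ext hcg⟩
  · intro x hx μ hμ
    exact scal_of_det (h.det_L₂ hx) μ hμ

/-- The representation of `L₂`. -/
def Data3.ρL (h : Data3 τ d₀ s₀ wh sl hh) : ↥h.L₂ →* Matrix (Fin 2) (Fin 2) K := h.ρC.comp h.L₂.subtype

theorem Data3.ρL_apply (h : Data3 τ d₀ s₀ wh sl hh) (x : ↥h.L₂) : h.ρL x = h.ρC x.1 := rfl

theorem Data3.wh_L (h : Data3 τ d₀ s₀ wh sl hh) : (⟨wh, h.wh_mem⟩ : ↥(CC d₀)) ∈ h.L₂ := by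
  show τ wh 2 2 = 1
  rw [h.wh_eq, bl_22]

theorem Data3.sl_L (h : Data3 τ d₀ s₀ wh sl hh) : (⟨sl, h.sl_mem⟩ : ↥(CC d₀)) ∈ h.L₂ := by
  obtain ⟨S, hS, -⟩ := h.sl_eq
  show τ sl 2 2 = 1
  rw [hS, bl_22]

/-- The setup on `L₂`. -/
theorem Data3.setupL (h : Data3 τ d₀ s₀ wh sl hh) : Setup h.ρL ⊤ ⟨⟨wh, h.wh_mem⟩, h.wh_L⟩ ⟨⟨sl, h.sl_mem⟩, h.sl_L⟩ := by
  refine ⟨fun a b hab => Subtype.ext (h.ρC_inj hab), h.two, inferInstance, Subgroup.mem_top _, ?_, ?_, ?_, ?_⟩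
  · show tl (τ wh) = w2
    rw [h.wh_eq, tl_bl]
  · obtain ⟨S, hS, hS2⟩ := h.sl_eq
    show tl (τ sl) * w2 = -(w2 * tl (τ sl))
    rw [hS, tl_bl]
    exact hS2
  · intro g _ hgg
    have e : τ g.1.1 = bl (h.ρC g.1) 1 := by
      rw [h.eq_bl' g.1, (h.mem_L₂).1 g.2]
    obtain ⟨c, B, hc, hcg⟩ := h.conj g.1.1 _ e hgg
    refine ⟨⟨⟨c, h.mem_CC_iff.2 ⟨_, _, hc⟩⟩, ?_⟩, Subtype.ext (Subtype.ext hcg)⟩
    show τ c 2 2 = 1
    rw [hc, bl_22]
  · intro x _ μ hμ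
    exact scal_of_det (h.det_L₂ x.2) μ hμ

end Data

end Cfsg.Agent.Lib.Fusion.TwoF
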