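/-
The main analysis of a finite group of `3 × 3` matrices of determinant one with all involutions conjugate
to `diag(-1,-1,1)`.
-/
import Cfsg.Agent.Lib.Fusion.TwoF5

set_option autoImplicit false
set_option linter.unusedSectionVars false
set_option linter.unusedVariables false
set_option linter.unusedSimpArgs false
set_option linter.style.haveILetI false

namespace Cfsg.Agent.Lib.Fusion.TwoF

open Cfsg Cfsg.FusionSystem Cfsg.Agent.Lib.Fusion

section Data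

variable {K : Type*} [Field K] {X : Type*} [Group X] [Finite X]
variable {τ : X →* Matrix (Fin 3) (Fin 3) K} {d₀ s₀ wh sl hh : X}

theorem Data3.wh_sq (h : Data3 τ d₀ s₀ wh sl hh) : wh * wh = d₀ := by
  apply h.inj
  rw [map_mul, h.wh_eq, h.d₀_eq, bl_mul, w2_mul_w2, mul_one]

theorem Data3.d₀_sq (h : Data3 τ d₀ s₀ wh sl hh) : d₀ * d₀ = 1 := by
  apply h.inj
  rw [map_mul, h.d₀_eq, bl_mul, map_one, ← bl_one]
  simp

theorem Data3.s₀_sq (h : Data3 τ d₀ s₀ wh sl hh) : s₀ * s₀ = 1 := by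
  apply h.inj
  rw [map_mul, h.s₀_eq, bl_mul, map_one, ← bl_one]
  congr 1
  · ext i j
    fin_cases i <;> fin_cases j <;> simp [dm, Matrix.mul_apply, Fin.sum_univ_two]
  · simp

theorem Data3.s₀_wh (h : Data3 τ d₀ s₀ wh sl hh) : s₀ * wh * s₀⁻¹ = wh⁻¹ := by
  have hs : s₀⁻¹ = s₀ := inv_eq_of_mul_eq_one_left h.s₀_sq
  rw [hs, eq_inv_iff_mul_eq_one]
  apply h.inj
  rw [map_mul, map_mul, map_mul, h.s₀_eq, h.wh_eq, bl_mul, bl_mul, bl_mul, map_one, ← bl_one]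
  congr 1
  · ext i j
    fin_cases i <;> fin_cases j <;> simp [dm, w2, Matrix.mul_apply, Fin.sum_univ_two]
  · simp

theorem Data3.d₀_ne (h : Data3 τ d₀ s₀ wh sl hh) : d₀ ≠ 1 := by
  intro h1
  have h2 := h.d₀_eq
  rw [h1, map_one, ← bl_one] at h2
  have h3 := (bl_inj h2).1
  have h4 := congrFun (congrFun h3 0) 0
  simp at h4
  apply h.two
  linear_combination h4

/-- **The main analysis.** -/
theorem Data3.main (h : Data3 τ d₀ s₀ wh sl hh) (U : Sylow 2 X) (hU : ∀ u ∈ (U : Subgroup X), u * d₀ = d₀ * u) :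
    (∀ T : Subgroup X, T ≤ (U : Subgroup X) → T ≠ ⊥ →
      (∀ t ∈ T, ∀ g, g * t * g⁻¹ ∈ (U : Subgroup X) → g * t * g⁻¹ ∈ T) → (U : Subgroup X) ≤ T) ∧
    (∀ y ∈ Subgroup.normalizer ((U : Subgroup X) : Set X), ¬ 2 ∣ orderOf y → ∀ u ∈ (U : Subgroup X), y * u = u * y) := by
  classical
  have hUC : (U : Subgroup X) ≤ CC d₀ := fun u hu => mem_CC.2 (hU u hu)
  let UC : Sylow 2 ↥(CC d₀) := U.subtype hUC
  have hUCm : ∀ x : ↥(CC d₀), x ∈ (UC : Subgroup ↥(CC d₀)) ↔ x.1 ∈ (U : Subgroup X) := fun x => Iff.rfl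
  let wh' : ↥(CC d₀) := ⟨wh, h.wh_mem⟩
  let s₀' : ↥(CC d₀) := ⟨s₀, h.s₀_mem⟩
  have hw4 : wh' ^ 2 ^ 2 = 1 := by
    apply Subtype.ext
    show wh ^ 2 ^ 2 = 1
    have e3 : wh ^ 2 ^ 2 = wh * wh * (wh * wh) := by
      norm_num [pow_succ, mul_assoc]
    rw [e3, h.wh_sq, h.d₀_sq]
  have hs2 : s₀' * s₀' = 1 := Subtype.ext h.s₀_sq
  have hsw : s₀' * wh' * s₀'⁻¹ = wh'⁻¹ := Subtype.ext h.s₀_wh
  obtain ⟨c₀, he₀, hs₀⟩ := exists_conj_pair UC wh' s₀' hw4 hs2 hsw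
  have he₀U : c₀.1 * wh * c₀.1⁻¹ ∈ (U : Subgroup X) := (hUCm _).1 he₀
  have hs₀U : c₀.1 * s₀ * c₀.1⁻¹ ∈ (U : Subgroup X) := (hUCm _).1 hs₀
  have hd₀U : d₀ ∈ (U : Subgroup X) := by
    have hdinv : d₀⁻¹ = d₀ := inv_eq_of_mul_eq_one_left h.d₀_sq
    refine mem_sylow_of_normalizes U ⟨1, by rw [pow_one, pow_two]; exact h.d₀_sq⟩ ?_
    rw [Subgroup.mem_normalizer_iff]
    intro u
    constructor
    · intro hu
      have e : d₀ * u * d₀⁻¹ = u := by
        rw [← hU u hu]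
        group
      rw [e]
      exact hu
    · intro hu
      have h1 := hU _ hu
      have e : u = d₀ * (d₀ * u * d₀⁻¹) * d₀⁻¹ := by
        rw [hdinv]
        have e2 : d₀ * (d₀ * u * d₀) * d₀ = (d₀ * d₀) * u * (d₀ * d₀) := by group
        rw [e2, h.d₀_sq]
        group
      rw [e, ← h1]
      have e3 : d₀ * u * d₀⁻¹ * d₀ * d₀⁻¹ = d₀ * u * d₀⁻¹ := by group
      rw [e3]
      exact hu
  constructor
  · intro T hTU hT1 hTc
    -- an involution in `T`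
    obtain ⟨t, ht, ht1⟩ : ∃ t ∈ T, t ≠ 1 := by
      by_contra hc
      push Not at hc
      exact hT1 ((Subgroup.eq_bot_iff_forall T).2 hc)
    obtain ⟨k, hk⟩ := U.isPGroup' ⟨t, hTU ht⟩
    have hk' : t ^ 2 ^ k = 1 := congrArg Subtype.val hk
    obtain ⟨j, hj1, hj2⟩ := exists_pow_involution hk' ht1
    have ht₀T : t ^ 2 ^ j ∈ T := T.pow_mem ht _
    obtain ⟨c', hc'⟩ := h.invol _ hj1 (by rw [← pow_two]; exact hj2)
    -- all involutions of `U` are in `T`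
    have hinv : ∀ v ∈ (U : Subgroup X), v * v = 1 → v ∈ T := by
      intro v hv hv2
      by_cases hv1 : v = 1
      · rw [hv1]
        exact T.one_mem
      obtain ⟨c, hc⟩ := h.invol v hv1 hv2
      have e : v = (c * c'⁻¹) * t ^ 2 ^ j * (c * c'⁻¹)⁻¹ := by
        rw [← hc', ← hc]
        group
      have := hTc _ ht₀T (c * c'⁻¹) (by rw [← e]; exact hv)
      rwa [← e] at this
    -- the element of order four
    have hs₀2 : (c₀.1 * s₀ * c₀.1⁻¹) * (c₀.1 * s₀ * c₀.1⁻¹) = 1 := by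
      have e : (c₀.1 * s₀ * c₀.1⁻¹) * (c₀.1 * s₀ * c₀.1⁻¹) = c₀.1 * (s₀ * s₀) * c₀.1⁻¹ := by group
      rw [e, h.s₀_sq]
      group
    have hes2 : ((c₀.1 * wh * c₀.1⁻¹) * (c₀.1 * s₀ * c₀.1⁻¹)) * ((c₀.1 * wh * c₀.1⁻¹) * (c₀.1 * s₀ * c₀.1⁻¹)) = 1 := by
      have e : ((c₀.1 * wh * c₀.1⁻¹) * (c₀.1 * s₀ * c₀.1⁻¹)) * ((c₀.1 * wh * c₀.1⁻¹) * (c₀.1 * s₀ * c₀.1⁻¹)) =
          c₀.1 * (wh * (s₀ * wh * s₀)) * c₀.1⁻¹ := by group
      have hs : s₀⁻¹ = s₀ := inv_eq_of_mul_eq_one_left h.s₀_sq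
      have h1 := h.s₀_wh
      rw [hs] at h1
      rw [e, h1]
      group
    have he₀T : c₀.1 * wh * c₀.1⁻¹ ∈ T := by
      have h1 := hinv _ (Subgroup.mul_mem _ he₀U hs₀U) hes2
      have h2 := hinv _ hs₀U hs₀2
      have h3 := T.mul_mem h1 (T.inv_mem h2)
      have e : ((c₀.1 * wh * c₀.1⁻¹) * (c₀.1 * s₀ * c₀.1⁻¹)) * (c₀.1 * s₀ * c₀.1⁻¹)⁻¹ = c₀.1 * wh * c₀.1⁻¹ := by group
      rwa [e] at h3
    -- all elements of square `-1`
    have step_e : ∀ g ∈ (U : Subgroup X), ∀ A : Matrix (Fin 2) (Fin 2) K, τ g = bl A 1 → A * A = -1 → g ∈ T := by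
      intro g hg A hA hAA
      obtain ⟨c, B, -, hcg⟩ := h.conj g A hA hAA
      have e : g = (c * c₀.1⁻¹) * (c₀.1 * wh * c₀.1⁻¹) * (c * c₀.1⁻¹)⁻¹ := by
        rw [← hcg]
        group
      have := hTc _ he₀T (c * c₀.1⁻¹) (by rw [← e]; exact hg)
      rwa [← e] at this
    -- the elements of `U` in `L₂`
    obtain ⟨V, hV⟩ := Coprime.exists_sylow_map_eq_inf UC h.L₂
    have hVm : ∀ v : ↥h.L₂, v ∈ (V : Subgroup ↥h.L₂) ↔ v.1.1 ∈ (U : Subgroup X) := by
      intro v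
      constructor
      · intro hv
        have h1 : v.1 ∈ (V : Subgroup ↥h.L₂).map h.L₂.subtype := ⟨v, hv, rfl⟩
        rw [hV] at h1
        exact h1.1
      · intro hv
        have h1 : v.1 ∈ (UC : Subgroup ↥(CC d₀)) ⊓ h.L₂ := ⟨hv, v.2⟩
        rw [← hV] at h1
        obtain ⟨v', hv', e⟩ := h1
        have : v' = v := Subtype.ext e
        rwa [← this]
    have step_L : ∀ x : ↥h.L₂, x.1.1 ∈ (U : Subgroup X) → x.1.1 ∈ T := by
      intro x hx
      have h1 := h.setupL.mem_closure_lift (fun x => h.det_L₂ x.2) V ((hVm x).2 hx)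
      have hle : Subgroup.closure {e | e ∈ (V : Subgroup ↥h.L₂) ∧ h.ρL e * h.ρL e = -1} ≤
          T.comap ((CC d₀).subtype.comp h.L₂.subtype) := by
        rw [Subgroup.closure_le]
        rintro e ⟨he, hee⟩
        refine step_e _ ((hVm e).1 he) (h.ρL e) ?_ hee
        show τ e.1.1 = bl (h.ρC e.1) 1
        rw [h.eq_bl' e.1, (h.mem_L₂).1 e.2]
      exact hle h1
    -- the general element
    intro u hu
    obtain ⟨A, a, hAa⟩ := h.mem_CC_iff.1 (hUC hu)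
    obtain ⟨D, hD⟩ := h.diag u A a hAa
    have hDC : D ∈ CC d₀ := h.mem_CC_iff.2 ⟨_, _, hD⟩
    -- `a` has `2`-power order
    obtain ⟨k₁, hk₁⟩ := U.isPGroup' ⟨u, hu⟩
    have hk₁' : u ^ 2 ^ k₁ = 1 := congrArg Subtype.val hk₁
    have ha : a ^ 2 ^ k₁ = 1 := by
      have hpow : ∀ n : ℕ, τ (u ^ n) 2 2 = a ^ n := by
        intro n
        induction n with
        | zero => simp
        | succ n ih =>
          have h1 := h.δ_mul ⟨u ^ n, Subgroup.pow_mem _ (hUC hu) n⟩ ⟨u, hUC hu⟩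
          rw [pow_succ, pow_succ, ← ih]
          rw [hAa, bl_22] at h1
          exact h1
      have h1 := hpow (2 ^ k₁)
      rw [hk₁', map_one] at h1
      rw [← h1]
      simp
    have ha0 : a ≠ 0 := by
      intro h0
      rw [h0, zero_pow (by positivity)] at ha
      exact zero_ne_one ha
    have hDpow : D ^ 2 ^ k₁ = 1 := by
      apply h.inj
      rw [map_pow, hD, bl_dd_pow, map_one, inv_pow, ha, inv_one, one_pow, ← bl_one]
      congr 1
      ext i j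
      fin_cases i <;> fin_cases j <;> simp
    -- the conjugate in `U`
    obtain ⟨c₁, hc₁⟩ := exists_conj_elt UC (x := ⟨D, hDC⟩) (k := k₁) (Subtype.ext hDpow)
    have hdU : c₁.1 * D * c₁.1⁻¹ ∈ (U : Subgroup X) := (hUCm _).1 hc₁
    have hdδ : τ (c₁.1 * D * c₁.1⁻¹) 2 2 = a := by
      have h1 := h.δ_mul (c₁ * ⟨D, hDC⟩) c₁⁻¹
      have h2 := h.δ_mul c₁ ⟨D, hDC⟩
      have h3 := h.δ_mul c₁ c₁⁻¹
      have e : c₁.1 * (c₁⁻¹).1 = 1 := by
        show c₁.1 * (c₁.1)⁻¹ = 1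
        group
      rw [e, map_one] at h3
      simp only [Matrix.one_apply_eq] at h3
      show τ ((c₁ * ⟨D, hDC⟩).1 * (c₁⁻¹).1) 2 2 = a
      rw [h1]
      show τ (c₁.1 * D) 2 2 * _ = a
      rw [h2, hD, bl_22]
      calc τ c₁.1 2 2 * a * τ (c₁⁻¹).1 2 2 = (τ c₁.1 2 2 * τ (c₁⁻¹).1 2 2) * a := by ring
        _ = a := by rw [← h3, one_mul]
    -- the conjugate by `hh`
    have hhD : τ hh * τ D * τ hh⁻¹ = bl !![a⁻¹, 0; 0, a] 1 := by
      have h1 : τ hh * bl !![a⁻¹, 0; 0, 1] a = bl !![a⁻¹, 0; 0, a] 1 * τ hh := by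
        rw [h.hh_eq]
        ext i j
        fin_cases i <;> fin_cases j <;> simp [bl, Matrix.mul_apply, Fin.sum_univ_three]
      rw [hD, h1, mul_assoc, ← map_mul, mul_inv_cancel, map_one, mul_one]
    have hEτ : τ (hh * D * hh⁻¹) = bl !![a⁻¹, 0; 0, a] 1 := by
      rw [map_mul, map_mul]
      exact hhD
    have hEC : hh * D * hh⁻¹ ∈ CC d₀ := h.mem_CC_iff.2 ⟨_, _, hEτ⟩
    have hEL : (⟨hh * D * hh⁻¹, hEC⟩ : ↥(CC d₀)) ∈ h.L₂ := by
      show τ (hh * D * hh⁻¹) 2 2 = 1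
      rw [hEτ, bl_22]
    have hEpow : (hh * D * hh⁻¹) ^ 2 ^ k₁ = 1 := by
      rw [conj_pow, hDpow]
      group
    obtain ⟨c₂, hc₂⟩ := exists_conj_elt V (x := ⟨⟨hh * D * hh⁻¹, hEC⟩, hEL⟩) (k := k₁) (Subtype.ext (Subtype.ext hEpow))
    have hrT := step_L _ ((hVm _).1 hc₂)
    have hrU : c₂.1.1 * (hh * D * hh⁻¹) * c₂.1.1⁻¹ ∈ T := hrT
    have hdT : c₁.1 * D * c₁.1⁻¹ ∈ T := by
      have e : c₁.1 * D * c₁.1⁻¹ = (c₁.1 * hh⁻¹ * c₂.1.1⁻¹) * (c₂.1.1 * (hh * D * hh⁻¹) * c₂.1.1⁻¹) * (c₁.1 * hh⁻¹ * c₂.1.1⁻¹)⁻¹ := by group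
      have := hTc _ hrU (c₁.1 * hh⁻¹ * c₂.1.1⁻¹) (by rw [← e]; exact hdU)
      rwa [← e] at this
    -- the quotient
    have hq : u * (c₁.1 * D * c₁.1⁻¹)⁻¹ ∈ T := by
      have hU2 : u * (c₁.1 * D * c₁.1⁻¹)⁻¹ ∈ (U : Subgroup X) := Subgroup.mul_mem _ hu (Subgroup.inv_mem _ hdU)
      have hC2 := hUC hU2
      refine step_L ⟨⟨_, hC2⟩, ?_⟩ hU2
      show τ (u * (c₁.1 * D * c₁.1⁻¹)⁻¹) 2 2 = 1
      have h1 := h.δ_mul ⟨_, hC2⟩ ⟨_, hUC hdU⟩
      have e : u * (c₁.1 * D * c₁.1⁻¹)⁻¹ * (c₁.1 * D * c₁.1⁻¹) = u := by group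
      have h1' : τ (u * (c₁.1 * D * c₁.1⁻¹)⁻¹ * (c₁.1 * D * c₁.1⁻¹)) 2 2 = τ (u * (c₁.1 * D * c₁.1⁻¹)⁻¹) 2 2 * τ (c₁.1 * D * c₁.1⁻¹) 2 2 := h1
      rw [e, hAa, bl_22, hdδ] at h1'
      have h2 : (τ (u * (c₁.1 * D * c₁.1⁻¹)⁻¹) 2 2 - 1) * a = 0 := by linear_combination -h1'
      have h3 := (mul_eq_zero.1 h2).resolve_right ha0
      linear_combination h3
    have h9 := T.mul_mem hq hdT
    have e : u * (c₁.1 * D * c₁.1⁻¹)⁻¹ * (c₁.1 * D * c₁.1⁻¹) = u := by group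
    rwa [e] at h9
  · intro y hy hyo u hu
    -- `y` fixes `d₀`
    have hc₀inv : ∀ v ∈ (U : Subgroup X), (∀ u ∈ (U : Subgroup X), u * v = v * u) → v * v = 1 → v ≠ 1 → v = d₀ := by
      intro v hv hvc hv2 hv1
      set v' : ↥(CC d₀) := c₀⁻¹ * ⟨v, hUC hv⟩ * c₀ with hv'
      have hv'e : v'.1 = c₀.1⁻¹ * v * c₀.1 := rfl
      have h1 : v' * wh' = wh' * v' := by
        apply Subtype.ext
        show v'.1 * wh = wh * v'.1
        rw [hv'e]
        have h2 := hvc _ he₀U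
        calc c₀.1⁻¹ * v * c₀.1 * wh = c₀.1⁻¹ * (v * (c₀.1 * wh * c₀.1⁻¹)) * c₀.1 := by group
          _ = c₀.1⁻¹ * ((c₀.1 * wh * c₀.1⁻¹) * v) * c₀.1 := by rw [← h2]
          _ = _ := by group
      have h1' : v' * s₀' = s₀' * v' := by
        apply Subtype.ext
        show v'.1 * s₀ = s₀ * v'.1
        rw [hv'e]
        have h2 := hvc _ hs₀U
        calc c₀.1⁻¹ * v * c₀.1 * s₀ = c₀.1⁻¹ * (v * (c₀.1 * s₀ * c₀.1⁻¹)) * c₀.1 := by group
          _ = c₀.1⁻¹ * ((c₀.1 * s₀ * c₀.1⁻¹) * v) * c₀.1 := by rw [← h2]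
          _ = _ := by group
      have hsC := h.setupC
      have h3 : h.ρC v' * w2 = w2 * h.ρC v' := by
        rw [← hsC.wh_eq, ← map_mul, ← map_mul, h1]
      have h4 : h.ρC v' * h.ρC s₀' = h.ρC s₀' * h.ρC v' := by
        rw [← map_mul, ← map_mul, h1']
      obtain ⟨l, hl⟩ := scalar_of_comm' (ρ := h.ρC) hsC.two hsC.sh_anti h3 h4
      have hv'2 : v'.1 * v'.1 = 1 := by
        rw [hv'e]
        have e : c₀.1⁻¹ * v * c₀.1 * (c₀.1⁻¹ * v * c₀.1) = c₀.1⁻¹ * (v * v) * c₀.1 := by group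
        rw [e, hv2]
        group
      have hτv := h.eq_bl' v'
      rw [hl] at hτv
      have hτ2 := congrArg τ hv'2
      rw [map_mul, hτv, bl_mul, map_one, ← bl_one] at hτ2
      have hτ3 := (bl_inj hτ2).1
      have hll : l * l = 1 := by
        have := congrFun (congrFun hτ3 0) 0
        simpa [Matrix.mul_apply, Fin.sum_univ_two] using this
      have hdd := h.det_ρC v'
      rw [hl, Matrix.det_smul, Matrix.det_one, Fintype.card_fin, pow_two, hll, mul_one, one_mul] at hdd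
      rw [hdd] at hτv
      rcases mul_self_eq_one_iff.1 hll with rfl | rfl
      · exfalso
        apply hv1
        have h5 : v'.1 = 1 := by
          apply h.inj
          rw [hτv, one_smul, bl_one, map_one]
        rw [hv'e] at h5
        have := congrArg (fun t => c₀.1 * t * c₀.1⁻¹) h5
        simpa [mul_assoc] using this
      · have h5 : v'.1 = d₀ := by
          apply h.inj
          rw [hτv, h.d₀_eq, neg_smul, one_smul]
        rw [hv'e] at h5
        calc v = c₀.1 * (c₀.1⁻¹ * v * c₀.1) * c₀.1⁻¹ := by group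
          _ = c₀.1 * d₀ * c₀.1⁻¹ := by rw [h5]
          _ = (d₀ * c₀.1) * c₀.1⁻¹ := by rw [mem_CC.1 c₀.2]
          _ = d₀ := by group
    have hyU : ∀ u, u ∈ (U : Subgroup X) → y * u * y⁻¹ ∈ (U : Subgroup X) := fun u hu =>
      (Subgroup.mem_normalizer_iff.1 hy u).1 hu
    have hyU' : ∀ u, y * u * y⁻¹ ∈ (U : Subgroup X) → u ∈ (U : Subgroup X) := fun u hu =>
      (Subgroup.mem_normalizer_iff.1 hy u).2 hu
    have hyd : y * d₀ * y⁻¹ = d₀ := by
      refine hc₀inv _ (hyU _ hd₀U) ?_ ?_ ?_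
      · intro v hv
        have h1 : y⁻¹ * v * y ∈ (U : Subgroup X) := by
          apply hyU'
          have e : y * (y⁻¹ * v * y) * y⁻¹ = v := by group
          rw [e]
          exact hv
        have h2 := hU _ h1
        calc v * (y * d₀ * y⁻¹) = y * ((y⁻¹ * v * y) * d₀) * y⁻¹ := by group
          _ = y * (d₀ * (y⁻¹ * v * y)) * y⁻¹ := by rw [h2]
          _ = _ := by group
      · have e : y * d₀ * y⁻¹ * (y * d₀ * y⁻¹) = y * (d₀ * d₀) * y⁻¹ := by group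
        rw [e, h.d₀_sq]
        group
      · intro hc
        apply h.d₀_ne
        have := congrArg (fun t => y⁻¹ * t * y) hc
        simpa [mul_assoc] using this
    have hyC : y ∈ CC d₀ := by
      rw [mem_CC]
      calc y * d₀ = (y * d₀ * y⁻¹) * y := by group
        _ = _ := by rw [hyd]
    -- the quotient of the centralizer
    let y' : ↥(CC d₀) := ⟨y, hyC⟩
    let u' : ↥(CC d₀) := ⟨u, hUC hu⟩
    have hsC := h.setupC
    let Ub : Sylow 2 (↥(CC d₀) ⧸ Subgroup.center ↥(CC d₀)) := UC.mapSurjective piC_surj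
    have hUb : (Ub : Subgroup (↥(CC d₀) ⧸ Subgroup.center ↥(CC d₀))) = (UC : Subgroup ↥(CC d₀)).map piC := Sylow.coe_mapSurjective _ _
    obtain ⟨g, -, hgg, hDL⟩ := hsC.exists_DL Ub
    -- an element of `Ub` which is not an involution
    obtain ⟨x, A, e, hx, hxw, l, hl0, hAA⟩ := h.big
    have hxC : x ∈ CC d₀ := h.mem_CC_iff.2 ⟨_, _, hx⟩
    let x' : ↥(CC d₀) := ⟨x, hxC⟩
    have hρx : h.ρC x' = A := by
      rw [h.ρC_apply]
      show tl (τ x) = A
      rw [hx, tl_bl]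
    have hπx : piC x' * piC x' = piC wh' := by
      rw [← map_mul, piC_eq]
      refine mem_center_of_scalar h.ρC_inj (l := l⁻¹) ?_
      have h1 : h.ρC (x' * x') = l • h.ρC wh' := by
        rw [map_mul, hρx, hAA, hsC.wh_eq]
      have h3 : h.ρC (x' * x')⁻¹ * (l • h.ρC wh') = 1 := by
        rw [← h1]
        exact rep_inv_mul _
      have h4 : l • (h.ρC (x' * x')⁻¹ * h.ρC wh') = 1 := by
        rw [← Matrix.mul_smul]
        exact h3
      rw [map_mul]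
      have h5 := congrArg (fun t => l⁻¹ • t) h4
      simpa [smul_smul, inv_mul_cancel₀ hl0] using h5
    have hπw2 : piC wh' * piC wh' = 1 := by
      rw [← map_mul, piC_eq_one]
      refine mem_center_of_scalar h.ρC_inj (l := -1) ?_
      rw [map_mul, hsC.wh_eq, w2_mul_w2]
      simp
    have hπw1 : piC wh' ≠ 1 := by
      intro h1
      rw [piC_eq_one] at h1
      obtain ⟨l, hl⟩ := scalar_of_mem_center hsC.two hsC.wh_eq hsC.sh_anti h1
      rw [hsC.wh_eq] at hl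
      have h01 := congrFun (congrFun hl 0) 1
      simp [w2] at h01
    obtain ⟨cb, hcb⟩ := exists_conj_elt Ub (k := 2) (x := piC x') (by
      have e3 : piC x' ^ 2 ^ 2 = piC x' * piC x' * (piC x' * piC x') := by
        norm_num [pow_succ, mul_assoc]
      rw [e3, hπx, hπw2])
    have hbb : (cb * piC x' * cb⁻¹) * (cb * piC x' * cb⁻¹) ≠ 1 := by
      have e : (cb * piC x' * cb⁻¹) * (cb * piC x' * cb⁻¹) = cb * (piC x' * piC x') * cb⁻¹ := by group
      rw [e, hπx]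
      intro hc
      apply hπw1
      have := congrArg (fun t => cb⁻¹ * t * cb) hc
      simpa [mul_assoc] using this
    have hy'N : y' ∈ Subgroup.normalizer ((UC : Subgroup ↥(CC d₀)) : Set ↥(CC d₀)) := by
      rw [Subgroup.mem_normalizer_iff]
      intro x
      rw [hUCm]
      exact Subgroup.mem_normalizer_iff.1 hy x.1
    have hπN : piC y' ∈ Subgroup.normalizer ((Ub : Subgroup (↥(CC d₀) ⧸ Subgroup.center ↥(CC d₀))) : Set (↥(CC d₀) ⧸ Subgroup.center ↥(CC d₀))) := by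
      rw [hUb]
      exact Subgroup.le_normalizer_map piC ⟨y', hy'N, rfl⟩
    have hord : orderOf y' = orderOf y := Subgroup.orderOf_mk y hyC
    have hπo : ¬ 2 ∣ orderOf (piC y') := by
      intro hd
      apply hyo
      rw [← hord]
      exact hd.trans (orderOf_map_dvd piC y')
    have hπu : piC u' ∈ (Ub : Subgroup (↥(CC d₀) ⧸ Subgroup.center ↥(CC d₀))) := by
      rw [hUb]
      exact ⟨u', hu, rfl⟩
    have hcomm := hDL.cent' hcb hbb hπN hπo hπu
    rw [← map_mul, ← map_mul, piC_eq] at hcomm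
    set c := (y' * u')⁻¹ * (u' * y') with hc
    obtain ⟨m, hm⟩ := scalar_of_mem_center hsC.two hsC.wh_eq hsC.sh_anti hcomm
    have hcdet : (h.ρC c).det = 1 := by
      have h1 : (h.ρC (y' * u')⁻¹).det * (h.ρC (y' * u')).det = 1 := by
        rw [← Matrix.det_mul, rep_inv_mul, Matrix.det_one]
      rw [hc, map_mul, Matrix.det_mul]
      have h2 : (h.ρC (u' * y')).det = (h.ρC (y' * u')).det := by
        rw [map_mul, map_mul, Matrix.det_mul, Matrix.det_mul, mul_comm]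
      rw [h2, h1]
    rw [hm, Matrix.det_smul, Matrix.det_one, Fintype.card_fin, pow_two, mul_one] at hcdet
    have hc2 : c * c = 1 := by
      apply h.ρC_inj
      rw [map_mul, hm, map_one, smul_mul_smul_comm, hcdet]
      simp
    have hc1 : c = 1 := eq_one_of_odd (y := y') (u := u') (fun g => (Subgroup.mem_center_iff.1 hcomm g)) hc2 (by
      rw [hc]
      group) (by rwa [hord])
    have hfin : y' * u' = u' * y' := by
      have e : u' * y' = (y' * u') * c := by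
        rw [hc]
        group
      rw [e, hc1, mul_one]
    exact congrArg Subtype.val hfin

/-- The centre has odd order. -/
theorem Data3.center_odd (h : Data3 τ d₀ s₀ wh sl hh) (z : X) (hz : z ∈ Subgroup.center X) (k : ℕ) (hk : z ^ 2 ^ k = 1) : z = 1 := by
  have hzc : ∀ g, g * z = z * g := fun g => Subgroup.mem_center_iff.1 hz g
  have hzC : z ∈ CC d₀ := mem_CC.2 (hzc d₀).symm
  let z' : ↥(CC d₀) := ⟨z, hzC⟩
  have hsC := h.setupC
  have h3 : h.ρC z' * w2 = w2 * h.ρC z' := by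
    rw [← hsC.wh_eq, ← map_mul, ← map_mul]
    congr 1
    exact Subtype.ext (hzc wh).symm
  have h4 : h.ρC z' * h.ρC ⟨s₀, h.s₀_mem⟩ = h.ρC ⟨s₀, h.s₀_mem⟩ * h.ρC z' := by
    rw [← map_mul, ← map_mul]
    congr 1
    exact Subtype.ext (hzc s₀).symm
  obtain ⟨l, hl⟩ := scalar_of_comm' (ρ := h.ρC) hsC.two hsC.sh_anti h3 h4
  have hτ := h.eq_bl' z'
  rw [hl] at hτ
  set e := τ z 2 2 with he
  have hτ' : τ z = bl (l • 1) e := hτ
  have h5 : τ z * τ hh = τ hh * τ z := by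
    rw [← map_mul, ← map_mul, hzc hh]
  rw [hτ', h.hh_eq] at h5
  have h6 := congrFun (congrFun h5 1) 2
  simp [bl, Matrix.mul_apply, Fin.sum_univ_three, Matrix.one_apply] at h6
  have hdet := h.det z
  rw [hτ', bl_det, Matrix.det_smul, Matrix.det_one, Fintype.card_fin, ← h6, mul_one] at hdet
  have hz3 : z * z * z = 1 := by
    apply h.inj
    rw [map_mul, map_mul, hτ', bl_mul, bl_mul, map_one, ← bl_one, ← h6]
    congr 1
    · ext i j
      fin_cases i <;> fin_cases j <;> simp [Matrix.mul_apply, Fin.sum_univ_two, Matrix.one_apply]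
      linear_combination hdet
      linear_combination hdet
    · linear_combination hdet
  have hz3' : z ^ 3 = 1 := by
    rw [pow_succ, pow_two]
    exact hz3
  have hg := pow_gcd_eq_one.2 ⟨hk, hz3'⟩
  have hc : Nat.gcd (2 ^ k) 3 = 1 := Nat.Coprime.pow_left k (by norm_num)
  rwa [hc, pow_one] at hg

/-- **Simplicity of the `2`-fusion system of the quotient by the centre.** -/
theorem Data3.isSimple (h : Data3 τ d₀ s₀ wh sl hh) (S : Sylow 2 (X ⧸ Subgroup.center X)) :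
    (groupFusionSystem (S : Subgroup (X ⧸ Subgroup.center X))).IsSimple 2 := by
  classical
  obtain ⟨P⟩ : Nonempty (Sylow 2 X) := inferInstance
  obtain ⟨c₁, hc₁⟩ := exists_conj_elt P (x := d₀) (k := 1) (by rw [pow_one, pow_two]; exact h.d₀_sq)
  have hPne : (⊤ : Subgroup ↥(P : Subgroup X)) ≠ ⊥ := by
    intro hb
    have h1 : (⟨_, hc₁⟩ : ↥(P : Subgroup X)) ∈ (⊤ : Subgroup ↥(P : Subgroup X)) := Subgroup.mem_top _
    rw [hb] at h1
    have h2 : c₁ * d₀ * c₁⁻¹ = 1 := congrArg Subtype.val (Subgroup.mem_bot.1 h1)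
    apply h.d₀_ne
    have := congrArg (fun t => c₁⁻¹ * t * c₁) h2
    simpa [mul_assoc] using this
  obtain ⟨z, -, hz1, hzc, hz2⟩ := Transfer.exists_central_of_normal P.isPGroup' hPne
  have hz2' : (z : X) * z = 1 := by
    have : (z : X) ^ 2 = 1 := congrArg Subtype.val hz2
    rwa [pow_two] at this
  obtain ⟨c, hc⟩ := h.invol (z : X) (fun hc => hz1 (Subtype.ext hc)) hz2'
  let U : Sylow 2 X := c⁻¹ • P
  have hUm : ∀ x, x ∈ (U : Subgroup X) ↔ c * x * c⁻¹ ∈ (P : Subgroup X) := by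
    intro x
    show x ∈ ((c⁻¹ • P : Sylow 2 X) : Subgroup X) ↔ _
    rw [mem_smul_sylow, inv_inv]
  have hU : ∀ u ∈ (U : Subgroup X), u * d₀ = d₀ * u := by
    intro u hu
    have h1 := congrArg Subtype.val (hzc ⟨_, (hUm u).1 hu⟩)
    have h2 : c * u * c⁻¹ * (z : X) = (z : X) * (c * u * c⁻¹) := h1
    rw [← hc] at h2
    have h3 : c * (u * d₀) * c⁻¹ = c * (d₀ * u) * c⁻¹ := by
      calc c * (u * d₀) * c⁻¹ = c * u * c⁻¹ * (c * d₀ * c⁻¹) := by group
        _ = c * d₀ * c⁻¹ * (c * u * c⁻¹) := h2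
        _ = _ := by group
    have := congrArg (fun t => c⁻¹ * t * c) h3
    simpa [mul_assoc] using this
  have hU1 : (U : Subgroup X) ≠ ⊥ := by
    intro hb
    have h1 : d₀ ∈ (U : Subgroup X) := by
      rw [hUm, hc]
      exact z.2
    rw [hb] at h1
    exact h.d₀_ne h1
  obtain ⟨hcl, hN⟩ := h.main U hU
  exact isSimple_of_cover_odd (fun z hz k hk => h.center_odd z hz k hk) U hU1 hcl hN S

end Data

end Cfsg.Agent.Lib.Fusion.TwoF
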