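/-
The group `SL₃(F)`, `F` a finite field of odd order.
-/
import Cfsg.Agent.Lib.Fusion.TwoF6

set_option autoImplicit false
set_option linter.unusedSectionVars false
set_option linter.unusedVariables false
set_option linter.unusedSimpArgs false
set_option linter.style.haveILetI false

namespace Cfsg.Agent.Lib.Fusion.TwoF

open Cfsg Cfsg.FusionSystem Cfsg.Agent.Lib.Fusion Matrix

section Eigen

variable {F : Type*} [Field F]

/-- An involutive matrix has a basis of eigenvectors. -/
theorem exists_eigenbasis {n : ℕ} (M : Matrix (Fin n) (Fin n) F) (hM : M * M = 1) (h2 : (2 : F) ≠ 0) :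
    ∃ B : Module.Basis (Fin n) F (Fin n → F), ∀ i, M.mulVec (B i) = B i ∨ M.mulVec (B i) = - B i := by
  classical
  let f : (Fin n → F) →ₗ[F] (Fin n → F) := M.mulVecLin
  have hff : ∀ v, f (f v) = v := by
    intro v
    show M.mulVec (M.mulVec v) = v
    rw [Matrix.mulVec_mulVec, hM, Matrix.one_mulVec]
  let Wp : Submodule F (Fin n → F) := LinearMap.ker (f - LinearMap.id)
  let Wm : Submodule F (Fin n → F) := LinearMap.ker (f + LinearMap.id)
  have hWp : ∀ v, v ∈ Wp ↔ f v = v := by
    intro v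
    show v ∈ LinearMap.ker (f - LinearMap.id) ↔ _
    rw [LinearMap.mem_ker]
    simp [sub_eq_zero]
  have hWm : ∀ v, v ∈ Wm ↔ f v = - v := by
    intro v
    show v ∈ LinearMap.ker (f + LinearMap.id) ↔ _
    rw [LinearMap.mem_ker]
    simp [add_eq_zero_iff_eq_neg]
  have h2' : (2 : F)⁻¹ * 2 = 1 := inv_mul_cancel₀ h2
  have hcompl : IsCompl Wp Wm := by
    constructor
    · rw [Submodule.disjoint_def]
      intro v hv hv'
      have h1 := (hWp v).1 hv
      have h3 := (hWm v).1 hv'
      rw [h1] at h3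
      have h4 : (2 : F) • v = 0 := by
        rw [two_smul]
        nth_rw 1 [h3]
        simp
      exact (smul_eq_zero.1 h4).resolve_left h2
    · rw [Submodule.codisjoint_iff_exists_add_eq]
      intro v
      refine ⟨(2 : F)⁻¹ • (v + f v), (2 : F)⁻¹ • (v - f v), (hWp _).2 ?_, (hWm _).2 ?_, ?_⟩
      · rw [map_smul, map_add, hff, add_comm]
      · rw [map_smul, map_sub, hff, ← smul_neg, neg_sub]
      · rw [← smul_add]
        have e : v + f v + (v - f v) = (2 : F) • v := by
          rw [two_smul]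
          abel
        rw [e, smul_smul, h2', one_smul]
  let bp := Module.finBasis F Wp
  let bm := Module.finBasis F Wm
  let B₀ : Module.Basis (Fin (Module.finrank F Wp) ⊕ Fin (Module.finrank F Wm)) F (Fin n → F) :=
    (bp.prod bm).map (Submodule.prodEquivOfIsCompl Wp Wm hcompl)
  have hcard : Fintype.card (Fin (Module.finrank F Wp) ⊕ Fin (Module.finrank F Wm)) = n := by
    have h1 := Module.finrank_eq_card_basis B₀
    simpa using h1.symm
  let e := Fintype.equivFinOfCardEq hcard
  refine ⟨B₀.reindex e, fun i => ?_⟩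
  rw [Module.Basis.reindex_apply]
  rcases hj : e.symm i with j | j
  · left
    have h1 : B₀ (Sum.inl j) = ((bp j : Wp) : Fin n → F) := by
      simp [B₀, Module.Basis.map_apply, Module.Basis.prod_apply]
    rw [h1]
    exact (hWp _).1 (bp j).2
  · right
    have h1 : B₀ (Sum.inr j) = ((bm j : Wm) : Fin n → F) := by
      simp [B₀, Module.Basis.map_apply, Module.Basis.prod_apply]
    rw [h1]
    exact (hWm _).1 (bm j).2

/-- The matrix of a basis is invertible. -/
theorem det_of_basis_ne {n : ℕ} (B : Module.Basis (Fin n) F (Fin n → F)) : (Matrix.of (fun i j => B j i)).det ≠ 0 := by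
  have h1 : LinearIndependent F (Matrix.of (fun i j => B j i)).col := B.linearIndependent
  have h2 := Matrix.linearIndependent_cols_iff_isUnit.1 h1
  exact ((Matrix.isUnit_iff_isUnit_det _).1 h2).ne_zero

end Eigen

section SL3

variable {F : Type*} [Field F] [Fintype F]

/-- An involution of `SL₃(F)` is conjugate to `diag(-1,-1,1)`. -/
theorem sl3_invol (hodd : Fintype.card F % 2 = 1) (M : Matrix (Fin 3) (Fin 3) F) (hdet : M.det = 1) (hM : M * M = 1) (hne : M ≠ 1) :
    ∃ c : Matrix (Fin 3) (Fin 3) F, c.det = 1 ∧ c * bl (-1) 1 = M * c := by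
  have h2 := two_ne_zero_of_odd hodd
  obtain ⟨B, hB⟩ := exists_eigenbasis M hM h2
  -- a reordering of the basis
  have key : ∃ σ : Equiv.Perm (Fin 3), M.mulVec (B (σ 0)) = - B (σ 0) ∧ M.mulVec (B (σ 1)) = - B (σ 1) ∧ M.mulVec (B (σ 2)) = B (σ 2) := by
    let c₀ : Matrix (Fin 3) (Fin 3) F := Matrix.of (fun i j => B j i)
    have hc₀ : c₀.det ≠ 0 := det_of_basis_ne B
    have hcol : ∀ (ε : Fin 3 → F), (∀ i, M.mulVec (B i) = ε i • B i) → M * c₀ = c₀ * Matrix.diagonal ε := by
      intro ε hε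
      ext i j
      have h1 := congrFun (hε j) i
      rw [Matrix.mul_apply, Matrix.mul_diagonal]
      simp only [Matrix.mulVec, dotProduct, Pi.smul_apply, smul_eq_mul] at h1
      simp only [c₀, Matrix.of_apply]
      rw [h1, mul_comm]
    -- the product of the signs is one
    have hε : ∀ (ε : Fin 3 → F), (∀ i, M.mulVec (B i) = ε i • B i) → ε 0 * ε 1 * ε 2 = 1 := by
      intro ε hε
      have h1 := congrArg Matrix.det (hcol ε hε)
      rw [Matrix.det_mul, Matrix.det_mul, hdet, one_mul, Matrix.det_diagonal, Fin.prod_univ_three] at h1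
      have h3 : c₀.det * (ε 0 * ε 1 * ε 2 - 1) = 0 := by linear_combination -h1
      have h4 := (mul_eq_zero.1 h3).resolve_left hc₀
      linear_combination h4
    have hne1 : ∀ (ε : Fin 3 → F), (∀ i, M.mulVec (B i) = ε i • B i) → ¬ (ε 0 = 1 ∧ ε 1 = 1 ∧ ε 2 = 1) := by
      rintro ε hε ⟨h0, h1, h3⟩
      apply hne
      have h4 : Matrix.diagonal ε = 1 := by
        rw [← Matrix.diagonal_one]
        congr 1
        ext i
        fin_cases i
        · exact h0
        · exact h1
        · exact h3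
      have h5 := hcol ε hε
      rw [h4, Matrix.mul_one] at h5
      have h6 : IsUnit c₀ := (Matrix.isUnit_iff_isUnit_det _).2 (isUnit_iff_ne_zero.2 hc₀)
      exact h6.mul_right_cancel (by rw [h5, Matrix.one_mul])
    -- the signs
    have hsign : ∀ i, ∃ s : F, (s = 1 ∨ s = -1) ∧ M.mulVec (B i) = s • B i := by
      intro i
      rcases hB i with h | h
      · exact ⟨1, Or.inl rfl, by rw [h, one_smul]⟩
      · exact ⟨-1, Or.inr rfl, by rw [h, neg_smul, one_smul]⟩
    choose ε hε₁ hε₂ using hsign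
    have hprod := hε ε hε₂
    have hnot := hne1 ε hε₂
    have hm1 : ∀ i, ε i = -1 → M.mulVec (B i) = - B i := by
      intro i hi
      rw [hε₂, hi, neg_smul, one_smul]
    have hp1 : ∀ i, ε i = 1 → M.mulVec (B i) = B i := by
      intro i hi
      rw [hε₂, hi, one_smul]
    have hh2 : (1 : F) ≠ -1 := by
      intro hc
      apply h2
      linear_combination hc
    rcases hε₁ 0 with a0 | a0 <;> rcases hε₁ 1 with a1 | a1 <;> rcases hε₁ 2 with a2 | a2
    · exact absurd ⟨a0, a1, a2⟩ hnot
    · rw [a0, a1, a2] at hprod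
      exact absurd (by linear_combination -hprod) hh2
    · rw [a0, a1, a2] at hprod
      exact absurd (by linear_combination -hprod) hh2
    · -- (1, -1, -1)
      refine ⟨Equiv.swap 0 2, ?_, ?_, ?_⟩
      · simpa using hm1 2 a2
      · rw [show Equiv.swap (0 : Fin 3) 2 1 = 1 by decide]
        exact hm1 1 a1
      · simpa using hp1 0 a0
    · rw [a0, a1, a2] at hprod
      exact absurd (by linear_combination -hprod) hh2
    · -- (-1, 1, -1)
      refine ⟨Equiv.swap 1 2, ?_, ?_, ?_⟩
      · rw [show Equiv.swap (1 : Fin 3) 2 0 = 0 by decide]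
        exact hm1 0 a0
      · simpa using hm1 2 a2
      · simpa using hp1 1 a1
    · -- (-1, -1, 1)
      refine ⟨1, ?_, ?_, ?_⟩
      · simpa using hm1 0 a0
      · simpa using hm1 1 a1
      · simpa using hp1 2 a2
    · rw [a0, a1, a2] at hprod
      exact absurd (by linear_combination -hprod) hh2
  obtain ⟨σ, h0, h1, h3⟩ := key
  let B' := B.reindex σ.symm
  have hB' : ∀ i, B' i = B (σ i) := by
    intro i
    simp [B', Module.Basis.reindex_apply]
  rw [← hB'] at h0 h1 h3
  have hdet' := det_of_basis_ne B'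
  set δ := (Matrix.of (fun i j => B' j i)).det with hδ
  have h0' : ∀ i, M i 0 * B' 0 0 + M i 1 * B' 0 1 + M i 2 * B' 0 2 = - B' 0 i := fun i => by
    have := congrFun h0 i
    simpa [Matrix.mulVec, dotProduct, Fin.sum_univ_three] using this
  have h1' : ∀ i, M i 0 * B' 1 0 + M i 1 * B' 1 1 + M i 2 * B' 1 2 = - B' 1 i := fun i => by
    have := congrFun h1 i
    simpa [Matrix.mulVec, dotProduct, Fin.sum_univ_three] using this
  have h3' : ∀ i, M i 0 * B' 2 0 + M i 1 * B' 2 1 + M i 2 * B' 2 2 = B' 2 i := fun i => by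
    have := congrFun h3 i
    simpa [Matrix.mulVec, dotProduct, Fin.sum_univ_three] using this
  refine ⟨Matrix.of fun i j => ![B' 0 i, B' 1 i, δ⁻¹ * B' 2 i] j, ?_, ?_⟩
  · have e : δ = (Matrix.of (fun i j => B' j i)).det := rfl
    rw [Matrix.det_fin_three] at e ⊢
    simp only [Matrix.of_apply, Matrix.cons_val', Matrix.cons_val_zero, Matrix.cons_val_one, Matrix.cons_val_fin_one, Matrix.cons_val] at e ⊢
    field_simp
    linear_combination -e
  · ext i j
    fin_cases j
    · simp [bl, Matrix.mul_apply, Fin.sum_univ_three]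
      linear_combination -(h0' i)
    · simp [bl, Matrix.mul_apply, Fin.sum_univ_three]
      linear_combination -(h1' i)
    · simp [bl, Matrix.mul_apply, Fin.sum_univ_three]
      linear_combination (-δ⁻¹) * (h3' i)

/-- The inclusion of `SL₃`. -/
def slRep3 : SpecialLinearGroup (Fin 3) F →* Matrix (Fin 3) (Fin 3) F where
  toFun x := x.1
  map_one' := rfl
  map_mul' _ _ := rfl

theorem slRep3_apply (x : SpecialLinearGroup (Fin 3) F) : slRep3 x = x.1 := rfl

/-- The data for `SL₃`. -/
theorem sl3_data (hodd : Fintype.card F % 2 = 1) :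
    ∃ (d₀ s₀ wh sl hh : SpecialLinearGroup (Fin 3) F), Data3 slRep3 d₀ s₀ wh sl hh := by
  have h2 := two_ne_zero_of_odd hodd
  obtain ⟨a, b, hab⟩ := exists_sq_add_sq hodd (-1 : F)
  let d₀ : SpecialLinearGroup (Fin 3) F := ⟨bl (-1) 1, by
    rw [bl_det, Matrix.det_fin_two]
    simp⟩
  let s₀ : SpecialLinearGroup (Fin 3) F := ⟨bl dm (-1), by
    rw [bl_det, Matrix.det_fin_two]
    simp [dm]⟩
  let wh : SpecialLinearGroup (Fin 3) F := ⟨bl w2 1, by
    rw [bl_det, Matrix.det_fin_two]
    simp [w2]⟩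
  let sl : SpecialLinearGroup (Fin 3) F := ⟨bl !![a, b; b, -a] 1, by
    rw [bl_det, Matrix.det_fin_two]
    simp
    linear_combination -hab⟩
  let hh : SpecialLinearGroup (Fin 3) F := ⟨!![1, 0, 0; 0, 0, 1; 0, -1, 0], by
    rw [Matrix.det_fin_three]
    simp⟩
  refine ⟨d₀, s₀, wh, sl, hh, fun x y hxy => Subtype.ext hxy, fun x => x.2, h2, rfl, rfl, rfl, ⟨_, rfl, ?_⟩, rfl, ?_, ?_, ?_, ?_⟩
  · ext i j
    fin_cases i <;> fin_cases j <;> simp [w2, Matrix.mul_apply, Fin.sum_univ_two]
  · intro t ht1 ht2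
    obtain ⟨c, hc1, hc2⟩ := sl3_invol hodd t.1 t.2 (congrArg Subtype.val ht2) (fun h => ht1 (Subtype.ext h))
    let c' : SpecialLinearGroup (Fin 3) F := ⟨c, hc1⟩
    refine ⟨c', ?_⟩
    have e : c' * d₀ = t * c' := Subtype.ext hc2
    rw [e]
    group
  · intro g A hg hAA
    have hA : A.det = 1 := by
      have h1 := g.2
      have h3 : g.1 = bl A 1 := hg
      rw [h3, bl_det, mul_one] at h1
      exact h1
    obtain ⟨c₂, hc₂⟩ := sl_conj hodd ⟨A, hA⟩ hAA
    have hc₂' : c₂ * wSL = ⟨A, hA⟩ * c₂ := by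
      rw [← hc₂]
      group
    have hc₃ : c₂.1 * w2 = A * c₂.1 := congrArg Subtype.val hc₂'
    let c : SpecialLinearGroup (Fin 3) F := ⟨bl c₂.1 1, by
      rw [bl_det, c₂.2, mul_one]⟩
    refine ⟨c, c₂.1, rfl, ?_⟩
    have e : c * wh = g * c := by
      apply Subtype.ext
      show bl c₂.1 1 * bl w2 1 = g.1 * bl c₂.1 1
      have h3 : g.1 = bl A 1 := hg
      rw [h3, bl_mul, bl_mul, hc₃]
    rw [e]
    group
  · intro x A e hx
    have h1 := x.2
    have h3 : x.1 = bl A e := hx
    rw [h3, bl_det] at h1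
    have he : e ≠ 0 := by
      rintro rfl
      rw [mul_zero] at h1
      exact zero_ne_one h1
    refine ⟨⟨bl !![e⁻¹, 0; 0, 1] e, by
      rw [bl_det, Matrix.det_fin_two]
      simp
      exact inv_mul_cancel₀ he⟩, rfl⟩
  · refine ⟨⟨bl (1 + w2) 2⁻¹, by
      rw [bl_det, Matrix.det_fin_two]
      simp [w2]
      norm_num
      field_simp⟩, 1 + w2, 2⁻¹, rfl, ?_, 2, h2, ?_⟩
    · rw [Matrix.add_mul, Matrix.mul_add, Matrix.one_mul, Matrix.mul_one]
    · ext i j
      fin_cases i <;> fin_cases j <;> simp [w2, Matrix.mul_apply, Fin.sum_univ_two]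
      all_goals norm_num

/-- **The `2`-fusion system of `PSL₃(F)`.** -/
theorem isSimple_PSL3 (hodd : Fintype.card F % 2 = 1) (S : Sylow 2 (Matrix.ProjectiveSpecialLinearGroup (Fin 3) F)) :
    (groupFusionSystem (S : Subgroup (Matrix.ProjectiveSpecialLinearGroup (Fin 3) F))).IsSimple 2 := by
  obtain ⟨d₀, s₀, wh, sl, hh, h⟩ := sl3_data (F := F) hodd
  exact h.isSimple S

end SL3

end Cfsg.Agent.Lib.Fusion.TwoF
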