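/-
The group `SU₃(q)`, `q` odd: matrix computations.
-/
import Cfsg.Agent.Lib.Fusion.TwoF7
import Cfsg.Agent.Lib.Classical.UnitSub

set_option autoImplicit false
set_option linter.unusedSectionVars false
set_option linter.unusedVariables false
set_option linter.unusedSimpArgs false
set_option linter.style.haveILetI false

namespace Cfsg.Agent.Lib.Fusion.TwoF

open Cfsg Cfsg.FusionSystem Cfsg.Agent.Lib.Fusion Matrix Cfsg.Agent.Lib.Classical

section SU

variable {F : Type*} [Field F] [Fintype F] {q : ℕ}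

theorem herm_eq (hF : Fintype.card F = q ^ 2) {n : ℕ} (u v : Fin n → F) :
    Cfsg.hermForm n F q u v = u ⬝ᵥ (fun i => frobQ hF (v i)) := by
  simp only [herm_apply, dotProduct, frobQ_apply]

theorem herm_mulVec (hF : Fintype.card F = q ^ 2) {n : ℕ} (A : Matrix (Fin n) (Fin n) F) (u v : Fin n → F) :
    Cfsg.hermForm n F q (A *ᵥ u) (A *ᵥ v) = u ⬝ᵥ ((Aᵀ * A.map (frobQ hF)) *ᵥ (fun i => frobQ hF (v i))) := by
  rw [herm_eq hF]
  have e : (fun i => frobQ hF ((A *ᵥ v) i)) = A.map (frobQ hF) *ᵥ (fun i => frobQ hF (v i)) := by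
    ext x
    simp only [Matrix.mulVec, dotProduct, map_sum, map_mul, Matrix.map_apply]
  rw [e, ← Matrix.mulVec_mulVec, Matrix.dotProduct_mulVec u Aᵀ, Matrix.vecMul_transpose]

/-- Membership in `SU` in terms of matrices. -/
theorem mem_SU_iff (hF : Fintype.card F = q ^ 2) {n : ℕ} (x : SpecialLinearGroup (Fin n) F) :
    x ∈ Cfsg.SU n F q ↔ x.1ᵀ * x.1.map (frobQ hF) = 1 := by
  have hσ := frobQ_frobQ hF
  show (∀ u v, Cfsg.hermForm n F q (x.1 *ᵥ u) (x.1 *ᵥ v) = Cfsg.hermForm n F q u v) ↔ _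
  constructor
  · intro h
    ext k l
    have h1 := h (Pi.single k 1) (fun i => frobQ hF ((Pi.single l (1 : F) : Fin n → F) i))
    have e : (fun i => frobQ hF (frobQ hF ((Pi.single l (1 : F) : Fin n → F) i))) = (Pi.single l 1 : Fin n → F) := by
      funext i
      rw [hσ]
    rw [herm_mulVec hF, herm_eq hF, e, single_one_dotProduct, single_one_dotProduct, Matrix.mulVec_single_one] at h1
    rw [Matrix.col_apply] at h1
    exact h1.trans (by simp [Matrix.one_apply, Pi.single_apply, eq_comm])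
  · intro h u v
    rw [herm_mulVec hF, h, Matrix.one_mulVec, herm_eq hF]

/-- A constructor of elements of `SU₃`. -/
def mkSU (hF : Fintype.card F = q ^ 2) (M : Matrix (Fin 3) (Fin 3) F) (h1 : M.det = 1) (h2 : Mᵀ * M.map (frobQ hF) = 1) :
    ↥(Cfsg.SU 3 F q) := ⟨⟨M, h1⟩, (mem_SU_iff hF _).2 h2⟩

/-- The representation of `SU₃` by matrices. -/
def suRep : ↥(Cfsg.SU 3 F q) →* Matrix (Fin 3) (Fin 3) F where
  toFun x := x.1.1
  map_one' := rfl
  map_mul' _ _ := rfl

theorem suRep_apply (x : ↥(Cfsg.SU 3 F q)) : suRep x = x.1.1 := rfl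

theorem suRep_mk (hF : Fintype.card F = q ^ 2) (M : Matrix (Fin 3) (Fin 3) F) (h1 : M.det = 1) (h2 : Mᵀ * M.map (frobQ hF) = 1) :
    suRep (mkSU hF M h1 h2) = M := rfl

theorem suRep_inj : Function.Injective (suRep (F := F) (q := q)) := fun _ _ h => Subtype.ext (Subtype.ext h)

theorem suRep_det (x : ↥(Cfsg.SU 3 F q)) : (suRep x).det = 1 := x.1.2

theorem suRep_U (hF : Fintype.card F = q ^ 2) (x : ↥(Cfsg.SU 3 F q)) : (suRep x)ᵀ * (suRep x).map (frobQ hF) = 1 := (mem_SU_iff hF _).1 x.2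

theorem bl_U (σ : F →+* F) (A : Matrix (Fin 2) (Fin 2) F) (e : F) :
    (bl A e)ᵀ * (bl A e).map σ = bl (Aᵀ * A.map σ) (e * σ e) := by
  ext i j
  fin_cases i <;> fin_cases j <;> simp [bl, Matrix.mul_apply, Fin.sum_univ_three, Fin.sum_univ_two]

theorem exists_imag (hF : Fintype.card F = q ^ 2) (h2 : (2 : F) ≠ 0) : ∃ ε : F, ε ≠ 0 ∧ frobQ hF ε = - ε := by
  have h1 := frobQ_ne_id hF
  obtain ⟨x, hx⟩ : ∃ x, frobQ hF x ≠ x := by
    by_contra hc
    push Not at hc
    apply h1
    ext x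
    exact hc x
  refine ⟨x - frobQ hF x, ?_, ?_⟩
  · intro h
    exact hx (sub_eq_zero.1 h).symm
  · rw [map_sub, frobQ_frobQ]
    ring

/-- Sums of two squares in the fixed field. -/
theorem exists_sq_add_sq_fixed (hF : Fintype.card F = q ^ 2) (h2 : (2 : F) ≠ 0) (t : F) (ht : frobQ hF t = t) :
    ∃ a b : F, frobQ hF a = a ∧ frobQ hF b = b ∧ a * a + b * b = t := by
  classical
  let R : Subfield F := (frobQ hF).eqLocusField (RingHom.id F)
  haveI : Fintype R := Fintype.ofFinite _
  have hodd : Fintype.card R % 2 = 1 := by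
    by_contra hc
    have h3 : Fintype.card R % 2 = 0 := by omega
    have h4 : ringChar R = 2 := FiniteField.even_card_iff_char_two.2 h3
    have h5 : ((ringChar R : ℕ) : R) = 0 := ringChar.Nat.cast_ringChar
    rw [h4] at h5
    apply h2
    have h6 : (((2 : ℕ) : R) : F) = 0 := by
      rw [h5]
      rfl
    have h7 : (((2 : ℕ) : R) : F) = ((2 : ℕ) : F) := map_natCast R.subtype 2
    rw [h7] at h6
    exact_mod_cast h6
  obtain ⟨a, b, hab⟩ := exists_sq_add_sq hodd (⟨t, ht⟩ : R)
  refine ⟨a, b, a.2, b.2, ?_⟩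
  have := congrArg (fun r : R => (r : F)) hab
  simpa using this

end SU

section Step

variable {F : Type*} [Field F] (σ : F →+* F)

/-- A matrix of square `-1` and determinant one has trace zero. -/
theorem trace_zero_of_sq {A : Matrix (Fin 2) (Fin 2) F} (h2 : (2 : F) ≠ 0) (hA : A * A = -1) (hd : A.det = 1) : A 1 1 = - A 0 0 := by
  rw [Matrix.det_fin_two] at hd
  have h00 := congrFun (congrFun hA 0) 0
  have h01 := congrFun (congrFun hA 0) 1
  have h10 := congrFun (congrFun hA 1) 0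
  have h11 := congrFun (congrFun hA 1) 1
  simp [Matrix.mul_apply, Fin.sum_univ_two] at h00 h01 h10 h11
  by_contra ht
  have ht' : A 0 0 + A 1 1 ≠ 0 := fun h => ht (by linear_combination h)
  have hb0 : A 0 1 = 0 := by
    have : A 0 1 * (A 0 0 + A 1 1) = 0 := by linear_combination h01
    exact (mul_eq_zero.1 this).resolve_right ht'
  rw [hb0] at h00 h11 hd
  have h3 : (A 0 0 - A 1 1) * (A 0 0 + A 1 1) = 0 := by linear_combination h00 - h11
  have h4 := (mul_eq_zero.1 h3).resolve_right ht'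
  have h5 : A 0 0 = A 1 1 := by linear_combination h4
  rw [← h5] at hd
  apply h2
  linear_combination h00 - hd

/-- A unitary matrix of determinant one and square `-1` satisfies `σ(A) = -Aᵀ`. -/
theorem map_eq_of_U {A : Matrix (Fin 2) (Fin 2) F} (h2 : (2 : F) ≠ 0) (hA : A * A = -1) (hd : A.det = 1) (hU : Aᵀ * A.map σ = 1) :
    A.map σ = - Aᵀ := by
  have ht := trace_zero_of_sq h2 hA hd
  rw [Matrix.det_fin_two] at hd
  have h00 := congrFun (congrFun hU 0) 0
  have h01 := congrFun (congrFun hU 0) 1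
  have h10 := congrFun (congrFun hU 1) 0
  have h11 := congrFun (congrFun hU 1) 1
  simp [Matrix.mul_apply, Fin.sum_univ_two] at h00 h01 h10 h11
  ext i j
  fin_cases i <;> fin_cases j <;> simp
  · linear_combination (A 1 1) * h00 + (- A 1 0) * h10 + (- σ (A 0 0)) * hd + ht
  · linear_combination (A 1 1) * h01 + (- A 1 0) * h11 + (- σ (A 0 1)) * hd
  · linear_combination (- A 0 1) * h00 + (A 0 0) * h10 + (- σ (A 1 0)) * hd
  · linear_combination (- A 0 1) * h01 + (A 0 0) * h11 + (- σ (A 1 1)) * hd + ht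

/-- The anticommutator of two matrices of trace zero. -/
theorem anticomm_eq {A B : Matrix (Fin 2) (Fin 2) F} (hA : A 1 1 = - A 0 0) (hB : B 1 1 = - B 0 0) :
    A * B + B * A = (A * B).trace • (1 : Matrix (Fin 2) (Fin 2) F) := by
  ext i j
  fin_cases i <;> fin_cases j <;> simp [Matrix.mul_apply, Fin.sum_univ_two, Matrix.trace_fin_two, hA, hB]
  · ring
  · ring
  · ring
  · ring

/-- The conjugation step. -/
theorem conj_step (h2 : (2 : F) ≠ 0) (hσ : ∀ a, σ (σ a) = a) (hsq : ∀ t, σ t = t → ∃ a b : F, σ a = a ∧ σ b = b ∧ a * a + b * b = t)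
    {A A' : Matrix (Fin 2) (Fin 2) F} (hA : A * A = -1) (hA' : A' * A' = -1) (hd : A.det = 1) (hd' : A'.det = 1)
    (hU : Aᵀ * A.map σ = 1) (hU' : A'ᵀ * A'.map σ = 1) (hμ : (2 : F) - (A * A').trace ≠ 0) :
    ∃ B : Matrix (Fin 2) (Fin 2) F, B * A' = A * B ∧ B.det = 1 ∧ Bᵀ * B.map σ = 1 := by
  have ht := trace_zero_of_sq h2 hA hd
  have ht' := trace_zero_of_sq h2 hA' hd'
  have hm := map_eq_of_U σ h2 hA hd hU
  have hm' := map_eq_of_U σ h2 hA' hd' hU'
  have hanti := anticomm_eq ht ht'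
  set μ := (2 : F) - (A * A').trace with hμdef
  -- `μ` is fixed
  have hμσ : σ μ = μ := by
    have h3 : σ (A * A').trace = (A * A').trace := by
      have e1 : σ (A 0 0) = - A 0 0 := by
        have := congrFun (congrFun hm 0) 0
        simpa using this
      have e2 : σ (A 1 1) = - A 1 1 := by
        have := congrFun (congrFun hm 1) 1
        simpa using this
      have e3 : σ (A 0 1) = - A 1 0 := by
        have := congrFun (congrFun hm 0) 1
        simpa using this
      have e4 : σ (A 1 0) = - A 0 1 := by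
        have := congrFun (congrFun hm 1) 0
        simpa using this
      have e1' : σ (A' 0 0) = - A' 0 0 := by
        have := congrFun (congrFun hm' 0) 0
        simpa using this
      have e2' : σ (A' 1 1) = - A' 1 1 := by
        have := congrFun (congrFun hm' 1) 1
        simpa using this
      have e3' : σ (A' 0 1) = - A' 1 0 := by
        have := congrFun (congrFun hm' 0) 1
        simpa using this
      have e4' : σ (A' 1 0) = - A' 0 1 := by
        have := congrFun (congrFun hm' 1) 0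
        simpa using this
      simp only [Matrix.trace_fin_two, Matrix.mul_apply, Fin.sum_univ_two, map_add, map_mul, e1, e2, e3, e4, e1', e2', e3', e4']
      ring
    rw [hμdef, map_sub, h3, map_ofNat]
  obtain ⟨α, β, hα, hβ, hαβ⟩ := hsq μ⁻¹ (by rw [map_inv₀, hμσ])
  set X := A + A' with hX
  set Y : Matrix (Fin 2) (Fin 2) F := α • 1 + β • A' with hY
  have hXX : X * X = (-μ) • (1 : Matrix (Fin 2) (Fin 2) F) := by
    have e : X * X = A * A + A' * A' + (A * A' + A' * A) := by
      rw [hX]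
      noncomm_ring
    rw [e, hA, hA', hanti, hμdef]
    ext i j
    fin_cases i <;> fin_cases j <;> simp
    · ring
    · ring
  have hXdet : X.det = μ := by
    have h00 := congrFun (congrFun hXX 0) 0
    simp [Matrix.mul_apply, Fin.sum_univ_two] at h00
    have hX11 : X 1 1 = - X 0 0 := by
      rw [hX]
      simp [ht, ht']
      ring
    rw [Matrix.det_fin_two, hX11]
    linear_combination -h00
  have hYdet : Y.det = μ⁻¹ := by
    rw [Matrix.det_fin_two] at hd' ⊢
    rw [hY, ← hαβ]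
    simp [ht']
    rw [ht'] at hd'
    linear_combination (β * β) * hd'
  have hYcomm : Y * A' = A' * Y := by
    rw [hY]
    simp [Matrix.add_mul, Matrix.mul_add]
  refine ⟨X * Y, ?_, ?_, ?_⟩
  · rw [Matrix.mul_assoc, hYcomm, ← Matrix.mul_assoc, ← Matrix.mul_assoc]
    congr 1
    rw [hX, Matrix.add_mul, Matrix.mul_add, hA, hA', add_comm]
  · rw [Matrix.det_mul, hXdet, hYdet]
    exact mul_inv_cancel₀ hμ
  · have hmX : X.map σ = - Xᵀ := by
      rw [hX, Matrix.map_add _ (map_add σ), hm, hm', Matrix.transpose_add]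
      abel
    have hmY : Y.map σ = α • 1 - β • A'ᵀ := by
      rw [hY, Matrix.map_add _ (map_add σ)]
      have e1 : (α • (1 : Matrix (Fin 2) (Fin 2) F)).map σ = α • 1 := by
        ext i j
        fin_cases i <;> fin_cases j <;> simp [hα]
      have e2 : (β • A').map σ = β • (A'.map σ) := by
        ext i j
        simp [hβ]
      rw [e1, e2, hm']
      simp [sub_eq_add_neg]
    rw [Matrix.transpose_mul]
    have e3 : (X * Y).map σ = X.map σ * Y.map σ := by
      rw [Matrix.map_mul]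
    rw [e3, hmX, hmY]
    have e4 : Yᵀ * Xᵀ * (-Xᵀ * (α • 1 - β • A'ᵀ)) = Yᵀ * (-(Xᵀ * Xᵀ)) * (α • 1 - β • A'ᵀ) := by
      simp [Matrix.mul_assoc]
    rw [e4, ← Matrix.transpose_mul, hXX]
    have e5 : (((-μ) • (1 : Matrix (Fin 2) (Fin 2) F))ᵀ) = (-μ) • 1 := by
      simp
    rw [e5]
    have e6 : Yᵀ = α • 1 + β • A'ᵀ := by
      rw [hY]
      simp
    rw [e6]
    have hA't : A'ᵀ * A'ᵀ = -1 := by
      rw [← Matrix.transpose_mul, hA']
      simp
    have e7 : (α • 1 + β • A'ᵀ) * (-((-μ) • (1 : Matrix (Fin 2) (Fin 2) F))) * (α • 1 - β • A'ᵀ) = μ • ((α * α) • 1 - (β * β) • (A'ᵀ * A'ᵀ)) := by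
      have e8 : -((-μ) • (1 : Matrix (Fin 2) (Fin 2) F)) = μ • 1 := by simp
      rw [e8]
      simp only [Matrix.mul_smul, Matrix.mul_one, Matrix.smul_mul, Matrix.add_mul, Matrix.mul_sub, smul_add, smul_sub, smul_smul, Matrix.one_mul, Matrix.mul_add, Matrix.sub_mul]
      have e9 : ∀ a b c d : F, a = b → a • (A'ᵀ) = b • (A'ᵀ) := by
        intro a b _ _ h
        rw [h]
      ext i j
      simp [Matrix.add_apply, Matrix.sub_apply, Matrix.smul_apply]
      ring
    rw [e7, hA't]
    have e10 : μ • ((α * α) • (1 : Matrix (Fin 2) (Fin 2) F) - (β * β) • (-1 : Matrix (Fin 2) (Fin 2) F)) = (μ * (α * α + β * β)) • 1 := by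
      rw [smul_neg, sub_neg_eq_add, ← add_smul, smul_smul]
    rw [e10, hαβ, mul_inv_cancel₀ hμ, one_smul]

end Step

end Cfsg.Agent.Lib.Fusion.TwoF
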