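/-
The group `SU₃(q)`, `q` odd: the data for the analysis of the `2`-fusion system.
-/
import Cfsg.Agent.Lib.Fusion.TwoF8

set_option autoImplicit false
set_option linter.unusedSectionVars false
set_option linter.unusedVariables false
set_option linter.unusedSimpArgs false
set_option linter.style.haveILetI false

namespace Cfsg.Agent.Lib.Fusion.TwoF

open Cfsg Cfsg.FusionSystem Cfsg.Agent.Lib.Fusion Matrix Cfsg.Agent.Lib.Classical

section SU

variable {F : Type*} [Field F] [Fintype F] {q : ℕ}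

theorem w2_U (σ : F →+* F) : (w2 : Matrix (Fin 2) (Fin 2) F)ᵀ * (w2 : Matrix (Fin 2) (Fin 2) F).map σ = 1 := by
  ext i j
  fin_cases i <;> fin_cases j <;> simp [w2, Matrix.mul_apply, Fin.sum_univ_two]

theorem w2_det : (w2 : Matrix (Fin 2) (Fin 2) F).det = 1 := by
  simp [w2, Matrix.det_fin_two]

/-- An element of `SU₂` anticommuting with `w`. -/
theorem exists_anti (hF : Fintype.card F = q ^ 2) (h2 : (2 : F) ≠ 0) :
    ∃ S : Matrix (Fin 2) (Fin 2) F, S * S = -1 ∧ S.det = 1 ∧ Sᵀ * S.map (frobQ hF) = 1 ∧ S * w2 = -(w2 * S) := by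
  obtain ⟨ε, hε0, hε⟩ := exists_imag hF h2
  have hεε : frobQ hF (-(ε * ε)⁻¹) = -(ε * ε)⁻¹ := by
    rw [map_neg, map_inv₀, map_mul, hε]
    simp
  obtain ⟨a, b, ha, hb, hab⟩ := exists_sq_add_sq_fixed hF h2 _ hεε
  have hab' : ε * ε * (a * a + b * b) = -1 := by
    rw [hab]
    field_simp
  refine ⟨!![ε * a, ε * b; ε * b, -(ε * a)], ?_, ?_, ?_, ?_⟩
  · ext i j
    fin_cases i <;> fin_cases j <;> simp [Matrix.mul_apply, Fin.sum_univ_two]
    · linear_combination hab'
    · ring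
    · ring
    · linear_combination hab'
  · rw [Matrix.det_fin_two]
    simp
    linear_combination -hab'
  · ext i j
    fin_cases i <;> fin_cases j <;> simp [Matrix.mul_apply, Fin.sum_univ_two, ha, hb, hε]
    · linear_combination -hab'
    · ring
    · ring
    · linear_combination -hab'
  · ext i j
    fin_cases i <;> fin_cases j <;> simp [w2, Matrix.mul_apply, Fin.sum_univ_two]

/-- All elements of `SU₂` of square `-1` are conjugate to `w`. -/
theorem su_conj (hF : Fintype.card F = q ^ 2) (h2 : (2 : F) ≠ 0) {A : Matrix (Fin 2) (Fin 2) F} (hA : A * A = -1) (hd : A.det = 1)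
    (hU : Aᵀ * A.map (frobQ hF) = 1) : ∃ B : Matrix (Fin 2) (Fin 2) F, B * w2 = A * B ∧ B.det = 1 ∧ Bᵀ * B.map (frobQ hF) = 1 := by
  obtain ⟨S, hS, hSd, hSU, hSw⟩ := exists_anti hF h2
  have hσ := frobQ_frobQ hF
  have hsq := exists_sq_add_sq_fixed hF h2
  -- choose the sign
  have hsign : ∃ k : Matrix (Fin 2) (Fin 2) F, k * k = -1 ∧ k.det = 1 ∧ kᵀ * k.map (frobQ hF) = 1 ∧ k * w2 = -(w2 * k) ∧ (2 : F) - (A * k).trace ≠ 0 := by
    by_cases h : (2 : F) - (A * S).trace = 0
    · refine ⟨-S, by rw [neg_mul_neg, hS], ?_, ?_, ?_, ?_⟩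
      · rw [Matrix.det_neg, hSd]
        simp
      · have e : (-S).map (frobQ hF) = - S.map (frobQ hF) := by
          ext i j
          simp
        rw [e, Matrix.transpose_neg, neg_mul_neg, hSU]
      · rw [Matrix.neg_mul, Matrix.mul_neg, hSw]
      · rw [Matrix.mul_neg, Matrix.trace_neg]
        intro hc
        have : (2 : F) + 2 = 0 := by linear_combination hc + h
        apply h2
        have h4 : (2 : F) * 2 = 0 := by linear_combination this
        exact (mul_eq_zero.1 h4).resolve_left h2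
    · exact ⟨S, hS, hSd, hSU, hSw, h⟩
  obtain ⟨k, hk, hkd, hkU, hkw, hkt⟩ := hsign
  have hw : (w2 : Matrix (Fin 2) (Fin 2) F) * w2 = -1 := w2_mul_w2
  have htr : (2 : F) - (k * w2).trace ≠ 0 := by
    obtain ⟨a1, a2⟩ := acomm_w2 hkw
    have : (k * w2).trace = 0 := by
      simp [Matrix.trace_fin_two, w2, Matrix.mul_apply, Fin.sum_univ_two, a1]
    rw [this, sub_zero]
    exact h2
  obtain ⟨B₁, h1, h3, h4⟩ := conj_step (frobQ hF) h2 hσ hsq hk hw hkd w2_det hkU (w2_U _) htr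
  obtain ⟨B₂, h5, h6, h7⟩ := conj_step (frobQ hF) h2 hσ hsq hA hk hd hkd hU hkU hkt
  refine ⟨B₂ * B₁, ?_, ?_, ?_⟩
  · rw [Matrix.mul_assoc, h1, ← Matrix.mul_assoc, h5, Matrix.mul_assoc]
  · rw [Matrix.det_mul, h6, h3, one_mul]
  · have e : (B₂ * B₁).map (frobQ hF) = B₂.map (frobQ hF) * B₁.map (frobQ hF) := by
      rw [Matrix.map_mul]
    rw [e, Matrix.transpose_mul, Matrix.mul_assoc, ← Matrix.mul_assoc B₂ᵀ, h7, Matrix.one_mul, h4]

/-- The third vector of an orthonormal basis. -/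
theorem exists_cross (hF : Fintype.card F = q ^ 2) {a b : Fin 3 → F} (haa : Cfsg.hermForm 3 F q a a = 1) (hbb : Cfsg.hermForm 3 F q b b = 1)
    (hab : Cfsg.hermForm 3 F q a b = 0) :
    ∃ v : Fin 3 → F, Cfsg.hermForm 3 F q a v = 0 ∧ Cfsg.hermForm 3 F q b v = 0 ∧ Cfsg.hermForm 3 F q v v = 1 := by
  have hσ := frobQ_frobQ hF
  have hba : Cfsg.hermForm 3 F q b a = 0 := by
    rw [herm_conj hF a b, hab]
    have := two_le_q hF
    exact zero_pow (by omega)
  refine ⟨![frobQ hF (a 1 * b 2 - a 2 * b 1), frobQ hF (a 2 * b 0 - a 0 * b 2), frobQ hF (a 0 * b 1 - a 1 * b 0)], ?_, ?_, ?_⟩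
  · simp only [herm_apply, Fin.sum_univ_three, ← frobQ_apply hF]
    simp [hσ]
    ring
  · simp only [herm_apply, Fin.sum_univ_three, ← frobQ_apply hF]
    simp [hσ]
    ring
  · simp only [herm_apply, Fin.sum_univ_three, ← frobQ_apply hF] at haa hbb hab hba ⊢
    simp [hσ, map_sub, map_mul] at haa hbb hab hba ⊢
    linear_combination (frobQ hF (b 0) * b 0 + frobQ hF (b 1) * b 1 + frobQ hF (b 2) * b 2) * haa + hbb
      - (frobQ hF (a 0) * b 0 + frobQ hF (a 1) * b 1 + frobQ hF (a 2) * b 2) * hab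

/-- A unit vector in an eigenspace of an involution of `SU₃`. -/
theorem unit_in (hF : Fintype.card F = q ^ 2) (h2 : (2 : F) ≠ 0) {M : Matrix (Fin 3) (Fin 3) F} (hMM : M * M = 1) (hU : Mᵀ * M.map (frobQ hF) = 1)
    (e : F) (he : e = 1 ∨ e = -1) (hne : M ≠ (-e) • 1) : ∃ u : Fin 3 → F, M *ᵥ u = e • u ∧ Cfsg.hermForm 3 F q u u = 1 := by
  classical
  have he2 : e * e = 1 := by
    rcases he with rfl | rfl <;> simp
  have heσ : frobQ hF e = e := by
    rcases he with rfl | rfl <;> simp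
  have hpres : ∀ u v, Cfsg.hermForm 3 F q (M *ᵥ u) (M *ᵥ v) = Cfsg.hermForm 3 F q u v := by
    intro u v
    rw [herm_mulVec hF, hU, Matrix.one_mulVec, herm_eq hF]
  have hMM' : ∀ v, M *ᵥ (M *ᵥ v) = v := by
    intro v
    rw [Matrix.mulVec_mulVec, hMM, Matrix.one_mulVec]
  let W : Submodule F (Fin 3 → F) := LinearMap.ker (M.mulVecLin - e • LinearMap.id)
  have hW : ∀ v, v ∈ W ↔ M *ᵥ v = e • v := by
    intro v
    show v ∈ LinearMap.ker (M.mulVecLin - e • LinearMap.id) ↔ _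
    rw [LinearMap.mem_ker]
    simp [sub_eq_zero]
  have h2' : (2 : F)⁻¹ * 2 = 1 := inv_mul_cancel₀ h2
  have hq := two_le_q hF
  have hND : NDS q W := by
    intro u hu hv
    apply herm_nondeg_right hF
    intro x
    have hMu := (hW u).1 hu
    set x₁ := (2 : F)⁻¹ • (x + e • (M *ᵥ x)) with hx₁
    set x₂ := (2 : F)⁻¹ • (x - e • (M *ᵥ x)) with hx₂
    have hx : x = x₁ + x₂ := by
      rw [hx₁, hx₂, ← smul_add]
      have : x + e • M *ᵥ x + (x - e • M *ᵥ x) = (2 : F) • x := by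
        rw [two_smul]
        abel
      rw [this, smul_smul, h2', one_smul]
    have hMx₁ : M *ᵥ x₁ = e • x₁ := by
      rw [hx₁, Matrix.mulVec_smul, Matrix.mulVec_add, Matrix.mulVec_smul, hMM']
      have e1 : e • (2 : F)⁻¹ • (x + e • M *ᵥ x) = (2 : F)⁻¹ • (e • x + (e * e) • M *ᵥ x) := by
        rw [smul_comm, smul_add, smul_smul]
      rw [e1, he2, one_smul, add_comm]
    have hMx₂ : M *ᵥ x₂ = (-e) • x₂ := by
      rw [hx₂, Matrix.mulVec_smul, Matrix.mulVec_sub, Matrix.mulVec_smul, hMM']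
      have e1 : (-e) • (2 : F)⁻¹ • (x - e • M *ᵥ x) = (2 : F)⁻¹ • ((e * e) • M *ᵥ x - e • x) := by
        rw [smul_comm, smul_sub, smul_smul, neg_mul, neg_smul, neg_smul, neg_sub_neg]
      rw [e1, he2, one_smul]
    have h1 : Cfsg.hermForm 3 F q u x₁ = 0 := hv _ ((hW _).2 hMx₁)
    have h3 : Cfsg.hermForm 3 F q u x₂ = 0 := by
      have h4 := hpres u x₂
      rw [hMu, hMx₂, herm_smul_left, herm_smul_right, ← frobQ_apply hF, map_neg, heσ] at h4
      have h5 : (2 : F) * Cfsg.hermForm 3 F q u x₂ = 0 := by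
        have h6 : e * (-e * Cfsg.hermForm 3 F q u x₂) = -(Cfsg.hermForm 3 F q u x₂) := by
          rw [← mul_assoc, mul_neg, he2]
          ring
        rw [h6] at h4
        linear_combination -h4
      exact (mul_eq_zero.1 h5).resolve_left h2
    rw [hx, herm_add_right hF, h1, h3, add_zero]
  have hdim : 1 ≤ Module.finrank F W := by
    rw [Submodule.one_le_finrank_iff]
    intro hb
    apply hne
    ext i j
    have hv : (Pi.single j (1 : F) : Fin 3 → F) + e • (M *ᵥ Pi.single j 1) ∈ W := by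
      rw [hW, Matrix.mulVec_add, Matrix.mulVec_smul, hMM', smul_add, smul_smul, he2, one_smul, add_comm]
    rw [hb, Submodule.mem_bot] at hv
    have h1 := congrFun hv i
    rw [Pi.add_apply, Pi.smul_apply, Matrix.mulVec_single_one, Matrix.col_apply, Pi.single_apply] at h1
    simp only [Pi.zero_apply, smul_eq_mul] at h1
    have h3 : M i j = - e * (if i = j then 1 else 0) := by
      have h4 : e * e * M i j = - e * (if i = j then 1 else 0) := by
        linear_combination e * h1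
      rwa [he2, one_mul] at h4
    rw [h3]
    simp [Matrix.one_apply]
  obtain ⟨u, hu, huu⟩ := exists_unit_in hF hND hdim
  exact ⟨u, (hW u).1 hu, huu⟩

/-- An involution of `SU₃` is conjugate to `diag(-1,-1,1)`. -/
theorem su_invol (hF : Fintype.card F = q ^ 2) (h2 : (2 : F) ≠ 0) {M : Matrix (Fin 3) (Fin 3) F} (hdet : M.det = 1) (hMM : M * M = 1)
    (hU : Mᵀ * M.map (frobQ hF) = 1) (hne : M ≠ 1) :
    ∃ c : Matrix (Fin 3) (Fin 3) F, c.det = 1 ∧ cᵀ * c.map (frobQ hF) = 1 ∧ c * bl (-1) 1 = M * c := by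
  classical
  have hσ := frobQ_frobQ hF
  have hq := two_le_q hF
  have hq0 : q ≠ 0 := by omega
  have hpres : ∀ u v, Cfsg.hermForm 3 F q (M *ᵥ u) (M *ᵥ v) = Cfsg.hermForm 3 F q u v := by
    intro u v
    rw [herm_mulVec hF, hU, Matrix.one_mulVec, herm_eq hF]
  have hMM' : ∀ v, M *ᵥ (M *ᵥ v) = v := by
    intro v
    rw [Matrix.mulVec_mulVec, hMM, Matrix.one_mulVec]
  have hsym : ∀ u v, Cfsg.hermForm 3 F q (M *ᵥ u) v = Cfsg.hermForm 3 F q u (M *ᵥ v) := by
    intro u v
    have := hpres u (M *ᵥ v)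
    rwa [hMM'] at this
  obtain ⟨a, ha, haa⟩ := unit_in hF h2 hMM hU (-1) (Or.inr rfl) (by
    rw [neg_neg, one_smul]
    exact hne)
  obtain ⟨b, hb, hbb⟩ := unit_in hF h2 hMM hU 1 (Or.inl rfl) (by
    intro h
    rw [h, Matrix.det_smul, Matrix.det_one, Fintype.card_fin] at hdet
    apply h2
    norm_num at hdet
    linear_combination -hdet)
  rw [neg_smul, one_smul] at ha
  rw [one_smul] at hb
  have hab : Cfsg.hermForm 3 F q a b = 0 := by
    have h1 := hsym a b
    rw [ha, hb] at h1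
    have h3 : Cfsg.hermForm 3 F q (-a) b = - Cfsg.hermForm 3 F q a b := by
      have := herm_smul_left (q := q) (-1 : F) a b
      rwa [neg_smul, one_smul, neg_one_mul] at this
    rw [h3] at h1
    have h4 : (2 : F) * Cfsg.hermForm 3 F q a b = 0 := by linear_combination -h1
    exact (mul_eq_zero.1 h4).resolve_left h2
  have hba : Cfsg.hermForm 3 F q b a = 0 := by
    rw [herm_conj hF a b, hab]
    exact zero_pow hq0
  obtain ⟨v, hav, hbv, hvv⟩ := exists_cross hF haa hbb hab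
  have hva : Cfsg.hermForm 3 F q v a = 0 := by
    rw [herm_conj hF a v, hav]
    exact zero_pow hq0
  have hvb : Cfsg.hermForm 3 F q v b = 0 := by
    rw [herm_conj hF b v, hbv]
    exact zero_pow hq0
  let col : Fin 3 → Fin 3 → F := ![a, v, b]
  let c₀ : Matrix (Fin 3) (Fin 3) F := Matrix.of fun i j => col j i
  have hc₀U : c₀ᵀ * c₀.map (frobQ hF) = 1 := by
    have hent : ∀ i j, (c₀ᵀ * c₀.map (frobQ hF)) i j = Cfsg.hermForm 3 F q (col i) (col j) := by
      intro i j
      simp only [Matrix.mul_apply, Matrix.transpose_apply, Matrix.map_apply, herm_apply, frobQ_apply, c₀, Matrix.of_apply]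
    ext i j
    rw [hent]
    fin_cases i <;> fin_cases j <;> simp [col, haa, hbb, hvv, hab, hba, hav, hva, hbv, hvb]
  have hc₀V : (c₀.map (frobQ hF))ᵀ * c₀ = 1 := by
    have := congrArg Matrix.transpose hc₀U
    rwa [Matrix.transpose_mul, Matrix.transpose_transpose, Matrix.transpose_one] at this
  have hc₀V' : c₀ * (c₀.map (frobQ hF))ᵀ = 1 := mul_eq_one_comm.1 hc₀V
  set δ := c₀.det with hδ
  have hδσ : δ * frobQ hF δ = 1 := by
    have h1 := congrArg Matrix.det hc₀U
    rw [Matrix.det_mul, Matrix.det_transpose, Matrix.det_one] at h1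
    rw [← h1, RingHom.map_det]
    rfl
  have hδ0 : δ ≠ 0 := by
    intro h
    rw [h, zero_mul] at hδσ
    exact zero_ne_one hδσ
  -- the matrix in the new basis
  set N : Matrix (Fin 3) (Fin 3) F := (c₀.map (frobQ hF))ᵀ * (M * c₀) with hN
  have hNent : ∀ i j, N i j = Cfsg.hermForm 3 F q (M *ᵥ col j) (col i) := by
    intro i j
    simp only [hN, Matrix.mul_apply, Matrix.transpose_apply, Matrix.map_apply, herm_apply, frobQ_apply, c₀, Matrix.of_apply, Matrix.mulVec, dotProduct]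
    apply Finset.sum_congr rfl
    intro k _
    ring
  have hneg : ∀ u w : Fin 3 → F, Cfsg.hermForm 3 F q (-u) w = - Cfsg.hermForm 3 F q u w := by
    intro u w
    have := herm_smul_left (q := q) (-1 : F) u w
    rwa [neg_smul, one_smul, neg_one_mul] at this
  have hneg2 : ∀ u w : Fin 3 → F, Cfsg.hermForm 3 F q u (-w) = - Cfsg.hermForm 3 F q u w := by
    intro u w
    have := herm_smul_right (q := q) (-1 : F) u w
    rwa [neg_smul, one_smul, ← frobQ_apply hF, map_neg, map_one, neg_one_mul] at this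
  set ε := Cfsg.hermForm 3 F q (M *ᵥ v) v with hε
  have hNeq : N = bl !![-1, 0; 0, ε] 1 := by
    ext i j
    rw [hNent]
    fin_cases i <;> fin_cases j <;> simp [col, bl]
    · rw [ha, hneg, haa]
    · rw [hsym, ha, hneg2, hva, neg_zero]
    · rw [hb, hba]
    · rw [ha, hneg, hav, neg_zero]
    · rfl
    · rw [hb, hbv]
    · rw [ha, hneg, hab, neg_zero]
    · rw [hsym, hb, hvb]
    · rw [hb, hbb]
  have hmapdet : (c₀.map (frobQ hF)).det = frobQ hF δ := (RingHom.map_det _ _).symm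
  have hNdet : N.det = 1 := by
    rw [hN, Matrix.det_mul, Matrix.det_transpose, Matrix.det_mul, hdet, one_mul, hmapdet, mul_comm]
    exact hδσ
  have hε1 : ε = -1 := by
    rw [hNeq, bl_det, Matrix.det_fin_two] at hNdet
    simp at hNdet
    linear_combination -hNdet
  have hNeq' : N = bl (-1) 1 := by
    rw [hNeq, hε1]
    congr 1
    ext i j
    fin_cases i <;> fin_cases j <;> simp
  have hMc : M * c₀ = c₀ * bl (-1) 1 := by
    rw [← hNeq', hN, ← Matrix.mul_assoc, hc₀V', Matrix.one_mul]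
  refine ⟨c₀ * bl 1 δ⁻¹, ?_, ?_, ?_⟩
  · rw [Matrix.det_mul, bl_det, Matrix.det_one, one_mul, ← hδ]
    exact mul_inv_cancel₀ hδ0
  · have e1 : (c₀ * bl 1 δ⁻¹).map (frobQ hF) = c₀.map (frobQ hF) * (bl 1 δ⁻¹).map (frobQ hF) := by
      rw [Matrix.map_mul]
    rw [e1, Matrix.transpose_mul, Matrix.mul_assoc, ← Matrix.mul_assoc c₀ᵀ, hc₀U, Matrix.one_mul, bl_U, ← bl_one]
    congr 1
    · simp
    · rw [map_inv₀, ← mul_inv, hδσ, inv_one]
  · rw [Matrix.mul_assoc, bl_mul, ← Matrix.mul_assoc M, hMc, Matrix.mul_assoc, bl_mul]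
    simp

/-- The data for `SU₃`. -/
theorem su3_data (hF : Fintype.card F = q ^ 2) (hq : q % 2 = 1) :
    ∃ (d₀ s₀ wh sl hh : ↥(Cfsg.SU 3 F q)), Data3 suRep d₀ s₀ wh sl hh := by
  have hodd : Fintype.card F % 2 = 1 := by
    rw [hF, Nat.pow_mod, hq]
  have h2 := two_ne_zero_of_odd hodd
  have hσ := frobQ_frobQ hF
  have hUbl : ∀ (A : Matrix (Fin 2) (Fin 2) F) (e : F), Aᵀ * A.map (frobQ hF) = 1 → e * frobQ hF e = 1 →
      (bl A e)ᵀ * (bl A e).map (frobQ hF) = 1 := by
    intro A e h1 h3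
    rw [bl_U, h1, h3, bl_one]
  obtain ⟨S, hS, hSd, hSU, hSw⟩ := exists_anti hF h2
  let d₀ : ↥(Cfsg.SU 3 F q) := mkSU hF (bl (-1) 1) (by
    rw [bl_det, Matrix.det_fin_two]
    simp) (hUbl _ _ (by
      ext i j
      fin_cases i <;> fin_cases j <;> simp [Matrix.mul_apply, Fin.sum_univ_two]) (by simp))
  let s₀ : ↥(Cfsg.SU 3 F q) := mkSU hF (bl dm (-1)) (by
    rw [bl_det, Matrix.det_fin_two]
    simp [dm]) (hUbl _ _ (by
      ext i j
      fin_cases i <;> fin_cases j <;> simp [dm, Matrix.mul_apply, Fin.sum_univ_two]) (by simp))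
  let wh : ↥(Cfsg.SU 3 F q) := mkSU hF (bl w2 1) (by
    rw [bl_det, w2_det, one_mul]) (hUbl _ _ (w2_U _) (by simp))
  let sl : ↥(Cfsg.SU 3 F q) := mkSU hF (bl S 1) (by
    rw [bl_det, hSd, one_mul]) (hUbl _ _ hSU (by simp))
  let hh : ↥(Cfsg.SU 3 F q) := mkSU hF !![1, 0, 0; 0, 0, 1; 0, -1, 0] (by
    rw [Matrix.det_fin_three]
    simp) (by
      ext i j
      fin_cases i <;> fin_cases j <;> simp [Matrix.mul_apply, Fin.sum_univ_three])
  refine ⟨d₀, s₀, wh, sl, hh, suRep_inj, suRep_det, h2, rfl, rfl, rfl, ⟨S, rfl, hSw⟩, rfl, ?_, ?_, ?_, ?_⟩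
  · intro t ht1 ht2
    have hMM : suRep t * suRep t = 1 := by
      rw [← map_mul, ht2, map_one]
    have hne : suRep t ≠ 1 := by
      intro h
      apply ht1
      apply suRep_inj
      rw [h, map_one]
    obtain ⟨c, hc1, hc2, hc3⟩ := su_invol hF h2 (suRep_det t) hMM (suRep_U hF t) hne
    let c' := mkSU hF c hc1 hc2
    refine ⟨c', ?_⟩
    have e : c' * d₀ = t * c' := by
      apply suRep_inj
      rw [map_mul, map_mul]
      exact hc3
    rw [e]
    group
  · intro g A hg hAA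
    have hA : A.det = 1 := by
      have h1 := suRep_det g
      rw [hg, bl_det, mul_one] at h1
      exact h1
    have hAU : Aᵀ * A.map (frobQ hF) = 1 := by
      have h1 := suRep_U hF g
      rw [hg, bl_U, ← bl_one] at h1
      exact (bl_inj h1).1
    obtain ⟨B, hB1, hB2, hB3⟩ := su_conj hF h2 hAA hA hAU
    let c := mkSU hF (bl B 1) (by rw [bl_det, hB2, one_mul]) (hUbl _ _ hB3 (by simp))
    refine ⟨c, B, rfl, ?_⟩
    have e : c * wh = g * c := by
      apply suRep_inj
      rw [map_mul, map_mul, hg]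
      show bl B 1 * bl w2 1 = bl A 1 * bl B 1
      rw [bl_mul, bl_mul, hB1]
    rw [e]
    group
  · intro x A e hx
    have h1 := suRep_det x
    rw [hx, bl_det] at h1
    have he : e ≠ 0 := by
      rintro rfl
      rw [mul_zero] at h1
      exact zero_ne_one h1
    have h3 := suRep_U hF x
    rw [hx, bl_U, ← bl_one] at h3
    have h4 := (bl_inj h3).2
    refine ⟨mkSU hF (bl !![e⁻¹, 0; 0, 1] e) (by
      rw [bl_det, Matrix.det_fin_two]
      simp
      exact inv_mul_cancel₀ he) (hUbl _ _ (by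
        ext i j
        fin_cases i <;> fin_cases j <;> simp [Matrix.mul_apply, Fin.sum_univ_two]
        rw [← mul_inv, h4, inv_one]) h4), rfl⟩
  · obtain ⟨c, hc⟩ := exists_norm_eq' hF (2 : F)⁻¹ (by
      rw [← frobQ_apply hF, map_inv₀, map_ofNat])
    rw [← frobQ_apply hF] at hc
    have hc0 : c ≠ 0 := by
      rintro rfl
      rw [zero_mul] at hc
      exact inv_ne_zero h2 hc.symm
    have h22 : (2 : F) * 2⁻¹ = 1 := mul_inv_cancel₀ h2
    let A : Matrix (Fin 2) (Fin 2) F := !![c, c; -c, c]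
    have hAdet : A.det = 2 * (c * c) := by
      rw [Matrix.det_fin_two]
      simp [A]
      ring
    have hAU : Aᵀ * A.map (frobQ hF) = 1 := by
      ext i j
      fin_cases i <;> fin_cases j <;> simp [A, Matrix.mul_apply, Fin.sum_univ_two]
      all_goals first | ring1 | linear_combination 2 * hc + h22
    have hdet2 : (2 * (c * c)) ≠ 0 := mul_ne_zero h2 (mul_ne_zero hc0 hc0)
    refine ⟨mkSU hF (bl A (2 * (c * c))⁻¹) (by
      rw [bl_det, hAdet]
      exact mul_inv_cancel₀ hdet2) (hUbl _ _ hAU (by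
        rw [map_inv₀, map_mul, map_mul, map_ofNat, ← mul_inv]
        have e : 2 * (c * c) * (2 * (frobQ hF c * frobQ hF c)) = (2 * (c * frobQ hF c)) * (2 * (c * frobQ hF c)) := by ring
        rw [e, hc, h22, mul_one, inv_one])), A, (2 * (c * c))⁻¹, rfl, ?_, 2 * (c * c), hdet2, ?_⟩
    · ext i j
      fin_cases i <;> fin_cases j <;> simp [A, w2, Matrix.mul_apply, Fin.sum_univ_two]
    · ext i j
      fin_cases i <;> fin_cases j <;> simp [A, w2, Matrix.mul_apply, Fin.sum_univ_two]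
      · ring
      · ring

/-- **The `2`-fusion system of `PSU₃(q)`.** -/
theorem isSimple_PSU3 (hF : Fintype.card F = q ^ 2) (hq : q % 2 = 1) (S : Sylow 2 (Cfsg.PSU 3 F q)) :
    (groupFusionSystem (S : Subgroup (Cfsg.PSU 3 F q))).IsSimple 2 := by
  obtain ⟨d₀, s₀, wh, sl, hh, h⟩ := su3_data hF hq
  exact h.isSimple S

end SU

end Cfsg.Agent.Lib.Fusion.TwoF
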