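/-
The group `SL₂(F)`, `F` a finite field of odd order: its centre, the elements of square `-1`, and the anticommuting
partners in a Sylow `2`-subgroup.
-/
import Cfsg.Agent.Lib.Fusion.TwoF3
import Cfsg.Agent.Lib.Fusion.TwoF5

set_option autoImplicit false
set_option linter.unusedSectionVars false
set_option linter.unusedVariables false
set_option linter.unusedSimpArgs false
set_option linter.style.haveILetI false

namespace Cfsg.Agent.Lib.Fusion.TwoG

open Cfsg Cfsg.FusionSystem Cfsg.Agent.Lib.Fusion Cfsg.Agent.Lib.Fusion.TwoF Matrix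

section SL2

variable {F : Type*} [Field F] [Fintype F]

/-- The element `-1` of `SL₂`. -/
def mL : SpecialLinearGroup (Fin 2) F := wSL * wSL

theorem slRep_mL : slRep (mL (F := F)) = -1 := w2_mul_w2

theorem mL_ne (h2 : (2 : F) ≠ 0) : (mL : SpecialLinearGroup (Fin 2) F) ≠ 1 := by
  intro h
  have h1 := congrArg slRep h
  rw [slRep_mL, map_one] at h1
  have h3 := congrFun (congrFun h1 0) 0
  simp at h3
  apply h2
  linear_combination -h3

theorem mL_central (x : SpecialLinearGroup (Fin 2) F) : x * mL = mL * x := by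
  apply slRep_inj
  rw [map_mul, map_mul, slRep_mL]
  simp

theorem mL_sq : (mL : SpecialLinearGroup (Fin 2) F) * mL = 1 := by
  apply slRep_inj
  rw [map_mul, slRep_mL, map_one]
  simp

theorem mL_inv : (mL : SpecialLinearGroup (Fin 2) F)⁻¹ = mL := by
  rw [inv_eq_iff_mul_eq_one, mL_sq]

theorem mL_mem_center : (mL : SpecialLinearGroup (Fin 2) F) ∈ Subgroup.center (SpecialLinearGroup (Fin 2) F) := by
  rw [Subgroup.mem_center_iff]
  intro g
  exact mL_central g

theorem sq_eq_mL_iff {x : SpecialLinearGroup (Fin 2) F} : x * x = mL ↔ slRep x * slRep x = -1 := by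
  constructor
  · intro h
    rw [← map_mul, h, slRep_mL]
  · intro h
    apply slRep_inj
    rw [map_mul, h, slRep_mL]

theorem slRep_det (x : SpecialLinearGroup (Fin 2) F) : (slRep x).det = 1 := x.2

theorem eq_of_scalar {x : SpecialLinearGroup (Fin 2) F} {l : F} (h : slRep x = l • 1) : x = 1 ∨ x = mL := by
  have h1 := slRep_det x
  rw [h, Matrix.det_smul, Matrix.det_one, mul_one, Fintype.card_fin, pow_two] at h1
  rcases mul_self_eq_one_iff.1 h1 with rfl | rfl
  · left
    apply slRep_inj
    rw [h, map_one, one_smul]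
  · right
    apply slRep_inj
    rw [h, slRep_mL, neg_smul, one_smul]

theorem center_cases (hodd : Fintype.card F % 2 = 1) {x : SpecialLinearGroup (Fin 2) F}
    (hx : x ∈ Subgroup.center (SpecialLinearGroup (Fin 2) F)) : x = 1 ∨ x = mL := by
  obtain ⟨sh, hs⟩ := sl_setup (F := F) hodd
  obtain ⟨l, hl⟩ := scalar_of_mem_center hs.two hs.wh_eq hs.sh_anti hx
  exact eq_of_scalar hl

theorem sq_one_cases (hodd : Fintype.card F % 2 = 1) {x : SpecialLinearGroup (Fin 2) F} (h : x * x = 1) : x = 1 ∨ x = mL := by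
  have h2 := two_ne_zero_of_odd hodd
  have h1 : slRep x * slRep x = (1 : F) • 1 := by
    rw [← map_mul, h, map_one, one_smul]
  rcases sl_scal hodd x 1 h1 with ⟨l, hl⟩ | h3
  · exact eq_of_scalar hl
  · exfalso
    rw [← map_mul, h, map_one] at h3
    have h4 := congrFun (congrFun h3 0) 0
    simp at h4
    apply h2
    linear_combination h4

/-- Two elements with the same image in the quotient by the centre. -/
theorem piL_eq (hodd : Fintype.card F % 2 = 1) {a b : SpecialLinearGroup (Fin 2) F} : piC a = piC b ↔ b = a ∨ b = a * mL := by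
  constructor
  · intro h
    rcases center_cases hodd (piC_eq.1 h) with h1 | h1
    · left
      have := congrArg (fun t => a * t) h1
      simpa using this
    · right
      have := congrArg (fun t => a * t) h1
      simpa using this
  · rintro (rfl | rfl)
    · rfl
    · rw [map_mul, piC_eq_one.2 mL_mem_center, mul_one]

theorem piL_mL : piC (mL : SpecialLinearGroup (Fin 2) F) = 1 := piC_eq_one.2 mL_mem_center

theorem piL_ne_one_of_sq (hodd : Fintype.card F % 2 = 1) {e : SpecialLinearGroup (Fin 2) F} (h : e * e = mL) : piC e ≠ 1 := by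
  have h2 := two_ne_zero_of_odd hodd
  intro h1
  rcases center_cases hodd (piC_eq_one.1 h1) with rfl | rfl
  · rw [mul_one] at h
    exact mL_ne h2 h.symm
  · rw [mL_sq] at h
    exact mL_ne h2 h.symm

/-- Commuting elements of square `-1`. -/
theorem eq_of_comm_sq (hodd : Fintype.card F % 2 = 1) {u x : SpecialLinearGroup (Fin 2) F} (hu : u * u = mL) (hx : x * x = mL) (hc : u * x = x * u) :
    u = x ∨ u = mL * x := by
  have h1 : (u * x⁻¹) * (u * x⁻¹) = 1 := by
    have h3 : x⁻¹ * u = u * x⁻¹ := by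
      have := congrArg (fun t => x⁻¹ * t * x⁻¹) hc
      simpa [mul_assoc] using this
    calc (u * x⁻¹) * (u * x⁻¹) = u * (x⁻¹ * u) * x⁻¹ := by group
      _ = (u * u) * (x * x)⁻¹ := by rw [h3]; group
      _ = 1 := by rw [hu, hx]; group
  rcases sq_one_cases hodd h1 with h2 | h2
  · left
    have := congrArg (fun t => t * x) h2
    simpa using this
  · right
    have := congrArg (fun t => t * x) h2
    simpa using this

/-- An element commuting with two anticommuting elements of square `-1` is `±1`. -/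
theorem comm_pair_cases (hodd : Fintype.card F % 2 = 1) {i j p : SpecialLinearGroup (Fin 2) F} (hi : i * i = mL) (hj : j * j = mL) (hij : j * i = mL * (i * j))
    (h1 : p * i = i * p) (h2 : p * j = j * p) : p = 1 ∨ p = mL := by
  have h22 := two_ne_zero_of_odd hodd
  -- conjugate `i` to `w`
  obtain ⟨c, hc⟩ := sl_conj hodd i (sq_eq_mL_iff.1 hi)
  have hw : c⁻¹ * i * c = wSL := by
    rw [← hc]
    group
  set p' := c⁻¹ * p * c with hp'
  set j' := c⁻¹ * j * c with hj'
  have e1 : p' * wSL = wSL * p' := by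
    rw [← hw, hp']
    calc c⁻¹ * p * c * (c⁻¹ * i * c) = c⁻¹ * (p * i) * c := by group
      _ = c⁻¹ * (i * p) * c := by rw [h1]
      _ = _ := by group
  have e2 : p' * j' = j' * p' := by
    rw [hp', hj']
    calc c⁻¹ * p * c * (c⁻¹ * j * c) = c⁻¹ * (p * j) * c := by group
      _ = c⁻¹ * (j * p) * c := by rw [h2]
      _ = _ := by group
  have e3 : j' * wSL = mL * (wSL * j') := by
    rw [← hw, hj']
    calc c⁻¹ * j * c * (c⁻¹ * i * c) = c⁻¹ * (j * i) * c := by group
      _ = c⁻¹ * (mL * (i * j)) * c := by rw [hij]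
      _ = c⁻¹ * mL * (i * j) * c := by group
      _ = mL * c⁻¹ * (i * j) * c := by rw [mL_central]
      _ = _ := by group
  have e4 : slRep j' * w2 = -(w2 * slRep j') := by
    have := congrArg slRep e3
    rw [map_mul (slRep) j' wSL, map_mul (slRep) mL, map_mul (slRep) wSL, slRep_mL] at this
    have e5 : slRep (wSL : SpecialLinearGroup (Fin 2) F) = w2 := rfl
    rw [e5] at this
    simpa using this
  have e6 : slRep p' * w2 = w2 * slRep p' := by
    have := congrArg slRep e1
    rwa [map_mul, map_mul] at this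
  have e7 : slRep p' * slRep j' = slRep j' * slRep p' := by
    have := congrArg slRep e2
    rwa [map_mul, map_mul] at this
  obtain ⟨l, hl⟩ := scalar_of_comm' (ρ := slRep) h22 e4 e6 e7
  have hcent : p' ∈ Subgroup.center (SpecialLinearGroup (Fin 2) F) := mem_center_of_scalar slRep_inj hl
  have hcent2 : p = c * p' * c⁻¹ := by
    rw [hp']
    group
  rcases center_cases hodd hcent with h3 | h3
  · left
    rw [hcent2, h3]
    group
  · right
    rw [hcent2, h3, mL_central c]
    group

/-- `mL` lies in each Sylow `2`-subgroup. -/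
theorem mL_mem_sylow (V : Sylow 2 (SpecialLinearGroup (Fin 2) F)) : mL ∈ (V : Subgroup (SpecialLinearGroup (Fin 2) F)) := by
  refine mem_sylow_of_normalizes V ⟨1, by rw [pow_one, pow_two]; exact mL_sq⟩ ?_
  rw [Subgroup.mem_normalizer_iff]
  intro u
  have e : mL * u * mL⁻¹ = u := by
    rw [← mL_central u]
    group
  rw [e]

/-- The image of a Sylow subgroup. -/
abbrev Vb (V : Sylow 2 (SpecialLinearGroup (Fin 2) F)) :
    Sylow 2 (SpecialLinearGroup (Fin 2) F ⧸ Subgroup.center (SpecialLinearGroup (Fin 2) F)) := V.mapSurjective piC_surj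

theorem mem_Vb (hodd : Fintype.card F % 2 = 1) (V : Sylow 2 (SpecialLinearGroup (Fin 2) F)) {x : SpecialLinearGroup (Fin 2) F} :
    piC x ∈ (Vb V : Subgroup (SpecialLinearGroup (Fin 2) F ⧸ Subgroup.center (SpecialLinearGroup (Fin 2) F))) ↔ x ∈ (V : Subgroup (SpecialLinearGroup (Fin 2) F)) := by
  rw [Sylow.coe_mapSurjective]
  constructor
  · rintro ⟨v, hv, e⟩
    rcases (piL_eq hodd).1 e with rfl | rfl
    · exact hv
    · exact Subgroup.mul_mem _ hv (mL_mem_sylow V)
  · intro h
    exact ⟨x, h, rfl⟩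

/-- The central element of the image of a Sylow subgroup lifts into the Sylow subgroup. -/
theorem DL_z_mem {G : Type*} [Group G] [Finite G] {U : Sylow 2 G} {A : Subgroup G} {z : G} (h : DL (U : Subgroup G) A z) : z ∈ (U : Subgroup G) := by
  refine mem_sylow_of_normalizes U ⟨1, by rw [pow_one, pow_two]; exact h.z_sq⟩ ?_
  rw [Subgroup.mem_normalizer_iff]
  have hzz : z⁻¹ = z := by
    rw [inv_eq_iff_mul_eq_one]
    exact h.z_sq
  have key : ∀ u ∈ (U : Subgroup G), z * u * z⁻¹ = u := by
    intro u hu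
    rw [← h.Uz u hu]
    group
  intro u
  constructor
  · intro hu
    rw [key u hu]
    exact hu
  · intro hu
    have h1 := key _ hu
    have e : u = z * (z * u * z⁻¹) * z⁻¹ := by
      have e2 : z * (z * u * z⁻¹) * z⁻¹ = (z * z) * u * (z⁻¹ * z⁻¹) := by group
      rw [e2, hzz, h.z_sq]
      group
    rw [e, h1]
    exact hu

/-- The anticommuting partner. -/
theorem exists_partner (hodd : Fintype.card F % 2 = 1) (V : Sylow 2 (SpecialLinearGroup (Fin 2) F)) {e : SpecialLinearGroup (Fin 2) F}
    (he : e ∈ (V : Subgroup (SpecialLinearGroup (Fin 2) F))) (hee : e * e = mL) :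
    ∃ f ∈ (V : Subgroup (SpecialLinearGroup (Fin 2) F)), f * f = mL ∧ f * e = mL * (e * f) := by
  obtain ⟨sh, hs⟩ := sl_setup (F := F) hodd
  obtain ⟨g, -, hgg, hDL⟩ := hs.exists_DL (Vb V)
  have hgg' : g * g = mL := sq_eq_mL_iff.2 hgg
  have hgV : g ∈ (V : Subgroup (SpecialLinearGroup (Fin 2) F)) := (mem_Vb hodd V).1 (DL_z_mem hDL)
  -- elements of the image outside the centralizer anticommute with `g`
  have hout : ∀ x, piC x ∉ ((Subgroup.centralizer {g}).map piC) → piC x ∈ (Vb V : Subgroup (SpecialLinearGroup (Fin 2) F ⧸ Subgroup.center (SpecialLinearGroup (Fin 2) F))) →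
      x * g = mL * (g * x) ∧ x * x = mL := by
    intro x hxA hxV
    have h1 := hDL.Uz _ hxV
    rw [← map_mul, ← map_mul] at h1
    have hc : x * g = mL * (g * x) := by
      rcases (piL_eq hodd).1 h1.symm with h2 | h2
      · exfalso
        apply hxA
        refine ⟨x, ?_, rfl⟩
        show x ∈ Subgroup.centralizer {g}
        rw [Subgroup.mem_centralizer_singleton_iff]
        exact h2
      · rw [h2, mul_assoc, mL_central, ← mul_assoc, mL_central, mul_assoc]
    refine ⟨hc, ?_⟩
    have h3 := hDL.out _ (hDL.Uz _ hxV) hxA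
    have h4 : piC x ≠ 1 := by
      intro h5
      apply hxA
      rw [h5]
      exact Subgroup.one_mem _
    exact sq_eq_mL_iff.2 (hs.lift_involution (Subgroup.mem_top x) h3 h4)
  by_cases hA : piC e ∈ ((Subgroup.centralizer {g}).map piC)
  · -- `e = ± g`
    have h1 : piC e * piC e = 1 := by
      rw [← map_mul, hee, piL_mL]
    rcases hDL.sq _ hA h1 with h2 | h2
    · exact absurd h2 (piL_ne_one_of_sq hodd hee)
    · -- choose something outside
      obtain ⟨v, hv, hvA⟩ : ∃ v ∈ (Vb V : Subgroup (SpecialLinearGroup (Fin 2) F ⧸ Subgroup.center (SpecialLinearGroup (Fin 2) F))), v ∉ ((Subgroup.centralizer {g}).map piC) := by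
        by_contra hc
        push Not at hc
        exact hDL.not_le hc
      obtain ⟨x, rfl⟩ := piC_surj v
      obtain ⟨hx1, hx2⟩ := hout x hvA hv
      refine ⟨x, (mem_Vb hodd V).1 hv, hx2, ?_⟩
      rcases (piL_eq hodd).1 h2.symm with h3 | h3
      · rw [h3]
        exact hx1
      · rw [h3]
        calc x * (g * mL) = (x * g) * mL := by group
          _ = (mL * (g * x)) * mL := by rw [hx1]
          _ = mL * (g * (x * mL)) := by group
          _ = mL * (g * (mL * x)) := by rw [mL_central]
          _ = _ := by group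
  · obtain ⟨he1, -⟩ := hout e hA ((mem_Vb hodd V).2 he)
    refine ⟨g, hgV, hgg', ?_⟩
    have : g * e = mL * (e * g) := by
      rw [he1, ← mul_assoc, mL_sq, one_mul]
    exact this

/-- The odd part of a lift. -/
theorem exists_odd_lift {G H : Type*} [Group G] [Group H] [Finite G] [Finite H] {f : G →* H} (hf : Function.Surjective f) {b : H} (hb : ¬ 2 ∣ orderOf b) :
    ∃ y : G, f y = b ∧ ¬ 2 ∣ orderOf y := by
  obtain ⟨y₀, rfl⟩ := hf b
  obtain ⟨a', y, rfl, ha', hy, ⟨k, hk⟩, hyo⟩ := exists_split (p := 2) y₀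
  refine ⟨y, ?_, hyo⟩
  have h1 : f a' = 1 := by
    have h2 : (f a') ^ 2 ^ k = 1 := by
      rw [← map_pow, ← hk, pow_orderOf_eq_one, map_one]
    obtain ⟨n, hn⟩ := Subgroup.mem_zpowers_iff.1 ha'
    have h3 : (f a') ^ orderOf (f (a' * y)) = 1 := by
      generalize a' * y = x at hn
      rw [← hn, map_zpow, ← zpow_natCast, ← _root_.zpow_mul, mul_comm, _root_.zpow_mul, zpow_natCast, pow_orderOf_eq_one, _root_.one_zpow]
    have hcop : Nat.Coprime (2 ^ k) (orderOf (f (a' * y))) := Nat.Coprime.pow_left k ((Nat.Prime.coprime_iff_not_dvd Nat.prime_two).2 hb)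
    have := pow_gcd_eq_one.2 ⟨h2, h3⟩
    rwa [hcop.gcd_eq_one, pow_one] at this
  rw [map_mul, h1, one_mul]

/-- Odd order: commuting with the square implies commuting. -/
theorem comm_of_comm_sq {G : Type*} [Group G] [Finite G] {y a : G} (hy : ¬ 2 ∣ orderOf y) (ha : y * y * a = a * (y * y)) : y * a = a * y := by
  have hm : Odd (orderOf y) := Nat.not_even_iff_odd.1 (fun he => hy he.two_dvd)
  obtain ⟨m, hm⟩ := hm
  have hp : y ^ (2 * (m + 1)) = y := by
    have e : 2 * (m + 1) = orderOf y + 1 := by omega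
    rw [e, pow_succ, pow_orderOf_eq_one, one_mul]
  have hc : Commute (y * y) a := ha
  rw [← hp, pow_mul, pow_two]
  exact hc.pow_left (m + 1)

/-- The Klein-four analysis of an odd automorphism. -/
theorem klein_odd {H : Type*} [Group H] [Finite H] {A B C Y Y0 : H} (hAB : A ≠ B) (hAC : A ≠ C) (hBC : B ≠ C) (hC : A * B = C) (hBA : B * A = C)
    (hA2 : A * A = 1) (hB2 : B * B = 1)
    (hY : ¬ 2 ∣ orderOf Y) (hYA : Y * A * Y⁻¹ = A ∨ Y * A * Y⁻¹ = B ∨ Y * A * Y⁻¹ = C)
    (hYB : Y * B * Y⁻¹ = A ∨ Y * B * Y⁻¹ = B ∨ Y * B * Y⁻¹ = C)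
    (hY0A : Y0 * A * Y0⁻¹ = B) (hY0B : Y0 * B * Y0⁻¹ = C) :
    ∃ a : ℕ, (Y0 ^ a * Y) * A = A * (Y0 ^ a * Y) ∧ (Y0 ^ a * Y) * B = B * (Y0 ^ a * Y) := by
  have hCA : C * A = B := by
    rw [← hBA, mul_assoc, hA2, mul_one]
  have hAC' : A * C = B := by
    rw [← hC, ← mul_assoc, hA2, one_mul]
  have hBC' : B * C = A := by
    rw [← hBA, ← mul_assoc, hB2, one_mul]
  have hCB : C * B = A := by
    rw [← hC, mul_assoc, hB2, mul_one]
  have hY0C : Y0 * C * Y0⁻¹ = A := by
    have e : Y0 * C * Y0⁻¹ = (Y0 * A * Y0⁻¹) * (Y0 * B * Y0⁻¹) := by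
      rw [← hC]
      group
    rw [e, hY0A, hY0B, hBC']
  have hYC : Y * C * Y⁻¹ = (Y * A * Y⁻¹) * (Y * B * Y⁻¹) := by
    rw [← hC]
    group
  -- the conjugation `g x g⁻¹ = x'` in terms of commuting
  have hcomm : ∀ g x : H, g * x * g⁻¹ = x → g * x = x * g := by
    intro g x h
    calc g * x = (g * x * g⁻¹) * g := by group
      _ = _ := by rw [h]
  have hsq : ∀ x : H, Y * (Y * x * Y⁻¹) * Y⁻¹ = x → Y * x * Y⁻¹ = x := by
    intro x h
    have h1 : Y * Y * x = x * (Y * Y) := by
      calc Y * Y * x = (Y * (Y * x * Y⁻¹) * Y⁻¹) * (Y * Y) := by group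
        _ = _ := by rw [h]
    have := comm_of_comm_sq hY h1
    rw [this]
    group
  -- the conjugates by `Y0 ^ a * Y`
  have hconj : ∀ (a : ℕ) (g x : H), (g * Y) * x * (g * Y)⁻¹ = g * (Y * x * Y⁻¹) * g⁻¹ := by
    intro a g x
    group
  rcases hYA with h1 | h1 | h1 <;> rcases hYB with h2 | h2 | h2
  · -- `(A, A)`
    exfalso
    apply hAB
    have := h1.trans h2.symm
    have := congrArg (fun t => Y⁻¹ * t * Y) this
    simpa [mul_assoc] using this
  · exact ⟨0, by simpa using hcomm Y A h1, by simpa using hcomm Y B h2⟩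
  · -- `(A, C)`
    exfalso
    have h3 : Y * C * Y⁻¹ = B := by
      rw [hYC, h1, h2, hAC']
    have h4 := hsq B (by rw [h2, h3])
    rw [h4] at h2
    exact hBC h2
  · -- `(B, A)`
    exfalso
    have h4 := hsq A (by rw [h1, h2])
    rw [h4] at h1
    exact hAB h1
  · -- `(B, B)`
    exfalso
    apply hAB
    have := h1.trans h2.symm
    have := congrArg (fun t => Y⁻¹ * t * Y) this
    simpa [mul_assoc] using this
  · -- `(B, C)` : `a = 2`
    refine ⟨2, ?_, ?_⟩
    · apply hcomm
      rw [hconj 0, h1, pow_two]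
      calc Y0 * Y0 * B * (Y0 * Y0)⁻¹ = Y0 * (Y0 * B * Y0⁻¹) * Y0⁻¹ := by group
        _ = A := by rw [hY0B, hY0C]
    · apply hcomm
      rw [hconj 0, h2, pow_two]
      calc Y0 * Y0 * C * (Y0 * Y0)⁻¹ = Y0 * (Y0 * C * Y0⁻¹) * Y0⁻¹ := by group
        _ = B := by rw [hY0C, hY0A]
  · -- `(C, A)` : `a = 1`
    refine ⟨1, ?_, ?_⟩
    · apply hcomm
      rw [hconj 0, h1, pow_one, hY0C]
    · apply hcomm
      rw [hconj 0, h2, pow_one, hY0A]
  · -- `(C, B)`
    exfalso
    have h3 : Y * C * Y⁻¹ = A := by
      rw [hYC, h1, h2, hCB]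
    have h4 := hsq A (by rw [h1, h3])
    rw [h4] at h1
    exact hAC h1
  · -- `(C, C)`
    exfalso
    apply hAB
    have := h1.trans h2.symm
    have := congrArg (fun t => Y⁻¹ * t * Y) this
    simpa [mul_assoc] using this

/-- Elements commuting modulo the centre with `i` and `j`. -/
theorem triv_cases (hodd : Fintype.card F % 2 = 1) {i j w : SpecialLinearGroup (Fin 2) F} (hi : i * i = mL) (hj : j * j = mL) (hij : j * i = mL * (i * j))
    (h1 : piC w * piC i = piC i * piC w) (h2 : piC w * piC j = piC j * piC w) :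
    piC w = 1 ∨ piC w = piC i ∨ piC w = piC j ∨ piC w = piC (i * j) := by
  rw [← map_mul, ← map_mul] at h1 h2
  have hpi2 : ∀ q : SpecialLinearGroup (Fin 2) F, q * q = mL → (piC q)⁻¹ = piC q := by
    intro q hq
    rw [inv_eq_iff_mul_eq_one, ← map_mul, hq, piL_mL]
  have hq : ∀ q : SpecialLinearGroup (Fin 2) F, q * q = mL → q * w * i = i * (q * w) → q * w * j = j * (q * w) → piC w = piC q := by
    intro q hqq h3 h4
    have h5 : piC (q * w) = 1 := by
      rcases comm_pair_cases hodd hi hj hij h3 h4 with h6 | h6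
      · rw [h6, map_one]
      · rw [h6, piL_mL]
    rw [map_mul] at h5
    have h6 := eq_inv_of_mul_eq_one_right h5
    rw [h6, hpi2 q hqq]
  have hm : ∀ x : SpecialLinearGroup (Fin 2) F, x * mL = mL * x := mL_central
  have hk2 : (i * j) * (i * j) = mL := by
    calc (i * j) * (i * j) = i * (j * i) * j := by group
      _ = i * (mL * (i * j)) * j := by rw [hij]
      _ = (i * mL) * i * (j * j) := by group
      _ = (mL * i) * i * (j * j) := by rw [hm]
      _ = mL * (i * i) * (j * j) := by group
      _ = mL := by rw [hi, hj, mL_sq, one_mul]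
  have hanti : ∀ a b : SpecialLinearGroup (Fin 2) F, a = b * mL → b = mL * a := by
    intro a b h
    rw [h, hm, ← mul_assoc, mL_sq, one_mul]
  rcases (piL_eq hodd).1 h1 with h3 | h3 <;> rcases (piL_eq hodd).1 h2 with h4 | h4
  · -- `(+, +)`
    left
    rcases comm_pair_cases hodd hi hj hij h3.symm h4.symm with h5 | h5
    · rw [h5, map_one]
    · rw [h5, piL_mL]
  · -- `w` anticommutes with `j`
    right; left
    have hwj := hanti _ _ h4
    refine hq i hi ?_ ?_
    · rw [mul_assoc, ← h3]
    · calc i * w * j = i * (w * j) := by group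
        _ = i * (mL * (j * w)) := by rw [hwj]
        _ = (i * mL) * (j * w) := by group
        _ = (mL * i) * (j * w) := by rw [hm]
        _ = (mL * (i * j)) * w := by group
        _ = (j * i) * w := by rw [hij]
        _ = _ := by group
  · -- `w` anticommutes with `i`
    right; right; left
    have hwi := hanti _ _ h3
    refine hq j hj ?_ ?_
    · calc j * w * i = j * (w * i) := by group
        _ = j * (mL * (i * w)) := by rw [hwi]
        _ = (j * mL) * (i * w) := by group
        _ = (mL * j) * (i * w) := by rw [hm]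
        _ = mL * (j * i) * w := by group
        _ = mL * (mL * (i * j)) * w := by rw [hij]
        _ = (mL * mL) * (i * j) * w := by group
        _ = _ := by rw [mL_sq]; group
    · rw [mul_assoc, ← h4]
  · -- both
    right; right; right
    have hwi := hanti _ _ h3
    have hwj := hanti _ _ h4
    refine hq (i * j) hk2 ?_ ?_
    · calc i * j * w * i = i * j * (w * i) := by group
        _ = i * j * (mL * (i * w)) := by rw [hwi]
        _ = i * (j * mL) * (i * w) := by group
        _ = i * (mL * j) * (i * w) := by rw [hm]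
        _ = (i * mL) * (j * i) * w := by group
        _ = (mL * i) * (mL * (i * j)) * w := by rw [hm, hij]
        _ = mL * (i * mL) * (i * j) * w := by group
        _ = mL * (mL * i) * (i * j) * w := by rw [hm]
        _ = (mL * mL) * i * (i * j) * w := by group
        _ = _ := by rw [mL_sq]; group
    · calc i * j * w * j = i * j * (w * j) := by group
        _ = i * j * (mL * (j * w)) := by rw [hwj]
        _ = (i * (j * mL)) * (j * w) := by group
        _ = (i * (mL * j)) * (j * w) := by rw [hm]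
        _ = (i * mL) * (j * j) * w := by group
        _ = (mL * i) * (j * j) * w := by rw [hm]
        _ = (mL * (i * j)) * j * w := by group
        _ = (j * i) * j * w := by rw [hij]
        _ = _ := by group

end SL2

end Cfsg.Agent.Lib.Fusion.TwoG
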