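/-
A group with a "wreath frame" over `SL₂(F)`: the subgroup `Q ≀ 2` of the group and the Sylow `2`-subgroup of the
quotient by the centre.
-/
import Cfsg.Agent.Lib.Fusion.TwoG1

set_option autoImplicit false
set_option linter.unusedSectionVars false
set_option linter.unusedVariables false
set_option linter.unusedSimpArgs false
set_option linter.style.haveILetI false

namespace Cfsg.Agent.Lib.Fusion.TwoG

open Cfsg Cfsg.FusionSystem Cfsg.Agent.Lib.Fusion Cfsg.Agent.Lib.Fusion.TwoF Matrix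

section Frame

variable {F : Type*} [Field F] [Fintype F] {X : Type*} [Group X]

/-- The abstract data of `Sp₄(F)` needed for the analysis of its `2`-fusion. -/
structure Frame (D : SpecialLinearGroup (Fin 2) F → SpecialLinearGroup (Fin 2) F → X) (σ : X) : Prop where
  odd : Fintype.card F % 2 = 1
  mul : ∀ a b c d, D a b * D c d = D (a * c) (b * d)
  inj : ∀ {a b c d}, D a b = D c d → a = c ∧ b = d
  sq : σ * σ = 1
  swap : ∀ a b, σ * D a b = D b a * σ
  comm1 : ∀ x, x * D 1 mL = D 1 mL * x → ∃ a b, x = D a b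
  conj : ∀ v, v * v = 1 → v ≠ 1 → v ≠ D mL mL → ∃ c, c * D 1 mL * c⁻¹ = v
  central : ∀ x, x * D mL mL = D mL mL * x
  exr : ∀ i j : SpecialLinearGroup (Fin 2) F, i * i = mL → j * j = mL → j * i = mL * (i * j) → ∃ (r₁ r₂ : X) (y₀ : SpecialLinearGroup (Fin 2) F),
    r₁ * r₁ = D mL mL ∧ r₂ * r₂ = D mL mL ∧ r₁ * r₂ = D y₀ y₀ ∧
    r₁ * D i i = D j j * r₁ ∧ r₁ * D j j = D i i * r₁ ∧
    r₂ * D i i = D mL mL * D i i * r₂ ∧ r₂ * D j j = D (i * j) (i * j) * r₂ ∧
    r₁ * D 1 mL = D mL mL * σ * r₁ ∧ r₁ * σ = D mL mL * D 1 mL * r₁ ∧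
    r₂ * D 1 mL = D mL mL * σ * r₂ ∧ r₂ * σ = D mL mL * D 1 mL * r₂

variable {D : SpecialLinearGroup (Fin 2) F → SpecialLinearGroup (Fin 2) F → X} {σ : X}

namespace Frame

variable (h : Frame D σ)
include h

theorem two_ne : (2 : F) ≠ 0 := two_ne_zero_of_odd h.odd

theorem mL_ne1 : (mL : SpecialLinearGroup (Fin 2) F) ≠ 1 := mL_ne h.two_ne

theorem D_one : D 1 1 = 1 := by
  have := h.mul 1 1 1 1
  simp only [mul_one] at this
  simpa using this

theorem D_inv (a b : SpecialLinearGroup (Fin 2) F) : (D a b)⁻¹ = D a⁻¹ b⁻¹ := by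
  rw [inv_eq_iff_mul_eq_one, h.mul, mul_inv_cancel, mul_inv_cancel, h.D_one]

theorem D_pow (a b : SpecialLinearGroup (Fin 2) F) (n : ℕ) : (D a b) ^ n = D (a ^ n) (b ^ n) := by
  induction n with
  | zero => simp [h.D_one]
  | succ n ih => rw [pow_succ, ih, h.mul, pow_succ, pow_succ]

theorem sigma_inv : σ⁻¹ = σ := by
  rw [inv_eq_iff_mul_eq_one]
  exact h.sq

theorem swap' (a b : SpecialLinearGroup (Fin 2) F) : σ * D a b * σ⁻¹ = D b a := by
  rw [h.swap]
  group

theorem not_sigma (a b : SpecialLinearGroup (Fin 2) F) : σ ≠ D a b := by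
  intro e
  have h1 := h.swap 1 mL
  rw [e, h.mul, h.mul, mul_one, one_mul] at h1
  have h2 := (h.inj h1).1
  apply h.mL_ne1
  have := congrArg (fun t => t * a⁻¹) h2
  simpa using this.symm

theorem D_mul_sigma_ne (a b c d : SpecialLinearGroup (Fin 2) F) : D a b * σ ≠ D c d := by
  intro e
  apply h.not_sigma (a⁻¹ * c) (b⁻¹ * d)
  rw [← h.mul, ← e, ← h.D_inv]
  group

theorem sigma_mem_ne_one : σ ≠ 1 := by
  rw [← h.D_one]
  exact h.not_sigma 1 1

/-- The centre. -/
theorem center_cases {x : X} (hx : x ∈ Subgroup.center X) : x = 1 ∨ x = D mL mL := by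
  have hc := Subgroup.mem_center_iff.1 hx
  obtain ⟨a, b, rfl⟩ := h.comm1 x (hc _).symm
  have ha : a ∈ Subgroup.center (SpecialLinearGroup (Fin 2) F) := by
    rw [Subgroup.mem_center_iff]
    intro c
    have h1 := hc (D c 1)
    rw [h.mul, h.mul] at h1
    exact (h.inj h1).1
  have hb : b ∈ Subgroup.center (SpecialLinearGroup (Fin 2) F) := by
    rw [Subgroup.mem_center_iff]
    intro c
    have h1 := hc (D 1 c)
    rw [h.mul, h.mul] at h1
    exact (h.inj h1).2
  have hab : a = b := by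
    have h1 := hc σ
    rw [h.swap] at h1
    have h2 := mul_right_cancel h1
    exact (h.inj h2).2
  subst hab
  rcases TwoG.center_cases h.odd ha with rfl | rfl
  · left
    exact h.D_one
  · right
    rfl

theorem mo_mem_center : D mL mL ∈ Subgroup.center X := by
  rw [Subgroup.mem_center_iff]
  intro g
  exact h.central g

theorem mo_ne_one : D mL mL ≠ 1 := by
  rw [← h.D_one]
  intro e
  exact h.mL_ne1 (h.inj e).1

theorem mo_sq : D mL mL * D mL mL = 1 := by
  rw [h.mul, mL_sq, h.D_one]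

theorem pi_eq {a b : X} : piC a = piC b ↔ b = a ∨ b = a * D mL mL := by
  constructor
  · intro e
    rcases h.center_cases (piC_eq.1 e) with h1 | h1
    · left
      have := congrArg (fun t => a * t) h1
      simpa using this
    · right
      have := congrArg (fun t => a * t) h1
      simpa using this
  · rintro (rfl | rfl)
    · rfl
    · rw [map_mul, piC_eq_one.2 h.mo_mem_center, mul_one]

theorem pi_mo : piC (D mL mL) = 1 := piC_eq_one.2 h.mo_mem_center

/-- The images of `D a b` and `D c d`. -/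
theorem pi_D_eq {a b c d : SpecialLinearGroup (Fin 2) F} (e : piC (D a b) = piC (D c d)) :
    (c = a ∧ d = b) ∨ (c = a * mL ∧ d = b * mL) := by
  rcases h.pi_eq.1 e with h1 | h1
  · left
    exact h.inj h1
  · right
    rw [h.mul] at h1
    exact h.inj h1

theorem comm_D_left {p p' u : SpecialLinearGroup (Fin 2) F} (e : piC (D p p') * piC (D u 1) = piC (D u 1) * piC (D p p')) : p * u = u * p := by
  rw [← map_mul, ← map_mul, h.mul, h.mul] at e
  rw [mul_one, one_mul] at e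
  rcases h.pi_D_eq e with ⟨h1, -⟩ | ⟨h1, h2⟩
  · exact h1.symm
  · exfalso
    apply h.mL_ne1
    have := congrArg (fun t => p'⁻¹ * t) h2
    simpa using this.symm

theorem comm_D_right {p p' u : SpecialLinearGroup (Fin 2) F} (e : piC (D p p') * piC (D 1 u) = piC (D 1 u) * piC (D p p')) : p' * u = u * p' := by
  rw [← map_mul, ← map_mul, h.mul, h.mul] at e
  rw [mul_one, one_mul] at e
  rcases h.pi_D_eq e with ⟨-, h1⟩ | ⟨h1, h2⟩
  · exact h1.symm
  · exfalso
    apply h.mL_ne1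
    have := congrArg (fun t => p⁻¹ * t) h1
    simpa using this.symm

/-- The elements commuting with the involution of the quotient. -/
theorem pi_comm_t1 {x : X} (e : piC x * piC (D 1 mL) = piC (D 1 mL) * piC x) : (∃ a b, x = D a b) ∨ (∃ a b, x = D a b * σ) := by
  rw [← map_mul, ← map_mul] at e
  rcases h.pi_eq.1 e with h1 | h1
  · left
    exact h.comm1 x h1.symm
  · right
    have hs : σ * D 1 mL = D mL mL * D 1 mL * σ := by
      rw [h.swap, h.mul, mul_one, mL_sq]
    have h2 : (x * σ) * D 1 mL = D 1 mL * (x * σ) := by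
      calc x * σ * D 1 mL = x * (σ * D 1 mL) := by group
        _ = x * (D mL mL * D 1 mL * σ) := by rw [hs]
        _ = (x * D mL mL) * D 1 mL * σ := by group
        _ = D mL mL * (x * D 1 mL) * σ := by rw [h.central x]; group
        _ = D mL mL * ((x * D 1 mL * D mL mL) * D mL mL) * σ := by
          rw [mul_assoc (x * D 1 mL), h.mo_sq, mul_one]
        _ = D mL mL * (D 1 mL * x * D mL mL) * σ := by rw [← h1]
        _ = (D mL mL * (D 1 mL * x)) * D mL mL * σ := by group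
        _ = ((D 1 mL * x) * D mL mL) * D mL mL * σ := by rw [h.central (D 1 mL * x)]
        _ = (D 1 mL * x) * (D mL mL * D mL mL) * σ := by group
        _ = _ := by rw [h.mo_sq]; group
    obtain ⟨a, b, hab⟩ := h.comm1 _ h2
    refine ⟨a, b, ?_⟩
    rw [← hab, mul_assoc, h.sq, mul_one]

/-- The product `Q ≀ 2`. -/
def W (Q : Subgroup (SpecialLinearGroup (Fin 2) F)) : Subgroup X where
  carrier := {x | ∃ u ∈ Q, ∃ v ∈ Q, x = D u v ∨ x = D u v * σ}
  mul_mem' := by
    rintro _ _ ⟨u, hu, v, hv, rfl | rfl⟩ ⟨u', hu', v', hv', rfl | rfl⟩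
    · exact ⟨_, Q.mul_mem hu hu', _, Q.mul_mem hv hv', Or.inl (h.mul _ _ _ _)⟩
    · refine ⟨_, Q.mul_mem hu hu', _, Q.mul_mem hv hv', Or.inr ?_⟩
      rw [← mul_assoc, h.mul]
    · refine ⟨_, Q.mul_mem hu hv', _, Q.mul_mem hv hu', Or.inr ?_⟩
      rw [mul_assoc, h.swap, ← mul_assoc, h.mul]
    · refine ⟨_, Q.mul_mem hu hv', _, Q.mul_mem hv hu', Or.inl ?_⟩
      calc D u v * σ * (D u' v' * σ) = D u v * (σ * D u' v') * σ := by group
        _ = D u v * (D v' u' * σ) * σ := by rw [h.swap]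
        _ = (D u v * D v' u') * (σ * σ) := by group
        _ = _ := by rw [h.sq, mul_one, h.mul]
  one_mem' := ⟨1, Q.one_mem, 1, Q.one_mem, Or.inl h.D_one.symm⟩
  inv_mem' := by
    rintro _ ⟨u, hu, v, hv, rfl | rfl⟩
    · exact ⟨_, Q.inv_mem hu, _, Q.inv_mem hv, Or.inl (h.D_inv _ _)⟩
    · refine ⟨_, Q.inv_mem hv, _, Q.inv_mem hu, Or.inr ?_⟩
      rw [_root_.mul_inv_rev, h.sigma_inv, h.D_inv, h.swap]

theorem D_mem_W {Q : Subgroup (SpecialLinearGroup (Fin 2) F)} {a b : SpecialLinearGroup (Fin 2) F} : D a b ∈ h.W Q ↔ a ∈ Q ∧ b ∈ Q := by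
  constructor
  · rintro ⟨u, hu, v, hv, e | e⟩
    · obtain ⟨rfl, rfl⟩ := h.inj e
      exact ⟨hu, hv⟩
    · exact absurd e.symm (h.D_mul_sigma_ne _ _ _ _)
  · rintro ⟨ha, hb⟩
    exact ⟨a, ha, b, hb, Or.inl rfl⟩

theorem Ds_mem_W {Q : Subgroup (SpecialLinearGroup (Fin 2) F)} {a b : SpecialLinearGroup (Fin 2) F} : D a b * σ ∈ h.W Q ↔ a ∈ Q ∧ b ∈ Q := by
  constructor
  · rintro ⟨u, hu, v, hv, e | e⟩
    · exact absurd e (h.D_mul_sigma_ne _ _ _ _)
    · obtain ⟨rfl, rfl⟩ := h.inj (mul_right_cancel e)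
      exact ⟨hu, hv⟩
  · rintro ⟨ha, hb⟩
    exact ⟨a, ha, b, hb, Or.inr rfl⟩

theorem sigma_mem_W (Q : Subgroup (SpecialLinearGroup (Fin 2) F)) : σ ∈ h.W Q :=
  ⟨1, Q.one_mem, 1, Q.one_mem, Or.inr (by rw [h.D_one, one_mul])⟩

theorem W_isPGroup (Q : Sylow 2 (SpecialLinearGroup (Fin 2) F)) : IsPGroup 2 (h.W (Q : Subgroup (SpecialLinearGroup (Fin 2) F))) := by
  have hQ : ∀ u ∈ (Q : Subgroup (SpecialLinearGroup (Fin 2) F)), ∃ k : ℕ, u ^ 2 ^ k = 1 := by
    intro u hu
    obtain ⟨k, hk⟩ := Q.isPGroup' ⟨u, hu⟩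
    exact ⟨k, congrArg Subtype.val hk⟩
  have h1 : ∀ u ∈ (Q : Subgroup (SpecialLinearGroup (Fin 2) F)), ∀ v ∈ (Q : Subgroup (SpecialLinearGroup (Fin 2) F)), ∃ k : ℕ, (D u v) ^ 2 ^ k = 1 := by
    intro u hu v hv
    obtain ⟨k, hk⟩ := hQ u hu
    obtain ⟨l, hl⟩ := hQ v hv
    refine ⟨k + l, ?_⟩
    rw [h.D_pow, pow_add, pow_mul, hk, one_pow, mul_comm (2 ^ k), pow_mul, hl, one_pow, h.D_one]
  rintro ⟨x, u, hu, v, hv, rfl | rfl⟩
  · obtain ⟨k, hk⟩ := h1 u hu v hv
    exact ⟨k, Subtype.ext hk⟩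
  · obtain ⟨k, hk⟩ := h1 (u * v) (Subgroup.mul_mem _ hu hv) (v * u) (Subgroup.mul_mem _ hv hu)
    refine ⟨k + 1, Subtype.ext ?_⟩
    have e : (D u v * σ) * (D u v * σ) = D (u * v) (v * u) := by
      calc (D u v * σ) * (D u v * σ) = D u v * (σ * D u v) * σ := by group
        _ = D u v * (D v u * σ) * σ := by rw [h.swap]
        _ = (D u v * D v u) * (σ * σ) := by group
        _ = _ := by rw [h.sq, mul_one, h.mul]
    show (D u v * σ) ^ 2 ^ (k + 1) = 1
    rw [pow_succ' 2 k, pow_mul, pow_two, e, hk]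

/-- The centralizer of the image of `Q ≀ 2`. -/
theorem cent_W {Q : Subgroup (SpecialLinearGroup (Fin 2) F)} {i j : SpecialLinearGroup (Fin 2) F} (hiQ : i ∈ Q) (hjQ : j ∈ Q) (hi : i * i = mL) (hj : j * j = mL) (hij : j * i = mL * (i * j))
    {x : X} (hx : ∀ w ∈ h.W Q, piC w * piC x = piC x * piC w) : piC x = 1 ∨ piC x = piC (D 1 mL) := by
  have hi1 : D i 1 ∈ h.W Q := h.D_mem_W.2 ⟨hiQ, Q.one_mem⟩
  have h1 := hx _ hi1
  rw [← map_mul, ← map_mul] at h1
  have h2 : x * (D i 1 * D i 1) = (D i 1 * D i 1) * x := by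
    rcases h.pi_eq.1 h1 with h3 | h3
    · calc x * (D i 1 * D i 1) = (x * D i 1) * D i 1 := by group
        _ = (D i 1 * x) * D i 1 := by rw [h3]
        _ = D i 1 * (x * D i 1) := by group
        _ = _ := by rw [h3]; group
    · calc x * (D i 1 * D i 1) = (x * D i 1) * D i 1 := by group
        _ = (D i 1 * x * D mL mL) * D i 1 := by rw [h3]
        _ = D i 1 * (x * D mL mL) * D i 1 := by group
        _ = D i 1 * (D mL mL * x) * D i 1 := by rw [h.central]
        _ = (D i 1 * D mL mL) * (x * D i 1) := by group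
        _ = (D mL mL * D i 1) * (D i 1 * x * D mL mL) := by rw [h.central, h3]
        _ = D mL mL * (D i 1 * D i 1 * x) * D mL mL := by group
        _ = D i 1 * D i 1 * x * D mL mL * D mL mL := by rw [← h.central (D i 1 * D i 1 * x)]
        _ = D i 1 * D i 1 * x * (D mL mL * D mL mL) := by group
        _ = _ := by rw [h.mo_sq, mul_one]
  rw [h.mul, hi, mul_one] at h2
  have h3 : x * D 1 mL = D 1 mL * x := by
    have e : D mL 1 = D mL mL * D 1 mL := by
      rw [h.mul, mul_one, mL_sq]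
    rw [e] at h2
    have h4 : D mL mL * (x * D 1 mL) = D mL mL * (D 1 mL * x) := by
      calc D mL mL * (x * D 1 mL) = (D mL mL * x) * D 1 mL := by group
        _ = (x * D mL mL) * D 1 mL := by rw [h.central]
        _ = x * (D mL mL * D 1 mL) := by group
        _ = (D mL mL * D 1 mL) * x := h2
        _ = _ := by group
    exact mul_left_cancel h4
  obtain ⟨p, p', rfl⟩ := h.comm1 x h3
  have hp : ∀ u ∈ Q, p * u = u * p := by
    intro u hu
    exact h.comm_D_left (hx _ (h.D_mem_W.2 ⟨hu, Q.one_mem⟩)).symm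
  have hp' : ∀ u ∈ Q, p' * u = u * p' := by
    intro u hu
    exact h.comm_D_right (hx _ (h.D_mem_W.2 ⟨Q.one_mem, hu⟩)).symm
  have hh := comm_pair_cases h.odd hi hj hij (hp i hiQ) (hp j hjQ)
  have hh' := comm_pair_cases h.odd hi hj hij (hp' i hiQ) (hp' j hjQ)
  rcases hh with rfl | rfl <;> rcases hh' with rfl | rfl
  · left
    rw [h.D_one, map_one]
  · right
    rfl
  · right
    have e : D mL 1 = D 1 mL * D mL mL := by
      rw [h.mul, one_mul, mL_sq]
    rw [e, map_mul, h.pi_mo, mul_one]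
  · left
    exact h.pi_mo

end Frame

end Frame

end Cfsg.Agent.Lib.Fusion.TwoG
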