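/-
The Sylow `2`-subgroup of the quotient of a group with a frame, strong closure, and the odd elements of its
normalizer.
-/
import Cfsg.Agent.Lib.Fusion.TwoG2

set_option autoImplicit false
set_option linter.unusedSectionVars false
set_option linter.unusedVariables false
set_option linter.unusedSimpArgs false
set_option linter.style.haveILetI false

namespace Cfsg.Agent.Lib.Fusion.TwoG

open Cfsg Cfsg.FusionSystem Cfsg.Agent.Lib.Fusion Cfsg.Agent.Lib.Fusion.TwoF Matrix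

section Frame

variable {F : Type*} [Field F] [Fintype F] {X : Type*} [Group X] [Finite X]

/-- A Sylow subgroup with an anticommuting pair of elements of square `-1`. -/
structure QIJ (Q : Sylow 2 (SpecialLinearGroup (Fin 2) F)) (i j : SpecialLinearGroup (Fin 2) F) : Prop where
  iQ : i ∈ (Q : Subgroup (SpecialLinearGroup (Fin 2) F))
  jQ : j ∈ (Q : Subgroup (SpecialLinearGroup (Fin 2) F))
  ii : i * i = mL
  jj : j * j = mL
  ji : j * i = mL * (i * j)

variable {D : SpecialLinearGroup (Fin 2) F → SpecialLinearGroup (Fin 2) F → X} {σ : X}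

namespace Frame

variable (h : Frame D σ) {Q : Sylow 2 (SpecialLinearGroup (Fin 2) F)} {i j : SpecialLinearGroup (Fin 2) F}
include h

/-- `t₁` lies in the group. -/
theorem t1_mem_W (Q : Sylow 2 (SpecialLinearGroup (Fin 2) F)) : D 1 mL ∈ h.W (Q : Subgroup (SpecialLinearGroup (Fin 2) F)) :=
  h.D_mem_W.2 ⟨Subgroup.one_mem _, mL_mem_sylow Q⟩

theorem mo_mem_W (Q : Sylow 2 (SpecialLinearGroup (Fin 2) F)) : D mL mL ∈ h.W (Q : Subgroup (SpecialLinearGroup (Fin 2) F)) :=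
  h.D_mem_W.2 ⟨mL_mem_sylow Q, mL_mem_sylow Q⟩

theorem pi_t1_ne : piC (D 1 mL) ≠ 1 := by
  intro e
  rcases h.center_cases (piC_eq_one.1 e) with h1 | h1
  · rw [← h.D_one] at h1
    exact h.mL_ne1 (h.inj h1).2
  · have := (h.inj h1).1
    exact h.mL_ne1 this.symm

/-- The element `t₁` is central modulo the centre in `Q ≀ 2`. -/
theorem t1_central (Q : Subgroup (SpecialLinearGroup (Fin 2) F)) {w : X} (hw : w ∈ h.W Q) : piC w * piC (D 1 mL) = piC (D 1 mL) * piC w := by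
  have hD : ∀ a b : SpecialLinearGroup (Fin 2) F, D a b * D 1 mL = D 1 mL * D a b := by
    intro a b
    rw [h.mul, h.mul, mul_one, one_mul, mL_central]
  have hs : piC σ * piC (D 1 mL) = piC (D 1 mL) * piC σ := by
    rw [← map_mul, ← map_mul, h.swap]
    have e : D mL 1 = D 1 mL * D mL mL := by
      rw [h.mul, one_mul, mL_sq]
    rw [e, map_mul, map_mul, h.pi_mo, mul_one, map_mul]
  obtain ⟨u, hu, v, hv, rfl | rfl⟩ := hw
  · rw [← map_mul, ← map_mul, hD]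
  · rw [map_mul, mul_assoc, hs, ← mul_assoc, ← map_mul, hD, map_mul, mul_assoc]

/-- The image of `Q ≀ 2` is a Sylow subgroup. -/
theorem exists_sylow (hq : QIJ Q i j) : ∃ P : Sylow 2 (X ⧸ Subgroup.center X), (P : Subgroup (X ⧸ Subgroup.center X)) = (h.W (Q : Subgroup (SpecialLinearGroup (Fin 2) F))).map piC := by
  classical
  obtain ⟨P, hP⟩ := ((h.W_isPGroup Q).map (piC (Γ := X))).exists_le_sylow
  refine ⟨P, le_antisymm ?_ hP⟩
  have hPW : ∀ w ∈ h.W (Q : Subgroup (SpecialLinearGroup (Fin 2) F)), piC w ∈ (P : Subgroup (X ⧸ Subgroup.center X)) := fun w hw => hP ⟨w, hw, rfl⟩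
  -- a central element
  haveI : Nontrivial (P : Subgroup (X ⧸ Subgroup.center X)) :=
    ⟨⟨⟨_, hPW _ (h.t1_mem_W Q)⟩, 1, fun e => h.pi_t1_ne (congrArg Subtype.val e)⟩⟩
  obtain ⟨z, -, hz1, hzc, -⟩ := Transfer.exists_central_of_normal P.isPGroup' (N := ⊤) top_ne_bot
  obtain ⟨x, hx⟩ := piC_surj (z : X ⧸ Subgroup.center X)
  have hzW : ∀ w ∈ h.W (Q : Subgroup (SpecialLinearGroup (Fin 2) F)), piC w * piC x = piC x * piC w := by
    intro w hw
    rw [hx]
    exact congrArg Subtype.val (hzc ⟨_, hPW w hw⟩)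
  have ht : ∀ p ∈ (P : Subgroup (X ⧸ Subgroup.center X)), p * piC (D 1 mL) = piC (D 1 mL) * p := by
    intro p hp
    rcases h.cent_W hq.iQ hq.jQ hq.ii hq.jj hq.ji hzW with h1 | h1
    · exfalso
      apply hz1
      apply Subtype.ext
      rw [← hx, h1]
      rfl
    · rw [← h1, hx]
      exact congrArg Subtype.val (hzc ⟨p, hp⟩)
  -- the projection
  let A₁ : Subgroup (SpecialLinearGroup (Fin 2) F) :=
    { carrier := {a | ∃ b, piC (D a b) ∈ (P : Subgroup (X ⧸ Subgroup.center X))}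
      mul_mem' := by
        rintro a a' ⟨b, hb⟩ ⟨b', hb'⟩
        refine ⟨b * b', ?_⟩
        rw [← h.mul, map_mul]
        exact Subgroup.mul_mem _ hb hb'
      one_mem' := ⟨1, by rw [h.D_one, map_one]; exact Subgroup.one_mem _⟩
      inv_mem' := by
        rintro a ⟨b, hb⟩
        refine ⟨b⁻¹, ?_⟩
        rw [← h.D_inv, map_inv]
        exact Subgroup.inv_mem _ hb }
  have hA₁p : IsPGroup 2 A₁ := by
    rintro ⟨a, b, hb⟩
    obtain ⟨k, hk⟩ := P.isPGroup' ⟨_, hb⟩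
    have h1 : (piC (D a b)) ^ 2 ^ k = 1 := congrArg Subtype.val hk
    rw [← map_pow, h.D_pow] at h1
    have h2 : a ^ 2 ^ k = 1 ∨ a ^ 2 ^ k = mL := by
      rcases h.center_cases (piC_eq_one.1 h1) with h3 | h3
      · left
        rw [← h.D_one] at h3
        exact (h.inj h3).1
      · right
        exact (h.inj h3).1
    refine ⟨k + 1, Subtype.ext ?_⟩
    show a ^ 2 ^ (k + 1) = 1
    rw [pow_succ, pow_mul]
    rcases h2 with h3 | h3
    · rw [h3, one_pow]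
    · rw [h3, pow_two, mL_sq]
  have hQA : (Q : Subgroup (SpecialLinearGroup (Fin 2) F)) ≤ A₁ := fun u hu =>
    ⟨1, hPW _ (h.D_mem_W.2 ⟨hu, Subgroup.one_mem _⟩)⟩
  have hA₁Q : A₁ = (Q : Subgroup (SpecialLinearGroup (Fin 2) F)) := Q.is_maximal' hA₁p hQA
  have hkey : ∀ a b, piC (D a b) ∈ (P : Subgroup (X ⧸ Subgroup.center X)) → D a b ∈ h.W (Q : Subgroup (SpecialLinearGroup (Fin 2) F)) := by
    intro a b hab
    refine h.D_mem_W.2 ⟨?_, ?_⟩
    · rw [← hA₁Q]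
      exact ⟨b, hab⟩
    · rw [← hA₁Q]
      refine ⟨a, ?_⟩
      have hs := hPW σ (h.sigma_mem_W _)
      have e : piC (D b a) = piC σ * piC (D a b) * (piC σ)⁻¹ := by
        rw [← h.swap' a b]
        simp only [map_mul, map_inv]
      rw [e]
      exact Subgroup.mul_mem _ (Subgroup.mul_mem _ hs hab) (Subgroup.inv_mem _ hs)
  intro p hp
  obtain ⟨x', rfl⟩ := piC_surj p
  rcases h.pi_comm_t1 (ht _ hp) with ⟨a, b, rfl⟩ | ⟨a, b, rfl⟩
  · exact ⟨_, hkey a b hp, rfl⟩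
  · have hs := hPW σ (h.sigma_mem_W _)
    have h1 : piC (D a b) ∈ (P : Subgroup (X ⧸ Subgroup.center X)) := by
      have e : piC (D a b) = piC (D a b * σ) * (piC σ)⁻¹ := by
        rw [map_mul]
        group
      rw [e]
      exact Subgroup.mul_mem _ hp (Subgroup.inv_mem _ hs)
    exact ⟨_, h.Ds_mem_W.2 (h.D_mem_W.1 (hkey a b h1)), rfl⟩

theorem mem_U {x : X} (Q : Sylow 2 (SpecialLinearGroup (Fin 2) F)) : piC x ∈ (h.W (Q : Subgroup (SpecialLinearGroup (Fin 2) F))).map piC ↔ x ∈ h.W (Q : Subgroup (SpecialLinearGroup (Fin 2) F)) := by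
  constructor
  · rintro ⟨w, hw, e⟩
    rcases h.pi_eq.1 e with rfl | rfl
    · exact hw
    · exact Subgroup.mul_mem _ hw (h.mo_mem_W Q)
  · intro hx
    exact ⟨x, hx, rfl⟩

/-- Strongly closed subgroups. -/
theorem hcl_main (hq : QIJ Q i j) (T : Subgroup (X ⧸ Subgroup.center X)) (hT : T ≤ (h.W (Q : Subgroup (SpecialLinearGroup (Fin 2) F))).map piC) (hT1 : T ≠ ⊥)
    (hcl : ∀ t ∈ T, ∀ g, g * t * g⁻¹ ∈ (h.W (Q : Subgroup (SpecialLinearGroup (Fin 2) F))).map piC → g * t * g⁻¹ ∈ T) :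
    (h.W (Q : Subgroup (SpecialLinearGroup (Fin 2) F))).map piC ≤ T := by
  classical
  set U := (h.W (Q : Subgroup (SpecialLinearGroup (Fin 2) F))).map (piC (Γ := X)) with hU
  have hUp : IsPGroup 2 U := (h.W_isPGroup Q).map (piC (Γ := X))
  -- Step 1
  have ht1 : piC (D 1 mL) ∈ T := by
    let N : Subgroup U := T.subgroupOf U
    haveI hNn : N.Normal := by
      refine ⟨fun n hn g => ?_⟩
      show (g : X ⧸ Subgroup.center X) * n * (g : X ⧸ Subgroup.center X)⁻¹ ∈ T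
      exact hcl n hn g (Subgroup.mul_mem _ (Subgroup.mul_mem _ g.2 n.2) (Subgroup.inv_mem _ g.2))
    have hNne : N ≠ ⊥ := by
      intro hb
      apply hT1
      rw [eq_bot_iff]
      intro t ht
      have h1 : (⟨t, hT ht⟩ : U) ∈ N := ht
      rw [hb] at h1
      have := congrArg Subtype.val (Subgroup.mem_bot.1 h1)
      exact Subgroup.mem_bot.2 this
    obtain ⟨z, hzN, hz1, hzc, -⟩ := Transfer.exists_central_of_normal hUp hNne
    obtain ⟨x, hx⟩ := piC_surj (z : X ⧸ Subgroup.center X)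
    have hzW : ∀ w ∈ h.W (Q : Subgroup (SpecialLinearGroup (Fin 2) F)), piC w * piC x = piC x * piC w := by
      intro w hw
      rw [hx]
      exact congrArg Subtype.val (hzc ⟨_, ⟨w, hw, rfl⟩⟩)
    rcases h.cent_W hq.iQ hq.jQ hq.ii hq.jj hq.ji hzW with h1 | h1
    · exfalso
      apply hz1
      apply Subtype.ext
      rw [← hx, h1]
      rfl
    · rw [← h1, hx]
      exact hzN
  -- Step 2
  have hconj : ∀ v ∈ h.W (Q : Subgroup (SpecialLinearGroup (Fin 2) F)), v * v = 1 → v ≠ 1 → v ≠ D mL mL → piC v ∈ T := by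
    intro v hv h1 h2 h3
    obtain ⟨c, hc⟩ := h.conj v h1 h2 h3
    have e : piC v = piC c * piC (D 1 mL) * (piC c)⁻¹ := by
      rw [← hc]
      simp only [map_mul, map_inv]
    rw [e]
    refine hcl _ ht1 _ ?_
    rw [← e]
    exact ⟨v, hv, rfl⟩
  let Tt : Subgroup X := T.comap piC
  have hmemT : ∀ x, x ∈ Tt ↔ piC x ∈ T := fun x => Iff.rfl
  -- Step 3
  have hσ : σ ∈ Tt := by
    refine hconj σ (h.sigma_mem_W _) h.sq h.sigma_mem_ne_one (h.not_sigma _ _)
  have hDinv : ∀ u ∈ (Q : Subgroup (SpecialLinearGroup (Fin 2) F)), D u u⁻¹ ∈ Tt := by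
    intro u hu
    have h1 : D u u⁻¹ * σ ∈ Tt := by
      refine hconj _ (h.Ds_mem_W.2 ⟨hu, Subgroup.inv_mem _ hu⟩) ?_ ?_ ?_
      · calc D u u⁻¹ * σ * (D u u⁻¹ * σ) = D u u⁻¹ * (σ * D u u⁻¹) * σ := by group
          _ = D u u⁻¹ * (D u⁻¹ u * σ) * σ := by rw [h.swap]
          _ = (D u u⁻¹ * D u⁻¹ u) * (σ * σ) := by group
          _ = 1 := by rw [h.sq, mul_one, h.mul, mul_inv_cancel, inv_mul_cancel, h.D_one]
      · rw [← h.D_one]
        exact h.D_mul_sigma_ne _ _ _ _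
      · exact h.D_mul_sigma_ne _ _ _ _
    have e : D u u⁻¹ = (D u u⁻¹ * σ) * σ⁻¹ := by group
    rw [e]
    exact Tt.mul_mem h1 (Tt.inv_mem hσ)
  -- Step 4
  have hinv2 : ∀ e : SpecialLinearGroup (Fin 2) F, e * e = mL → e⁻¹ * e⁻¹ = mL := by
    intro e he
    rw [← _root_.mul_inv_rev, he, mL_inv]
  have hconjL : ∀ e₁ e₂ : SpecialLinearGroup (Fin 2) F, e₁ * e₁ = mL → e₂ * e₂ = mL → ∃ c, c * e₁ * c⁻¹ = e₂ := by
    intro e₁ e₂ h1 h2
    obtain ⟨c₁, hc₁⟩ := sl_conj h.odd e₁ (sq_eq_mL_iff.1 h1)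
    obtain ⟨c₂, hc₂⟩ := sl_conj h.odd e₂ (sq_eq_mL_iff.1 h2)
    refine ⟨c₂ * c₁⁻¹, ?_⟩
    rw [← hc₁, ← hc₂]
    group
  have hD2 : ∀ e₁ ∈ (Q : Subgroup (SpecialLinearGroup (Fin 2) F)), ∀ e₂ ∈ (Q : Subgroup (SpecialLinearGroup (Fin 2) F)), e₁ * e₁ = mL → e₂ * e₂ = mL → D e₁ e₂ ∈ Tt := by
    intro e₁ he₁ e₂ he₂ h1 h2
    obtain ⟨a, ha⟩ := hconjL i e₁ hq.ii h1
    obtain ⟨b, hb⟩ := hconjL i⁻¹ e₂ (hinv2 i hq.ii) h2
    have e : D e₁ e₂ = D a b * D i i⁻¹ * (D a b)⁻¹ := by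
      rw [h.mul, h.D_inv, h.mul, ha, hb]
    have h3 : piC (D e₁ e₂) = piC (D a b) * piC (D i i⁻¹) * (piC (D a b))⁻¹ := by
      rw [e]
      simp only [map_mul, map_inv]
    show piC (D e₁ e₂) ∈ T
    rw [h3]
    refine hcl _ (hDinv i hq.iQ) _ ?_
    rw [← h3]
    exact ⟨_, h.D_mem_W.2 ⟨he₁, he₂⟩, rfl⟩
  -- Step 5
  have hD1 : ∀ e ∈ (Q : Subgroup (SpecialLinearGroup (Fin 2) F)), e * e = mL → D 1 e ∈ Tt := by
    intro e he hee
    obtain ⟨f, hf, hff, hfe⟩ := exists_partner h.odd Q he hee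
    have hef : e * f = mL * (f * e) := by
      rw [hfe, ← mul_assoc, mL_sq, one_mul]
    have h1 : (f * e) * (f * e) = mL := by
      calc (f * e) * (f * e) = f * (e * f) * e := by group
        _ = f * (mL * (f * e)) * e := by rw [hef]
        _ = (f * mL) * (f * (e * e)) := by group
        _ = (mL * f) * (f * (e * e)) := by rw [mL_central]
        _ = mL * (f * f) * (e * e) := by group
        _ = _ := by rw [hff, hee, mL_sq, one_mul]
    have h2 := hD2 f hf (f * e) (Subgroup.mul_mem _ hf he) hff h1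
    have h3 := hD2 f hf f hf hff hff
    have e2 : D 1 e = (D f f)⁻¹ * D f (f * e) := by
      rw [h.D_inv, h.mul]
      simp
    rw [e2]
    exact Tt.mul_mem (Tt.inv_mem h3) h2
  -- Step 6
  obtain ⟨sh, hs⟩ := sl_setup (F := F) h.odd
  have hD1' : ∀ u ∈ (Q : Subgroup (SpecialLinearGroup (Fin 2) F)), D 1 u ∈ Tt := by
    intro u hu
    have h1 := hs.mem_closure_lift slRep_det Q hu
    clear hu
    induction h1 using Subgroup.closure_induction with
    | mem x hx => exact hD1 x hx.1 (sq_eq_mL_iff.2 hx.2)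
    | one => rw [h.D_one]; exact Tt.one_mem
    | mul x y _ _ hx hy =>
      have := Tt.mul_mem hx hy
      rw [h.mul, one_mul] at this
      exact this
    | inv x _ hx =>
      have := Tt.inv_mem hx
      rw [h.D_inv, inv_one] at this
      exact this
  have hD1'' : ∀ u ∈ (Q : Subgroup (SpecialLinearGroup (Fin 2) F)), D u 1 ∈ Tt := by
    intro u hu
    rw [← h.swap' 1 u]
    exact Tt.mul_mem (Tt.mul_mem hσ (hD1' u hu)) (Tt.inv_mem hσ)
  have hDD : ∀ u ∈ (Q : Subgroup (SpecialLinearGroup (Fin 2) F)), ∀ v ∈ (Q : Subgroup (SpecialLinearGroup (Fin 2) F)), D u v ∈ Tt := by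
    intro u hu v hv
    have := Tt.mul_mem (hD1'' u hu) (hD1' v hv)
    rwa [h.mul, mul_one, one_mul] at this
  rintro _ ⟨w, ⟨u, hu, v, hv, rfl | rfl⟩, rfl⟩
  · exact hDD u hu v hv
  · exact Tt.mul_mem (hDD u hu v hv) hσ

/-- The odd elements of the normalizer. -/
theorem norm_odd (hq : QIJ Q i j) {b : X ⧸ Subgroup.center X} (hb : b ∈ Subgroup.normalizer (((h.W (Q : Subgroup (SpecialLinearGroup (Fin 2) F))).map piC : Subgroup (X ⧸ Subgroup.center X)) : Set (X ⧸ Subgroup.center X)))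
    (hbo : ¬ 2 ∣ orderOf b) : ∃ y₁ y₂ : SpecialLinearGroup (Fin 2) F, piC (D y₁ y₂) = b ∧ ¬ 2 ∣ orderOf y₁ ∧ ¬ 2 ∣ orderOf y₂ ∧
      y₁ ∈ Subgroup.normalizer ((Q : Subgroup (SpecialLinearGroup (Fin 2) F)) : Set (SpecialLinearGroup (Fin 2) F)) ∧
      y₂ ∈ Subgroup.normalizer ((Q : Subgroup (SpecialLinearGroup (Fin 2) F)) : Set (SpecialLinearGroup (Fin 2) F)) ∧
      y₁⁻¹ * y₂ ∈ (Q : Subgroup (SpecialLinearGroup (Fin 2) F)) := by
  classical
  obtain ⟨y, rfl, hyo⟩ := exists_odd_lift (piC_surj (Γ := X)) hbo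
  have hWy : ∀ x, x ∈ h.W (Q : Subgroup (SpecialLinearGroup (Fin 2) F)) ↔ y * x * y⁻¹ ∈ h.W (Q : Subgroup (SpecialLinearGroup (Fin 2) F)) := by
    intro x
    have h1 := Subgroup.mem_normalizer_iff.1 hb (piC x)
    rw [← map_inv, ← map_mul, ← map_mul] at h1
    have h2 : piC x ∈ ((h.W (Q : Subgroup (SpecialLinearGroup (Fin 2) F))).map piC : Subgroup (X ⧸ Subgroup.center X)) ↔ piC (y * x * y⁻¹) ∈ ((h.W (Q : Subgroup (SpecialLinearGroup (Fin 2) F))).map piC : Subgroup (X ⧸ Subgroup.center X)) := h1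
    rwa [h.mem_U Q, h.mem_U Q] at h2
  -- `y` fixes `t₁` modulo the centre
  have h1 : piC (y * D 1 mL * y⁻¹) = piC (D 1 mL) := by
    have hw : ∀ w ∈ h.W (Q : Subgroup (SpecialLinearGroup (Fin 2) F)), piC w * piC (y * D 1 mL * y⁻¹) = piC (y * D 1 mL * y⁻¹) * piC w := by
      intro w hw
      have h2 : y⁻¹ * w * y ∈ h.W (Q : Subgroup (SpecialLinearGroup (Fin 2) F)) := by
        rw [hWy]
        have e : y * (y⁻¹ * w * y) * y⁻¹ = w := by group
        rwa [e]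
      have h3 := h.t1_central _ h2
      simp only [map_mul, map_inv] at h3 ⊢
      have e1 : piC w = piC y * (piC y⁻¹ * piC w * piC y) * (piC y)⁻¹ := by
        simp only [map_inv]
        group
      calc piC w * (piC y * piC (D 1 mL) * (piC y)⁻¹) = piC y * ((piC y)⁻¹ * piC w * piC y * piC (D 1 mL)) * (piC y)⁻¹ := by group
        _ = piC y * (piC (D 1 mL) * ((piC y)⁻¹ * piC w * piC y)) * (piC y)⁻¹ := by rw [h3]
        _ = _ := by group
    rcases h.cent_W hq.iQ hq.jQ hq.ii hq.jj hq.ji hw with h2 | h2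
    · exfalso
      apply h.pi_t1_ne
      simp only [map_mul, map_inv] at h2
      have := congrArg (fun t => (piC y)⁻¹ * t * piC y) h2
      simpa [mul_assoc] using this
    · exact h2
  have h2 : y * D 1 mL = D 1 mL * y := by
    have h3 : piC (y * D 1 mL) = piC (D 1 mL * y) := by
      have e : y * D 1 mL = (y * D 1 mL * y⁻¹) * y := by group
      rw [e, map_mul, h1, map_mul]
    rcases h.pi_eq.1 h3 with h4 | h4
    · exact h4.symm
    · exfalso
      apply h.mo_ne_one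
      refine eq_one_of_odd (y := y) (u := D 1 mL) h.central h.mo_sq ?_ hyo
      exact h4
  obtain ⟨y₁, y₂, rfl⟩ := h.comm1 y h2
  have hord : ∀ n : ℕ, (D y₁ y₂) ^ n = 1 → y₁ ^ n = 1 ∧ y₂ ^ n = 1 := by
    intro n hn
    rw [h.D_pow, ← h.D_one] at hn
    exact h.inj hn
  have hy₁o : ¬ 2 ∣ orderOf y₁ := fun hd =>
    hyo (hd.trans (orderOf_dvd_of_pow_eq_one (hord _ (pow_orderOf_eq_one _)).1))
  have hy₂o : ¬ 2 ∣ orderOf y₂ := fun hd =>
    hyo (hd.trans (orderOf_dvd_of_pow_eq_one (hord _ (pow_orderOf_eq_one _)).2))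
  have hconj : ∀ u v, D y₁ y₂ * D u v * (D y₁ y₂)⁻¹ = D (y₁ * u * y₁⁻¹) (y₂ * v * y₂⁻¹) := by
    intro u v
    rw [h.D_inv, h.mul, h.mul]
  have hN₁ : y₁ ∈ Subgroup.normalizer ((Q : Subgroup (SpecialLinearGroup (Fin 2) F)) : Set (SpecialLinearGroup (Fin 2) F)) := by
    rw [Subgroup.mem_normalizer_iff]
    intro u
    have h3 := hWy (D u 1)
    rw [hconj, h.D_mem_W, h.D_mem_W] at h3
    constructor
    · intro hu
      exact (h3.1 ⟨hu, Subgroup.one_mem _⟩).1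
    · intro hu
      refine (h3.2 ⟨hu, ?_⟩).1
      have e : y₂ * 1 * y₂⁻¹ = 1 := by group
      rw [e]
      exact Subgroup.one_mem _
  have hN₂ : y₂ ∈ Subgroup.normalizer ((Q : Subgroup (SpecialLinearGroup (Fin 2) F)) : Set (SpecialLinearGroup (Fin 2) F)) := by
    rw [Subgroup.mem_normalizer_iff]
    intro u
    have h3 := hWy (D 1 u)
    rw [hconj, h.D_mem_W, h.D_mem_W] at h3
    constructor
    · intro hu
      exact (h3.1 ⟨Subgroup.one_mem _, hu⟩).2
    · intro hu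
      refine (h3.2 ⟨?_, hu⟩).2
      have e : y₁ * 1 * y₁⁻¹ = 1 := by group
      rw [e]
      exact Subgroup.one_mem _
  refine ⟨y₁, y₂, rfl, hy₁o, hy₂o, hN₁, hN₂, ?_⟩
  have h3 : D y₁ y₂ * σ * (D y₁ y₂)⁻¹ ∈ h.W (Q : Subgroup (SpecialLinearGroup (Fin 2) F)) := (hWy σ).1 (h.sigma_mem_W _)
  have e : D y₁ y₂ * σ * (D y₁ y₂)⁻¹ = D (y₁ * y₂⁻¹) (y₂ * y₁⁻¹) * σ := by
    rw [h.D_inv, mul_assoc, h.swap, ← mul_assoc, h.mul]
  rw [e, h.Ds_mem_W] at h3
  have h4 := h3.2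
  have h5 := (Subgroup.mem_normalizer_iff.1 (Subgroup.inv_mem _ hN₁) _).1 h4
  have e2 : y₁⁻¹ * (y₂ * y₁⁻¹) * y₁⁻¹⁻¹ = y₁⁻¹ * y₂ := by group
  rwa [e2] at h5

/-- The odd elements in the case where the image of `Q` is not of exponent two. -/
theorem odd_trivial (hq : QIJ Q i j) (hne : ∃ u ∈ (Q : Subgroup (SpecialLinearGroup (Fin 2) F)), piC u * piC u ≠ 1) {y : SpecialLinearGroup (Fin 2) F} (hyo : ¬ 2 ∣ orderOf y)
    (hN : y ∈ Subgroup.normalizer ((Q : Subgroup (SpecialLinearGroup (Fin 2) F)) : Set (SpecialLinearGroup (Fin 2) F))) : y = 1 := by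
  classical
  obtain ⟨sh, hs⟩ := sl_setup (F := F) h.odd
  obtain ⟨g, -, hgg, hDL⟩ := hs.exists_DL (Vb Q)
  obtain ⟨b, hbQ, hbb⟩ := hne
  have hN' : piC y ∈ Subgroup.normalizer (((Vb Q : Sylow 2 _) : Subgroup (SpecialLinearGroup (Fin 2) F ⧸ Subgroup.center (SpecialLinearGroup (Fin 2) F))) : Set (SpecialLinearGroup (Fin 2) F ⧸ Subgroup.center (SpecialLinearGroup (Fin 2) F))) := by
    rw [Subgroup.mem_normalizer_iff]
    intro u'
    obtain ⟨u, rfl⟩ := piC_surj u'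
    rw [← map_inv, ← map_mul, ← map_mul, mem_Vb h.odd, mem_Vb h.odd]
    exact Subgroup.mem_normalizer_iff.1 hN u
  have hyo' : ¬ 2 ∣ orderOf (piC y) := fun hd => hyo (hd.trans (orderOf_map_dvd _ _))
  have hc : ∀ u ∈ (Q : Subgroup (SpecialLinearGroup (Fin 2) F)), y * u = u * y := by
    intro u hu
    have h1 := hDL.cent' ((mem_Vb h.odd Q).2 hbQ) hbb hN' hyo' ((mem_Vb h.odd Q).2 hu)
    rw [← map_mul, ← map_mul] at h1
    rcases (piL_eq h.odd).1 h1 with h2 | h2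
    · exact h2.symm
    · exfalso
      apply h.mL_ne1
      exact eq_one_of_odd (y := y) (u := u) mL_central mL_sq h2 hyo
  rcases comm_pair_cases h.odd hq.ii hq.jj hq.ji (hc i hq.iQ) (hc j hq.jQ) with h1 | h1
  · exact h1
  · exfalso
    rw [h1] at hyo
    apply hyo
    rw [orderOf_eq_prime (by rw [pow_two]; exact mL_sq) h.mL_ne1]

end Frame

end Frame

end Cfsg.Agent.Lib.Fusion.TwoG
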