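/-
The simplicity of the `2`-fusion system of the quotient of a group with a frame.
-/
import Cfsg.Agent.Lib.Fusion.TwoG3

set_option autoImplicit false
set_option linter.unusedSectionVars false
set_option linter.unusedVariables false
set_option linter.unusedSimpArgs false
set_option linter.style.haveILetI false

namespace Cfsg.Agent.Lib.Fusion.TwoG

open Cfsg Cfsg.FusionSystem Cfsg.Agent.Lib.Fusion Cfsg.Agent.Lib.Fusion.TwoF Matrix

section Aux

variable {G : Type*} [Group G]

theorem self_mem_normalizer (U : Subgroup G) {u : G} (hu : u ∈ U) : u ∈ Subgroup.normalizer (U : Set G) := by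
  rw [Subgroup.mem_normalizer_iff]
  intro x
  constructor
  · intro hx
    exact U.mul_mem (U.mul_mem hu hx) (U.inv_mem hu)
  · intro hx
    have := U.mul_mem (U.mul_mem (U.inv_mem hu) hx) hu
    have e : u⁻¹ * (u * x * u⁻¹) * u = x := by group
    rwa [e] at this

/-- The `2`-subgroup lies in the generated subgroup. -/
theorem mem_clo_of_mem (U : Subgroup G) (hUp : IsPGroup 2 U) (RR : Set (Subgroup G)) (hU : U ∈ RR) {u : G} (hu : u ∈ U) :
    u ∈ Subgroup.closure {w | w ∈ Subgroup.normalizer (U : Set G) ∧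
      ∃ R ∈ RR, w ∈ Subgroup.closure {g | g ∈ Subgroup.normalizer (R : Set G) ∧ ∃ j : ℕ, g ^ 2 ^ j = 1}} := by
  obtain ⟨k, hk⟩ := hUp ⟨u, hu⟩
  exact Subgroup.subset_closure ⟨self_mem_normalizer U hu, U, hU,
    Subgroup.subset_closure ⟨self_mem_normalizer U hu, k, congrArg Subtype.val hk⟩⟩

end Aux

section Frame

variable {F : Type*} [Field F] [Fintype F] {X : Type*} [Group X] [Finite X]

variable {D : SpecialLinearGroup (Fin 2) F → SpecialLinearGroup (Fin 2) F → X} {σ : X}

namespace Frame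

variable (h : Frame D σ) {Q : Sylow 2 (SpecialLinearGroup (Fin 2) F)} {i j : SpecialLinearGroup (Fin 2) F}
include h

theorem exists_QIJ (Q : Sylow 2 (SpecialLinearGroup (Fin 2) F)) : ∃ i j, QIJ Q i j := by
  have hw4 : (wSL : SpecialLinearGroup (Fin 2) F) ^ 2 ^ 2 = 1 := by
    have e : (wSL : SpecialLinearGroup (Fin 2) F) ^ 2 ^ 2 = mL * mL := by
      show wSL ^ 2 ^ 2 = (wSL * wSL) * (wSL * wSL)
      norm_num [pow_succ, mul_assoc]
    rw [e, mL_sq]
  obtain ⟨c, hc⟩ := exists_conj_elt Q hw4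
  have hi : (c * wSL * c⁻¹) * (c * wSL * c⁻¹) = mL := by
    have e : (c * wSL * c⁻¹) * (c * wSL * c⁻¹) = c * mL * c⁻¹ := by
      show _ = c * (wSL * wSL) * c⁻¹
      group
    rw [e, mL_central]
    group
  obtain ⟨f, hf, hff, hfe⟩ := exists_partner h.odd Q hc hi
  exact ⟨_, f, hc, hf, hi, hff, hfe⟩

/-- The case where the image of `Q` is not of exponent two. -/
theorem isSimple_case1 (hq : QIJ Q i j) (hne : ∃ u ∈ (Q : Subgroup (SpecialLinearGroup (Fin 2) F)), piC u * piC u ≠ 1) (S : Sylow 2 (X ⧸ Subgroup.center X)) :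
    (groupFusionSystem (S : Subgroup (X ⧸ Subgroup.center X))).IsSimple 2 := by
  classical
  set U := (h.W (Q : Subgroup (SpecialLinearGroup (Fin 2) F))).map (piC (Γ := X)) with hU
  have hUp : IsPGroup 2 U := (h.W_isPGroup Q).map (piC (Γ := X))
  have hU1 : U ≠ ⊥ := by
    intro hb
    have h1 : piC (D 1 mL) ∈ U := ⟨_, h.t1_mem_W Q, rfl⟩
    rw [hb] at h1
    exact h.pi_t1_ne (Subgroup.mem_bot.1 h1)
  obtain ⟨P, hP⟩ := h.exists_sylow hq
  replace hP : (P : Subgroup (X ⧸ Subgroup.center X)) = U := hP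
  refine isSimple_of_local U hU1 ⟨P, hP⟩ {U} ?_ ?_ ?_ (fun T h1 h2 h3 => h.hcl_main hq T h1 h2 h3) S
  · rintro R rfl
    exact le_rfl
  · rintro R rfl y hy
    obtain ⟨x, rfl⟩ := piC_surj y
    rcases h.cent_W hq.iQ hq.jQ hq.ii hq.jj hq.ji (fun w hw => hy _ ⟨w, hw, rfl⟩) with h1 | h1
    · rw [h1]
      exact Subgroup.one_mem _
    · rw [h1]
      exact ⟨_, h.t1_mem_W Q, rfl⟩
  · intro m hm
    obtain ⟨a, b, rfl, ha, hb, ⟨k, hk⟩, hbo⟩ := exists_split (p := 2) m
    have hzp : Subgroup.zpowers (a * b) ≤ Subgroup.normalizer (U : Set (X ⧸ Subgroup.center X)) := (Subgroup.zpowers_le).2 hm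
    have haU : a ∈ U := by
      rw [← hP]
      refine mem_sylow_of_normalizes P ⟨k, ?_⟩ ?_
      · rw [← hk, pow_orderOf_eq_one]
      · rw [hP]
        exact hzp ha
    obtain ⟨y₁, y₂, hb1, hy₁, hy₂, hN₁, hN₂, -⟩ := h.norm_odd hq (hzp hb) hbo
    have h1 := h.odd_trivial hq hne hy₁ hN₁
    have h2 := h.odd_trivial hq hne hy₂ hN₂
    rw [h1, h2, h.D_one, map_one] at hb1
    rw [← hb1, mul_one]
    exact mem_clo_of_mem U hUp {U} rfl haU

/-- The case where the image of `Q` is of exponent two. -/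
theorem isSimple_case2 (hq : QIJ Q i j) (hne : ∀ u ∈ (Q : Subgroup (SpecialLinearGroup (Fin 2) F)), piC u * piC u = 1) (S : Sylow 2 (X ⧸ Subgroup.center X)) :
    (groupFusionSystem (S : Subgroup (X ⧸ Subgroup.center X))).IsSimple 2 := by
  classical
  set U := (h.W (Q : Subgroup (SpecialLinearGroup (Fin 2) F))).map (piC (Γ := X)) with hU
  have hUp : IsPGroup 2 U := (h.W_isPGroup Q).map (piC (Γ := X))
  have hU1 : U ≠ ⊥ := by
    intro hb
    have h1 : piC (D 1 mL) ∈ U := ⟨_, h.t1_mem_W Q, rfl⟩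
    rw [hb] at h1
    exact h.pi_t1_ne (Subgroup.mem_bot.1 h1)
  obtain ⟨P, hP⟩ := h.exists_sylow hq
  replace hP : (P : Subgroup (X ⧸ Subgroup.center X)) = U := hP
  obtain ⟨hiQ, hjQ, hi, hj, hij⟩ := hq
  have hq : QIJ Q i j := ⟨hiQ, hjQ, hi, hj, hij⟩
  obtain ⟨r₁, r₂, y₀, h11, h22, h12, h1i, h1j, h2i, h2j, h1t, h1s, h2t, h2s⟩ := h.exr i j hi hj hij
  -- the relations of `y₀`
  have hy0i : y₀ * i = mL * j * y₀ := by
    have e : D y₀ y₀ * D i i = D (mL * j * y₀) (mL * j * y₀) := by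
      rw [← h12]
      calc r₁ * r₂ * D i i = r₁ * (r₂ * D i i) := by group
        _ = r₁ * (D mL mL * D i i * r₂) := by rw [h2i]
        _ = (r₁ * D mL mL) * D i i * r₂ := by group
        _ = D mL mL * (r₁ * D i i) * r₂ := by rw [h.central]; group
        _ = D mL mL * (D j j * r₁) * r₂ := by rw [h1i]
        _ = D mL mL * D j j * (r₁ * r₂) := by group
        _ = _ := by rw [h12, h.mul, h.mul]
    rw [h.mul] at e
    exact (h.inj e).1
  have hy0j : y₀ * j = mL * (i * j) * y₀ := by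
    have e : D y₀ y₀ * D j j = D (mL * (i * j) * y₀) (mL * (i * j) * y₀) := by
      rw [← h12]
      have e1 : r₁ * D (i * j) (i * j) = D mL mL * D (i * j) (i * j) * r₁ := by
        have e2 : D (i * j) (i * j) = D i i * D j j := by rw [h.mul]
        rw [e2]
        calc r₁ * (D i i * D j j) = (r₁ * D i i) * D j j := by group
          _ = (D j j * r₁) * D j j := by rw [h1i]
          _ = D j j * (r₁ * D j j) := by group
          _ = D j j * (D i i * r₁) := by rw [h1j]
          _ = D (j * i) (j * i) * r₁ := by rw [← mul_assoc, h.mul]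
          _ = _ := by rw [hij, h.mul, h.mul]
      calc r₁ * r₂ * D j j = r₁ * (r₂ * D j j) := by group
        _ = r₁ * (D (i * j) (i * j) * r₂) := by rw [h2j]
        _ = (r₁ * D (i * j) (i * j)) * r₂ := by group
        _ = (D mL mL * D (i * j) (i * j) * r₁) * r₂ := by rw [e1]
        _ = D mL mL * D (i * j) (i * j) * (r₁ * r₂) := by group
        _ = _ := by rw [h12, h.mul, h.mul]
    rw [h.mul] at e
    exact (h.inj e).1
  -- the Klein four group in the quotient
  have hkk : (i * j) * (i * j) = mL := by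
    calc (i * j) * (i * j) = i * (j * i) * j := by group
      _ = i * (mL * (i * j)) * j := by rw [hij]
      _ = (i * mL) * i * (j * j) := by group
      _ = (mL * i) * i * (j * j) := by rw [mL_central]
      _ = mL * (i * i) * (j * j) := by group
      _ = mL := by rw [hi, hj, mL_sq, one_mul]
  set A := piC i with hA
  set B := piC j with hB
  set C := piC (i * j) with hC
  have hAB' : A * B = C := (map_mul _ _ _).symm
  have hBA' : B * A = C := by
    rw [hB, hA, ← map_mul, hij, map_mul, piL_mL, one_mul]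
  have hA2 : A * A = 1 := by
    rw [hA, ← map_mul, hi, piL_mL]
  have hB2 : B * B = 1 := by
    rw [hB, ← map_mul, hj, piL_mL]
  have hA1 : A ≠ 1 := piL_ne_one_of_sq h.odd hi
  have hB1 : B ≠ 1 := piL_ne_one_of_sq h.odd hj
  have hC1 : C ≠ 1 := piL_ne_one_of_sq h.odd hkk
  have hABne : A ≠ B := by
    intro e
    apply hC1
    rw [← hAB', ← e, hA2]
  have hACne : A ≠ C := by
    intro e
    apply hB1
    have h1 : A * B = A * 1 := by rw [hAB', ← e, mul_one]
    exact mul_left_cancel h1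
  have hBCne : B ≠ C := by
    intro e
    apply hA1
    have h1 : B * A = B * 1 := by rw [hBA', ← e, mul_one]
    exact mul_left_cancel h1
  have hY0A : piC y₀ * A * (piC y₀)⁻¹ = B := by
    have e := congrArg piC hy0i
    rw [map_mul, map_mul, map_mul, piL_mL, one_mul] at e
    have e2 : piC y₀ * A = B * piC y₀ := e
    rw [e2]
    group
  have hY0B : piC y₀ * B * (piC y₀)⁻¹ = C := by
    have e := congrArg piC hy0j
    rw [map_mul, map_mul, map_mul, piL_mL, one_mul] at e
    have e2 : piC y₀ * B = C * piC y₀ := e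
    rw [e2]
    group
  have hY0C : piC y₀ * C * (piC y₀)⁻¹ = A := by
    have e : piC y₀ * C * (piC y₀)⁻¹ = (piC y₀ * A * (piC y₀)⁻¹) * (piC y₀ * B * (piC y₀)⁻¹) := by
      rw [← hAB']
      group
    rw [e, hY0A, hY0B, ← hAB', ← mul_assoc, hBA', ← hAB', mul_assoc, hB2, mul_one]
  -- the image of `Q`
  have hcomm : ∀ u ∈ (Q : Subgroup (SpecialLinearGroup (Fin 2) F)), ∀ v ∈ (Q : Subgroup (SpecialLinearGroup (Fin 2) F)), piC u * piC v = piC v * piC u := by
    intro u hu v hv
    have h1 := hne _ (Subgroup.mul_mem _ hu hv)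
    have h2 := hne u hu
    have h3 := hne v hv
    rw [map_mul] at h1
    refine mul_left_cancel (a := piC u * piC v) ?_
    rw [h1]
    calc (1 : SpecialLinearGroup (Fin 2) F ⧸ Subgroup.center (SpecialLinearGroup (Fin 2) F)) = piC u * piC u := h2.symm
      _ = piC u * (piC v * piC v) * piC u := by rw [h3, mul_one]
      _ = _ := by group
  have hQ4 : ∀ u ∈ (Q : Subgroup (SpecialLinearGroup (Fin 2) F)), piC u = 1 ∨ piC u = A ∨ piC u = B ∨ piC u = C := fun u hu =>
    triv_cases h.odd hi hj hij (hcomm u hu i hiQ) (hcomm u hu j hjQ)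
  have hQ4' : ∀ u, (piC u = 1 ∨ piC u = A ∨ piC u = B ∨ piC u = C) → u ∈ (Q : Subgroup (SpecialLinearGroup (Fin 2) F)) := by
    intro u hu
    rw [← mem_Vb h.odd Q]
    rcases hu with hu | hu | hu | hu
    · rw [hu]
      exact Subgroup.one_mem _
    · rw [hu]
      exact (mem_Vb h.odd Q).2 hiQ
    · rw [hu]
      exact (mem_Vb h.odd Q).2 hjQ
    · rw [hu]
      exact (mem_Vb h.odd Q).2 (Subgroup.mul_mem _ hiQ hjQ)
  have hy0Q : ∀ u ∈ (Q : Subgroup (SpecialLinearGroup (Fin 2) F)), y₀ * u * y₀⁻¹ ∈ (Q : Subgroup (SpecialLinearGroup (Fin 2) F)) := by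
    intro u hu
    apply hQ4'
    rw [map_mul, map_mul, map_inv]
    rcases hQ4 u hu with h1 | h1 | h1 | h1 <;> rw [h1]
    · left
      group
    · right; right; left
      exact hY0A
    · right; right; right
      exact hY0B
    · right; left
      exact hY0C
  -- the subgroup `R`
  let Rt : Subgroup X := Subgroup.closure ({D i i, D j j, D 1 mL, σ} : Set X)
  have hRii : D i i ∈ Rt := Subgroup.subset_closure (by simp)
  have hRjj : D j j ∈ Rt := Subgroup.subset_closure (by simp)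
  have hRt1 : D 1 mL ∈ Rt := Subgroup.subset_closure (by simp)
  have hRs : σ ∈ Rt := Subgroup.subset_closure (by simp)
  have hRmo : D mL mL ∈ Rt := by
    have := Rt.mul_mem hRii hRii
    rwa [h.mul, hi] at this
  have hRkk : D (i * j) (i * j) ∈ Rt := by
    have := Rt.mul_mem hRii hRjj
    rwa [h.mul] at this
  have hRW : Rt ≤ h.W (Q : Subgroup (SpecialLinearGroup (Fin 2) F)) := by
    rw [Subgroup.closure_le]
    rintro x (rfl | rfl | rfl | rfl)
    · exact h.D_mem_W.2 ⟨hiQ, hiQ⟩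
    · exact h.D_mem_W.2 ⟨hjQ, hjQ⟩
    · exact h.t1_mem_W Q
    · exact h.sigma_mem_W _
  let Rb : Subgroup (X ⧸ Subgroup.center X) := Rt.map piC
  have hRbU : Rb ≤ U := Subgroup.map_mono hRW
  have hconjR : ∀ r : X, (r * D i i * r⁻¹ ∈ Rt) → (r * D j j * r⁻¹ ∈ Rt) → (r * D 1 mL * r⁻¹ ∈ Rt) → (r * σ * r⁻¹ ∈ Rt) →
      piC r ∈ Subgroup.normalizer (Rb : Set (X ⧸ Subgroup.center X)) := by
    intro r a b c d
    refine Subgroup.mem_normalizer_fintype ?_
    rintro _ ⟨x, hx, rfl⟩
    refine ⟨r * x * r⁻¹, ?_, by simp only [map_mul, map_inv]⟩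
    show r * x * r⁻¹ ∈ Rt
    have hx' : x ∈ Subgroup.closure ({D i i, D j j, D 1 mL, σ} : Set X) := hx
    clear hx
    induction hx' using Subgroup.closure_induction with
    | mem x hx =>
      rcases hx with rfl | rfl | rfl | rfl
      · exact a
      · exact b
      · exact c
      · exact d
    | one =>
      have e : r * 1 * r⁻¹ = 1 := by group
      rw [e]
      exact Rt.one_mem
    | mul x y _ _ hx hy =>
      have e : r * (x * y) * r⁻¹ = (r * x * r⁻¹) * (r * y * r⁻¹) := by group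
      rw [e]
      exact Rt.mul_mem hx hy
    | inv x _ hx =>
      have e : r * x⁻¹ * r⁻¹ = (r * x * r⁻¹)⁻¹ := by group
      rw [e]
      exact Rt.inv_mem hx
  have hcj : ∀ r a b : X, r * a = b * r → r * a * r⁻¹ = b := by
    intro r a b hh
    rw [hh]
    group
  have hr1N : piC r₁ ∈ Subgroup.normalizer (Rb : Set (X ⧸ Subgroup.center X)) := by
    refine hconjR r₁ ?_ ?_ ?_ ?_
    · rw [hcj _ _ _ h1i]
      exact hRjj
    · rw [hcj _ _ _ h1j]
      exact hRii
    · rw [hcj _ _ _ h1t]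
      exact Rt.mul_mem hRmo hRs
    · rw [hcj _ _ _ h1s]
      exact Rt.mul_mem hRmo hRt1
  have hr2N : piC r₂ ∈ Subgroup.normalizer (Rb : Set (X ⧸ Subgroup.center X)) := by
    refine hconjR r₂ ?_ ?_ ?_ ?_
    · rw [hcj _ _ _ h2i]
      exact Rt.mul_mem hRmo hRii
    · rw [hcj _ _ _ h2j]
      exact hRkk
    · rw [hcj _ _ _ h2t]
      exact Rt.mul_mem hRmo hRs
    · rw [hcj _ _ _ h2s]
      exact Rt.mul_mem hRmo hRt1
  -- `D y₀ y₀` normalizes `U`
  have hYN : piC (D y₀ y₀) ∈ Subgroup.normalizer (U : Set (X ⧸ Subgroup.center X)) := by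
    refine Subgroup.mem_normalizer_fintype ?_
    rintro _ ⟨w, hw, rfl⟩
    refine ⟨D y₀ y₀ * w * (D y₀ y₀)⁻¹, ?_, by simp only [map_mul, map_inv]⟩
    obtain ⟨u, hu, v, hv, rfl | rfl⟩ := hw
    · rw [h.D_inv, h.mul, h.mul]
      exact h.D_mem_W.2 ⟨hy0Q u hu, hy0Q v hv⟩
    · have e : D y₀ y₀ * (D u v * σ) * (D y₀ y₀)⁻¹ = D (y₀ * u * y₀⁻¹) (y₀ * v * y₀⁻¹) * σ := by
        rw [h.D_inv]
        calc D y₀ y₀ * (D u v * σ) * D y₀⁻¹ y₀⁻¹ = D y₀ y₀ * D u v * (σ * D y₀⁻¹ y₀⁻¹) := by group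
          _ = D y₀ y₀ * D u v * (D y₀⁻¹ y₀⁻¹ * σ) := by rw [h.swap]
          _ = (D y₀ y₀ * D u v * D y₀⁻¹ y₀⁻¹) * σ := by group
          _ = _ := by rw [h.mul, h.mul]
      rw [e]
      exact h.Ds_mem_W.2 ⟨hy0Q u hu, hy0Q v hv⟩
  have hpow2 : ∀ r : X, r * r = D mL mL → (piC r) ^ 2 ^ 1 = 1 := by
    intro r hr
    rw [pow_one, pow_two, ← map_mul, hr, h.pi_mo]
  refine isSimple_of_local U hU1 ⟨P, hP⟩ {U, Rb} ?_ ?_ ?_ (fun T h1 h2 h3 => h.hcl_main hq T h1 h2 h3) S
  · rintro R (rfl | rfl)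
    · exact le_rfl
    · exact hRbU
  · rintro R (rfl | rfl) y hy
    · obtain ⟨x, rfl⟩ := piC_surj y
      rcases h.cent_W hiQ hjQ hi hj hij (fun w hw => hy _ ⟨w, hw, rfl⟩) with h1 | h1
      · rw [h1]
        exact Subgroup.one_mem _
      · rw [h1]
        exact ⟨_, h.t1_mem_W Q, rfl⟩
    · obtain ⟨x, rfl⟩ := piC_surj y
      -- the elements `D q q`
      have hDq : ∀ a, (piC a = 1 ∨ piC a = A ∨ piC a = B ∨ piC a = C) → D a a ∈ Rt := by
        have hs : ∀ q a : SpecialLinearGroup (Fin 2) F, D q q ∈ Rt → piC q = piC a → D a a ∈ Rt := by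
          intro q a hqq e
          rcases (piL_eq h.odd).1 e with rfl | rfl
          · exact hqq
          · have := Rt.mul_mem hqq hRmo
            rwa [h.mul] at this
        intro a ha
        rcases ha with ha | ha | ha | ha
        · refine hs 1 a ?_ (by rw [ha, map_one])
          rw [h.D_one]
          exact Rt.one_mem
        · exact hs i a hRii ha.symm
        · exact hs j a hRjj ha.symm
        · exact hs (i * j) a hRkk ha.symm
      have hx0 : ∀ a b, piC (D a b) * piC (D i i) = piC (D i i) * piC (D a b) → piC (D a b) * piC (D j j) = piC (D j j) * piC (D a b) →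
          piC (D a b) * piC σ = piC σ * piC (D a b) → D a b ∈ Rt := by
        intro a b h1 h2 h3
        have hL : ∀ q : SpecialLinearGroup (Fin 2) F, piC (D a b) * piC (D q q) = piC (D q q) * piC (D a b) → piC a * piC q = piC q * piC a := by
          intro q hh
          rw [← map_mul, ← map_mul, h.mul, h.mul] at hh
          rw [← map_mul, ← map_mul]
          rcases h.pi_D_eq hh with ⟨h4, -⟩ | ⟨h4, -⟩
          · rw [h4]
          · rw [h4, map_mul (piC) (a * q), piL_mL, mul_one]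
        have h4 := triv_cases h.odd hi hj hij (hL i h1) (hL j h2)
        have h5 := hDq a h4
        have h6 : piC (D a b) = piC (D b a) := by
          have e : piC σ * piC (D a b) = piC (D b a) * piC σ := by
            rw [← map_mul, ← map_mul, h.swap]
          rw [e] at h3
          exact mul_right_cancel h3
        rcases h.pi_D_eq h6 with ⟨rfl, -⟩ | ⟨rfl, -⟩
        · exact h5
        · have := Rt.mul_mem h5 hRt1
          rwa [h.mul, mul_one] at this
      have ht := hy _ ⟨_, hRt1, rfl⟩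
      have hii := hy _ ⟨_, hRii, rfl⟩
      have hjj := hy _ ⟨_, hRjj, rfl⟩
      have hss := hy _ ⟨_, hRs, rfl⟩
      rcases h.pi_comm_t1 ht.symm with ⟨a, b, rfl⟩ | ⟨a, b, rfl⟩
      · exact ⟨_, hx0 a b hii.symm hjj.symm hss.symm, rfl⟩
      · have hsq : ∀ q : SpecialLinearGroup (Fin 2) F, piC σ * piC (D q q) = piC (D q q) * piC σ := by
          intro q
          rw [← map_mul, ← map_mul, h.swap]
        have hc : ∀ q : SpecialLinearGroup (Fin 2) F, piC (D q q) * piC (D a b * σ) = piC (D a b * σ) * piC (D q q) → piC (D a b) * piC (D q q) = piC (D q q) * piC (D a b) := by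
          intro q e
          rw [map_mul, ← mul_assoc, mul_assoc (piC (D a b)), hsq, ← mul_assoc] at e
          exact (mul_right_cancel e).symm
        have hc2 : piC (D a b) * piC σ = piC σ * piC (D a b) := by
          have e := hss
          rw [map_mul, ← mul_assoc] at e
          exact (mul_right_cancel e).symm
        exact ⟨_, Rt.mul_mem (hx0 a b (hc i hii) (hc j hjj) hc2) hRs, rfl⟩
  · intro m hm
    obtain ⟨a, b, rfl, ha, hb, ⟨k, hk⟩, hbo⟩ := exists_split (p := 2) m
    have hzp : Subgroup.zpowers (a * b) ≤ Subgroup.normalizer (U : Set (X ⧸ Subgroup.center X)) := (Subgroup.zpowers_le).2 hm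
    have haU : a ∈ U := by
      rw [← hP]
      refine mem_sylow_of_normalizes P ⟨k, ?_⟩ ?_
      · rw [← hk, pow_orderOf_eq_one]
      · rw [hP]
        exact hzp ha
    have hUU : (U ∈ ({U, Rb} : Set (Subgroup (X ⧸ Subgroup.center X)))) := Or.inl rfl
    refine Subgroup.mul_mem _ (mem_clo_of_mem U hUp _ hUU haU) ?_
    obtain ⟨y₁, y₂, hb1, hy₁, hy₂, hN₁, hN₂, hy12⟩ := h.norm_odd hq (hzp hb) hbo
    -- the action of `y₁`
    have hact : ∀ e, e * e = mL → e ∈ (Q : Subgroup (SpecialLinearGroup (Fin 2) F)) → piC y₁ * piC e * (piC y₁)⁻¹ = A ∨ piC y₁ * piC e * (piC y₁)⁻¹ = B ∨ piC y₁ * piC e * (piC y₁)⁻¹ = C := by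
      intro e hee he
      have h1 := (Subgroup.mem_normalizer_iff.1 hN₁ e).1 he
      have h2 : (y₁ * e * y₁⁻¹) * (y₁ * e * y₁⁻¹) = mL := by
        have e2 : (y₁ * e * y₁⁻¹) * (y₁ * e * y₁⁻¹) = y₁ * (e * e) * y₁⁻¹ := by group
        rw [e2, hee, mL_central]
        group
      have h3 := piL_ne_one_of_sq h.odd h2
      rw [map_mul, map_mul, map_inv] at h3
      have h4 := hQ4 _ h1
      rw [map_mul, map_mul, map_inv] at h4
      rcases h4 with h4 | h4
      · exact absurd h4 h3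
      · exact h4
    have hyo' : ¬ 2 ∣ orderOf (piC y₁) := fun hd => hy₁ (hd.trans (orderOf_map_dvd _ _))
    obtain ⟨n, hn1, hn2⟩ := klein_odd hABne hACne hBCne hAB' hBA' hA2 hB2 hyo' (hact i hi hiQ) (hact j hj hjQ) hY0A hY0B
    have hw : y₀ ^ n * y₁ ∈ (Q : Subgroup (SpecialLinearGroup (Fin 2) F)) := by
      apply hQ4'
      refine triv_cases h.odd hi hj hij ?_ ?_
      · rw [map_mul, map_pow]
        exact hn1
      · rw [map_mul, map_pow]
        exact hn2
    have hw2 : y₀ ^ n * y₂ ∈ (Q : Subgroup (SpecialLinearGroup (Fin 2) F)) := by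
      have e : y₀ ^ n * y₂ = (y₀ ^ n * y₁) * (y₁⁻¹ * y₂) := by group
      rw [e]
      exact Subgroup.mul_mem _ hw hy12
    have hu : (piC (D y₀ y₀)) ^ n * b ∈ U := by
      refine ⟨D (y₀ ^ n * y₁) (y₀ ^ n * y₂), h.D_mem_W.2 ⟨hw, hw2⟩, ?_⟩
      rw [← hb1, ← map_pow, ← map_mul, h.D_pow, h.mul]
    have e : b = ((piC (D y₀ y₀)) ^ n)⁻¹ * ((piC (D y₀ y₀)) ^ n * b) := by group
    rw [e]
    refine Subgroup.mul_mem _ (Subgroup.inv_mem _ (Subgroup.pow_mem _ ?_ n)) (mem_clo_of_mem U hUp _ hUU hu)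
    refine Subgroup.subset_closure ⟨hYN, Rb, Or.inr rfl, ?_⟩
    rw [← h12, map_mul]
    exact Subgroup.mul_mem _ (Subgroup.subset_closure ⟨hr1N, 1, hpow2 r₁ h11⟩) (Subgroup.subset_closure ⟨hr2N, 1, hpow2 r₂ h22⟩)

/-- **The simplicity of the `2`-fusion system.** -/
theorem isSimple (S : Sylow 2 (X ⧸ Subgroup.center X)) :
    (groupFusionSystem (S : Subgroup (X ⧸ Subgroup.center X))).IsSimple 2 := by
  classical
  obtain ⟨Q⟩ : Nonempty (Sylow 2 (SpecialLinearGroup (Fin 2) F)) := inferInstance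
  obtain ⟨i, j, hq⟩ := h.exists_QIJ Q
  by_cases hne : ∃ u ∈ (Q : Subgroup (SpecialLinearGroup (Fin 2) F)), piC u * piC u ≠ 1
  · exact h.isSimple_case1 hq hne S
  · push Not at hne
    exact h.isSimple_case2 hq hne S

end Frame

end Frame

end Cfsg.Agent.Lib.Fusion.TwoG
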