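/-
The Kronecker form of matrices of size four, the embedding of `SL₂ × SL₂` in `Sp₄`, and the swap.
-/
import Cfsg.Agent.Lib.Fusion.TwoG4
import Mathlib.LinearAlgebra.SymplecticGroup

set_option autoImplicit false
set_option linter.unusedSectionVars false
set_option linter.unusedVariables false
set_option linter.unusedSimpArgs false
set_option linter.style.haveILetI false

namespace Cfsg.Agent.Lib.Fusion.TwoG

open Matrix

section Kron

variable {F : Type*} [Field F]

/-- The coordinates. -/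
abbrev I4 := Fin 2 ⊕ Fin 2

def tau : I4 → Fin 2
  | Sum.inl _ => 0
  | Sum.inr _ => 1

def nu : I4 → Fin 2
  | Sum.inl n => n
  | Sum.inr n => n

@[simp] theorem tau_inl (n : Fin 2) : tau (Sum.inl n) = 0 := rfl
@[simp] theorem tau_inr (n : Fin 2) : tau (Sum.inr n) = 1 := rfl
@[simp] theorem nu_inl (n : Fin 2) : nu (Sum.inl n) = n := rfl
@[simp] theorem nu_inr (n : Fin 2) : nu (Sum.inr n) = n := rfl

/-- The index with given coordinates. -/
def iota (t n : Fin 2) : I4 := if t = 0 then Sum.inl n else Sum.inr n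

@[simp] theorem tau_iota (t n : Fin 2) : tau (iota t n) = t := by
  fin_cases t <;> simp [iota]

@[simp] theorem nu_iota (t n : Fin 2) : nu (iota t n) = n := by
  fin_cases t <;> simp [iota]

theorem iota_tau_nu (x : I4) : iota (tau x) (nu x) = x := by
  rcases x with n | n <;> simp [iota]

theorem eq_of_tau_nu {x y : I4} (h1 : tau x = tau y) (h2 : nu x = nu y) : x = y := by
  rw [← iota_tau_nu x, ← iota_tau_nu y, h1, h2]

/-- The Kronecker product. -/
def TT (P B : Matrix (Fin 2) (Fin 2) F) : Matrix I4 I4 F := Matrix.of fun x y => P (tau x) (tau y) * B (nu x) (nu y)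

theorem TT_apply (P B : Matrix (Fin 2) (Fin 2) F) (x y : I4) : TT P B x y = P (tau x) (tau y) * B (nu x) (nu y) := rfl

theorem TT_mul (P B P' B' : Matrix (Fin 2) (Fin 2) F) : TT P B * TT P' B' = TT (P * P') (B * B') := by
  ext x y
  simp only [Matrix.mul_apply, Fintype.sum_sum_type, Fin.sum_univ_two, TT_apply, tau_inl, tau_inr, nu_inl, nu_inr]
  ring

theorem TT_one : TT (1 : Matrix (Fin 2) (Fin 2) F) 1 = 1 := by
  ext x y
  rw [TT_apply, Matrix.one_apply, Matrix.one_apply, Matrix.one_apply]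
  by_cases h : x = y
  · subst h
    simp
  · rw [if_neg h]
    by_cases h1 : tau x = tau y
    · have h2 : nu x ≠ nu y := fun h2 => h (eq_of_tau_nu h1 h2)
      rw [if_neg h2, mul_zero]
    · rw [if_neg h1, zero_mul]

theorem TT_transpose (P B : Matrix (Fin 2) (Fin 2) F) : (TT P B)ᵀ = TT Pᵀ Bᵀ := by
  ext x y
  rfl

theorem TT_add_left (P P' B : Matrix (Fin 2) (Fin 2) F) : TT (P + P') B = TT P B + TT P' B := by
  ext x y
  simp only [TT_apply, Matrix.add_apply]
  ring

theorem TT_add_right (P B B' : Matrix (Fin 2) (Fin 2) F) : TT P (B + B') = TT P B + TT P B' := by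
  ext x y
  simp only [TT_apply, Matrix.add_apply]
  ring

theorem TT_smul_left (c : F) (P B : Matrix (Fin 2) (Fin 2) F) : TT (c • P) B = c • TT P B := by
  ext x y
  simp only [TT_apply, Matrix.smul_apply, smul_eq_mul]
  ring

theorem TT_smul_right (c : F) (P B : Matrix (Fin 2) (Fin 2) F) : TT P (c • B) = c • TT P B := by
  ext x y
  simp only [TT_apply, Matrix.smul_apply, smul_eq_mul]
  ring

theorem TT_neg_left (P B : Matrix (Fin 2) (Fin 2) F) : TT (-P) B = - TT P B := by
  ext x y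
  simp only [TT_apply, Matrix.neg_apply]
  ring

theorem TT_neg_right (P B : Matrix (Fin 2) (Fin 2) F) : TT P (-B) = - TT P B := by
  ext x y
  simp only [TT_apply, Matrix.neg_apply]
  ring

theorem TT_zero_right (P : Matrix (Fin 2) (Fin 2) F) : TT P 0 = 0 := by
  ext x y
  simp only [TT_apply, Matrix.zero_apply, mul_zero]

/-- The idempotents. -/
def e0 : Matrix (Fin 2) (Fin 2) F := !![1, 0; 0, 0]
def e1 : Matrix (Fin 2) (Fin 2) F := !![0, 0; 0, 1]
/-- The diagonal matrix. -/
def dd : Matrix (Fin 2) (Fin 2) F := !![1, 0; 0, -1]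
/-- The swap. -/
def ss : Matrix (Fin 2) (Fin 2) F := !![0, 1; 1, 0]
/-- The symplectic form of dimension two. -/
def j2 : Matrix (Fin 2) (Fin 2) F := !![0, -1; 1, 0]
/-- The difference. -/
def bb : Matrix (Fin 2) (Fin 2) F := !![1, -1; -1, -1]

theorem e0_e0 : (e0 : Matrix (Fin 2) (Fin 2) F) * e0 = e0 := by
  ext i j
  fin_cases i <;> fin_cases j <;> simp [e0, Matrix.mul_apply, Fin.sum_univ_two]

theorem e1_e1 : (e1 : Matrix (Fin 2) (Fin 2) F) * e1 = e1 := by
  ext i j
  fin_cases i <;> fin_cases j <;> simp [e1, Matrix.mul_apply, Fin.sum_univ_two]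

theorem e0_e1 : (e0 : Matrix (Fin 2) (Fin 2) F) * e1 = 0 := by
  ext i j
  fin_cases i <;> fin_cases j <;> simp [e0, e1, Matrix.mul_apply, Fin.sum_univ_two]

theorem e1_e0 : (e1 : Matrix (Fin 2) (Fin 2) F) * e0 = 0 := by
  ext i j
  fin_cases i <;> fin_cases j <;> simp [e0, e1, Matrix.mul_apply, Fin.sum_univ_two]

theorem e0_add_e1 : (e0 : Matrix (Fin 2) (Fin 2) F) + e1 = 1 := by
  ext i j
  fin_cases i <;> fin_cases j <;> simp [e0, e1]

theorem e0_t : (e0 : Matrix (Fin 2) (Fin 2) F)ᵀ = e0 := by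
  ext i j
  fin_cases i <;> fin_cases j <;> simp [e0]

theorem e1_t : (e1 : Matrix (Fin 2) (Fin 2) F)ᵀ = e1 := by
  ext i j
  fin_cases i <;> fin_cases j <;> simp [e1]

theorem ss_ss : (ss : Matrix (Fin 2) (Fin 2) F) * ss = 1 := by
  ext i j
  fin_cases i <;> fin_cases j <;> simp [ss, Matrix.mul_apply, Fin.sum_univ_two]

theorem ss_t : (ss : Matrix (Fin 2) (Fin 2) F)ᵀ = ss := by
  ext i j
  fin_cases i <;> fin_cases j <;> simp [ss]

theorem ss_e0 : (ss : Matrix (Fin 2) (Fin 2) F) * e0 = e1 * ss := by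
  ext i j
  fin_cases i <;> fin_cases j <;> simp [ss, e0, e1, Matrix.mul_apply, Fin.sum_univ_two]

theorem ss_e1 : (ss : Matrix (Fin 2) (Fin 2) F) * e1 = e0 * ss := by
  ext i j
  fin_cases i <;> fin_cases j <;> simp [ss, e0, e1, Matrix.mul_apply, Fin.sum_univ_two]

theorem dd_eq : (dd : Matrix (Fin 2) (Fin 2) F) = e0 - e1 := by
  ext i j
  fin_cases i <;> fin_cases j <;> simp [dd, e0, e1]

theorem bb_bb : (bb : Matrix (Fin 2) (Fin 2) F) * bb = (2 : F) • 1 := by
  ext i j
  fin_cases i <;> fin_cases j <;> simp [bb, Matrix.mul_apply, Fin.sum_univ_two] <;> norm_num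

theorem bb_t : (bb : Matrix (Fin 2) (Fin 2) F)ᵀ = bb := by
  ext i j
  fin_cases i <;> fin_cases j <;> simp [bb]

theorem bb_dd : (bb : Matrix (Fin 2) (Fin 2) F) * dd = - (ss * bb) := by
  ext i j
  fin_cases i <;> fin_cases j <;> simp [bb, dd, ss, Matrix.mul_apply, Fin.sum_univ_two]

theorem bb_ss : (bb : Matrix (Fin 2) (Fin 2) F) * ss = - (dd * bb) := by
  ext i j
  fin_cases i <;> fin_cases j <;> simp [bb, dd, ss, Matrix.mul_apply, Fin.sum_univ_two]

theorem j2_formula (P : Matrix (Fin 2) (Fin 2) F) : P * j2 * Pᵀ = P.det • j2 := by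
  rw [Matrix.det_fin_two]
  ext i j
  fin_cases i <;> fin_cases j <;> simp [j2, Matrix.mul_apply, Fin.sum_univ_two] <;> ring

/-- Block diagonal matrices. -/
def DD (P Q : Matrix (Fin 2) (Fin 2) F) : Matrix I4 I4 F := TT P e0 + TT Q e1

theorem DD_mul (P Q P' Q' : Matrix (Fin 2) (Fin 2) F) : DD P Q * DD P' Q' = DD (P * P') (Q * Q') := by
  unfold DD
  rw [Matrix.add_mul, Matrix.mul_add, Matrix.mul_add, TT_mul, TT_mul, TT_mul, TT_mul, e0_e0, e0_e1, e1_e0, e1_e1, TT_zero_right, TT_zero_right,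
    add_zero, zero_add]

theorem TT_eq_DD (P : Matrix (Fin 2) (Fin 2) F) : TT P 1 = DD P P := by
  unfold DD
  rw [← TT_add_right, e0_add_e1]

theorem DD_one : DD (1 : Matrix (Fin 2) (Fin 2) F) 1 = 1 := by
  rw [← TT_eq_DD, TT_one]

theorem DD_transpose (P Q : Matrix (Fin 2) (Fin 2) F) : (DD P Q)ᵀ = DD Pᵀ Qᵀ := by
  unfold DD
  rw [Matrix.transpose_add, TT_transpose, TT_transpose, e0_t, e1_t]

theorem t1_eq : DD (1 : Matrix (Fin 2) (Fin 2) F) (-1) = TT 1 dd := by
  unfold DD
  rw [dd_eq, TT_neg_left, sub_eq_add_neg, TT_add_right, TT_neg_right]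

theorem DD_apply_00 (P Q : Matrix (Fin 2) (Fin 2) F) (a b : Fin 2) : DD P Q (iota a 0) (iota b 0) = P a b := by
  simp [DD, TT_apply, e0, e1]

theorem DD_apply_11 (P Q : Matrix (Fin 2) (Fin 2) F) (a b : Fin 2) : DD P Q (iota a 1) (iota b 1) = Q a b := by
  simp [DD, TT_apply, e0, e1]

theorem DD_inj {P Q P' Q' : Matrix (Fin 2) (Fin 2) F} (h : DD P Q = DD P' Q') : P = P' ∧ Q = Q' := by
  constructor
  · ext a b
    rw [← DD_apply_00 P Q, h, DD_apply_00]
  · ext a b
    rw [← DD_apply_11 P Q, h, DD_apply_11]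

/-- The diagonal form of the element `t₁`. -/
def fd (x : I4) : F := if nu x = 0 then 1 else -1

theorem t1_diag : DD (1 : Matrix (Fin 2) (Fin 2) F) (-1) = Matrix.diagonal (fd (F := F)) := by
  rw [t1_eq]
  ext x y
  rw [TT_apply, Matrix.diagonal_apply]
  by_cases h : x = y
  · subst h
    simp only [if_true, Matrix.one_apply_eq, one_mul]
    generalize hn : nu x = n
    fin_cases n <;> simp [dd, fd, hn]
  · rw [if_neg h, Matrix.one_apply]
    by_cases h1 : tau x = tau y
    · have h2 : nu x ≠ nu y := fun h2 => h (eq_of_tau_nu h1 h2)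
      rw [if_pos h1, one_mul]
      generalize nu x = m at h2
      generalize nu y = n at h2
      fin_cases m <;> fin_cases n <;> simp [dd] at h2 ⊢
    · rw [if_neg h1, zero_mul]

/-- The blocks of a matrix. -/
def blk (x : Matrix I4 I4 F) (n : Fin 2) : Matrix (Fin 2) (Fin 2) F := Matrix.of fun a b => x (iota a n) (iota b n)

/-- A matrix commuting with `t₁` is block diagonal. -/
theorem eq_DD_of_comm (h2 : (2 : F) ≠ 0) {x : Matrix I4 I4 F} (h : x * DD 1 (-1) = DD 1 (-1) * x) : x = DD (blk x 0) (blk x 1) := by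
  rw [t1_diag] at h
  have h3 : ∀ y z, nu y ≠ nu z → x y z = 0 := by
    intro y z hyz
    have h4 := congrFun (congrFun h y) z
    rw [Matrix.mul_diagonal, Matrix.diagonal_mul] at h4
    unfold fd at h4
    generalize nu y = m at hyz h4
    generalize nu z = n at hyz h4
    have h5 : (2 : F) * x y z = 0 := by
      have hm : m = 0 ∨ m = 1 := by fin_cases m <;> simp
      have hn : n = 0 ∨ n = 1 := by fin_cases n <;> simp
      rcases hm with rfl | rfl <;> rcases hn with rfl | rfl
      · exact absurd rfl hyz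
      · rw [if_neg (by simp), if_pos rfl] at h4
        linear_combination -h4
      · rw [if_pos rfl, if_neg (by simp)] at h4
        linear_combination h4
      · exact absurd rfl hyz
    exact (mul_eq_zero.1 h5).resolve_left h2
  ext y z
  have hy := iota_tau_nu y
  have hz := iota_tau_nu z
  by_cases hyz : nu y = nu z
  · unfold DD
    rw [Matrix.add_apply, TT_apply, TT_apply]
    simp only [blk, Matrix.of_apply]
    generalize hm : nu y = m at hy hyz ⊢
    rw [← hyz] at hz ⊢
    have hm' : m = 0 ∨ m = 1 := by fin_cases m <;> simp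
    have e00 : (e0 : Matrix (Fin 2) (Fin 2) F) 0 0 = 1 := by simp [e0]
    have e01 : (e1 : Matrix (Fin 2) (Fin 2) F) 0 0 = 0 := by simp [e1]
    have e10 : (e0 : Matrix (Fin 2) (Fin 2) F) 1 1 = 0 := by simp [e0]
    have e11 : (e1 : Matrix (Fin 2) (Fin 2) F) 1 1 = 1 := by simp [e1]
    rcases hm' with rfl | rfl
    · rw [e00, e01, hy, hz]
      ring
    · rw [e10, e11, hy, hz]
      ring
  · rw [h3 y z hyz]
    unfold DD
    rw [Matrix.add_apply, TT_apply, TT_apply]
    generalize nu y = m at hyz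
    generalize nu z = n at hyz
    fin_cases m <;> fin_cases n <;> simp [e0, e1] at hyz ⊢

end Kron

end Cfsg.Agent.Lib.Fusion.TwoG
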