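/-
The frame of `Sp₄(F)`: the embedding of `SL₂ × SL₂`, the swap and the matrices normalizing `R`.
-/
import Cfsg.Agent.Lib.Fusion.TwoG5

set_option autoImplicit false
set_option linter.unusedSectionVars false
set_option linter.unusedVariables false
set_option linter.unusedSimpArgs false
set_option linter.style.haveILetI false

namespace Cfsg.Agent.Lib.Fusion.TwoG

open Matrix Cfsg.Agent.Lib.Fusion.TwoF

section Sp

variable {F : Type*} [Field F] [Fintype F]

theorem J_eq : Matrix.J (Fin 2) F = TT j2 1 := by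
  ext x y
  rw [TT_apply]
  rcases x with m | m <;> rcases y with n | n <;> simp [Matrix.J, j2, Matrix.one_apply]
  · by_cases h : m = n
    · simp [h]
    · simp [h]
  · by_cases h : m = n
    · simp [h]
    · simp [h]

theorem J_eq' : Matrix.J (Fin 2) F = DD j2 j2 := by
  rw [J_eq, TT_eq_DD]

theorem DD_mem {P Q : Matrix (Fin 2) (Fin 2) F} (hP : P.det = 1) (hQ : Q.det = 1) : DD P Q ∈ symplecticGroup (Fin 2) F := by
  rw [SymplecticGroup.mem_iff, J_eq', DD_mul, DD_transpose, DD_mul, j2_formula, j2_formula, hP, hQ, one_smul]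

theorem det_of_DD_mem {P Q : Matrix (Fin 2) (Fin 2) F} (h : DD P Q ∈ symplecticGroup (Fin 2) F) : P.det = 1 ∧ Q.det = 1 := by
  rw [SymplecticGroup.mem_iff, J_eq', DD_mul, DD_transpose, DD_mul, j2_formula, j2_formula] at h
  obtain ⟨h1, h2⟩ := DD_inj h
  have h3 := congrFun (congrFun h1 1) 0
  have h4 := congrFun (congrFun h2 1) 0
  simp [j2] at h3 h4
  exact ⟨h3, h4⟩

theorem TT_mem {P B : Matrix (Fin 2) (Fin 2) F} {c : F} (hc : c ≠ 0) (hP : P.det = c) (hB : B * Bᵀ = c⁻¹ • 1) : TT P B ∈ symplecticGroup (Fin 2) F := by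
  rw [SymplecticGroup.mem_iff, J_eq, TT_mul, TT_transpose, TT_mul, j2_formula, hP, Matrix.mul_one, hB, TT_smul_left, TT_smul_right, smul_smul, mul_inv_cancel₀ hc, one_smul]

/-- The embedding of `SL₂ × SL₂`. -/
def DX (a b : SpecialLinearGroup (Fin 2) F) : symplecticGroup (Fin 2) F := ⟨DD a.1 b.1, DD_mem a.2 b.2⟩

theorem DX_coe (a b : SpecialLinearGroup (Fin 2) F) : ((DX a b : symplecticGroup (Fin 2) F) : Matrix I4 I4 F) = DD a.1 b.1 := rfl

/-- The swap. -/
def sX : symplecticGroup (Fin 2) F := ⟨TT 1 ss, by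
  rw [SymplecticGroup.mem_iff, J_eq, TT_mul, TT_transpose, TT_mul, Matrix.mul_one, Matrix.one_mul, Matrix.transpose_one, Matrix.mul_one, ss_t, ss_ss]⟩

theorem sX_coe : ((sX : symplecticGroup (Fin 2) F) : Matrix I4 I4 F) = TT 1 ss := rfl

theorem DX_mul (a b c d : SpecialLinearGroup (Fin 2) F) : DX a b * DX c d = DX (a * c) (b * d) := by
  apply Subtype.ext
  show DD a.1 b.1 * DD c.1 d.1 = DD (a.1 * c.1) (b.1 * d.1)
  rw [DD_mul]

theorem DX_inj {a b c d : SpecialLinearGroup (Fin 2) F} (h : DX a b = DX c d) : a = c ∧ b = d := by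
  obtain ⟨h1, h2⟩ := DD_inj (congrArg Subtype.val h)
  exact ⟨Subtype.ext h1, Subtype.ext h2⟩

theorem sX_sq : (sX : symplecticGroup (Fin 2) F) * sX = 1 := by
  apply Subtype.ext
  show TT 1 ss * TT 1 ss = 1
  rw [TT_mul, ss_ss, Matrix.one_mul, TT_one]

theorem sX_swap (a b : SpecialLinearGroup (Fin 2) F) : sX * DX a b = DX b a * sX := by
  apply Subtype.ext
  show TT 1 ss * DD a.1 b.1 = DD b.1 a.1 * TT 1 ss
  unfold DD
  rw [Matrix.mul_add, Matrix.add_mul, TT_mul, TT_mul, TT_mul, TT_mul, ss_e0, ss_e1, Matrix.one_mul, Matrix.one_mul, Matrix.mul_one, Matrix.mul_one, add_comm]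

theorem mL_coe : ((mL : SpecialLinearGroup (Fin 2) F) : Matrix (Fin 2) (Fin 2) F) = -1 := slRep_mL

theorem DX_mo : ((DX mL mL : symplecticGroup (Fin 2) F) : Matrix I4 I4 F) = -1 := by
  rw [DX_coe, mL_coe, ← TT_eq_DD, TT_neg_left, TT_one]

theorem DX_t1 : ((DX 1 mL : symplecticGroup (Fin 2) F) : Matrix I4 I4 F) = TT 1 dd := by
  rw [DX_coe, mL_coe, ← t1_eq]
  rfl

theorem DX_central (x : symplecticGroup (Fin 2) F) : x * DX mL mL = DX mL mL * x := by
  apply Subtype.ext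
  rw [Submonoid.coe_mul, Submonoid.coe_mul, DX_mo]
  simp

theorem DX_comm1 (h2 : (2 : F) ≠ 0) (x : symplecticGroup (Fin 2) F) (h : x * DX 1 mL = DX 1 mL * x) : ∃ a b, x = DX a b := by
  have h1 : (x : Matrix I4 I4 F) * DD 1 (-1) = DD 1 (-1) * (x : Matrix I4 I4 F) := by
    have := congrArg Subtype.val h
    rw [Submonoid.coe_mul, Submonoid.coe_mul, DX_coe, mL_coe] at this
    exact this
  have h3 := eq_DD_of_comm h2 h1
  have h4 := x.2
  rw [h3] at h4
  obtain ⟨h5, h6⟩ := det_of_DD_mem h4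
  refine ⟨⟨_, h5⟩, ⟨_, h6⟩, Subtype.ext ?_⟩
  exact h3

/-- The algebra of the matrices `r`. -/
def hp (A B : Matrix (Fin 2) (Fin 2) F) : Matrix (Fin 2) (Fin 2) F := (2 : F)⁻¹ • (A + B)

variable {A B : Matrix (Fin 2) (Fin 2) F}

theorem hp_A (hA : A * A = -1) (hB : B * B = -1) : hp A B * A = B * hp A B := by
  unfold hp
  rw [Matrix.smul_mul, Matrix.mul_smul, Matrix.add_mul, Matrix.mul_add, hA, hB, add_comm]

theorem hp_B (hA : A * A = -1) (hB : B * B = -1) : hp A B * B = A * hp A B := by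
  unfold hp
  rw [Matrix.smul_mul, Matrix.mul_smul, Matrix.add_mul, Matrix.mul_add, hA, hB, add_comm]

theorem hp_sq (h2 : (2 : F) ≠ 0) (hA : A * A = -1) (hB : B * B = -1) (hAB : B * A = -(A * B)) : hp A B * hp A B = (-(2 : F)⁻¹) • 1 := by
  unfold hp
  rw [Matrix.smul_mul, Matrix.mul_smul, Matrix.add_mul, Matrix.mul_add, Matrix.mul_add, hA, hB, hAB, smul_smul]
  have e : (-1 + A * B + (-(A * B) + -1) : Matrix (Fin 2) (Fin 2) F) = (-2 : F) • 1 := by
    rw [neg_smul, two_smul]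
    abel
  rw [e, smul_smul]
  congr 1
  field_simp

theorem trace_zero_of_sq {A : Matrix (Fin 2) (Fin 2) F} (h2 : (2 : F) ≠ 0) (hA : A * A = -1) (hd : A.det = 1) : A 1 1 = - A 0 0 := by
  rw [Matrix.det_fin_two] at hd
  have h00 := congrFun (congrFun hA 0) 0
  have h01 := congrFun (congrFun hA 0) 1
  have h10 := congrFun (congrFun hA 1) 0
  have h11 := congrFun (congrFun hA 1) 1
  simp [Matrix.mul_apply, Fin.sum_univ_two] at h00 h01 h10 h11
  by_contra ht
  have ht' : A 0 0 + A 1 1 ≠ 0 := fun h => ht (by linear_combination h)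
  have hb0 : A 0 1 = 0 := by
    have : A 0 1 * (A 0 0 + A 1 1) = 0 := by linear_combination h01
    exact (mul_eq_zero.1 this).resolve_right ht'
  have hc0 : A 1 0 = 0 := by
    have : A 1 0 * (A 0 0 + A 1 1) = 0 := by linear_combination h10
    exact (mul_eq_zero.1 this).resolve_right ht'
  rw [hb0] at h00 h11 hd
  have h3 : (A 0 0 - A 1 1) * (A 0 0 + A 1 1) = 0 := by linear_combination h00 - h11
  have h4 := (mul_eq_zero.1 h3).resolve_right ht'
  have h5 : A 0 0 = A 1 1 := by linear_combination h4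
  rw [← h5] at hd
  apply h2
  linear_combination h00 - hd

theorem hp_det (h2 : (2 : F) ≠ 0) (hA : A * A = -1) (hB : B * B = -1) (hAB : B * A = -(A * B)) (hdA : A.det = 1) (hdB : B.det = 1) : (hp A B).det = (2 : F)⁻¹ := by
  have ha := trace_zero_of_sq h2 hA hdA
  have hb := trace_zero_of_sq h2 hB hdB
  rw [Matrix.det_fin_two] at hdA hdB ⊢
  have h00 := congrFun (congrFun hAB 0) 0
  simp [Matrix.mul_apply, Fin.sum_univ_two] at h00
  simp only [hp, Matrix.smul_apply, Matrix.add_apply, smul_eq_mul]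
  rw [ha] at hdA ⊢
  rw [hb] at hdB ⊢
  have h22 : (2 : F)⁻¹ * 2 = 1 := inv_mul_cancel₀ h2
  linear_combination ((2 : F)⁻¹ * (2 : F)⁻¹) * (hdA + hdB - h00) + (2 : F)⁻¹ * h22
  
end Sp

end Cfsg.Agent.Lib.Fusion.TwoG
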