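/-
The frame of `Sp₄(F)`: the matrices normalizing `R`, the conjugacy of the involutions and the main theorem.
-/
import Cfsg.Agent.Lib.Fusion.TwoG6

set_option autoImplicit false
set_option linter.unusedSectionVars false
set_option linter.unusedVariables false
set_option linter.unusedSimpArgs false
set_option linter.style.haveILetI false

namespace Cfsg.Agent.Lib.Fusion.TwoG

open Matrix Cfsg.Agent.Lib.Fusion.TwoF

section Sp

variable {F : Type*} [Field F] [Fintype F]

theorem DX_coe_TT (a : SpecialLinearGroup (Fin 2) F) : ((DX a a : symplecticGroup (Fin 2) F) : Matrix I4 I4 F) = TT a.1 1 := by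
  rw [DX_coe, TT_eq_DD]

theorem DX_mo' : ((DX mL mL : symplecticGroup (Fin 2) F) : Matrix I4 I4 F) = TT (-1) 1 := by
  rw [DX_coe_TT, mL_coe]

theorem bb_rel1 (P : Matrix (Fin 2) (Fin 2) F) : TT P bb * TT 1 dd = TT (-1) 1 * TT 1 ss * TT P bb := by
  rw [TT_mul, TT_mul, TT_mul]
  simp only [Matrix.mul_one, Matrix.one_mul, Matrix.neg_mul, bb_dd, TT_neg_right, TT_neg_left]

theorem bb_rel2 (P : Matrix (Fin 2) (Fin 2) F) : TT P bb * TT 1 ss = TT (-1) 1 * TT 1 dd * TT P bb := by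
  rw [TT_mul, TT_mul, TT_mul]
  simp only [Matrix.mul_one, Matrix.one_mul, Matrix.neg_mul, bb_ss, TT_neg_right, TT_neg_left]

theorem DX_exr (h2 : (2 : F) ≠ 0) (i j : SpecialLinearGroup (Fin 2) F) (hi : i * i = mL) (hj : j * j = mL) (hij : j * i = mL * (i * j)) :
    ∃ (r₁ r₂ : symplecticGroup (Fin 2) F) (y₀ : SpecialLinearGroup (Fin 2) F),
    r₁ * r₁ = DX mL mL ∧ r₂ * r₂ = DX mL mL ∧ r₁ * r₂ = DX y₀ y₀ ∧
    r₁ * DX i i = DX j j * r₁ ∧ r₁ * DX j j = DX i i * r₁ ∧
    r₂ * DX i i = DX mL mL * DX i i * r₂ ∧ r₂ * DX j j = DX (i * j) (i * j) * r₂ ∧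
    r₁ * DX 1 mL = DX mL mL * sX * r₁ ∧ r₁ * sX = DX mL mL * DX 1 mL * r₁ ∧
    r₂ * DX 1 mL = DX mL mL * sX * r₂ ∧ r₂ * sX = DX mL mL * DX 1 mL * r₂ := by
  set A := i.1 with hAd
  set B := j.1 with hBd
  have hA : A * A = -1 := by
    have := congrArg Subtype.val hi
    rwa [mL_coe] at this
  have hB : B * B = -1 := by
    have := congrArg Subtype.val hj
    rwa [mL_coe] at this
  have hAB : B * A = -(A * B) := by
    have e : (j * i).1 = (mL * (i * j)).1 := congrArg Subtype.val hij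
    have e2 : (j * i).1 = B * A := rfl
    have e3 : (mL * (i * j)).1 = (mL : SpecialLinearGroup (Fin 2) F).1 * (A * B) := rfl
    rw [e2, e3, mL_coe] at e
    rw [e]
    simp
  have hdA : A.det = 1 := i.2
  have hdB : B.det = 1 := j.2
  set C := A * B with hCd
  have hdC : C.det = 1 := by
    rw [hCd, Matrix.det_mul, hdA, hdB, one_mul]
  have hC : C * C = -1 := by
    calc C * C = A * (B * A) * B := by rw [hCd]; simp only [Matrix.mul_assoc]
      _ = - ((A * A) * (B * B)) := by rw [hAB, Matrix.mul_neg, Matrix.neg_mul]; simp only [Matrix.mul_assoc, hCd]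
      _ = -1 := by rw [hA, hB]; simp
  have hBC : B * C = A := by
    calc B * C = (B * A) * B := by rw [hCd, Matrix.mul_assoc]
      _ = - (A * (B * B)) := by rw [hAB, Matrix.neg_mul, hCd, Matrix.mul_assoc]
      _ = A := by rw [hB]; simp
  have hCB : C * B = -(B * C) := by
    rw [hBC, hCd, Matrix.mul_assoc, hB]
    simp
  have hCA : C * A = -(A * C) := by
    calc C * A = A * (B * A) := by rw [hCd, Matrix.mul_assoc]
      _ = - (A * C) := by rw [hAB, Matrix.mul_neg]
  set P₁ := hp A B with hP₁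
  set P₂ := hp B C with hP₂
  have d1 : P₁.det = (2 : F)⁻¹ := hp_det h2 hA hB hAB hdA hdB
  have d2 : P₂.det = (2 : F)⁻¹ := hp_det h2 hB hC hCB hdB hdC
  have hbT : (bb : Matrix (Fin 2) (Fin 2) F) * bbᵀ = ((2 : F)⁻¹)⁻¹ • 1 := by
    rw [bb_t, bb_bb, inv_inv]
  have h2i : (2 : F)⁻¹ ≠ 0 := inv_ne_zero h2
  let r₁ : symplecticGroup (Fin 2) F := ⟨TT P₁ bb, TT_mem h2i d1 hbT⟩
  let r₂ : symplecticGroup (Fin 2) F := ⟨TT P₂ bb, TT_mem h2i d2 hbT⟩
  have hy : ((2 : F) • (P₁ * P₂)).det = 1 := by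
    rw [Matrix.det_smul, Matrix.det_mul, d1, d2, Fintype.card_fin]
    field_simp
  let y₀ : SpecialLinearGroup (Fin 2) F := ⟨(2 : F) • (P₁ * P₂), hy⟩
  have hsq : ∀ P : Matrix (Fin 2) (Fin 2) F, P * P = (-(2 : F)⁻¹) • 1 → TT P bb * TT P bb = TT (-1) 1 := by
    intro P hP
    rw [TT_mul, hP, bb_bb, TT_smul_left, TT_smul_right, smul_smul, TT_neg_left, neg_mul, inv_mul_cancel₀ h2, neg_smul, one_smul]
  have hrel : ∀ P Q Q' : Matrix (Fin 2) (Fin 2) F, P * Q = Q' * P → TT P bb * TT Q 1 = TT Q' 1 * TT P bb := by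
    intro P Q Q' h
    rw [TT_mul, TT_mul, h, Matrix.mul_one, Matrix.one_mul]
  refine ⟨r₁, r₂, y₀, ?_, ?_, ?_, ?_, ?_, ?_, ?_, ?_, ?_, ?_, ?_⟩
  · apply Subtype.ext
    rw [DX_mo']
    exact hsq _ (hp_sq h2 hA hB hAB)
  · apply Subtype.ext
    rw [DX_mo']
    exact hsq _ (hp_sq h2 hB hC hCB)
  · apply Subtype.ext
    rw [DX_coe_TT]
    show TT P₁ bb * TT P₂ bb = TT ((2 : F) • (P₁ * P₂)) 1
    rw [TT_mul, bb_bb, TT_smul_left, TT_smul_right]
  · apply Subtype.ext
    rw [Submonoid.coe_mul, Submonoid.coe_mul, DX_coe_TT, DX_coe_TT]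
    exact hrel _ _ _ (hp_A hA hB)
  · apply Subtype.ext
    rw [Submonoid.coe_mul, Submonoid.coe_mul, DX_coe_TT, DX_coe_TT]
    exact hrel _ _ _ (hp_B hA hB)
  · apply Subtype.ext
    rw [Submonoid.coe_mul, Submonoid.coe_mul, Submonoid.coe_mul, DX_mo', DX_coe_TT, TT_mul (-1) 1 _ 1, Matrix.mul_one]
    refine hrel _ _ _ ?_
    rw [hP₂]
    unfold hp
    rw [Matrix.smul_mul, Matrix.mul_smul, Matrix.add_mul, Matrix.mul_add, hAB, hCA]
    simp only [Matrix.neg_mul, Matrix.one_mul, smul_neg, smul_add, ← hCd]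
    abel
  · apply Subtype.ext
    rw [Submonoid.coe_mul, Submonoid.coe_mul, DX_coe_TT, DX_coe_TT]
    exact hrel _ _ _ (hp_A hB hC)
  · apply Subtype.ext
    rw [Submonoid.coe_mul, Submonoid.coe_mul, Submonoid.coe_mul, DX_mo', DX_t1]
    exact bb_rel1 _
  · apply Subtype.ext
    rw [Submonoid.coe_mul, Submonoid.coe_mul, Submonoid.coe_mul, DX_mo', DX_t1]
    exact bb_rel2 _
  · apply Subtype.ext
    rw [Submonoid.coe_mul, Submonoid.coe_mul, Submonoid.coe_mul, DX_mo', DX_t1]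
    exact bb_rel1 _
  · apply Subtype.ext
    rw [Submonoid.coe_mul, Submonoid.coe_mul, Submonoid.coe_mul, DX_mo', DX_t1]
    exact bb_rel2 _

/-- The symplectic form. -/
def om (u w : I4 → F) : F := u ⬝ᵥ (Matrix.J (Fin 2) F *ᵥ w)

theorem om_add_right (u w w' : I4 → F) : om u (w + w') = om u w + om u w' := by
  unfold om
  rw [Matrix.mulVec_add, dotProduct_add]

theorem om_smul_right (c : F) (u w : I4 → F) : om u (c • w) = c * om u w := by
  unfold om
  rw [Matrix.mulVec_smul, dotProduct_smul, smul_eq_mul]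

theorem om_smul_left (c : F) (u w : I4 → F) : om (c • u) w = c * om u w := by
  unfold om
  rw [smul_dotProduct, smul_eq_mul]

theorem om_add_left (u u' w : I4 → F) : om (u + u') w = om u w + om u' w := by
  unfold om
  rw [add_dotProduct]

theorem om_inv {V : Matrix I4 I4 F} (hV : V ∈ symplecticGroup (Fin 2) F) (u w : I4 → F) : om (V *ᵥ u) (V *ᵥ w) = om u w := by
  have h1 : Vᵀ * Matrix.J (Fin 2) F * V = Matrix.J (Fin 2) F := SymplecticGroup.mem_iff'.1 hV
  unfold om
  rw [← Matrix.vecMul_transpose V u, ← Matrix.dotProduct_mulVec u Vᵀ, Matrix.mulVec_mulVec, Matrix.mulVec_mulVec, h1]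

theorem om_antisymm (u w : I4 → F) : om u w = - om w u := by
  unfold om
  rw [Matrix.dotProduct_mulVec, dotProduct_comm, ← Matrix.mulVec_transpose, Matrix.J_transpose, Matrix.neg_mulVec, dotProduct_neg]

theorem om_nondeg {a : I4 → F} (ha : a ≠ 0) : ∃ y, om a y ≠ 0 := by
  by_contra hc
  push Not at hc
  apply ha
  refine dotProduct_eq_zero a (fun z => ?_)
  have h := hc (Matrix.J (Fin 2) F *ᵥ z)
  unfold om at h
  rw [Matrix.mulVec_mulVec, Matrix.J_squared, Matrix.neg_mulVec, Matrix.one_mulVec, dotProduct_neg] at h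
  exact neg_eq_zero.1 h

theorem exists_eig (h2 : (2 : F) ≠ 0) {V : Matrix I4 I4 F} (hV : V ∈ symplecticGroup (Fin 2) F) (hVV : V * V = 1) (ε : F) (hε : ε * ε = 1)
    (hne : ∃ x, x + ε • (V *ᵥ x) ≠ 0) : ∃ a b, V *ᵥ a = ε • a ∧ V *ᵥ b = ε • b ∧ om a b = -1 := by
  have heig : ∀ x, V *ᵥ (x + ε • (V *ᵥ x)) = ε • (x + ε • (V *ᵥ x)) := by
    intro x
    rw [Matrix.mulVec_add, Matrix.mulVec_smul, Matrix.mulVec_mulVec, hVV, Matrix.one_mulVec, smul_add, smul_smul, hε, one_smul, add_comm]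
  obtain ⟨x, hx⟩ := hne
  set a := x + ε • (V *ᵥ x) with ha
  obtain ⟨y, hy⟩ := om_nondeg hx
  have haa : a = ε • (V *ᵥ a) := by
    rw [heig x, smul_smul, hε, one_smul]
  have h1 : om a (V *ᵥ y) = ε * om a y := by
    calc om a (V *ᵥ y) = om (ε • (V *ᵥ a)) (V *ᵥ y) := by rw [← haa]
      _ = ε * om (V *ᵥ a) (V *ᵥ y) := om_smul_left _ _ _
      _ = _ := by rw [om_inv hV]
  set y' := y + ε • (V *ᵥ y) with hy'
  have h3 : om a y' = 2 * om a y := by
    rw [hy', om_add_right, om_smul_right, h1, ← mul_assoc, hε]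
    ring
  have h4 : om a y' ≠ 0 := by
    rw [h3]
    exact mul_ne_zero h2 hy
  refine ⟨a, (-(om a y')⁻¹) • y', heig x, ?_, ?_⟩
  · rw [Matrix.mulVec_smul, heig y, smul_comm]
  · rw [om_smul_right]
    field_simp

theorem om_orth (h2 : (2 : F) ≠ 0) {V : Matrix I4 I4 F} (hV : V ∈ symplecticGroup (Fin 2) F) {a b : I4 → F} (ha : V *ᵥ a = a) (hb : V *ᵥ b = (-1 : F) • b) : om a b = 0 := by
  have h1 := om_inv hV a b
  rw [ha, hb, om_smul_right] at h1
  have h3 : 2 * om a b = 0 := by linear_combination -h1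
  exact (mul_eq_zero.1 h3).resolve_left h2

theorem om_self (h2 : (2 : F) ≠ 0) (a : I4 → F) : om a a = 0 := by
  have h1 := om_antisymm a a
  have h3 : 2 * om a a = 0 := by linear_combination h1
  exact (mul_eq_zero.1 h3).resolve_left h2

/-- The conjugacy of the non-central involutions of `Sp₄(F)`. -/
theorem DX_conj (h2 : (2 : F) ≠ 0) (v : symplecticGroup (Fin 2) F) (hv : v * v = 1) (h1 : v ≠ 1) (hm : v ≠ DX mL mL) : ∃ c, c * DX 1 mL * c⁻¹ = v := by
  have hVV : (v : Matrix I4 I4 F) * v = 1 := congrArg Subtype.val hv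
  have hV := v.2
  set V : Matrix I4 I4 F := (v : Matrix I4 I4 F) with hVd
  have hne1 : ∃ x, x + (1 : F) • (V *ᵥ x) ≠ 0 := by
    by_contra hc
    push Not at hc
    apply hm
    apply Subtype.ext
    rw [DX_mo]
    apply Matrix.mulVec_injective
    funext x
    have := hc x
    rw [one_smul] at this
    rw [Matrix.neg_mulVec, Matrix.one_mulVec]
    exact eq_neg_of_add_eq_zero_right this
  have hne2 : ∃ x, x + (-1 : F) • (V *ᵥ x) ≠ 0 := by
    by_contra hc
    push Not at hc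
    apply h1
    apply Subtype.ext
    show V = 1
    apply Matrix.mulVec_injective
    funext x
    have := hc x
    rw [neg_smul, one_smul] at this
    rw [Matrix.one_mulVec]
    exact (eq_of_add_neg_eq_zero this).symm
  obtain ⟨a, b, ha, hb, hab⟩ := exists_eig h2 hV hVV 1 (one_mul 1) hne1
  obtain ⟨a', b', ha', hb', hab'⟩ := exists_eig h2 hV hVV (-1) (by ring) hne2
  rw [one_smul] at ha hb
  let g : I4 → I4 → F := fun x => match x with
    | Sum.inl n => if n = 0 then a else a'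
    | Sum.inr n => if n = 0 then b else b'
  let c : Matrix I4 I4 F := Matrix.of fun r x => g x r
  have hom : ∀ x y, (cᵀ * (Matrix.J (Fin 2) F * c)) x y = om (g x) (g y) := fun x y => rfl
  have hcJ : cᵀ * Matrix.J (Fin 2) F * c = Matrix.J (Fin 2) F := by
    rw [Matrix.mul_assoc]
    have e1 : om a a' = 0 := om_orth h2 hV ha ha'
    have e2 : om a b' = 0 := om_orth h2 hV ha hb'
    have e3 : om b a' = 0 := om_orth h2 hV hb ha'
    have e4 : om b b' = 0 := om_orth h2 hV hb hb'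
    have e5 : om a' a = 0 := by rw [om_antisymm, e1, neg_zero]
    have e6 : om a' b = 0 := by rw [om_antisymm, e3, neg_zero]
    have e7 : om b a = 1 := by rw [om_antisymm, hab, neg_neg]
    have e8 : om b' a = 0 := by rw [om_antisymm, e2, neg_zero]
    have e9 : om b' a' = 1 := by rw [om_antisymm, hab', neg_neg]
    have e10 : om b' b = 0 := by rw [om_antisymm, e4, neg_zero]
    ext x y
    rw [hom]
    rcases x with m | m <;> rcases y with n | n <;> fin_cases m <;> fin_cases n <;>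
      simp [g, Matrix.J, om_self h2, hab, hab', e1, e2, e3, e4, e5, e6, e7, e8, e9, e10]
  have hc : c ∈ symplecticGroup (Fin 2) F := SymplecticGroup.mem_iff'.2 hcJ
  have heig : ∀ x, V *ᵥ g x = fd (F := F) x • g x := by
    intro x
    rcases x with m | m <;> fin_cases m <;> simp [g, fd, ha, hb, ha', hb']
  have hVc : V * c = c * Matrix.diagonal (fd (F := F)) := by
    ext r x
    rw [Matrix.mul_diagonal]
    have e : (V * c) r x = (V *ᵥ g x) r := rfl
    rw [e, heig x, Pi.smul_apply, smul_eq_mul, mul_comm]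
    rfl
  refine ⟨⟨c, hc⟩, ?_⟩
  have hkey : (⟨c, hc⟩ : symplecticGroup (Fin 2) F) * DX 1 mL = v * ⟨c, hc⟩ := by
    apply Subtype.ext
    rw [Submonoid.coe_mul, Submonoid.coe_mul, DX_coe, mL_coe]
    show c * DD 1 (-1) = V * c
    rw [hVc, ← t1_diag]
  rw [hkey]
  group

/-- The frame of `Sp₄(F)`. -/
theorem frame_Sp (hodd : Fintype.card F % 2 = 1) : Frame (DX (F := F)) sX where
  odd := hodd
  mul := DX_mul
  inj := DX_inj
  sq := sX_sq
  swap := sX_swap
  comm1 := DX_comm1 (two_ne_zero_of_odd hodd)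
  conj := DX_conj (two_ne_zero_of_odd hodd)
  central := DX_central
  exr := DX_exr (two_ne_zero_of_odd hodd)

/-- **The `2`-fusion system of `PSp₄(F)`, `F` of odd order.** -/
theorem isSimple_PSp4 (hodd : Fintype.card F % 2 = 1) (S : Sylow 2 (Cfsg.PSp 2 F)) :
    (Cfsg.groupFusionSystem (S : Subgroup (Cfsg.PSp 2 F))).IsSimple 2 := by
  haveI : Finite (symplecticGroup (Fin 2) F) := inferInstance
  exact (frame_Sp hodd).isSimple S

end Sp

end Cfsg.Agent.Lib.Fusion.TwoG
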