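import Cfsg.Agent.Lib.Fusion.ZJ5

/-!
# The ZJ theorem for fusion systems: the main induction
-/

set_option autoImplicit false
set_option linter.unusedSectionVars false
set_option linter.style.haveILetI false

universe u

namespace Cfsg.Agent.Lib.Fusion.ZJ

open Cfsg Cfsg.FusionSystem Cfsg.Agent.Lib.Fusion Cfsg.Agent.Lib.Fusion.Qd Wreath

variable {W : ∀ (Q : Type u) [Group Q], Subgroup Q} {Ω : Type u} [Group Ω] {S : Subgroup Ω} [Finite S] {F : FusionSystem S} {p : ℕ} [hp : Fact p.Prime] {H : Type*} [Group H]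

theorem isNormal_of_extD {D : Subgroup Ω} (hD : D ≤ S) (h : ∀ (P : Subgroup Ω) (f : Ω → Ω), IsMapOn F P f → ExtD F D P f) : F.IsNormal D := by
  refine ⟨hD, fun P φ hφ => ?_⟩
  obtain ⟨g, ⟨ψ, hψ, hv⟩, hag, hi⟩ := h P _ (isMapOn_toFun hφ)
  refine ⟨ψ, hψ, fun x => ?_, ?_⟩
  · show ψ _ = _
    rw [hv]
    have := hag x x.2
    rw [toFun_coe] at this
    exact this
  · ext y
    rw [hi y]
    constructor
    · rintro ⟨x, hx, rfl⟩
      exact ⟨x, hx, (hv x).symm⟩
    · rintro ⟨x, hx, rfl⟩
      exact ⟨⟨x, Subgroup.mem_sup_right hx⟩, hx, hv _⟩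

/-- The main step: the theorem for `S`, assuming it for smaller groups. -/
theorem main_step (hW : Functorial p H W) (hS : IsPGroup p S) (hF : F.IsSaturated p) (hfree : F.IsSectionFree p H) (hMT : SmallerOK p H W (Nat.card S)) :
    F.IsNormal (wOn W S) := by
  classical
  have hDS : wOn W S ≤ S := wOn_le S
  have hSn : S ≤ Subgroup.normalizer ((wOn W S : Subgroup Ω) : Set Ω) := fun x hx => wOn_normalizer hS hW.map le_rfl hx (Subgroup.le_normalizer hx)
  have hNS := normalizerIn_eq_self hSn
  obtain ⟨E0, hE0⟩ := kSystem_normalizer F hDS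
  have hE0iff : ∀ P f, IsMapOn E0 P f ↔ P ≤ S ∧ (∀ x ∈ P, f x ∈ S) ∧ ExtD F (wOn W S) P f := by
    intro P f
    rw [isMapOn_normalizerSystem_iff hE0 P f, hNS]
    rfl
  have hE0F : ∀ {P f}, IsMapOn E0 P f → IsMapOn F P f := by
    intro P f h
    obtain ⟨-, -, g, hg, hag, -⟩ := (hE0iff P f).1 h
    exact (hg.mono le_sup_left).congr hag
  have hof : ∀ {P f}, IsMapOn F P f → ExtD F (wOn W S) P f → IsMapOn E0 P f := fun hf he => (hE0iff _ _).2 ⟨hf.le, fun _ hx => hf.mem_S hx, he⟩
  suffices hk : ∀ (k : ℕ) (P : Subgroup Ω) (f : Ω → Ω), Nat.card S - Nat.card P = k → IsMapOn F P f → IsMapOn E0 P f by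
    refine isNormal_of_extD hDS (fun P f hf => ?_)
    exact ((hE0iff P f).1 (hk _ P f rfl hf)).2.2
  intro k
  induction k using Nat.strong_induction_on with
  | _ k IHk =>
    intro P f hk hf
    have hPS : P ≤ S := hf.le
    have hcPS : Nat.card P ≤ Nat.card S := card_le_card_S hPS
    have hbig : ∀ {Q : Subgroup Ω} {g : Ω → Ω}, Nat.card P < Nat.card Q → Q ≤ S → IsMapOn F Q g → IsMapOn E0 Q g := by
      intro Q g hlt hQ hg
      have hcQ : Nat.card Q ≤ Nat.card S := card_le_card_S hQ
      exact IHk (Nat.card S - Nat.card Q) (by omega) Q g rfl hg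
    -- the local statement
    have hLoc : ∀ (n : ℕ) (V R : Subgroup Ω) (h : Ω → Ω), Nat.card S - Nat.card (normalizerIn S V) = n → V ≠ ⊥ → V ≤ R → R ≤ normalizerIn S V → IsMapOn F R h → IsImage h R R → IsImage h V V →
        Nat.card P < Nat.card (normalizerIn S V) → IsMapOn E0 R h := by
      intro n
      induction n using Nat.strong_induction_on with
      | _ n IHn =>
        intro V R h hn hne hVR hRT hh hhR hhV hcard
        have hVS : V ≤ S := hVR.trans (hRT.trans (normalizerIn_le V))
        have hcT : Nat.card (normalizerIn S V) ≤ Nat.card S := card_le_card_S (normalizerIn_le V)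
        by_cases hVn : F.IsFullyNormalized V
        · by_cases hTS : normalizerIn S V = S
          · have hnV : S ≤ Subgroup.normalizer (V : Set Ω) := fun s hs => (hTS.ge hs).2
            exact hof hh (top hW hS hF hfree hMT V hVS hnV hne R h hVR hh hhV)
          · -- a proper normalizer
            obtain ⟨N, hN⟩ := kSystem_normalizer F hVS
            have A := admisSetup_normalizer hS hF hVn hN
            have hTS' : normalizerIn S V ≤ S := normalizerIn_le V
            have hTlt : normalizerIn S V < S := lt_of_le_of_ne hTS' hTS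
            haveI hfT : Finite (normalizerIn S V) := finite_of_le hTS'
            have hTp : IsPGroup p (normalizerIn S V) := hS.to_le hTS'
            have hNsat : N.IsSaturated p := A.isSaturated
            have hNfree := isSectionFree_of_admisSetup A hfree
            have hV₁ := hMT Ω (normalizerIn S V) (card_lt_of_lt hTlt le_rfl) hTp N hNsat hNfree
            have hfN : IsMapOn N R h := A.isMapOn_E_of hRT (by rwa [sup_eq_left.2 hVR]) ⟨hhV, False.elim⟩
            obtain ⟨g, hg, hag, hgi⟩ := IsNormal.exists_ext hV₁ hfN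
            have hgF := isMapOn_of_setup A hg
            have hV₁le : wOn W (normalizerIn S V) ≤ normalizerIn S V := wOn_le _
            have hV₁S : wOn W (normalizerIn S V) ≤ S := hV₁le.trans hTS'
            have hV₁ne : wOn W (normalizerIn S V) ≠ ⊥ := by
              intro h0
              have hnt : Nontrivial ↥(normalizerIn S V) := by
                obtain ⟨⟨v, hv⟩, hv1⟩ := Subgroup.ne_bot_iff_exists_ne_one.1 hne
                refine ⟨⟨⟨v, (hVR.trans hRT) hv⟩, 1, fun e => hv1 (Subtype.ext ?_)⟩⟩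
                have e' := congrArg (fun t : normalizerIn S V => (t : Ω)) e
                exact e'
              apply hW.ne_bot _ hTp hnt
              rw [eq_bot_iff]
              intro y hy
              have h1 : (y : Ω) ∈ wOn W (normalizerIn S V) := ⟨y, hy, rfl⟩
              rw [h0, Subgroup.mem_bot] at h1
              rw [Subgroup.mem_bot]
              exact Subtype.ext h1
            have hTn : normalizerIn S V ≤ normalizerIn S (wOn W (normalizerIn S V)) := fun t ht =>
              ⟨hTS' ht, wOn_normalizer hS hW.map hTS' (hTS' ht) (Subgroup.le_normalizer ht)⟩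
            have hR₁ : R ⊔ wOn W (normalizerIn S V) ≤ normalizerIn S (wOn W (normalizerIn S V)) :=
              sup_le (hRT.trans hTn) (le_normalizerIn hV₁S)
            have hgR : IsImage g R R := hhR.congr (fun x hx => (hag x hx).symm)
            have hRnV₁ : R ≤ Subgroup.normalizer ((wOn W (normalizerIn S V) : Subgroup Ω) : Set Ω) := fun x hx => (hTn (hRT hx)).2
            have hgR₁ := hgF.image_sup hgR hgi hRnV₁
            have hlt₁ : normalizerIn S V < normalizerIn S (wOn W (normalizerIn S V)) := by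
              refine lt_of_le_of_ne hTn (fun he => ?_)
              obtain ⟨t, ht, htn⟩ := exists_mem_normalizerIn_not_mem hS hTlt
              apply htn
              rw [he]
              exact ⟨ht.1, wOn_normalizer hS hW.map hTS' ht.1 ht.2⟩
            have hc₁ := card_lt_of_lt hlt₁ (normalizerIn_le _)
            have hc₂ : Nat.card (normalizerIn S (wOn W (normalizerIn S V))) ≤ Nat.card S := card_le_card_S (normalizerIn_le _)
            have h2 := IHn (Nat.card S - Nat.card (normalizerIn S (wOn W (normalizerIn S V)))) (by omega) _ _ g rfl hV₁ne le_sup_right hR₁ hgF hgR₁ hgi (by omega)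
            exact (h2.mono le_sup_left).congr hag
        · -- not fully normalized
          obtain ⟨V', hc, hV'⟩ := exists_fullyNormalized_conj (F := F) hVS
          have hlt : Nat.card (normalizerIn S V) < Nat.card (normalizerIn S V') := by
            by_contra hge
            apply hVn
            refine ⟨hVS, fun Q hQ => ?_⟩
            exact (hV'.2 Q (isConj_trans (isConj_symm hc) hQ)).trans (not_lt.1 hge)
          obtain ⟨φ, hφ, hval, hmap⟩ := exists_ext_of_fullyNormalized hS hF hV' hc
          obtain ⟨θ, hθ, hθe⟩ : ∃ θ, IsMapOn F (normalizerIn S V) θ ∧ θ = toFun φ := ⟨_, isMapOn_toFun hφ, rfl⟩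
          have hVT : V ≤ normalizerIn S V := hVR.trans hRT
          have hθv : ∀ x ∈ normalizerIn S V, θ x ∈ normalizerIn S V' := fun x hx => by
            rw [hθe, toFun_of_mem φ hx]
            exact hval _
          have hθi : IsImage θ V V' := by
            intro y
            rw [← hmap, hθe]
            constructor
            · rintro ⟨x, hx, rfl⟩
              exact ⟨x, hx, toFun_coe φ x⟩
            · rintro ⟨x, hx, rfl⟩
              exact ⟨⟨x, hVT hx⟩, hx, (toFun_of_mem φ _).symm⟩
          have hθE : IsMapOn E0 (normalizerIn S V) θ := hbig hcard (normalizerIn_le V) hθ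
          obtain ⟨B', hB'⟩ := hθ.exists_image le_rfl
          obtain ⟨ζ, hζ, hζi, hζθ, hθζ⟩ := hθE.exists_inv hB'
          obtain ⟨R', hR'⟩ := hθ.exists_image hRT
          have hR'B : R' ≤ B' := fun y hy => by
            obtain ⟨x, hx, rfl⟩ := hR'.exists_of_mem hy
            exact hB'.mem (hRT hx)
          have hhT : ∀ x ∈ R, h x ∈ R := fun x hx => hhR.mem hx
          have hf' : IsMapOn F R' (fun y => θ (h (ζ y))) := by
            have h1 : IsMapOn F R' (fun y => h (ζ y)) := ((hE0F hζ).mono hR'B).comp hh (fun y hy => by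
              obtain ⟨x, hx, rfl⟩ := hR'.exists_of_mem hy
              rw [hζθ x (hRT hx)]
              exact hx)
            exact h1.comp hθ (fun y hy => by
              obtain ⟨x, hx, rfl⟩ := hR'.exists_of_mem hy
              rw [hζθ x (hRT hx)]
              exact hRT (hhT x hx))
          have hζR' : IsImage ζ R' R := hR'.inv (fun x hx => hζθ x (hRT hx))
          have hζV' : IsImage ζ V' V := hθi.inv (fun x hx => hζθ x (hVT hx))
          have hf'R : IsImage (fun y => θ (h (ζ y))) R' R' := (hζR'.comp hhR).comp hR'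
          have hf'V : IsImage (fun y => θ (h (ζ y))) V' V' := (hζV'.comp hhV).comp hθi
          have hV'R' : V' ≤ R' := fun y hy => by
            obtain ⟨x, hx, rfl⟩ := hθi.exists_of_mem hy
            exact hR'.mem (hVR hx)
          have hR'T : R' ≤ normalizerIn S V' := fun y hy => by
            obtain ⟨x, hx, rfl⟩ := hR'.exists_of_mem hy
            exact hθv x (hRT hx)
          have hne' : V' ≠ ⊥ := by
            intro h0
            apply hne
            rw [eq_bot_iff]
            intro v hv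
            have h1 := hθi.mem hv
            rw [h0, Subgroup.mem_bot] at h1
            have h3 := hθ.map_one
            rw [Subgroup.mem_bot]
            exact hθ.injOn (hVT hv) (Subgroup.one_mem _) (h1.trans h3.symm)
          have hc₂ : Nat.card (normalizerIn S V') ≤ Nat.card S := card_le_card_S (normalizerIn_le _)
          have h2 := IHn (Nat.card S - Nat.card (normalizerIn S V')) (by omega) V' R' _ rfl hne' hV'R' hR'T hf' hf'R hf'V (by omega)
          have h3 : IsMapOn E0 R (fun x => (fun y => θ (h (ζ y))) (θ x)) := (hθE.mono hRT).comp h2 (fun x hx => hR'.mem hx)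
          have h4 : IsMapOn E0 R (fun x => ζ ((fun y => θ (h (ζ y))) (θ x))) := h3.comp hζ (fun x hx => by
            show θ (h (ζ (θ x))) ∈ B'
            rw [hζθ x (hRT hx)]
            exact hB'.mem (hRT (hhT x hx)))
          refine h4.congr (fun x hx => ?_)
          show ζ (θ (h (ζ (θ x)))) = h x
          rw [hζθ x (hRT hx), hζθ _ (hRT (hhT x hx))]
    by_cases hPtop : P = S
    · have hfS : IsMapOn F S f := hPtop ▸ hf
      have hiS : IsImage f S S := by
        obtain ⟨P', hP'⟩ := hfS.exists_image le_rfl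
        have hle : P' ≤ S := IsImage.le_S hfS le_rfl hP'
        have he : P' = S := eq_of_le_of_card_le (S := S) hle le_rfl (IsImage.card_eq hfS le_rfl hP').le
        rwa [he] at hP'
      have hD := isImage_wOn hS hW hfS hiS
      refine hof hf ⟨f, ?_, fun _ _ => rfl, hD⟩
      rwa [hPtop, sup_eq_left.2 hDS]
    have hPlt : P < S := lt_of_le_of_ne hPS hPtop
    by_cases hP0 : P = ⊥
    · refine hof hf ⟨id, isMapOn_id (sup_le hPS hDS), fun x hx => ?_, IsImage.refl _⟩
      rw [hP0, Subgroup.mem_bot] at hx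
      rw [hx, hf.map_one]
      rfl
    have hext : ∀ {X Q' : Subgroup Ω}, F.IsFullyNormalized Q' → F.IsConj X Q' → ∃ θ, IsMapOn F (normalizerIn S X) θ ∧ (∀ x ∈ normalizerIn S X, θ x ∈ normalizerIn S Q') ∧ IsImage θ X Q' := by
      intro X Q' hQ' hc
      have hXN : X ≤ normalizerIn S X := le_normalizerIn (isConj_le_left hc)
      obtain ⟨φ, hφ, hval, hmap⟩ := exists_ext_of_fullyNormalized hS hF hQ' hc
      refine ⟨toFun φ, isMapOn_toFun hφ, fun x hx => ?_, fun y => ?_⟩
      · rw [toFun_of_mem φ hx]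
        exact hval _
      · rw [← hmap]
        constructor
        · rintro ⟨x, hx, rfl⟩
          exact ⟨x, hx, toFun_coe φ x⟩
        · rintro ⟨x, hx, rfl⟩
          exact ⟨⟨x, hXN hx⟩, hx, (toFun_of_mem φ _).symm⟩
    have hclt : ∀ {X : Subgroup Ω}, Nat.card X = Nat.card P → X ≤ S → Nat.card P < Nat.card (normalizerIn S X) := by
      intro X he hXS
      have hXlt : X < S := lt_of_le_of_ne hXS (fun h0 => by
        have h1 := card_lt_of_lt hPlt le_rfl
        rw [← he, h0] at h1
        exact lt_irrefl _ h1)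
      obtain ⟨t, ht, htn⟩ := exists_mem_normalizerIn_not_mem hS hXlt
      have hlt' : X < normalizerIn S X := lt_of_le_of_ne (le_normalizerIn hXS) (fun h0 => htn (by rw [h0]; exact ht))
      rw [← he]
      exact card_lt_of_lt hlt' (normalizerIn_le X)
    obtain ⟨Q', hc, hQ'⟩ := exists_fullyNormalized_conj (F := F) hPS
    obtain ⟨Q₂, hQ₂⟩ := hf.exists_image le_rfl
    have hc₂ : F.IsConj P Q₂ := hf.isConj hQ₂
    have hc₃ : F.IsConj Q₂ Q' := isConj_trans (isConj_symm hc₂) hc
    have hPQ' : Nat.card Q' = Nat.card P := (isConj_card_eq hc).symm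
    have hPQ₂ : Nat.card Q₂ = Nat.card P := (isConj_card_eq hc₂).symm
    have hQ'S : Q' ≤ S := hQ'.1
    have hQ₂S : Q₂ ≤ S := isConj_le_right hc₂
    obtain ⟨θ₁, hθ₁, hθ₁v, hθ₁i⟩ := hext hQ' hc
    obtain ⟨θ₂, hθ₂, hθ₂v, hθ₂i⟩ := hext hQ' hc₃
    have hθ₁E : IsMapOn E0 (normalizerIn S P) θ₁ := hbig (hclt rfl hPS) (normalizerIn_le P) hθ₁
    have hθ₂E : IsMapOn E0 (normalizerIn S Q₂) θ₂ := hbig (hclt hPQ₂ hQ₂S) (normalizerIn_le Q₂) hθ₂
    obtain ⟨B₁, hB₁⟩ := hθ₁.exists_image le_rfl
    obtain ⟨B₂, hB₂⟩ := hθ₂.exists_image le_rfl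
    obtain ⟨ζ₁, hζ₁, -, hζ₁θ, -⟩ := hθ₁E.exists_inv hB₁
    obtain ⟨ζ₂, hζ₂, -, hζ₂θ, -⟩ := hθ₂E.exists_inv hB₂
    have hPN : P ≤ normalizerIn S P := le_normalizerIn hPS
    have hQ₂N : Q₂ ≤ normalizerIn S Q₂ := le_normalizerIn hQ₂S
    have hQ'B₁ : Q' ≤ B₁ := fun y hy => by
      obtain ⟨x, hx, rfl⟩ := hθ₁i.exists_of_mem hy
      exact hB₁.mem (hPN hx)
    have hζ₁i : IsImage ζ₁ Q' P := hθ₁i.inv (fun x hx => hζ₁θ x (hPN hx))
    have hαF : IsMapOn F Q' (fun y => θ₂ (f (ζ₁ y))) := by
      have h1 : IsMapOn F Q' (fun y => f (ζ₁ y)) := ((hE0F hζ₁).mono hQ'B₁).comp hf (fun y hy => hζ₁i.mem hy)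
      exact h1.comp hθ₂ (fun y hy => hQ₂N (hQ₂.mem (hζ₁i.mem hy)))
    have hαi : IsImage (fun y => θ₂ (f (ζ₁ y))) Q' Q' := (hζ₁i.comp hQ₂).comp hθ₂i
    have hQ'ne : Q' ≠ ⊥ := by
      intro h0
      apply hP0
      rw [eq_bot_iff]
      intro v hv
      have h1 := hθ₁i.mem hv
      rw [h0, Subgroup.mem_bot] at h1
      rw [Subgroup.mem_bot]
      exact hθ₁.injOn (hPN hv) (Subgroup.one_mem _) (h1.trans hθ₁.map_one.symm)
    have hαE := hLoc _ Q' Q' _ rfl hQ'ne le_rfl (le_normalizerIn hQ'S) hαF hαi hαi (hclt hPQ' hQ'S)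
    have h3 : IsMapOn E0 P (fun x => (fun y => θ₂ (f (ζ₁ y))) (θ₁ x)) := (hθ₁E.mono hPN).comp hαE (fun x hx => hθ₁i.mem hx)
    have h4 : IsMapOn E0 P (fun x => ζ₂ ((fun y => θ₂ (f (ζ₁ y))) (θ₁ x))) := h3.comp hζ₂ (fun x hx => by
      show θ₂ (f (ζ₁ (θ₁ x))) ∈ B₂
      rw [hζ₁θ x (hPN hx)]
      exact hB₂.mem (hQ₂N (hQ₂.mem hx)))
    refine h4.congr (fun x hx => ?_)
    show ζ₂ (θ₂ (f (ζ₁ (θ₁ x)))) = f x
    rw [hζ₁θ x (hPN hx), hζ₂θ _ (hQ₂N (hQ₂.mem hx))]

/-- The ZJ theorem for fusion systems, in functor form. -/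
theorem isNormal_wOn (hW : Functorial p H W) : ∀ (n : ℕ) (Ω : Type u) [Group Ω] (S : Subgroup Ω) [Finite S], Nat.card S = n → IsPGroup p S → ∀ F : FusionSystem S, F.IsSaturated p →
    F.IsSectionFree p H → F.IsNormal (wOn W S) := by
  intro n
  induction n using Nat.strong_induction_on with
  | _ n IH =>
    intro Ω _ S _ hn hS F hF hfree
    refine main_step hW hS hF hfree (fun Ω' _ S' _ hlt hp F' hs hf => ?_)
    exact IH (Nat.card S') (by omega) Ω' S' rfl hp F' hs hf

end Cfsg.Agent.Lib.Fusion.ZJ
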